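import Groth.Prelude.Def_DerCA
import Groth.Agent.S9263
import Mathlib.Algebra.Homology.HomotopyCategory.MappingCocone
import Mathlib.Algebra.Homology.HomotopyCategory.Acyclic
import Mathlib.Algebra.Homology.ShortComplex.ModuleCat
import Mathlib.Algebra.Module.LocalizedModule.Exact

/-!
# Helper library on the extended alternating Čech complex `DerCA.extCech`

Main results:
* `locFunctor_preservesHomology`: localisation `DerCA.locFunctor S` is exact;
* `homologyLocIso`: `H^q(K_S) ≅ (H^q K)_S`;
* `acyclic_mappingCocone`: the mapping cocone of a map between acyclic complexes is acyclic;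
* `mapCoconeIso`: additive functors commute with mapping cocones;
* `locCx_extCech_acyclic`: for `f ∈ fs` the complex `(extCech M fs)_f` is acyclic;
* `extCechH_tors`: every element of `extCechH fs M q` is killed by a power of each `f ∈ fs`.
-/

set_option autoImplicit false
universe u
open CategoryTheory Limits DerCA

namespace Groth.Agent.H46

variable {R : Type u} [CommRing R]

/-- Localisation is exact. -/
instance locFunctor_preservesHomology (S : Submonoid R) : (locFunctor S).PreservesHomology := by
  apply Functor.preservesHomology_of_map_exact
  intro T hT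
  rw [ShortComplex.ShortExact.moduleCat_exact_iff_function_exact] at hT ⊢
  change Function.Exact
    (IsLocalizedModule.map S (LocalizedModule.mkLinearMap S T.X₁)
      (LocalizedModule.mkLinearMap S T.X₂) T.f.hom)
    (IsLocalizedModule.map S (LocalizedModule.mkLinearMap S T.X₂)
      (LocalizedModule.mkLinearMap S T.X₃) T.g.hom)
  exact IsLocalizedModule.map_exact S _ _ _ _ _ hT

/-- `H^q(K_S) ≅ (H^q K)_S`. -/
noncomputable def homologyLocIso (S : Submonoid R) (K : DRing.Cx R) (q : ℤ) :
    ((locCx S).obj K).homology q ≅ (locFunctor S).obj (K.homology q) :=
  (K.sc q).mapHomologyIso (locFunctor S)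

section general

variable {C : Type*} [Category C] [Abelian C]

/-- The mapping cocone of a map between acyclic complexes is acyclic. -/
theorem acyclic_mappingCocone {K L : CochainComplex C ℤ} (φ : K ⟶ L)
    (hK : K.Acyclic) (hL : L.Acyclic) : (CochainComplex.mappingCocone φ).Acyclic := by
  rw [← HomotopyCategory.quotient_obj_mem_subcategoryAcyclic_iff_acyclic] at hK hL ⊢
  have h3 := (HomotopyCategory.subcategoryAcyclic C).ext_of_isTriangulatedClosed₃ _
    (HomotopyCategory.mappingCone_triangleh_distinguished φ) hK hL
  have h4 := (HomotopyCategory.subcategoryAcyclic C).le_shift (-1 : ℤ) _ h3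
  change HomotopyCategory.subcategoryAcyclic C
    (((HomotopyCategory.quotient _ _).obj (CochainComplex.mappingCone φ))⟦(-1 : ℤ)⟧) at h4
  rwa [HomotopyCategory.shift_quotient_obj] at h4

/-- A contractible complex is acyclic. -/
theorem acyclic_of_contractible {K : CochainComplex C ℤ}
    (h : Nonempty (Homotopy (𝟙 K) 0)) : K.Acyclic := by
  rw [← HomotopyCategory.quotient_obj_mem_subcategoryAcyclic_iff_acyclic]
  exact ObjectProperty.prop_of_isZero _ ((HomotopyCategory.isZero_quotient_obj_iff K).2 h)

end general

/-- Additive functors commute with mapping cocones. -/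
noncomputable def mapCoconeIso {C D : Type*} [Category C] [Category D] [Preadditive C]
    [Preadditive D] [HasBinaryBiproducts C] [HasBinaryBiproducts D]
    (H : C ⥤ D) [H.Additive] {K L : CochainComplex C ℤ} (φ : K ⟶ L) :
    (H.mapHomologicalComplex (ComplexShape.up ℤ)).obj (CochainComplex.mappingCocone φ) ≅
      CochainComplex.mappingCocone ((H.mapHomologicalComplex (ComplexShape.up ℤ)).map φ) :=
  (H.mapCochainComplexShiftIso (-1)).app (CochainComplex.mappingCone φ) ≪≫
    (shiftFunctor _ (-1 : ℤ)).mapIso (CochainComplex.mappingCone.mapHomologicalComplexIso φ H)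

/-- The localisation map of an already localised module is bijective. -/
theorem mkLinearMap_localizedModule_bijective (S : Submonoid R) (N : Type u) [AddCommGroup N]
    [Module R N] :
    Function.Bijective (LocalizedModule.mkLinearMap S (LocalizedModule S N)) := by
  have h1 : IsLocalizedModule S (LinearMap.id : LocalizedModule S N →ₗ[R] LocalizedModule S N) :=
    isLocalizedModule_id S (LocalizedModule S N) (Localization S)
  have h2 : ∀ x, (IsLocalizedModule.linearEquiv S
      (LinearMap.id : LocalizedModule S N →ₗ[R] LocalizedModule S N)
      (LocalizedModule.mkLinearMap S (LocalizedModule S N))) x =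
      LocalizedModule.mkLinearMap S (LocalizedModule S N) x := fun x =>
    IsLocalizedModule.linearEquiv_apply S LinearMap.id _ x
  have h3 : (LocalizedModule.mkLinearMap S (LocalizedModule S N) : LocalizedModule S N → _) =
      (IsLocalizedModule.linearEquiv S
      (LinearMap.id : LocalizedModule S N →ₗ[R] LocalizedModule S N)
      (LocalizedModule.mkLinearMap S (LocalizedModule S N))) := funext fun x => (h2 x).symm
  rw [h3]
  exact LinearEquiv.bijective _

/-- Localising the localisation map gives a bijection. -/
theorem map_mkLinearMap_bijective (S : Submonoid R) (N : Type u) [AddCommGroup N] [Module R N] :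
    Function.Bijective (IsLocalizedModule.map S (LocalizedModule.mkLinearMap S N)
      (LocalizedModule.mkLinearMap S (LocalizedModule S N)) (LocalizedModule.mkLinearMap S N)) := by
  have h : IsLocalizedModule.map S (LocalizedModule.mkLinearMap S N)
      (LocalizedModule.mkLinearMap S (LocalizedModule S N)) (LocalizedModule.mkLinearMap S N) =
      LocalizedModule.mkLinearMap S (LocalizedModule S N) := by
    apply IsLocalizedModule.ext S (LocalizedModule.mkLinearMap S N)
      (IsLocalizedModule.map_units (LocalizedModule.mkLinearMap S (LocalizedModule S N)))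
    exact IsLocalizedModule.map_comp S _ _ _
  rw [h]
  exact mkLinearMap_localizedModule_bijective S N

/-- `(K ⟶ K_S)_S` is an isomorphism of complexes. -/
theorem isIso_locCx_map_locCxUnit (S : Submonoid R) (K : DRing.Cx R) :
    IsIso ((locCx S).map (locCxUnit S K)) := by
  have hcomp : ∀ n : ℤ, IsIso (((locCx S).map (locCxUnit S K)).f n) := by
    intro n
    rw [ConcreteCategory.isIso_iff_bijective]
    exact map_mkLinearMap_bijective S (K.X n)
  exact HomologicalComplex.Hom.isIso_of_components _

/-- If `N_f = 0` then `(N_g)_f = 0`. -/
theorem isZero_loc_loc {f g : R} (N : ModuleCat.{u} R)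
    (h : IsZero ((locFunctor (Submonoid.powers f)).obj N)) :
    IsZero ((locFunctor (Submonoid.powers f)).obj ((locFunctor (Submonoid.powers g)).obj N)) := by
  rw [ModuleCat.isZero_iff_subsingleton] at h ⊢
  change Subsingleton (LocalizedModule (Submonoid.powers f) N) at h
  change Subsingleton (LocalizedModule (Submonoid.powers f)
    (LocalizedModule (Submonoid.powers g) N))
  refine ⟨fun a b => ?_⟩
  have key : ∀ y : LocalizedModule (Submonoid.powers f) (LocalizedModule (Submonoid.powers g) N),
      y = 0 := by
    intro y
    induction y using LocalizedModule.induction_on with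
    | h m t =>
      induction m using LocalizedModule.induction_on with
      | h n s =>
        have h0 : LocalizedModule.mkLinearMap (Submonoid.powers f) N n = 0 :=
          Subsingleton.elim _ _
        obtain ⟨u, hu⟩ := (IsLocalizedModule.eq_zero_iff (Submonoid.powers f)
          (LocalizedModule.mkLinearMap (Submonoid.powers f) N)).1 h0
        have h1 : u • LocalizedModule.mk n s = 0 := by
          rw [Submonoid.smul_def, LocalizedModule.smul'_mk, ← Submonoid.smul_def, hu,
            LocalizedModule.zero_mk]
        rw [← LocalizedModule.mk_cancel_common_left u t, h1, LocalizedModule.zero_mk]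
  rw [key a, key b]

/-- For `f ∈ fs`, the localisation at `f` of the extended Čech complex is acyclic. -/
theorem locCx_extCech_acyclic (M : ModuleCat.{u} R) (fs : List R) (f : R) (hf : f ∈ fs) :
    ((locCx (Submonoid.powers f)).obj (extCech M fs)).Acyclic := by
  induction fs with
  | nil => simp at hf
  | cons g fs ih =>
    have e := mapCoconeIso (locFunctor (Submonoid.powers f))
      (locCxUnit (Submonoid.powers g) (extCech M fs))
    have hacyc : (CochainComplex.mappingCocone
        ((locCx (Submonoid.powers f)).map
          (locCxUnit (Submonoid.powers g) (extCech M fs)))).Acyclic := by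
      by_cases hfg : f = g
      · subst hfg
        apply acyclic_of_contractible
        apply Groth.Agent.S9263.cocone_contractible
        have := isIso_locCx_map_locCxUnit (Submonoid.powers f) (extCech M fs)
        infer_instance
      · have hf' : f ∈ fs := by
          rcases List.mem_cons.1 hf with h | h
          · exact absurd h hfg
          · exact h
        have ih' := ih hf'
        apply acyclic_mappingCocone _ ih'
        intro q
        rw [HomologicalComplex.exactAt_iff_isZero_homology]
        have hq : IsZero ((locFunctor (Submonoid.powers f)).obj ((extCech M fs).homology q)) :=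
          IsZero.of_iso ((HomologicalComplex.exactAt_iff_isZero_homology _ _).1 (ih' q))
            (homologyLocIso (Submonoid.powers f) (extCech M fs) q).symm
        have hq2 := isZero_loc_loc (g := g) _ hq
        refine IsZero.of_iso hq2 (homologyLocIso (Submonoid.powers f) _ q ≪≫
          (locFunctor (Submonoid.powers f)).mapIso
            (homologyLocIso (Submonoid.powers g) (extCech M fs) q))
    intro q
    exact (hacyc q).of_iso e.symm

/-- Every element of `extCechH fs M q` is killed by a power of each `f ∈ fs`. -/
theorem extCechH_tors (M : ModuleCat.{u} R) (fs : List R) (f : R) (hf : f ∈ fs) (q : ℤ)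
    (x : extCechH fs M q) : ∃ n : ℕ, (f ^ n) • x = 0 := by
  have h1 := locCx_extCech_acyclic M fs f hf q
  rw [HomologicalComplex.exactAt_iff_isZero_homology] at h1
  have h2 : IsZero ((locFunctor (Submonoid.powers f)).obj ((extCech M fs).homology q)) :=
    IsZero.of_iso h1 (homologyLocIso (Submonoid.powers f) (extCech M fs) q).symm
  rw [ModuleCat.isZero_iff_subsingleton] at h2
  change Subsingleton (LocalizedModule (Submonoid.powers f) ((extCech M fs).homology q)) at h2
  have h0 : LocalizedModule.mkLinearMap (Submonoid.powers f) _ x = 0 := Subsingleton.elim _ _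
  obtain ⟨⟨_, n, rfl⟩, hu⟩ := (IsLocalizedModule.eq_zero_iff (Submonoid.powers f)
    (LocalizedModule.mkLinearMap (Submonoid.powers f) _)).1 h0
  exact ⟨n, hu⟩

end Groth.Agent.H46
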