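import Groth.Agent.H46.Catenary
import Mathlib.RingTheory.Ideal.MinimalPrime.Basic
import Mathlib.RingTheory.Spectrum.Prime.RingHom

set_option autoImplicit false
universe u

namespace Groth.Agent.H46

/-- Lifting a chain along an order embedding when the chain lies in the image. -/
theorem exists_lift_series {A B : Type u} [CommRing A] [CommRing B]
    (e : PrimeSpectrum B → PrimeSpectrum A)
    (hle : ∀ x y, e x ≤ e y ↔ x ≤ y)
    (s : LTSeries (PrimeSpectrum A)) (hs : ∀ i, s i ∈ Set.range e) :
    ∃ s' : LTSeries (PrimeSpectrum B), s'.length = s.length ∧ e s'.head = s.head ∧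
      e s'.last = s.last ∧
      ((∀ i : Fin s.length, s (Fin.castSucc i) ⋖ s (Fin.succ i)) →
        ∀ i : Fin s'.length, s' (Fin.castSucc i) ⋖ s' (Fin.succ i)) := by
  have hinj : Function.Injective e := by
    intro x y hxy
    exact le_antisymm ((hle x y).mp hxy.le) ((hle y x).mp hxy.ge)
  have hlt : ∀ x y, e x < e y ↔ x < y := by
    intro x y
    rw [lt_iff_le_and_ne, lt_iff_le_and_ne, hle, hinj.ne_iff]
  choose f hf using hs
  have hmono : StrictMono f := by
    intro i j hij
    rw [← hlt, hf, hf]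
    exact s.strictMono hij
  refine ⟨LTSeries.mk s.length f hmono, rfl, ?_, ?_, ?_⟩
  · exact hf _
  · exact hf _
  · intro hsat i
    have h1 := hsat i
    refine ⟨hmono (Fin.castSucc_lt_succ (i := i)), ?_⟩
    intro c hc hc'
    have h2 : s (Fin.castSucc i) < e c := by
      rw [← hf]; exact (hlt _ _).mpr hc
    have h3 : e c < s (Fin.succ i) := by
      rw [← hf (Fin.succ i)]; exact (hlt _ _).mpr hc'
    exact h1.2 h2 h3

/-- A ring is catenary if its quotients by minimal primes are. -/
theorem isCatenary_of_forall_minimalPrimes {R : Type u} [CommRing R]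
    (h : ∀ p ∈ minimalPrimes R, CAlg.IsCatenary (R ⧸ p)) : CAlg.IsCatenary R := by
  -- the embedding for a given ideal
  have hle : ∀ (I : Ideal R) (x y : PrimeSpectrum (R ⧸ I)),
      PrimeSpectrum.comap (Ideal.Quotient.mk I) x ≤ PrimeSpectrum.comap (Ideal.Quotient.mk I) y ↔
        x ≤ y := fun I x y =>
    Ideal.comap_le_comap_iff_of_surjective (Ideal.Quotient.mk I)
      Ideal.Quotient.mk_surjective x.asIdeal y.asIdeal
  have hinj : ∀ (I : Ideal R), Function.Injective (PrimeSpectrum.comap (Ideal.Quotient.mk I)) := by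
    intro I x y hxy
    exact le_antisymm ((hle I x y).mp hxy.le) ((hle I y x).mp hxy.ge)
  have hrange : ∀ (I : Ideal R) (r : PrimeSpectrum R), I ≤ r.asIdeal →
      r ∈ Set.range (PrimeSpectrum.comap (Ideal.Quotient.mk I)) := by
    intro I r hr
    rw [range_comap_of_surjective _ _ Ideal.Quotient.mk_surjective, Ideal.mk_ker,
      PrimeSpectrum.mem_zeroLocus]
    exact hr
  have hmin : ∀ p : PrimeSpectrum R, ∃ p₀ ∈ minimalPrimes R, p₀ ≤ p.asIdeal := by
    intro p
    exact Ideal.exists_minimalPrimes_le (bot_le : (⊥ : Ideal R) ≤ p.asIdeal)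
  constructor
  · intro p q hpq
    obtain ⟨p₀, hp₀, hp₀p⟩ := hmin p
    obtain ⟨p', rfl⟩ := hrange p₀ p hp₀p
    obtain ⟨q', rfl⟩ := hrange p₀ q (hp₀p.trans hpq)
    obtain ⟨n, hn⟩ := (h p₀ hp₀).1 p' q' ((hle p₀ p' q').mp hpq)
    refine ⟨n, ?_⟩
    intro s hs hs'
    have hsr : ∀ i, s i ∈ Set.range (PrimeSpectrum.comap (Ideal.Quotient.mk p₀)) := by
      intro i
      apply hrange
      have h1 : s.head ≤ s i := s.head_le i
      rw [hs] at h1
      exact hp₀p.trans h1
    obtain ⟨s', hlen, hhead, hlast, -⟩ := exists_lift_series _ (hle p₀) s hsr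
    rw [← hlen]
    apply hn s'
    · apply hinj p₀; rw [hhead, hs]
    · apply hinj p₀; rw [hlast, hs']
  · intro s t hst hst' hs ht
    obtain ⟨p₀, hp₀, hp₀p⟩ := hmin s.head
    have hsr : ∀ i, s i ∈ Set.range (PrimeSpectrum.comap (Ideal.Quotient.mk p₀)) := by
      intro i
      apply hrange
      exact hp₀p.trans (s.head_le i)
    have htr : ∀ i, t i ∈ Set.range (PrimeSpectrum.comap (Ideal.Quotient.mk p₀)) := by
      intro i
      apply hrange
      have := t.head_le i
      rw [← hst] at this
      exact hp₀p.trans this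
    obtain ⟨s', hlen, hhead, hlast, hsat⟩ := exists_lift_series _ (hle p₀) s hsr
    obtain ⟨t', hlen', hhead', hlast', hsat'⟩ := exists_lift_series _ (hle p₀) t htr
    rw [← hlen, ← hlen']
    apply (h p₀ hp₀).2 s' t'
    · apply hinj p₀; rw [hhead, hhead', hst]
    · apply hinj p₀; rw [hlast, hlast', hst']
    · exact hsat hs
    · exact hsat' ht

end Groth.Agent.H46
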