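import Groth.Prelude.Def_Found
import Mathlib.Order.RelSeries
import Mathlib.Order.Cover
import Mathlib.RingTheory.Spectrum.Prime.Topology

set_option autoImplicit false
universe u

namespace Groth.Agent.H46

/-- Transfer of the catenary property along an order embedding of spectra with convex image. -/
theorem isCatenary_of_embedding {A B : Type u} [CommRing A] [CommRing B]
    (e : PrimeSpectrum B → PrimeSpectrum A)
    (hle : ∀ x y, e x ≤ e y ↔ x ≤ y)
    (hconv : ∀ x y r, e x ≤ r → r ≤ e y → ∃ z, e z = r)
    (hA : CAlg.IsCatenary A) : CAlg.IsCatenary B := by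
  have hinj : Function.Injective e := by
    intro x y hxy
    exact le_antisymm ((hle x y).mp hxy.le) ((hle y x).mp hxy.ge)
  have hlt : ∀ x y, e x < e y ↔ x < y := by
    intro x y
    rw [lt_iff_le_and_ne, lt_iff_le_and_ne, hle, hinj.ne_iff]
  have hmono : StrictMono e := fun x y hxy => (hlt x y).mpr hxy
  have hcov : ∀ x y, x ⋖ y → e x ⋖ e y := by
    intro x y hxy
    refine ⟨hmono hxy.lt, ?_⟩
    intro c hxc hcy
    obtain ⟨z, rfl⟩ := hconv x y c hxc.le hcy.le
    exact hxy.2 ((hlt x z).mp hxc) ((hlt z y).mp hcy)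
  constructor
  · intro p q hpq
    obtain ⟨n, hn⟩ := hA.1 (e p) (e q) ((hle p q).mpr hpq)
    refine ⟨n, ?_⟩
    intro s hs hs'
    have := hn (s.map e hmono) (by rw [LTSeries.head_map, hs]) (by rw [LTSeries.last_map, hs'])
    simpa using this
  · intro s t hst hst' hs ht
    have := hA.2 (s.map e hmono) (t.map e hmono)
      (by rw [LTSeries.head_map, LTSeries.head_map, hst])
      (by rw [LTSeries.last_map, LTSeries.last_map, hst'])
      (fun i => hcov _ _ (hs i)) (fun i => hcov _ _ (ht i))
    simpa using this

end Groth.Agent.H46
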