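import Mathlib.AlgebraicGeometry.AffineTransitionLimit
import Mathlib.AlgebraicGeometry.Morphisms.FinitePresentation

/-!
# Base change of a cofiltered limit of schemes

`D : I ⥤ Scheme`, `c` a limit cone, `xi : Xi ⟶ D.obj i`.  We define the diagram
`bcDiagram D xi : Over i ⥤ Scheme`, `j ↦ Xi ×_{D i} D j`, and show that the base change
`X = Xi ×_{D i} c.pt` is its limit (`bcConeIsLimit`).  The diagram inherits affine transition maps,
quasi-compactness and quasi-separatedness.
-/

set_option autoImplicit false
set_option backward.isDefEq.respectTransparency false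
universe u
open CategoryTheory CategoryTheory.Limits AlgebraicGeometry

namespace Groth.Agent.H46

variable {I : Type u} [SmallCategory I] (D : I ⥤ Scheme.{u}) {i : I} {Xi : Scheme.{u}}
  (xi : Xi ⟶ D.obj i)

/-- The base-change diagram `j ↦ Xi ×_{D i} D j` indexed by `Over i`. -/
noncomputable def bcDiagram : Over i ⥤ Scheme.{u} where
  obj j := pullback xi (D.map j.hom)
  map {j k} ψ := pullback.map xi (D.map j.hom) xi (D.map k.hom) (𝟙 _) (D.map ψ.left) (𝟙 _)
    (by simp) (by rw [Category.comp_id, ← D.map_comp, Over.w ψ])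
  map_id j := by
    apply pullback.hom_ext <;> simp [pullback.lift_fst, pullback.lift_snd]
  map_comp ψ ψ' := by
    apply pullback.hom_ext <;> simp [pullback.lift_fst, pullback.lift_snd, pullback.lift_fst_assoc,
      pullback.lift_snd_assoc]

@[simp]
lemma bcDiagram_obj (j : Over i) : (bcDiagram D xi).obj j = pullback xi (D.map j.hom) := rfl

@[reassoc (attr := simp)]
lemma bcDiagram_map_fst {j k : Over i} (ψ : j ⟶ k) :
    (bcDiagram D xi).map ψ ≫ pullback.fst xi (D.map k.hom) = pullback.fst xi (D.map j.hom) := by
  simp [bcDiagram, pullback.lift_fst]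

@[reassoc (attr := simp)]
lemma bcDiagram_map_snd {j k : Over i} (ψ : j ⟶ k) :
    (bcDiagram D xi).map ψ ≫ pullback.snd xi (D.map k.hom) =
      pullback.snd xi (D.map j.hom) ≫ D.map ψ.left := by
  simp [bcDiagram, pullback.lift_snd]

/-- The projection to the original diagram. -/
noncomputable def bcDiagramSnd : bcDiagram D xi ⟶ Over.forget i ⋙ D where
  app j := pullback.snd xi (D.map j.hom)
  naturality j k ψ := by simp

/-- The structure map to `D.obj i`. -/
noncomputable def bcDiagramT : bcDiagram D xi ⟶ (Functor.const (Over i)).obj (D.obj i) where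
  app j := pullback.fst xi (D.map j.hom) ≫ xi
  naturality j k ψ := by simp

/-- The projection to `Xi`. -/
noncomputable def bcDiagramFst : bcDiagram D xi ⟶ (Functor.const (Over i)).obj Xi where
  app j := pullback.fst xi (D.map j.hom)
  naturality j k ψ := by simp

lemma isPullback_bcDiagram_map {j k : Over i} (ψ : j ⟶ k) :
    IsPullback ((bcDiagram D xi).map ψ) (pullback.snd xi (D.map j.hom))
      (pullback.snd xi (D.map k.hom)) (D.map ψ.left) := by
  refine IsPullback.of_right ?_ (bcDiagram_map_snd D xi ψ)
    (IsPullback.of_hasPullback xi (D.map k.hom))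
  rw [bcDiagram_map_fst, ← D.map_comp, Over.w ψ]
  exact IsPullback.of_hasPullback xi (D.map j.hom)

instance [∀ (i j : I) (f : i ⟶ j), IsAffineHom (D.map f)] {j k : Over i} (ψ : j ⟶ k) :
    IsAffineHom ((bcDiagram D xi).map ψ) :=
  MorphismProperty.of_isPullback (isPullback_bcDiagram_map D xi ψ).flip inferInstance

instance [∀ (i j : I) (f : i ⟶ j), IsAffineHom (D.map f)] [CompactSpace Xi] (j : Over i) :
    CompactSpace ((bcDiagram D xi).obj j) :=
  QuasiCompact.compactSpace_of_compactSpace (pullback.fst xi (D.map j.hom))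

instance [∀ (i j : I) (f : i ⟶ j), IsAffineHom (D.map f)] [QuasiSeparatedSpace Xi] (j : Over i) :
    QuasiSeparatedSpace ((bcDiagram D xi).obj j) :=
  quasiSeparatedSpace_of_quasiSeparated (pullback.fst xi (D.map j.hom))

variable {D xi} (c : Cone D) {X : Scheme.{u}} {qX : X ⟶ Xi} {pX : X ⟶ c.pt}

/-- The cone over the base-change diagram with apex `X`. -/
noncomputable def bcCone (h : qX ≫ xi = pX ≫ c.π.app i) : Cone (bcDiagram D xi) where
  pt := X
  π :=
    { app j := pullback.lift qX (pX ≫ c.π.app j.left) (by rw [h, Category.assoc, c.w])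
      naturality j k ψ := by
        apply pullback.hom_ext
        · simp [pullback.lift_fst, pullback.lift_fst_assoc]
        · simp [pullback.lift_snd, pullback.lift_snd_assoc] }

@[reassoc (attr := simp)]
lemma bcCone_π_app_fst (h : qX ≫ xi = pX ≫ c.π.app i) (j : Over i) :
    (bcCone c h).π.app j ≫ pullback.fst xi (D.map j.hom) = qX := by
  simp [bcCone, pullback.lift_fst]

@[reassoc (attr := simp)]
lemma bcCone_π_app_snd (h : qX ≫ xi = pX ≫ c.π.app i) (j : Over i) :
    (bcCone c h).π.app j ≫ pullback.snd xi (D.map j.hom) = pX ≫ c.π.app j.left := by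
  simp [bcCone, pullback.lift_snd]

lemma isPullback_bcCone_π_app (hX : IsPullback qX pX xi (c.π.app i)) (j : Over i) :
    IsPullback ((bcCone c hX.w).π.app j) pX (pullback.snd xi (D.map j.hom)) (c.π.app j.left) := by
  refine IsPullback.of_right ?_ (bcCone_π_app_snd c hX.w j)
    (IsPullback.of_hasPullback xi (D.map j.hom))
  rw [bcCone_π_app_fst, c.w]
  exact hX

attribute [local instance] CategoryTheory.isConnected_of_hasTerminal in
/-- The base change of the limit is the limit of the base changes. -/
noncomputable def bcConeIsLimit [IsCofiltered I] (hc : IsLimit c)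
    (hX : IsPullback qX pX xi (c.π.app i)) : IsLimit (bcCone c hX.w) :=
  isLimitOfIsPullbackOfIsConnected (bcDiagramSnd D xi) (bcCone c hX.w)
    (c.whisker (Over.forget i))
    { hom := pX
      w := fun j => by simp [bcDiagramSnd] }
    (fun j => isPullback_bcCone_π_app c hX j)
    ((Functor.Initial.isLimitWhiskerEquiv (Over.forget i) c).symm hc)

end Groth.Agent.H46
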