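import Mathlib

/-!
# Krull–Akizuki: length bounds

For a one-dimensional Noetherian domain `R` with fraction field `K`, a finite dimensional
`K`-vector space `L`, an `R`-module `A` with an injective `R`-linear map `A → L` and `a ≠ 0` in `R`,
the `R`-module `A / aA` has length at most `dim_K L · length (R / a)`.
-/

set_option autoImplicit false
set_option linter.style.haveILetI false
set_option linter.unusedSectionVars false
universe u

namespace Groth.Agent.H46.KA

open Module Pointwise

theorem nsmul_ne_top (n : ℕ) {x : ℕ∞} (hx : x ≠ ⊤) : n • x ≠ ⊤ := by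
  induction n with
  | zero => simp
  | succ n ih =>
    rw [succ_nsmul]
    exact WithTop.add_ne_top.mpr ⟨ih, hx⟩

section general

variable {R : Type u} [CommRing R]

theorem length_sup_le {X : Type u} [AddCommGroup X] [Module R X] (P Q : Submodule R X) :
    Module.length R ↥(P ⊔ Q) ≤ Module.length R P + Module.length R Q := by
  have hrange : LinearMap.range (P.subtype.coprod Q.subtype) = P ⊔ Q := by
    rw [LinearMap.range_coprod, Submodule.range_subtype, Submodule.range_subtype]
  rw [← Module.length_prod R ↥P ↥Q, ← (LinearEquiv.ofEq _ _ hrange).length_eq]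
  exact Module.length_le_of_surjective (P.subtype.coprod Q.subtype).rangeRestrict
    (LinearMap.surjective_rangeRestrict _)

theorem length_span_singleton_le {X : Type u} [AddCommGroup X] [Module R X] (a : R) (x : X)
    (hx : a • x = 0) :
    Module.length R ↥(Submodule.span R {x}) ≤ Module.length R (R ⧸ Ideal.span {a}) := by
  have hle : Ideal.span {a} ≤ LinearMap.ker (LinearMap.toSpanSingleton R X x) := by
    rw [Ideal.span_le]
    intro r hr
    rw [Set.mem_singleton_iff] at hr
    subst hr
    simp [hx]
  let f : (R ⧸ Ideal.span {a}) →ₗ[R] X :=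
    Submodule.liftQ (Ideal.span {a}) (LinearMap.toSpanSingleton R X x) hle
  have hrange : LinearMap.range f = Submodule.span R {x} := by
    rw [Submodule.range_liftQ, LinearMap.range_toSpanSingleton]
  rw [← (LinearEquiv.ofEq _ _ hrange).length_eq]
  exact Module.length_le_of_surjective f.rangeRestrict (LinearMap.surjective_rangeRestrict _)

theorem length_span_finset_le {X : Type u} [AddCommGroup X] [Module R X] (a : R) (s : Finset X)
    (hs : ∀ x ∈ s, a • x = 0) :
    Module.length R ↥(Submodule.span R (s : Set X)) ≤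
      s.card • Module.length R (R ⧸ Ideal.span {a}) := by
  classical
  induction s using Finset.induction_on with
  | empty =>
    rw [Finset.coe_empty, Submodule.span_empty, Module.length_bot]
    exact zero_le
  | insert x s hxs ih =>
    rw [Finset.coe_insert, Submodule.span_insert, Finset.card_insert_of_notMem hxs, succ_nsmul]
    have h1 := ih (fun y hy => hs y (Finset.mem_insert_of_mem hy))
    have h2 := length_span_singleton_le a x (hs x (Finset.mem_insert_self x s))
    exact (length_sup_le _ _).trans ((add_comm _ _).le.trans (add_le_add h1 h2))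

theorem length_quot_eq_add {N : Type u} [AddCommGroup N] [Module R N] (P Q : Submodule R N)
    (h : P ≤ Q) :
    Module.length R (N ⧸ P) = Module.length R ↥(Q.map P.mkQ) + Module.length R (N ⧸ Q) := by
  rw [Module.length_eq_add_of_exact (Q.map P.mkQ).subtype (Q.map P.mkQ).mkQ
    (Submodule.subtype_injective _) (Submodule.mkQ_surjective _) (LinearMap.exact_subtype_mkQ _)]
  congr 1
  exact (Submodule.quotientQuotientEquivQuotient P Q h).length_eq

theorem length_quot_smul_le {N : Type u} [AddCommGroup N] [Module R N] [Module.Finite R N]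
    (htf : ∀ c : R, c ≠ 0 → ∀ x : N, c • x = 0 → x = 0)
    (hlam : ∀ c : R, c ≠ 0 → Module.length R (R ⧸ Ideal.span {c}) ≠ ⊤)
    (s : Finset N) (t : R) (ht : t ≠ 0) (hts : ∀ x : N, t • x ∈ Submodule.span R (s : Set N))
    (a : R) (ha : a ≠ 0) :
    Module.length R (N ⧸ (a • (⊤ : Submodule R N))) ≤
      s.card • Module.length R (R ⧸ Ideal.span {a}) := by
  classical
  obtain ⟨E, hE⟩ : ∃ E : Submodule R N, E = Submodule.span R (s : Set N) := ⟨_, rfl⟩
  obtain ⟨P, hP⟩ : ∃ P : Submodule R N, P = a • E := ⟨_, rfl⟩
  have hPQ1 : P ≤ a • (⊤ : Submodule R N) := by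
    intro x hx
    rw [hP] at hx
    obtain ⟨e, -, rfl⟩ := (Submodule.mem_smul_pointwise_iff_exists _ _ _).mp hx
    exact Submodule.smul_mem_pointwise_smul e a ⊤ Submodule.mem_top
  have hPQ2 : P ≤ E := by
    intro x hx
    rw [hP] at hx
    obtain ⟨e, he, rfl⟩ := (Submodule.mem_smul_pointwise_iff_exists _ _ _).mp hx
    exact E.smul_mem a he
  have h1 := length_quot_eq_add P (a • ⊤) hPQ1
  have h2 := length_quot_eq_add P E hPQ2
  have h3 : Module.length R ↥((a • (⊤ : Submodule R N)).map P.mkQ) = Module.length R (N ⧸ E) := by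
    let φ : N →ₗ[R] N ⧸ P := P.mkQ ∘ₗ (LinearMap.lsmul R N a)
    have hker : LinearMap.ker φ = E := by
      ext x
      rw [LinearMap.mem_ker, LinearMap.comp_apply, Submodule.mkQ_apply,
        Submodule.Quotient.mk_eq_zero, LinearMap.lsmul_apply, hP]
      constructor
      · intro hx
        obtain ⟨e, he, hex⟩ := (Submodule.mem_smul_pointwise_iff_exists _ _ _).mp hx
        have h0 : a • (e - x) = 0 := by rw [smul_sub, hex, sub_self]
        have h00 := htf a ha _ h0
        rw [sub_eq_zero] at h00
        rw [← h00]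
        exact he
      · intro hx
        exact Submodule.smul_mem_pointwise_smul x a E hx
    have hrange : LinearMap.range φ = (a • (⊤ : Submodule R N)).map P.mkQ := by
      rw [LinearMap.range_comp]
      congr 1
      ext x
      rw [LinearMap.mem_range, Submodule.mem_smul_pointwise_iff_exists]
      constructor
      · rintro ⟨y, rfl⟩
        exact ⟨y, Submodule.mem_top, rfl⟩
      · rintro ⟨y, -, rfl⟩
        exact ⟨y, rfl⟩
    rw [← (LinearEquiv.ofEq _ _ hrange).length_eq, ← (φ.quotKerEquivRange).length_eq]
    exact (Submodule.quotEquivOfEq _ _ hker).length_eq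
  have h4 : Module.length R (N ⧸ E) ≠ ⊤ := by
    obtain ⟨s', hs'⟩ := (Module.Finite.fg_top : (⊤ : Submodule R (N ⧸ E)).FG)
    have hkill : ∀ y ∈ s', t • y = 0 := by
      intro y _
      obtain ⟨x, rfl⟩ := Submodule.Quotient.mk_surjective E y
      rw [← Submodule.Quotient.mk_smul, Submodule.Quotient.mk_eq_zero, hE]
      exact hts x
    have hle := length_span_finset_le t s' hkill
    rw [hs', Module.length_top] at hle
    intro htop
    rw [htop, top_le_iff] at hle
    exact nsmul_ne_top _ (hlam t ht) hle
  have h5 : Module.length R ↥(E.map P.mkQ) ≤ s.card • Module.length R (R ⧸ Ideal.span {a}) := by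
    have himg : E.map P.mkQ = Submodule.span R ((s.image P.mkQ : Finset (N ⧸ P)) : Set (N ⧸ P)) := by
      rw [hE, Submodule.map_span, Finset.coe_image]
    rw [(LinearEquiv.ofEq _ _ himg).length_eq]
    refine (length_span_finset_le a (s.image P.mkQ) ?_).trans ?_
    · intro y hy
      obtain ⟨x, hx, rfl⟩ := Finset.mem_image.mp hy
      rw [Submodule.mkQ_apply, ← Submodule.Quotient.mk_smul, Submodule.Quotient.mk_eq_zero, hP]
      refine Submodule.smul_mem_pointwise_smul x a E ?_
      rw [hE]
      exact Submodule.subset_span hx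
    · exact nsmul_le_nsmul_left zero_le Finset.card_image_le
  have h6 : Module.length R (N ⧸ (a • (⊤ : Submodule R N))) + Module.length R (N ⧸ E) =
      Module.length R ↥(E.map P.mkQ) + Module.length R (N ⧸ E) := by
    rw [← h2, h1, h3, add_comm]
  have h7 := ENat.add_left_injective_of_ne_top h4 h6
  rw [h7]
  exact h5

theorem length_le_of_forall_fg {Y : Type u} [AddCommGroup Y] [Module R Y] (B : ℕ)
    (h : ∀ X : Submodule R Y, X.FG → Module.length R X ≤ B) : Module.length R Y ≤ B := by
  classical
  rw [Module.length_eq_height, Order.height_le_iff]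
  intro p _
  have hex : ∀ i : Fin p.length, ∃ y : Y, y ∈ p i.succ ∧ y ∉ p i.castSucc := by
    intro i
    have hlt : p i.castSucc < p i.succ := p.strictMono (Fin.castSucc_lt_succ)
    obtain ⟨y, hy, hy'⟩ := SetLike.exists_of_lt hlt
    exact ⟨y, hy, hy'⟩
  choose y hy hy' using hex
  let X : Submodule R Y := Submodule.span R (Set.range y)
  have hXfg : X.FG := Submodule.fg_span (Set.finite_range y)
  have hyX : ∀ i, y i ∈ X := fun i => Submodule.subset_span ⟨i, rfl⟩
  let q : LTSeries (Submodule R ↥X) := LTSeries.mk p.length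
    (fun i => (p i).comap X.subtype) (by
      rw [Fin.strictMono_iff_lt_succ]
      intro i
      refine lt_of_le_of_ne (Submodule.comap_mono (p.strictMono (Fin.castSucc_lt_succ)).le) ?_
      intro heq
      have h1 : (⟨y i, hyX i⟩ : ↥X) ∈ (p i.succ).comap X.subtype := hy i
      rw [← heq] at h1
      exact hy' i h1)
  have hq := Order.height_le_iff.mp ((Module.length_eq_height (R := R) (M := ↥X)).symm.le.trans
    (h X hXfg)) (p := q) le_top
  exact hq

end general

section frac

variable {R : Type u} [CommRing R] [IsDomain R] {K : Type u} [Field K] [Algebra R K]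
  [IsFractionRing R K] {L : Type u} [AddCommGroup L] [Module K L] [Module R L]
  [IsScalarTower R K L]

theorem exists_smul_mem_span (S : Set L) (x : L) (hx : x ∈ Submodule.span K S) :
    ∃ t : R, t ≠ 0 ∧ t • x ∈ Submodule.span R S := by
  refine Submodule.span_induction ?_ ?_ ?_ ?_ hx
  · intro y hy
    exact ⟨1, one_ne_zero, by rw [one_smul]; exact Submodule.subset_span hy⟩
  · exact ⟨1, one_ne_zero, by rw [smul_zero]; exact zero_mem _⟩
  · rintro y z _ _ ⟨t₁, ht₁, h₁⟩ ⟨t₂, ht₂, h₂⟩
    refine ⟨t₁ * t₂, mul_ne_zero ht₁ ht₂, ?_⟩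
    rw [smul_add]
    refine add_mem ?_ ?_
    · rw [mul_comm, mul_smul]
      exact Submodule.smul_mem _ _ h₁
    · rw [mul_smul]
      exact Submodule.smul_mem _ _ h₂
  · rintro c y _ ⟨t, ht, h⟩
    obtain ⟨p, q, hq, rfl⟩ := IsFractionRing.div_surjective (A := R) c
    have hq0 : algebraMap R K q ≠ 0 := by
      intro h0
      exact nonZeroDivisors.ne_zero hq
        ((injective_iff_map_eq_zero _).mp (IsFractionRing.injective R K) _ h0)
    refine ⟨q * t, mul_ne_zero (nonZeroDivisors.ne_zero hq) ht, ?_⟩
    have hcalc : (q * t) • ((algebraMap R K p / algebraMap R K q) • y) = p • (t • y) := by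
      rw [← algebraMap_smul K (q * t), smul_smul, ← algebraMap_smul K p, ← algebraMap_smul K t,
        smul_smul]
      congr 1
      rw [map_mul]
      field_simp
    rw [hcalc]
    exact Submodule.smul_mem _ _ h

theorem exists_finset_smul_mem [FiniteDimensional K L] (N' : Type u) [AddCommGroup N']
    [Module R N'] [Module.Finite R N'] (ι : N' →ₗ[R] L) (hι : Function.Injective ι) :
    ∃ (s : Finset N') (t : R), t ≠ 0 ∧ s.card ≤ Module.finrank K L ∧
      ∀ x : N', t • x ∈ Submodule.span R (s : Set N') := by
  classical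
  obtain ⟨G, hG⟩ := (Module.Finite.fg_top : (⊤ : Submodule R N').FG)
  have key : ∀ G' : Finset N', ∃ (s : Finset N') (t : R), t ≠ 0 ∧
      LinearIndepOn K (⇑ι) (s : Set N') ∧
      ∀ g ∈ G', t • g ∈ Submodule.span R (s : Set N') := by
    intro G'
    induction G' using Finset.induction_on with
    | empty =>
      refine ⟨∅, 1, one_ne_zero, ?_, ?_⟩
      · rw [Finset.coe_empty]
        exact linearIndepOn_empty K _
      · intro g hg
        simp at hg
    | insert g G' hg ih =>
      obtain ⟨s, t, ht, hli, hmem⟩ := ih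
      by_cases hgs : ι g ∈ Submodule.span K (ι '' (s : Set N'))
      · obtain ⟨t', ht', h'⟩ := exists_smul_mem_span (R := R) (ι '' (s : Set N')) (ι g) hgs
        rw [← Submodule.map_span, ← map_smul] at h'
        obtain ⟨y, hy, hyg⟩ := h'
        have hyeq : y = t' • g := hι hyg
        refine ⟨s, t * t', mul_ne_zero ht ht', hli, ?_⟩
        intro g' hg'
        rw [Finset.mem_insert] at hg'
        rcases hg' with rfl | hg'
        · rw [mul_smul, ← hyeq]
          exact Submodule.smul_mem _ _ hy
        · rw [mul_comm, mul_smul]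
          exact Submodule.smul_mem _ _ (hmem g' hg')
      · refine ⟨insert g s, t, ht, ?_, ?_⟩
        · rw [Finset.coe_insert]
          exact hli.insert hgs
        · intro g' hg'
          rw [Finset.mem_insert] at hg'
          rw [Finset.coe_insert]
          rcases hg' with rfl | hg'
          · exact Submodule.smul_mem _ _ (Submodule.subset_span (Set.mem_insert _ _))
          · exact Submodule.span_mono (Set.subset_insert _ _) (hmem g' hg')
  obtain ⟨s, t, ht, hli, hmem⟩ := key G
  refine ⟨s, t, ht, ?_, ?_⟩
  · have h := hli.encard_le_toENat_rank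
    rw [Set.encard_coe_eq_coe_finsetCard, ← Module.finrank_eq_rank, Cardinal.toENat_nat] at h
    exact_mod_cast h
  · intro x
    have hx : x ∈ Submodule.span R (G : Set N') := by
      rw [hG]
      trivial
    refine Submodule.span_induction ?_ ?_ ?_ ?_ hx
    · intro g hg
      exact hmem g hg
    · rw [smul_zero]
      exact zero_mem _
    · intro y z _ _ hy hz
      rw [smul_add]
      exact add_mem hy hz
    · intro c y _ hy
      rw [smul_comm]
      exact Submodule.smul_mem _ _ hy

theorem length_quot_ne_top [IsNoetherianRing R] [Ring.KrullDimLE 1 R] (c : R) (hc : c ≠ 0) :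
    Module.length R (R ⧸ Ideal.span {c}) ≠ ⊤ := by
  have h0 : Ring.KrullDimLE 0 (R ⧸ Ideal.span {c}) := by
    rw [Ideal.krullDimLE_zero_quotient_iff_forall_minimalPrimes_isMaximal]
    intro J hJ
    have hJp : J.IsPrime := hJ.1.1
    apply hJp.isMaximal_of_ne_bot
    intro hbot
    have hcJ : c ∈ J := hJ.1.2 (Ideal.mem_span_singleton_self c)
    rw [hbot] at hcJ
    exact hc ((Submodule.mem_bot R).mp hcJ)
  haveI : IsArtinianRing (R ⧸ Ideal.span {c}) := isArtinianRing_iff_krullDimLE_zero.mpr h0
  rw [Module.length_eq_of_surjective (S := R) (R := R ⧸ Ideal.span {c})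
    (M := R ⧸ Ideal.span {c}) Ideal.Quotient.mk_surjective]
  exact Module.length_ne_top

theorem length_quot_le_of_injective [IsNoetherianRing R] [Ring.KrullDimLE 1 R]
    [FiniteDimensional K L] (N' : Type u) [AddCommGroup N'] [Module R N'] [Module.Finite R N']
    (ι : N' →ₗ[R] L) (hι : Function.Injective ι) (a : R) (ha : a ≠ 0) :
    Module.length R (N' ⧸ (a • (⊤ : Submodule R N'))) ≤
      Module.finrank K L • Module.length R (R ⧸ Ideal.span {a}) := by
  obtain ⟨s, t, ht, hcard, hts⟩ := exists_finset_smul_mem (K := K) N' ι hι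
  have htf : ∀ c : R, c ≠ 0 → ∀ x : N', c • x = 0 → x = 0 := by
    intro c hc x hx
    apply hι
    rw [map_zero]
    have h1 : c • ι x = 0 := by rw [← map_smul, hx, map_zero]
    rw [← algebraMap_smul K c (ι x)] at h1
    rcases smul_eq_zero.mp h1 with h2 | h2
    · exact absurd ((injective_iff_map_eq_zero _).mp (IsFractionRing.injective R K) _ h2) hc
    · exact h2
  exact (length_quot_smul_le htf (fun c hc => length_quot_ne_top c hc) s t ht hts a ha).trans
    (nsmul_le_nsmul_left zero_le hcard)

/-- **Krull–Akizuki length bound.** -/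
theorem length_quot_le [IsNoetherianRing R] [Ring.KrullDimLE 1 R]
    [FiniteDimensional K L] (A : Type u) [AddCommGroup A] [Module R A]
    (ι : A →ₗ[R] L) (hι : Function.Injective ι) (a : R) (ha : a ≠ 0) :
    Module.length R (A ⧸ (a • (⊤ : Submodule R A))) ≤
      Module.finrank K L • Module.length R (R ⧸ Ideal.span {a}) := by
  classical
  obtain ⟨B, hB⟩ : ∃ B : ℕ,
      Module.finrank K L • Module.length R (R ⧸ Ideal.span {a}) = (B : ℕ∞) := by
    have := nsmul_ne_top (Module.finrank K L) (length_quot_ne_top a ha)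
    exact ⟨_, (ENat.natCast_toNat this).symm⟩
  rw [hB]
  apply length_le_of_forall_fg
  intro X hX
  obtain ⟨sb, hsb⟩ := hX
  subst hsb
  choose lift hlift using fun y : A ⧸ (a • (⊤ : Submodule R A)) =>
    Submodule.Quotient.mk_surjective _ y
  let N : Submodule R A := Submodule.span R ((sb.image lift : Finset A) : Set A)
  haveI : Module.Finite R N := Module.Finite.span_finset R _
  let ψ : ↥N →ₗ[R] A ⧸ (a • (⊤ : Submodule R A)) :=
    (a • ⊤ : Submodule R A).mkQ ∘ₗ N.subtype
  have hψker : (a • (⊤ : Submodule R ↥N)) ≤ LinearMap.ker ψ := by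
    intro x hx
    obtain ⟨y, -, rfl⟩ := (Submodule.mem_smul_pointwise_iff_exists _ _ _).mp hx
    rw [LinearMap.mem_ker, map_smul]
    simp only [ψ, LinearMap.comp_apply, Submodule.subtype_apply, Submodule.mkQ_apply]
    rw [← Submodule.Quotient.mk_smul, Submodule.Quotient.mk_eq_zero]
    exact Submodule.smul_mem_pointwise_smul _ a ⊤ Submodule.mem_top
  have hrange : LinearMap.range (Submodule.liftQ _ ψ hψker) =
      Submodule.span R (sb : Set (A ⧸ (a • (⊤ : Submodule R A)))) := by
    rw [Submodule.range_liftQ, LinearMap.range_comp, Submodule.range_subtype, Submodule.map_span,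
      Finset.coe_image, Set.image_image]
    congr 1
    ext z
    constructor
    · rintro ⟨w, hw, rfl⟩
      have e : (a • ⊤ : Submodule R A).mkQ (lift w) = w := by
        rw [Submodule.mkQ_apply, hlift w]
      change (a • ⊤ : Submodule R A).mkQ (lift w) ∈ _
      rw [e]
      exact hw
    · intro hz
      have e : (a • ⊤ : Submodule R A).mkQ (lift z) = z := by
        rw [Submodule.mkQ_apply, hlift z]
      exact ⟨z, hz, e⟩
  rw [← (LinearEquiv.ofEq _ _ hrange).length_eq, ← hB]
  exact (Module.length_le_of_surjective (Submodule.liftQ _ ψ hψker).rangeRestrict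
    (LinearMap.surjective_rangeRestrict _)).trans
    (length_quot_le_of_injective (K := K) ↥N (ι ∘ₗ N.subtype)
      (hι.comp Subtype.val_injective) a ha)

end frac

section ring

variable (R : Type u) [CommRing R] [IsDomain R] [IsNoetherianRing R] [Ring.KrullDimLE 1 R]
  (K L : Type u) [Field K] [Field L] [Algebra R K] [IsFractionRing R K] [Algebra K L]
  [FiniteDimensional K L] [Algebra R L] [IsScalarTower R K L]
  (A : Type u) [CommRing A] [Algebra R A] [Algebra A L] [IsScalarTower R A L]

include R K L A in
theorem algebraMap_injective_of_between : Function.Injective (algebraMap R A) := by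
  have hRL : Function.Injective (algebraMap R L) := by
    rw [IsScalarTower.algebraMap_eq R K L, RingHom.coe_comp]
    exact (algebraMap K L).injective.comp (IsFractionRing.injective R K)
  have h : (algebraMap R L : R → L) = algebraMap A L ∘ algebraMap R A := by
    funext x
    exact IsScalarTower.algebraMap_apply R A L x
  rw [h] at hRL
  exact Function.Injective.of_comp hRL

include R K L A in
theorem length_quotient_span_ne_top (hA : Function.Injective (algebraMap A L)) (a : R)
    (ha : a ≠ 0) : Module.length R (A ⧸ Ideal.span {algebraMap R A a}) ≠ ⊤ := by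
  have hι : Function.Injective (IsScalarTower.toAlgHom R A L).toLinearMap := fun x y h => hA h
  have h := length_quot_le (K := K) (L := L) A (IsScalarTower.toAlgHom R A L).toLinearMap hι a ha
  have hne : Module.length R (A ⧸ (a • (⊤ : Submodule R A))) ≠ ⊤ := by
    intro htop
    rw [htop, top_le_iff] at h
    exact nsmul_ne_top _ (length_quot_ne_top a ha) h
  have heq : (a • (⊤ : Submodule R A)) =
      (Ideal.span {algebraMap R A a}).restrictScalars R := by
    ext x
    rw [Submodule.mem_smul_pointwise_iff_exists, Submodule.restrictScalars_mem,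
      Ideal.mem_span_singleton']
    constructor
    · rintro ⟨y, -, rfl⟩
      exact ⟨y, by rw [Algebra.smul_def, mul_comm]⟩
    · rintro ⟨y, rfl⟩
      exact ⟨y, Submodule.mem_top, by rw [Algebra.smul_def, mul_comm]⟩
  rw [← ((Submodule.quotEquivOfEq _ _ heq).trans
    (Submodule.Quotient.restrictScalarsEquiv R (Ideal.span {algebraMap R A a}))).length_eq]
  exact hne

include R K L A in
theorem exists_ne_zero_mem (hA : Function.Injective (algebraMap A L)) (I : Ideal A)
    (hI : I ≠ ⊥) : ∃ a : R, a ≠ 0 ∧ algebraMap R A a ∈ I := by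
  haveI : IsDomain A := hA.isDomain (algebraMap A L)
  obtain ⟨x, hxI, hx0⟩ := Submodule.exists_mem_ne_zero_of_ne_bot hI
  haveI : Algebra.IsAlgebraic K L := Algebra.IsAlgebraic.of_finite K L
  haveI : Algebra.IsAlgebraic R L :=
    (IsFractionRing.comap_isAlgebraic_iff (A := R) (K := K) (C := L)).mpr inferInstance
  have hxalg : IsAlgebraic R x :=
    (isAlgebraic_algebraMap_iff hA).mp (Algebra.IsAlgebraic.isAlgebraic (algebraMap A L x))
  have hne : Ideal.comap (algebraMap R A) I ≠ ⊥ :=
    Ideal.comap_ne_bot_of_algebraic_mem hx0 hxI hxalg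
  obtain ⟨a, haI, ha0⟩ := Submodule.exists_mem_ne_zero_of_ne_bot hne
  exact ⟨a, ha0, Ideal.mem_comap.mp haI⟩

include R K L A in
theorem isFiniteLength_quotient (hA : Function.Injective (algebraMap A L)) (I : Ideal A)
    (hI : I ≠ ⊥) : IsFiniteLength R (A ⧸ I) := by
  obtain ⟨a, ha0, haI⟩ := exists_ne_zero_mem R K L A hA I hI
  have hle : Ideal.span {algebraMap R A a} ≤ I := (Ideal.span_singleton_le_iff_mem _).mpr haI
  rw [← Module.length_ne_top_iff]
  have h1 := length_quotient_span_ne_top R K L A hA a ha0
  have h2 : Module.length R (A ⧸ I) ≤ Module.length R (A ⧸ Ideal.span {algebraMap R A a}) :=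
    Module.length_le_of_surjective ((Submodule.factor hle).restrictScalars R)
      (Submodule.factor_surjective hle)
  intro htop
  rw [htop, top_le_iff] at h2
  exact h1 h2

include R K L A in
theorem isNoetherianRing_of_between (hA : Function.Injective (algebraMap A L)) :
    IsNoetherianRing A := by
  rw [isNoetherianRing_iff_ideal_fg]
  intro I
  by_cases hI : I = ⊥
  · rw [hI]
    exact Submodule.fg_bot
  obtain ⟨a, ha0, haI⟩ := exists_ne_zero_mem R K L A hA I hI
  have hJI : Ideal.span {algebraMap R A a} ≤ I := (Ideal.span_singleton_le_iff_mem _).mpr haI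
  have hJ0 : Ideal.span {algebraMap R A a} ≠ ⊥ := by
    rw [Ne, Ideal.span_singleton_eq_bot]
    intro h0
    exact ha0 (algebraMap_injective_of_between R K L A (by rw [h0, map_zero]))
  obtain ⟨hN, -⟩ := isFiniteLength_iff_isNoetherian_isArtinian.mp
    (isFiniteLength_quotient R K L A hA _ hJ0)
  haveI : IsNoetherian A (A ⧸ Ideal.span {algebraMap R A a}) := isNoetherian_of_tower R hN
  refine Submodule.fg_of_fg_map_of_fg_inf_ker (Ideal.span {algebraMap R A a}).mkQ
    (IsNoetherian.noetherian _) ?_
  rw [Submodule.ker_mkQ, inf_eq_right.mpr hJI]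
  exact Submodule.fg_span_singleton _

include R K L A in
theorem isArtinianRing_quotient (hA : Function.Injective (algebraMap A L)) (I : Ideal A)
    (hI : I ≠ ⊥) : IsArtinianRing (A ⧸ I) := by
  obtain ⟨-, hArt⟩ := isFiniteLength_iff_isNoetherian_isArtinian.mp
    (isFiniteLength_quotient R K L A hA I hI)
  exact isArtinian_of_tower R hArt

include R K L A in
theorem finite_quotient (hA : Function.Injective (algebraMap A L)) (I : Ideal A)
    (hI : I ≠ ⊥) : Module.Finite R (A ⧸ I) := by
  obtain ⟨hN, -⟩ := isFiniteLength_iff_isNoetherian_isArtinian.mp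
    (isFiniteLength_quotient R K L A hA I hI)
  infer_instance

include R K L A in
theorem isMaximal_of_isPrime_of_ne_bot (hA : Function.Injective (algebraMap A L)) (P : Ideal A)
    [P.IsPrime] (hP : P ≠ ⊥) : P.IsMaximal := by
  haveI := isArtinianRing_quotient R K L A hA P hP
  exact Ideal.Quotient.maximal_of_isField _ (IsArtinianRing.isField_of_isDomain _)

include R K L A in
theorem dimensionLEOne_of_between (hA : Function.Injective (algebraMap A L)) :
    Ring.DimensionLEOne A :=
  ⟨fun hp hprime => by
    haveI := hprime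
    exact isMaximal_of_isPrime_of_ne_bot R K L A hA _ hp⟩

end ring

section closure

variable (A K L B : Type u) [CommRing A] [IsDomain A] [IsNoetherianRing A] [Ring.KrullDimLE 1 A]
  [Field K] [Algebra A K] [IsFractionRing A K] [Field L] [Algebra K L] [FiniteDimensional K L]
  [Algebra A L] [IsScalarTower A K L] [CommRing B] [IsDomain B] [Algebra A B] [Algebra B L]
  [IsScalarTower A B L] [IsIntegralClosure B A L]

include A K L B in
theorem isDedekindDomain_of_isIntegralClosure : IsDedekindDomain B := by
  have hBL : Function.Injective (algebraMap B L) := IsIntegralClosure.algebraMap_injective B A L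
  haveI hN : IsNoetherianRing B := isNoetherianRing_of_between A K L B hBL
  haveI hfrac : IsFractionRing B L := IsIntegralClosure.isFractionRing_of_finite_extension A K L B
  haveI hint : Algebra.IsIntegral A B := IsIntegralClosure.isIntegral_algebra A L
  have hd : Ring.DimensionLEOne B := dimensionLEOne_of_between A K L B hBL
  have hR : IsDedekindRing B := (isDedekindRing_iff B L).mpr ⟨hN, hd, fun {x} hx => by
    have hx' : IsIntegral A x := isIntegral_trans x hx
    exact (IsIntegralClosure.isIntegral_iff (A := B)).mp hx'⟩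
  exact { toIsDomain := inferInstance, toIsDedekindRing := hR }

include A K L B in
theorem finite_primes_over (p : Ideal A) :
    {Q : Ideal B | Q.IsPrime ∧ Q.comap (algebraMap A B) = p}.Finite := by
  have hBL : Function.Injective (algebraMap B L) := IsIntegralClosure.algebraMap_injective B A L
  haveI hN : IsNoetherianRing B := isNoetherianRing_of_between A K L B hBL
  haveI hint : Algebra.IsIntegral A B := IsIntegralClosure.isIntegral_algebra A L
  refine Set.Finite.subset
    (Ideal.finite_minimalPrimes_of_isNoetherianRing B (p.map (algebraMap A B))) ?_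
  rintro Q ⟨hQ, hQp⟩
  refine ⟨⟨hQ, Ideal.map_le_iff_le_comap.mpr hQp.ge⟩, ?_⟩
  rintro Q' ⟨hQ', hle'⟩ hQ'Q
  by_contra hnot
  obtain ⟨x, hxQ, hxQ'⟩ := SetLike.not_le_iff_exists.mp hnot
  haveI := hQ'
  have hlt := Ideal.comap_lt_comap_of_integral_mem_sdiff (R := A) hQ'Q ⟨hxQ, hxQ'⟩
    (Algebra.IsIntegral.isIntegral x)
  rw [hQp] at hlt
  exact absurd (lt_of_lt_of_le hlt (Ideal.map_le_iff_le_comap.mp hle')) (lt_irrefl _)

include A K L B in
theorem finite_maximalSpectrum (hsl : Finite (MaximalSpectrum A)) :
    Finite (MaximalSpectrum B) := by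
  classical
  haveI hint : Algebra.IsIntegral A B := IsIntegralClosure.isIntegral_algebra A L
  let T : Set (Ideal B) :=
    ⋃ m : MaximalSpectrum A, {Q : Ideal B | Q.IsPrime ∧ Q.comap (algebraMap A B) = m.asIdeal}
  have hT : T.Finite := Set.finite_iUnion (fun m => finite_primes_over A K L B m.asIdeal)
  haveI : Finite ↥T := hT.to_subtype
  have hmem : ∀ M : MaximalSpectrum B, M.asIdeal ∈ T := by
    intro M
    haveI := M.isMaximal
    have hmax : (M.asIdeal.comap (algebraMap A B)).IsMaximal :=
      Ideal.isMaximal_comap_of_isIntegral_of_isMaximal (R := A) M.asIdeal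
    exact Set.mem_iUnion.mpr ⟨⟨_, hmax⟩, M.isMaximal.isPrime, rfl⟩
  exact Finite.of_injective (fun M => (⟨M.asIdeal, hmem M⟩ : ↥T))
    (fun M₁ M₂ h => MaximalSpectrum.ext (congrArg Subtype.val h))

end closure

section conductor

variable (B K B' : Type u) [CommRing B] [IsDomain B] [IsNoetherianRing B] [Ring.KrullDimLE 1 B]
  [Field K] [Algebra B K] [IsFractionRing B K] [CommRing B'] [IsDomain B'] [Algebra B B']
  [Algebra B' K] [IsScalarTower B B' K] [Algebra.IsIntegral B B']

/-- For `B'` integral over the one-dimensional Noetherian domain `B` inside `K = Frac B`, `x` in the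
Jacobson radical of `B'` and any `y ∈ B'`, some `x ^ n * y` lies in (the image of) `B`. -/
theorem exists_pow_mul_mem (hinj : Function.Injective (algebraMap B' K)) (x : B')
    (hx : x ∈ Ideal.jacobson (⊥ : Ideal B')) (y : B') :
    ∃ n : ℕ, ∃ b : B, algebraMap B K b = algebraMap B' K (x ^ n * y) := by
  classical
  obtain ⟨C, hC⟩ : ∃ C : Subalgebra B B', C = Algebra.adjoin B {x, y} := ⟨_, rfl⟩
  have hxC : x ∈ C := by
    rw [hC]
    exact Algebra.subset_adjoin (Set.mem_insert _ _)
  have hyC : y ∈ C := by
    rw [hC]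
    exact Algebra.subset_adjoin (Set.mem_insert_of_mem _ (Set.mem_singleton _))
  have hfg : (Subalgebra.toSubmodule C).FG := by
    rw [hC]
    exact fg_adjoin_of_finite (Set.toFinite _) (fun z _ => Algebra.IsIntegral.isIntegral z)
  obtain ⟨G, hG⟩ := hfg
  -- common denominator
  obtain ⟨s, hs⟩ := IsLocalization.exist_integer_multiples_of_finset (nonZeroDivisors B)
    (G.image (algebraMap B' K))
  have hs0 : (s : B) ≠ 0 := nonZeroDivisors.ne_zero s.2
  let ψ : B' →ₗ[B] K := (s : B) • (IsScalarTower.toAlgHom B B' K).toLinearMap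
  have hGle : Submodule.span B (G : Set B') ≤
      (LinearMap.range (Algebra.linearMap B K)).comap ψ := by
    rw [Submodule.span_le]
    intro g hg
    obtain ⟨b, hb⟩ := hs (algebraMap B' K g) (Finset.mem_image_of_mem _ hg)
    exact ⟨b, hb⟩
  have hsC : ∀ c : B', c ∈ C → ∃ b : B, algebraMap B K b = (s : B) • algebraMap B' K c := by
    intro c hc
    have hc' : c ∈ Submodule.span B (G : Set B') := by
      rw [hG]
      exact hc
    exact hGle hc'
  -- the ring `C`
  have hinjC : Function.Injective (algebraMap ↥C K) := fun u v h => Subtype.ext (hinj h)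
  have hsC0 : algebraMap B ↥C (s : B) ≠ 0 := fun h0 =>
    hs0 (algebraMap_injective_of_between B K K ↥C (by rw [h0, map_zero]))
  have hI0 : Ideal.span {algebraMap B ↥C (s : B)} ≠ ⊥ := by
    rw [Ne, Ideal.span_singleton_eq_bot]
    exact hsC0
  haveI hArt : IsArtinianRing (↥C ⧸ Ideal.span {algebraMap B ↥C (s : B)}) :=
    isArtinianRing_quotient B K K ↥C hinjC _ hI0
  haveI : Algebra.IsIntegral ↥C B' := Algebra.IsIntegral.tower_top (R := B)
  have hxmax : ∀ M : Ideal ↥C, M.IsMaximal → (⟨x, hxC⟩ : ↥C) ∈ M := by
    intro M hM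
    have hker : RingHom.ker (algebraMap ↥C B') ≤ M := by
      rw [(RingHom.injective_iff_ker_eq_bot (algebraMap ↥C B')).mp Subtype.val_injective]
      exact bot_le
    obtain ⟨Q, hQmax, hQM⟩ := Ideal.exists_ideal_over_maximal_of_isIntegral (S := B') M hker
    have hxQ : x ∈ Q := (Ideal.mem_sInf.mp hx) ⟨bot_le, hQmax⟩
    rw [← hQM]
    exact hxQ
  have hjac : Ideal.Quotient.mk (Ideal.span {algebraMap B ↥C (s : B)}) (⟨x, hxC⟩ : ↥C) ∈
      Ideal.jacobson (⊥ : Ideal (↥C ⧸ Ideal.span {algebraMap B ↥C (s : B)})) := by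
    refine Ideal.mem_sInf.mpr ?_
    rintro M ⟨-, hM⟩
    haveI := hM
    exact hxmax (M.comap (Ideal.Quotient.mk _))
      (Ideal.comap_isMaximal_of_surjective _ Ideal.Quotient.mk_surjective)
  obtain ⟨n, hn⟩ := IsArtinianRing.isNilpotent_jacobson_bot
    (R := ↥C ⧸ Ideal.span {algebraMap B ↥C (s : B)})
  have hpow := Ideal.pow_mem_pow hjac n
  rw [hn, Ideal.zero_eq_bot, Ideal.mem_bot, ← map_pow, Ideal.Quotient.eq_zero_iff_mem,
    Ideal.mem_span_singleton'] at hpow
  obtain ⟨c, hc⟩ := hpow
  have hc' : (c : B') * algebraMap B B' (s : B) = x ^ n := congrArg Subtype.val hc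
  obtain ⟨b, hb⟩ := hsC ((c : B') * y) (C.mul_mem c.2 hyC)
  refine ⟨n, b, ?_⟩
  rw [hb, ← hc', Algebra.smul_def, IsScalarTower.algebraMap_apply B B' K, ← map_mul]
  congr 1
  ring

end conductor

end Groth.Agent.H46.KA

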