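import Mathlib
import Groth.Agent.H33.Bidual

/-!
# Biduality for unbounded complexes: basic lemmas (helper46, for S1819)

* `bidual_naturality`: naturality of helper33's `bidual`.
* `shortExact_homSC_of_injective`: `Hom•(-, J)` is exact on short exact sequences of complexes when
  the terms of `J` are injective.
* `isZero_homCx_X`: strict vanishing of terms of `Hom•(X, J)`.
-/

set_option autoImplicit false
universe u
open CategoryTheory CategoryTheory.Limits HomologicalComplex CochainComplex
open CochainComplex.HomComplex
attribute [local instance] HasDerivedCategory.standard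
open Groth.Agent.H33.TensorHom Groth.Agent.H33.Bidual

namespace Groth.Agent.H46.BD

variable {A : Type u} [CommRing A]

/-- (NAT) naturality of the biduality map. -/
theorem bidual_naturality {X Y : DRing.Cx A} (f : X ⟶ Y) (J : DRing.Cx A) :
    f ≫ bidual Y J = bidual X J ≫ homCxPre (homCxPre f J) J := by
  refine hom_ext_uval _ _ (fun n p q hq s z => ?_)
  rw [uval_comp, uval_bidual, uval_comp, uval_homCxPre]
  have h1 : evc (toC (((bidual X J).f n).hom s)) p q (by omega)
      (((homCxPre f J).f p).hom z) = uval (bidual X J) n p q hq s (((homCxPre f J).f p).hom z) :=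
    rfl
  rw [h1, uval_bidual]
  congr 1
  exact (uval_homCxPre f J p n q (by omega) z s).symm

/-- (VAN) strict vanishing of the terms of `Hom•(X, J)`. -/
theorem isZero_homCx_X (X J : DRing.Cx A) (q : ℤ)
    (h : ∀ p : ℤ, IsZero (X.X p) ∨ IsZero (J.X (p + q))) : IsZero ((DRing.homCx X J).X q) := by
  have hs : Subsingleton (Cochain X J q) := by
    refine ⟨fun z z' => Cochain.ext _ _ (fun p q' hpq => ?_)⟩
    obtain rfl : q' = p + q := by omega
    rcases h p with h0 | h0
    · exact h0.eq_of_src _ _
    · exact h0.eq_of_tgt _ _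
  exact ModuleCat.isZero_of_subsingleton (ModuleCat.of A (Cochain X J q))

/-- (SES) `Hom•(-, J)` turns short exact sequences of complexes into short exact sequences when
the terms of `J` are injective. -/
theorem shortExact_homSC_of_injective (S : ShortComplex (DRing.Cx A)) (hS : S.ShortExact)
    (J : DRing.Cx A) (hJ : ∀ q, Injective (J.X q)) : (homSC S J).ShortExact := by
  have hSp := fun p => (HomologicalComplex.shortExact_iff_degreewise_shortExact S).1 hS p
  have hmonof : ∀ p, Mono (S.f.f p) := fun p => (hSp p).mono_f
  have hepig : ∀ p, Epi (S.g.f p) := fun p => (hSp p).epi_g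
  rw [HomologicalComplex.shortExact_iff_degreewise_shortExact]
  intro n
  have hmono : Mono ((homSC S J).map (HomologicalComplex.eval (ModuleCat.{u} A)
      (ComplexShape.up ℤ) n)).f := by
    rw [ModuleCat.mono_iff_injective]
    intro (z : Cochain S.X₃ J n) (z' : Cochain S.X₃ J n) hz
    have hz' : (Cochain.ofHom S.g).comp z (zero_add n) = (Cochain.ofHom S.g).comp z' (zero_add n) :=
      hz
    refine Cochain.ext _ _ (fun p q hpq => ?_)
    have h1 := Cochain.congr_v hz' p q hpq
    rw [Cochain.zero_cochain_comp_v, Cochain.zero_cochain_comp_v, Cochain.ofHom_v] at h1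
    haveI := hepig p
    exact (cancel_epi (S.g.f p)).1 h1
  have hepi : Epi ((homSC S J).map (HomologicalComplex.eval (ModuleCat.{u} A)
      (ComplexShape.up ℤ) n)).g := by
    rw [ModuleCat.epi_iff_surjective]
    intro (w : Cochain S.X₁ J n)
    haveI := hJ
    refine ⟨(Cochain.mk (fun p q hpq =>
      haveI := hmonof p
      Injective.factorThru (w.v p q hpq) (S.f.f p)) : Cochain S.X₂ J n), ?_⟩
    show (Cochain.ofHom S.f).comp (Cochain.mk (fun p q hpq =>
      haveI := hmonof p
      Injective.factorThru (w.v p q hpq) (S.f.f p))) (zero_add n) = w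
    refine Cochain.ext _ _ (fun p q hpq => ?_)
    haveI := hmonof p
    rw [Cochain.zero_cochain_comp_v, Cochain.ofHom_v, Cochain.mk_v, Injective.comp_factorThru]
  have hex : ((homSC S J).map (HomologicalComplex.eval (ModuleCat.{u} A)
      (ComplexShape.up ℤ) n)).Exact := by
    rw [ShortComplex.moduleCat_exact_iff]
    intro (z : Cochain S.X₂ J n) hz
    have hz' : (Cochain.ofHom S.f).comp z (zero_add n) = 0 := hz
    have hk : ∀ p q (hpq : p + n = q), S.f.f p ≫ z.v p q hpq = 0 := by
      intro p q hpq
      have h1 := Cochain.congr_v hz' p q hpq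
      rwa [Cochain.zero_cochain_comp_v, Cochain.ofHom_v, Cochain.zero_v] at h1
    have hepig' : ∀ p, Epi (S.map (HomologicalComplex.eval (ModuleCat.{u} A)
        (ComplexShape.up ℤ) p)).g := fun p => (hSp p).epi_g
    refine ⟨(Cochain.mk (fun p q hpq =>
      haveI := hepig' p
      (hSp p).exact.desc (z.v p q hpq) (hk p q hpq)) : Cochain S.X₃ J n), ?_⟩
    show (Cochain.ofHom S.g).comp (Cochain.mk (fun p q hpq =>
      haveI := hepig' p
      (hSp p).exact.desc (z.v p q hpq) (hk p q hpq))) (zero_add n) = z
    refine Cochain.ext _ _ (fun p q hpq => ?_)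
    haveI := hepig' p
    rw [Cochain.zero_cochain_comp_v, Cochain.ofHom_v]
    exact (hSp p).exact.g_desc (z.v p q hpq) (hk p q hpq)
  exact ShortComplex.ShortExact.mk' hex hmono hepi

end Groth.Agent.H46.BD
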