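import Groth.Agent.H46.RHomCxTri
import Groth.Agent.H35.LTensorCxTor
import Groth.Agent.H35.TorAmp
import Groth.Agent.H35.MPCoh

/-!
# `RHom(K, M)` is derived complete when `M` is (helper46)

For an arbitrary complex `K` (with `DRing.HasRHomCx K`) and `M` derived complete with respect to
`I`, `RHom(K, M)` is derived complete.  Proof: with `J` a K-injective model of `M` and `P` a
bounded above free (hence K-projective and K-flat) model of `A_f`, the complex `Hom•(P, J)` is
K-injective and acyclic, hence contractible, so `Hom•(K, Hom•(P, J)) ≅ Hom•(P, Hom•(K, J))` is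
acyclic; as `P` is K-projective this computes `Hom_{D(A)}(A_f, RHom(K, M)[n])`.

* `subsingleton_hom_iff` : for `P` K-projective, `Hom_{D(A)}(Q P, (Q L)[n])` is trivial iff every
  degree `n` cocycle of `Hom•(P, L)` is a coboundary.
* `exactAt_homCx_iff`, `acyclic_of_homotopy_id_zero`, `swapIso`.
* `isDerivedComplete_RHomCx`.
-/

set_option autoImplicit false
set_option linter.unusedSectionVars false
universe u
open CategoryTheory CategoryTheory.Limits MonoidalCategory Pretriangulated
open CochainComplex.HomComplex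
attribute [local instance] HasDerivedCategory.standard

namespace Groth.Agent.H46.RHomCxDC

open Groth.Agent.H33.RHomCxKInj Groth.Agent.H46.RHomCxTri
open DerivedCategory

variable {A : Type u} [CommRing A]

/-- For `P` K-projective, cohomology classes of `Hom•(P, L)` are the morphisms in `D(A)`. -/
lemma exists_bijective_cohomologyClass (P L : DRing.Cx A) [P.IsKProjective] (n : ℤ) :
    ∃ Ψ : CohomologyClass P L n → (Q.obj P ⟶ (Q.obj L)⟦n⟧), Function.Bijective Ψ := by
  let α : Qh.obj ((HomotopyCategory.quotient _ _).obj P) ≅ Q.obj P :=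
    (quotientCompQhIso (ModuleCat.{u} A)).app P
  let β : Qh.obj ((HomotopyCategory.quotient _ _).obj (L⟦n⟧)) ≅ (Q.obj L)⟦n⟧ :=
    (quotientCompQhIso (ModuleCat.{u} A)).app (L⟦n⟧) ≪≫ (Q.commShiftIso n).app L
  exact ⟨_, (Iso.homCongr α β).bijective.comp
    ((CochainComplex.IsKProjective.Qh_map_bijective P _).comp
      (CohomologyClass.toHom_bijective P L n))⟩

lemma subsingleton_hom_iff (P L : DRing.Cx A) [P.IsKProjective] (n : ℤ) :
    Subsingleton (Q.obj P ⟶ (Q.obj L)⟦n⟧) ↔
      ∀ z : Cochain P L n, δ n (n + 1) z = 0 → ∃ w : Cochain P L (n - 1), δ (n - 1) n w = z := by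
  obtain ⟨Ψ, hΨ⟩ := exists_bijective_cohomologyClass P L n
  rw [← (Equiv.ofBijective Ψ hΨ).subsingleton_congr]
  constructor
  · intro hs z hz
    let zc : Cocycle P L n := Cocycle.mk z (n + 1) rfl hz
    have h0 : CohomologyClass.mk zc = 0 := Subsingleton.elim _ _
    rw [CohomologyClass.mk_eq_zero_iff, mem_coboundaries_iff zc (n - 1) (by omega)] at h0
    exact h0
  · intro h
    have key : ∀ x : CohomologyClass P L n, x = 0 := by
      intro x
      obtain ⟨z, rfl⟩ := x.mk_surjective
      rw [CohomologyClass.mk_eq_zero_iff, mem_coboundaries_iff z (n - 1) (by omega)]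
      exact h z.1 (z.δ_eq_zero (n + 1))
    exact ⟨fun x y => by rw [key x, key y]⟩

lemma exactAt_homCx_iff (P L : DRing.Cx A) (n : ℤ) :
    (DRing.homCx P L).ExactAt n ↔
      ∀ z : Cochain P L n, δ n (n + 1) z = 0 → ∃ w : Cochain P L (n - 1), δ (n - 1) n w = z := by
  rw [HomologicalComplex.exactAt_iff' _ (n - 1) n (n + 1) (by simp) (by simp),
    ShortComplex.moduleCat_exact_iff]
  constructor
  · intro h z hz
    exact h z hz
  · intro h z hz
    exact h z hz

lemma acyclic_of_homotopy_id_zero (X : DRing.Cx A) (h : Homotopy (𝟙 X) 0) : X.Acyclic := by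
  intro n
  rw [HomologicalComplex.exactAt_iff_isZero_homology, IsZero.iff_id_eq_zero]
  have := h.homologyMap_eq n
  rw [HomologicalComplex.homologyMap_id, HomologicalComplex.homologyMap_zero] at this
  exact this

/-- `Hom•(P, Hom•(K, J)) ≅ Hom•(K, Hom•(P, J))`. -/
noncomputable def swapIso (P K J : DRing.Cx A) :
    DRing.homCx P (DRing.homCx K J) ≅ DRing.homCx K (DRing.homCx P J) :=
  (homHomIso P K).app J ≪≫ homCxIsoOfIso (Groth.Agent.H35.LTC.braidCx P K) J ≪≫
    ((homHomIso K P).app J).symm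

/-- `RHom(K, M)` is derived complete when `M` is. -/
theorem isDerivedComplete_RHomCx (I : Ideal A) (K : DRing.Cx A) [DRing.HasRHomCx K]
    (M : Dual.D A) (hM : DRing.IsDerivedComplete I M) :
    DRing.IsDerivedComplete I ((DRing.RHomCx K).obj M) := by
  intro f hf n
  obtain ⟨J, hJ, ⟨eJ'⟩⟩ := Groth.Agent.H6.QCoprod.exists_model M
  haveI := hJ
  let eJ : M ≅ Q.obj J := eJ'.symm
  obtain ⟨P, hP, hPfree, ⟨eP⟩⟩ :=
    Groth.Agent.H35.TorAmp.exists_free_model_of_isLE (Dual.inD A (Localization.Away f)) 0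
  haveI : P.IsKProjective := Groth.Agent.H35.MPCoh.kprojective_of_free P 0 hP hPfree
  have hPflat : DRing.IsKFlat A P :=
    Groth.Agent.H31.KFlatRing.isKFlat_of_bounded_above_flat P 0 hP
      (Groth.Agent.H35.TorAmp.free_flat P hPfree)
  have h1 : ∀ m : ℤ, Subsingleton (Q.obj P ⟶ (Q.obj J)⟦m⟧) := by
    intro m
    haveI := hM f hf m
    exact (Iso.homCongr eP ((shiftFunctor (Dual.D A) m).mapIso eJ.symm)).subsingleton
  have h2 : (DRing.homCx P J).Acyclic := fun m =>
    (exactAt_homCx_iff P J m).2 ((subsingleton_hom_iff P J m).1 (h1 m))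
  haveI : (DRing.homCx P J).IsKInjective := isKInjective_homCx P J hPflat
  have h3 : Homotopy (𝟙 (DRing.homCx P J)) 0 :=
    CochainComplex.IsKInjective.homotopyZero _ h2
  obtain ⟨h4'⟩ := homCxMap_homotopy K h3
  have h4 : Homotopy (𝟙 (DRing.homCx K (DRing.homCx P J))) 0 :=
    (Homotopy.ofEq ((DRing.homCxFunctor K).map_id _).symm).trans
      (h4'.trans (Homotopy.ofEq (homCxMap_zero K _ _)))
  have h5 := acyclic_of_homotopy_id_zero _ h4
  have h6 : ∀ m, (DRing.homCx P (DRing.homCx K J)).ExactAt m := fun m =>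
    (h5 m).of_iso (swapIso P K J).symm
  have h7 : Subsingleton (Q.obj P ⟶ (Q.obj (DRing.homCx K J))⟦n⟧) :=
    (subsingleton_hom_iff P _ n).2 ((exactAt_homCx_iff P _ n).1 (h6 n))
  exact (Iso.homCongr eP.symm ((shiftFunctor (Dual.D A) n).mapIso (θ K eJ))).subsingleton

end Groth.Agent.H46.RHomCxDC
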