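import Groth.Agent.H46.HomCxPreDefs
import Groth.Agent.H46.RHomCxDC
import Groth.Agent.H12.RGamHDI_A

/-!
# Contravariant functoriality of `Hom•(-, J)`: quasi-isomorphism criteria (helper46)
-/

set_option autoImplicit false
set_option linter.style.haveILetI false
universe u
open CategoryTheory CategoryTheory.Limits
open CochainComplex.HomComplex
attribute [local instance] HasDerivedCategory.standard

namespace Groth.Agent.H46.HomCxPre

open Groth.Agent.H12.RGamHDI DerivedCategory

variable {A : Type u} [CommRing A]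

/-- (QE) element-wise criterion for quasi-isomorphisms of complexes of modules -/
theorem quasiIso_of_elements {L L' : DRing.Cx A} (φ : L ⟶ L')
    (hinj : ∀ (n : ℤ) (z : L.X n), (L.d n (n + 1)).hom z = 0 →
      (∃ y' : L'.X (n - 1), (L'.d (n - 1) n).hom y' = (φ.f n).hom z) →
      ∃ y : L.X (n - 1), (L.d (n - 1) n).hom y = z)
    (hsurj : ∀ (n : ℤ) (z' : L'.X n), (L'.d n (n + 1)).hom z' = 0 →
      ∃ (z : L.X n) (y' : L'.X (n - 1)), (L.d n (n + 1)).hom z = 0 ∧
        z' = (φ.f n).hom z + (L'.d (n - 1) n).hom y') :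
    QuasiIso φ := by
  rw [quasiIso_iff]
  intro n
  rw [quasiIsoAt_iff_isIso_homologyMap]
  have hnat : ∀ c : L.cycles n, (HomologicalComplex.homologyMap φ n).hom ((L.homologyπ n).hom c) =
      (L'.homologyπ n).hom ((HomologicalComplex.cyclesMap φ n).hom c) := fun c =>
    congrArg (fun t => t.hom c) (HomologicalComplex.homologyπ_naturality φ n)
  have hi : ∀ c : L.cycles n, (L'.iCycles n).hom ((HomologicalComplex.cyclesMap φ n).hom c) =
      (φ.f n).hom ((L.iCycles n).hom c) := fun c =>
    congrArg (fun t => t.hom c) (HomologicalComplex.cyclesMap_i φ n)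
  have hmono : Mono (HomologicalComplex.homologyMap φ n) := by
    rw [ModuleCat.mono_iff_injective, injective_iff_map_eq_zero]
    intro h hh
    obtain ⟨c, rfl⟩ := homologyπ_surjective L n h
    rw [hnat, homologyπ_eq_zero_iff L' (n - 1) n (by omega)] at hh
    obtain ⟨y', hy'⟩ := hh
    have h1 : (L'.d (n - 1) n).hom y' = (φ.f n).hom ((L.iCycles n).hom c) := by
      rw [← iCycles_toCycles L' (n - 1) n y', hy', hi]
    obtain ⟨y, hy⟩ := hinj n ((L.iCycles n).hom c) (d_iCycles L n (n + 1) c) ⟨y', h1⟩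
    rw [homologyπ_eq_zero_iff L (n - 1) n (by omega)]
    refine ⟨y, iCycles_injective L n ?_⟩
    rw [iCycles_toCycles, hy]
  have hepi : Epi (HomologicalComplex.homologyMap φ n) := by
    rw [ModuleCat.epi_iff_surjective]
    intro h'
    obtain ⟨c', rfl⟩ := homologyπ_surjective L' n h'
    obtain ⟨z, y', hz, hzz⟩ := hsurj n ((L'.iCycles n).hom c') (d_iCycles L' n (n + 1) c')
    obtain ⟨c, hc⟩ := exists_cycle L n (n + 1) rfl z hz
    refine ⟨(L.homologyπ n).hom c, ?_⟩
    rw [hnat]
    have h2 : c' = (HomologicalComplex.cyclesMap φ n).hom c + (L'.toCycles (n - 1) n).hom y' := by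
      apply iCycles_injective L' n
      rw [map_add, hi, hc, iCycles_toCycles, hzz]
    rw [h2, map_add]
    have h3 : (L'.homologyπ n).hom ((L'.toCycles (n - 1) n).hom y') = 0 :=
      (homologyπ_eq_zero_iff L' (n - 1) n (by omega) _).2 ⟨y', rfl⟩
    rw [h3, add_zero]
  exact isIso_of_mono_of_epi _

/-- for `J` K-injective, cohomology classes of `Hom•(X, J)` are the morphisms in `D(A)` -/
lemma exists_bijective_cohomologyClass_kinj (X J : DRing.Cx A) [J.IsKInjective] (n : ℤ) :
    ∃ Ψ : CohomologyClass X J n → (Q.obj X ⟶ (Q.obj J)⟦n⟧), Function.Bijective Ψ := by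
  let α : Qh.obj ((HomotopyCategory.quotient _ _).obj X) ≅ Q.obj X :=
    (quotientCompQhIso (ModuleCat.{u} A)).app X
  let β : Qh.obj ((HomotopyCategory.quotient _ _).obj (J⟦n⟧)) ≅ (Q.obj J)⟦n⟧ :=
    (quotientCompQhIso (ModuleCat.{u} A)).app (J⟦n⟧) ≪≫ (Q.commShiftIso n).app J
  exact ⟨_, (Iso.homCongr α β).bijective.comp
    ((CochainComplex.IsKInjective.Qh_map_bijective _ (J⟦n⟧)).comp
      (CohomologyClass.toHom_bijective X J n))⟩

/-- (Z) for `J` K-injective, vanishing of `Hom_{D(A)}(X, J[n])` makes degree `n` cocycles of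
`Hom•(X, J)` coboundaries -/
theorem exists_coboundary_of_hom_eq_zero (X J : DRing.Cx A) [J.IsKInjective] (n : ℤ)
    (h : ∀ f : DerivedCategory.Q.obj X ⟶ (DerivedCategory.Q.obj J)⟦n⟧, f = 0)
    (z : Cochain X J n) (hz : δ n (n + 1) z = 0) :
    ∃ w : Cochain X J (n - 1), δ (n - 1) n w = z := by
  obtain ⟨Ψ, hΨ⟩ := exists_bijective_cohomologyClass_kinj X J n
  let zc : Cocycle X J n := Cocycle.mk z (n + 1) rfl hz
  have h0 : CohomologyClass.mk zc = 0 := by
    apply hΨ.1
    rw [h (Ψ (CohomologyClass.mk zc)), h (Ψ 0)]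
  rw [CohomologyClass.mk_eq_zero_iff, mem_coboundaries_iff zc (n - 1) (by omega)] at h0
  exact h0

/-- (CONE) if every cocycle of `Hom•(cone g, J)` is a coboundary then `g^*` is a quasi-isomorphism -/
theorem quasiIso_homCxPre {X Y : DRing.Cx A} (g : X ⟶ Y) (J : DRing.Cx A)
    (hC : ∀ (n : ℤ) (z : Cochain (CochainComplex.mappingCone g) J n), δ n (n + 1) z = 0 →
      ∃ w : Cochain (CochainComplex.mappingCone g) J (n - 1), δ (n - 1) n w = z) :
    QuasiIso (homCxPre g J) := by
  have hC' : ∀ (n m : ℤ) (_ : m + 1 = n) (z : Cochain (CochainComplex.mappingCone g) J n),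
      δ n (n + 1) z = 0 → ∃ w : Cochain (CochainComplex.mappingCone g) J m, δ m n w = z := by
    intro n m h z hz
    obtain rfl : m = n - 1 := by omega
    exact hC n z hz
  have hinj : ∀ (n : ℤ) (z : Cochain Y J n), δ n (n + 1) z = 0 →
      (∃ y' : Cochain X J (n - 1), δ (n - 1) n y' = (Cochain.ofHom g).comp z (zero_add n)) →
      ∃ y : Cochain Y J (n - 1), δ (n - 1) n y = z := by
    intro n z hz ⟨y', hy'⟩
    have hc : δ n (n + 1) (CochainComplex.mappingCone.descCochain g (n.negOnePow • y') z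
        (by omega)) = 0 := by
      rw [CochainComplex.mappingCone.δ_descCochain g _ _ _ (n + 1) rfl, hz, δ_units_smul, hy',
        Int.negOnePow_succ, Units.neg_smul, add_neg_cancel]
      simp
    obtain ⟨w, hw⟩ := hC' n (n - 1) (by omega) _ hc
    refine ⟨(Cochain.ofHom (CochainComplex.mappingCone.inr g)).comp w (zero_add _), ?_⟩
    rw [δ_ofHom_comp, hw, CochainComplex.mappingCone.inr_descCochain]
  have hsurj : ∀ (n : ℤ) (z' : Cochain X J n), δ n (n + 1) z' = 0 →
      ∃ (z : Cochain Y J n) (y' : Cochain X J (n - 1)), δ n (n + 1) z = 0 ∧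
        z' = (Cochain.ofHom g).comp z (zero_add n) + δ (n - 1) n y' := by
    intro n z' hz'
    have hc : δ (n + 1) (n + 1 + 1) (CochainComplex.mappingCone.descCochain g z'
        (0 : Cochain Y J (n + 1)) rfl) = 0 := by
      rw [CochainComplex.mappingCone.δ_descCochain g _ _ _ (n + 1 + 1) rfl, hz']
      simp
    obtain ⟨w, hw⟩ := hC' (n + 1) n rfl _ hc
    set b := (Cochain.ofHom (CochainComplex.mappingCone.inr g)).comp w (zero_add n) with hb
    set a := (CochainComplex.mappingCone.inl g).comp w (show (-1 : ℤ) + n = n - 1 by omega)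
      with ha
    have hδb : δ n (n + 1) b = 0 := by
      rw [hb, δ_ofHom_comp, hw, CochainComplex.mappingCone.inr_descCochain]
    have hδa : δ (n - 1) n a = z' + n.negOnePow • (Cochain.ofHom g).comp b (zero_add n) := by
      rw [ha, δ_comp (CochainComplex.mappingCone.inl g) w (show (-1 : ℤ) + n = n - 1 by omega)
        0 (n + 1) n (by omega) (by omega) rfl, hw,
        CochainComplex.mappingCone.inl_descCochain, CochainComplex.mappingCone.δ_inl,
        Cochain.ofHom_comp, Cochain.comp_assoc_of_first_is_zero_cochain]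
    refine ⟨-(n.negOnePow • b), a, ?_, ?_⟩
    · rw [δ_neg, δ_units_smul, hδb, smul_zero, neg_zero]
    · rw [hδa, Cochain.comp_neg, Cochain.comp_units_smul]
      abel
  apply quasiIso_of_elements
  · intro n z hz hy
    exact hinj n z hz hy
  · intro n z' hz'
    exact hsurj n z' hz'

end Groth.Agent.H46.HomCxPre
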