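import Mathlib

set_option autoImplicit false
set_option linter.unusedSectionVars false
set_option linter.unusedVariables false
set_option linter.style.haveILetI false

namespace Groth.Agent.H46.Kap

open Submodule

universe u v w

section Lin

variable {R : Type u} [Ring R] {M : Type v} [AddCommGroup M] [Module R M]

/-- Independence of a family of submodules along a linear order: each member is disjoint from a
submodule containing all the earlier members. -/
theorem iSupIndep_of_linearOrder {κ : Type w} [LinearOrder κ]
    (L G : κ → Submodule R M) (h1 : ∀ i j, j < i → L j ≤ G i)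
    (h2 : ∀ i, Disjoint (L i) (G i)) : iSupIndep L := by
  classical
  rw [iSupIndep_iff_finsetSum_eq_zero_imp_eq_zero]
  intro s v
  induction s using Finset.induction_on_max with
  | empty => intro _ _ i hi; simp at hi
  | insert a s hlt ih =>
    intro hv hsum i hi
    have ha : a ∉ s := fun h => lt_irrefl a (hlt a h)
    rw [Finset.sum_insert ha] at hsum
    have hmem : ∑ j ∈ s, v j ∈ G a := Submodule.sum_mem _ fun j hj =>
      h1 a j (hlt j hj) (hv j (Finset.mem_insert_of_mem hj))
    have hva : v a = 0 := by
      have h3 : v a = -∑ j ∈ s, v j := eq_neg_of_add_eq_zero_left hsum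
      have h4 : v a ∈ G a := by rw [h3]; exact Submodule.neg_mem _ hmem
      exact Submodule.disjoint_def.mp (h2 a) (v a) (hv a (Finset.mem_insert_self a s)) h4
    rw [hva, zero_add] at hsum
    rcases Finset.mem_insert.mp hi with rfl | his
    · exact hva
    · exact ih (fun j hj => hv j (Finset.mem_insert_of_mem hj)) hsum i his

end Lin

section Reach

variable {ι : Type w} (r : ι → ι → Prop)

/-- levels of reachability -/
def lev (i : ι) : ℕ → Set ι
  | 0 => {i}
  | n + 1 => ⋃ k ∈ lev i n, {j | r k j}

theorem countable_reach (hr : ∀ i, {j | r i j}.Countable) (i : ι) :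
    {j | Relation.ReflTransGen r i j}.Countable := by
  have hlev : ∀ n, (lev r i n).Countable := by
    intro n
    induction n with
    | zero => exact Set.countable_singleton i
    | succ n ih => exact ih.biUnion fun k _ => hr k
  have hsub : {j | Relation.ReflTransGen r i j} ⊆ ⋃ n, lev r i n := by
    intro j (hj : Relation.ReflTransGen r i j)
    induction hj with
    | refl => exact Set.mem_iUnion.mpr ⟨0, Set.mem_singleton i⟩
    | tail _ hkj ih =>
      obtain ⟨n, hn⟩ := Set.mem_iUnion.mp ih
      exact Set.mem_iUnion.mpr ⟨n + 1, Set.mem_biUnion hn hkj⟩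
  exact (Set.countable_iUnion hlev).mono hsub

end Reach

section Dev

open scoped Classical

variable {R : Type u} [CommRing R] {M : Type v} [AddCommGroup M] [Module R M]
  {ι : Type w} [DecidableEq ι] (N : ι → Submodule R M) [DirectSum.Decomposition N]

/-- the submodule of elements supported in `J` -/
def MJ (J : Set ι) : Submodule R M where
  carrier := {x | ∀ i, i ∉ J → DirectSum.decompose N x i = 0}
  add_mem' := fun {a b} ha hb i hi => by
    rw [DirectSum.decompose_add, DirectSum.add_apply, ha i hi, hb i hi, add_zero]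
  zero_mem' := fun i hi => by
    rw [DirectSum.decompose_zero, DirectSum.zero_apply]
  smul_mem' := fun c x hx i hi => by
    rw [DirectSum.decompose_smul, DirectSum.smul_apply, hx i hi, smul_zero]

theorem MJ_mono {J J' : Set ι} (h : J ⊆ J') : MJ N J ≤ MJ N J' :=
  fun x hx i hi => hx i (fun hJ => hi (h hJ))

theorem le_MJ {J : Set ι} {i : ι} (hi : i ∈ J) : N i ≤ MJ N J := by
  intro x hx j hj
  have hne : i ≠ j := fun h => hj (h ▸ hi)
  have := DirectSum.decompose_of_mem_ne N hx hne
  exact Subtype.ext (by simpa using this)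

theorem MJ_le {J : Set ι} {T : Submodule R M} (h : ∀ i ∈ J, N i ≤ T) : MJ N J ≤ T := by
  intro x hx
  rw [← DirectSum.sum_support_decompose N x]
  refine Submodule.sum_mem _ fun i hi => ?_
  have hne : DirectSum.decompose N x i ≠ 0 := DFinsupp.mem_support_iff.mp hi
  have hiJ : i ∈ J := by
    by_contra hiJ
    exact hne (hx i hiJ)
  exact h i hiJ (DirectSum.decompose N x i).2

variable (π : M →ₗ[R] M)

/-- dependency relation -/
def rel (i j : ι) : Prop := ∃ x ∈ N i, DirectSum.decompose N (π x) j ≠ 0

/-- closed subsets -/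
def IsCl (J : Set ι) : Prop := ∀ i ∈ J, ∀ j, rel N π i j → j ∈ J

theorem map_le_of_isCl {J : Set ι} (hJ : IsCl N π J) : MJ N J ≤ (MJ N J).comap π := by
  apply MJ_le
  intro i hi x hx
  rw [Submodule.mem_comap]
  intro j hj
  by_contra hne
  exact hj (hJ i hi j ⟨x, hx, hne⟩)

theorem countable_rel (i : ι) {S : Set M} (hS : S.Countable) (hspan : span R S = N i) :
    {j | rel N π i j}.Countable := by
  have hsub : {j | rel N π i j} ⊆
      ⋃ s ∈ S, ((DirectSum.decompose N (π s)).support : Set ι) := by
    intro j hj
    obtain ⟨x, hx, hne⟩ := hj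
    by_contra hnot
    have h0 : ∀ s ∈ S, DirectSum.decompose N (π s) j = 0 := by
      intro s hs
      by_contra hs0
      exact hnot (Set.mem_biUnion hs (Finset.mem_coe.mpr (DFinsupp.mem_support_iff.mpr hs0)))
    have hall : ∀ y ∈ span R S, DirectSum.decompose N (π y) j = 0 := by
      intro y hy
      induction hy using Submodule.span_induction with
      | mem y hy => exact h0 y hy
      | zero => rw [map_zero, DirectSum.decompose_zero, DirectSum.zero_apply]
      | add y z _ _ hy hz =>
        rw [map_add, DirectSum.decompose_add, DirectSum.add_apply, hy, hz, add_zero]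
      | smul a y _ hy =>
        rw [map_smul, DirectSum.decompose_smul, DirectSum.smul_apply, hy, smul_zero]
    exact hne (hall x (by rw [hspan]; exact hx))
  exact (hS.biUnion fun s _ => Finset.countable_toSet _).mono hsub

/-- reachable set -/
def reach (C : Set ι) : Set ι := {j | ∃ i ∈ C, Relation.ReflTransGen (rel N π) i j}

theorem isCl_reach (C : Set ι) : IsCl N π (reach N π C) := by
  rintro j ⟨i, hi, hij⟩ k hjk
  exact ⟨i, hi, hij.tail hjk⟩

theorem subset_reach (C : Set ι) : C ⊆ reach N π C :=
  fun i hi => ⟨i, hi, Relation.ReflTransGen.refl⟩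

theorem exists_decomp (P : Submodule R M) (hπP : ∀ x, π x ∈ P) (hπ : ∀ x ∈ P, π x = x)
    (hc : ∀ i, ∃ S : Set M, S.Countable ∧ span R S = N i) :
    ∃ L : ι → Submodule R M, iSupIndep L ∧ iSup L = P ∧
      ∀ i, ∃ S : Set M, S.Countable ∧ span R S = L i := by
  obtain ⟨_, _⟩ := exists_wellFoundedLT ι
  choose S hScount hSspan using hc
  have hrc : ∀ i, {j | rel N π i j}.Countable :=
    fun i => countable_rel N π i (hScount i) (hSspan i)
  let Jle : ι → Set ι := fun i => reach N π {k | k ≤ i}
  let Jlt : ι → Set ι := fun i => reach N π {k | k < i}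
  have hcl_le : ∀ i, IsCl N π (Jle i) := fun i => isCl_reach N π _
  have hcl_lt : ∀ i, IsCl N π (Jlt i) := fun i => isCl_reach N π _
  have hlt_le : ∀ i, Jlt i ⊆ Jle i := by
    rintro i j ⟨k, hk, hkj⟩
    exact ⟨k, le_of_lt hk, hkj⟩
  have hle_lt : ∀ i j, j < i → Jle j ⊆ Jlt i := by
    rintro i j hji l ⟨k, hk, hkl⟩
    exact ⟨k, lt_of_le_of_lt hk hji, hkl⟩
  have hself : ∀ i, i ∈ Jle i := fun i => subset_reach N π _ (le_refl i)
  let F : ι → Submodule R M := fun i => P ⊓ MJ N (Jle i)
  let G : ι → Submodule R M := fun i => P ⊓ MJ N (Jlt i)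
  have hπcl : ∀ {J : Set ι}, IsCl N π J → ∀ x ∈ MJ N J, π x ∈ MJ N J :=
    fun hJ x hx => map_le_of_isCl N π hJ hx
  let τ : ι → (M →ₗ[R] M) := fun i =>
    (DirectSum.decomposeLinearEquiv N).symm.toLinearMap ∘ₗ
      (DFinsupp.filterLinearMap R (fun i => N i) (fun k => k ∈ Jlt i)) ∘ₗ
      (DirectSum.decomposeLinearEquiv N).toLinearMap
  have hτ1 : ∀ i x, τ i x ∈ MJ N (Jlt i) := by
    intro i x k hk
    show DirectSum.decompose N ((DirectSum.decomposeLinearEquiv N).symm
      (DFinsupp.filterLinearMap R (fun i => N i) (fun k => k ∈ Jlt i)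
        (DirectSum.decomposeLinearEquiv N x))) k = 0
    rw [← DirectSum.decomposeLinearEquiv_apply, LinearEquiv.apply_symm_apply,
      DFinsupp.filterLinearMap_apply, DFinsupp.filter_apply, if_neg hk]
  have hτ2 : ∀ i x, x ∈ MJ N (Jlt i) → τ i x = x := by
    intro i x hx
    show (DirectSum.decomposeLinearEquiv N).symm
      (DFinsupp.filterLinearMap R (fun i => N i) (fun k => k ∈ Jlt i)
        (DirectSum.decomposeLinearEquiv N x)) = x
    have : DFinsupp.filterLinearMap R (fun i => N i) (fun k => k ∈ Jlt i)
        (DirectSum.decomposeLinearEquiv N x) = DirectSum.decomposeLinearEquiv N x := by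
      rw [DFinsupp.filterLinearMap_apply]
      refine DFinsupp.ext fun k => ?_
      rw [DFinsupp.filter_apply]
      split_ifs with h
      · rfl
      · exact (hx k h).symm
    rw [this, LinearEquiv.symm_apply_apply]
  let e : ι → (M →ₗ[R] M) := fun i => π ∘ₗ τ i
  have he1 : ∀ i x, e i x ∈ G i :=
    fun i x => Submodule.mem_inf.mpr ⟨hπP _, hπcl (hcl_lt i) _ (hτ1 i x)⟩
  have he2 : ∀ i x, x ∈ G i → e i x = x := by
    intro i x hx
    have hx' := Submodule.mem_inf.mp hx
    show π (τ i x) = x
    rw [hτ2 i x hx'.2, hπ x hx'.1]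
  let L : ι → Submodule R M := fun i => F i ⊓ LinearMap.ker (e i)
  have hGF : ∀ i, G i ≤ F i := fun i => inf_le_inf_left P (MJ_mono N (hlt_le i))
  have hsubL : ∀ i x, x ∈ F i → x - e i x ∈ L i := by
    intro i x hx
    refine Submodule.mem_inf.mpr ⟨Submodule.sub_mem _ hx (hGF i (he1 i x)), ?_⟩
    rw [LinearMap.mem_ker, map_sub, he2 i (e i x) (he1 i x), sub_self]
  refine ⟨L, ?_, ?_, ?_⟩
  · -- independence
    apply iSupIndep_of_linearOrder L G
    · intro i j hji
      exact inf_le_left.trans (inf_le_inf_left P (MJ_mono N (hle_lt i j hji)))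
    · intro i
      rw [Submodule.disjoint_def]
      intro x hxL hxG
      have h1 : e i x = 0 := LinearMap.mem_ker.mp (Submodule.mem_inf.mp hxL).2
      rw [← he2 i x hxG, h1]
  · -- sup
    apply le_antisymm
    · exact iSup_le fun i => inf_le_left.trans inf_le_left
    · have hFT : ∀ i, F i ≤ iSup L := by
        intro i
        induction i using WellFoundedLT.induction with
        | ind i ih =>
          have hGT : G i ≤ iSup L := by
            intro y hy
            have hy' := Submodule.mem_inf.mp hy
            have h1 : MJ N (Jlt i) ≤ (iSup L).comap π := by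
              apply MJ_le
              intro k hk z hz
              obtain ⟨k0, hk0, hk0k⟩ := hk
              have hkle : k ∈ Jle k0 := ⟨k0, le_refl k0, hk0k⟩
              have h3 : π z ∈ F k0 :=
                Submodule.mem_inf.mpr ⟨hπP z, hπcl (hcl_le k0) z (le_MJ N hkle hz)⟩
              exact ih k0 hk0 h3
            have h2 := h1 hy'.2
            rw [Submodule.mem_comap, hπ y hy'.1] at h2
            exact h2
          intro x hx
          have h2 : x = e i x + (x - e i x) := by abel
          rw [h2]
          exact Submodule.add_mem _ (hGT (he1 i x)) (le_iSup L i (hsubL i x hx))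
      intro x hx
      have h1 : MJ N (Set.univ) ≤ (iSup L).comap π := by
        apply MJ_le
        intro k _ z hz
        exact hFT k (Submodule.mem_inf.mpr ⟨hπP z, hπcl (hcl_le k) z (le_MJ N (hself k) hz)⟩)
      have h2 : x ∈ MJ N Set.univ := fun i hi => absurd (Set.mem_univ i) hi
      have h3 := h1 h2
      rw [Submodule.mem_comap, hπ x hx] at h3
      exact h3
  · -- countable generation
    intro i
    let g : M →ₗ[R] M := π - e i ∘ₗ π
    have hg : ∀ z, g z = π z - e i (π z) := fun z => rfl
    let D : Set ι := Jle i \ Jlt i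
    have hD : D ⊆ {j | Relation.ReflTransGen (rel N π) i j} := by
      rintro j ⟨⟨k, hk, hkj⟩, hnot⟩
      rcases lt_or_eq_of_le hk with hlt | rfl
      · exact absurd ⟨k, hlt, hkj⟩ hnot
      · exact hkj
    have hDc : D.Countable := Set.Countable.mono hD (countable_reach _ hrc i)
    refine ⟨⋃ k ∈ D, g '' S k, hDc.biUnion fun k _ => (hScount k).image g, ?_⟩
    apply le_antisymm
    · rw [Submodule.span_le]
      intro y hy
      obtain ⟨k, hk, hy⟩ := Set.mem_iUnion₂.mp hy
      obtain ⟨s, hs, rfl⟩ := hy
      have hsN : s ∈ N k := by rw [← hSspan k]; exact subset_span hs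
      have h3 : π s ∈ F i :=
        Submodule.mem_inf.mpr ⟨hπP s, hπcl (hcl_le i) s (le_MJ N hk.1 hsN)⟩
      have := hsubL i (π s) h3
      rw [← hg] at this
      exact this
    · intro x hx
      have hx' := Submodule.mem_inf.mp hx
      have hx'' := Submodule.mem_inf.mp hx'.1
      have hxP : x ∈ P := hx''.1
      have hxM : x ∈ MJ N (Jle i) := hx''.2
      have hxe : e i x = 0 := LinearMap.mem_ker.mp hx'.2
      have hgx : g x = x := by
        rw [hg, hπ x hxP, hxe, sub_zero]
      have h1 : MJ N (Jle i) ≤ (span R (⋃ k ∈ D, g '' S k)).comap g := by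
        apply MJ_le
        intro k hk z hz
        rw [Submodule.mem_comap]
        by_cases hklt : k ∈ Jlt i
        · have h3 : π z ∈ G i :=
            Submodule.mem_inf.mpr ⟨hπP z, hπcl (hcl_lt i) z (le_MJ N hklt hz)⟩
          have h4 : g z = 0 := by
            rw [hg, he2 i _ h3, sub_self]
          rw [h4]; exact Submodule.zero_mem _
        · have hkD : k ∈ D := ⟨hk, hklt⟩
          have hz' : z ∈ span R (S k) := by rw [hSspan k]; exact hz
          have h5 := Submodule.apply_mem_span_image_of_mem_span g hz'
          exact Submodule.span_mono (Set.subset_biUnion_of_mem hkD) h5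
      have h6 := h1 hxM
      rw [Submodule.mem_comap, hgx] at h6
      exact h6

end Dev

section Transfer

variable {R : Type u} [CommRing R] {M : Type v} [AddCommGroup M] [Module R M]

theorem cg_of_injective {A : Type w} [AddCommGroup A] [Module R A] (φ : A →ₗ[R] M)
    (hφ : Function.Injective φ) {S : Set M} (hS : S.Countable)
    (h : span R S = LinearMap.range φ) :
    ∃ s : Set A, s.Countable ∧ span R s = ⊤ := by
  refine ⟨φ ⁻¹' S, hS.preimage_of_injOn hφ.injOn, ?_⟩
  apply Submodule.map_injective_of_injective hφ
  have hsub : S ⊆ Set.range φ := by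
    intro x hx
    have : x ∈ span R S := subset_span hx
    rw [h] at this
    exact this
  rw [Submodule.map_span, Set.image_preimage_eq_of_subset hsub, Submodule.map_top, h]

theorem transfer {ι : Type w} [DecidableEq ι]
    (P : Submodule R M) (L : ι → Submodule R M) (hind : iSupIndep L) (hsup : iSup L = P)
    (hcg : ∀ i, ∃ S : Set M, S.Countable ∧ span R S = L i) :
    DirectSum.IsInternal (fun i => (L i).comap P.subtype) ∧
      ∀ i, ∃ s : Set ((L i).comap P.subtype), s.Countable ∧ span R s = ⊤ := by
  have hLP : ∀ i, L i ≤ P := fun i => (le_iSup L i).trans hsup.le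
  refine ⟨?_, ?_⟩
  · apply DirectSum.isInternal_submodule_of_iSupIndep_of_iSup_eq_top
    · rw [iSupIndep_iff_finsetSum_eq_zero_imp_eq_zero] at hind ⊢
      intro s v hv hsum i hi
      have h1 := hind s (fun i => (v i : M)) (fun i hi => hv i hi)
        (by rw [← Submodule.coe_sum, hsum]; rfl) i hi
      exact Subtype.ext h1
    · apply Submodule.map_injective_of_injective P.injective_subtype
      rw [Submodule.map_iSup, Submodule.map_subtype_top]
      have : ∀ i, Submodule.map P.subtype ((L i).comap P.subtype) = L i := by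
        intro i
        rw [Submodule.map_comap_subtype]
        exact inf_eq_right.mpr (hLP i)
      simp_rw [this]
      exact hsup
  · intro i
    obtain ⟨S, hS, hspan⟩ := hcg i
    refine cg_of_injective (P.subtype ∘ₗ ((L i).comap P.subtype).subtype)
      (P.injective_subtype.comp (Submodule.injective_subtype _)) hS ?_
    rw [hspan, LinearMap.range_comp, Submodule.range_subtype, Submodule.map_comap_subtype]
    exact (inf_eq_right.mpr (hLP i)).symm

end Transfer

end Groth.Agent.H46.Kap
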