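import Mathlib
import Groth.Agent.H46.Kaplansky

set_option autoImplicit false
set_option linter.unusedSectionVars false
set_option linter.unusedVariables false
set_option linter.style.haveILetI false

namespace Groth.Agent.H46.Kap

open Submodule

universe u v w w'

section Transfer2

variable {R : Type u} [CommRing R] {M : Type v} [AddCommGroup M] [Module R M]

theorem transfer' {A : Type w} [AddCommGroup A] [Module R A] {ι : Type w'} [DecidableEq ι]
    (φ : A →ₗ[R] M) (hφ : Function.Injective φ) (L : ι → Submodule R M) (hind : iSupIndep L)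
    (hsup : iSup L = LinearMap.range φ)
    (hcg : ∀ i, ∃ S : Set M, S.Countable ∧ span R S = L i) :
    DirectSum.IsInternal (fun i => (L i).comap φ) ∧
      ∀ i, ∃ s : Set ((L i).comap φ), s.Countable ∧ span R s = ⊤ := by
  have hLP : ∀ i, L i ≤ LinearMap.range φ := fun i => (le_iSup L i).trans hsup.le
  refine ⟨?_, ?_⟩
  · apply DirectSum.isInternal_submodule_of_iSupIndep_of_iSup_eq_top
    · rw [iSupIndep_iff_finsetSum_eq_zero_imp_eq_zero] at hind ⊢
      intro s v hv hsum i hi
      have h1 := hind s (fun i => φ (v i)) (fun i hi => hv i hi)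
        (by rw [← map_sum, hsum, map_zero]) i hi
      exact hφ (h1.trans (map_zero φ).symm)
    · apply Submodule.map_injective_of_injective hφ
      rw [Submodule.map_iSup, Submodule.map_top]
      have : ∀ i, Submodule.map φ ((L i).comap φ) = L i := fun i =>
        Submodule.map_comap_eq_self (hLP i)
      simp_rw [this]
      exact hsup
  · intro i
    obtain ⟨S, hS, hspan⟩ := hcg i
    refine cg_of_injective (φ ∘ₗ ((L i).comap φ).subtype)
      (hφ.comp (Submodule.injective_subtype _)) hS ?_
    rw [hspan, LinearMap.range_comp, Submodule.range_subtype,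
      Submodule.map_comap_eq_self (hLP i)]

end Transfer2

section LemmaA

variable {R : Type u} [CommRing R] [IsLocalRing R] {P : Type v} [AddCommGroup P] [Module R P]
  {F : Type w} [AddCommGroup F] [Module R F] {I : Type w'}

theorem exists_free_summand_aux (i : P →ₗ[R] F) (p : F →ₗ[R] P) (hpi : ∀ v, p (i v) = v)
    (x : P) :
    ∀ (n : ℕ) (b : Module.Basis I R F), (b.repr (i x)).support.card = n →
      ∃ F' C' : Submodule R P, IsCompl F' C' ∧ Module.Free R F' ∧ x ∈ F' := by
  classical
  intro n
  induction n using Nat.strong_induction_on with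
  | _ n ih =>
  intro b hn
  obtain ⟨s, hs⟩ : ∃ s : Finset I, s = (b.repr (i x)).support := ⟨_, rfl⟩
  obtain ⟨a, ha⟩ : ∃ a : I → R, ∀ k, a k = b.repr (i x) k := ⟨_, fun _ => rfl⟩
  have hx0 : i x = ∑ k ∈ s, a k • b k := by
    rw [hs]; simp_rw [ha]
    conv_lhs => rw [← b.linearCombination_repr (i x)]
    rw [Finsupp.linearCombination_apply, Finsupp.sum]
  have hcard : s.card = n := by rw [hs]; exact hn
  by_cases hred : ∃ j ∈ s, ∃ β : I → R, a j = ∑ k ∈ s.erase j, β k * a k
  · obtain ⟨j, hj, β, hβ⟩ := hred
    let ℓ : F →ₗ[R] R := ∑ k ∈ s.erase j, β k • b.coord k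
    have hℓk : ∀ k, ℓ (b k) = if k ∈ s.erase j then β k else 0 := by
      intro k
      simp only [ℓ, LinearMap.sum_apply, LinearMap.smul_apply,
        Module.Basis.coord_apply, Module.Basis.repr_self, smul_eq_mul, Finsupp.single_apply,
        mul_ite, mul_one, mul_zero, Finset.sum_ite_eq]
    have hℓj : ℓ (b j) = 0 := by
      rw [hℓk j, if_neg (Finset.notMem_erase j s)]
    let φ : F →ₗ[R] F := ℓ.smulRight (b j)
    have hφ : ∀ v, φ v = ℓ v • b j := fun v => rfl
    have hφφ : ∀ v, φ (φ v) = 0 := by
      intro v
      rw [hφ v, map_smul, hφ (b j), hℓj, zero_smul, smul_zero]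
    let T : F ≃ₗ[R] F := LinearEquiv.ofLinearMap (LinearMap.id + φ) (LinearMap.id - φ)
      (by apply LinearMap.ext; intro v; simp [hφφ])
      (by apply LinearMap.ext; intro v; simp [hφφ])
    let b' : Module.Basis I R F := b.map T
    have hb' : ∀ k, b' k = b k + ℓ (b k) • b j := by
      intro k
      rw [Module.Basis.map_apply]
      rfl
    have hx : i x = ∑ k ∈ s.erase j, a k • b' k := by
      rw [hx0, ← Finset.add_sum_erase s _ hj, hβ, Finset.sum_smul]
      simp_rw [hb', smul_add]
      rw [Finset.sum_add_distrib, add_comm]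
      congr 1
      apply Finset.sum_congr rfl
      intro k hk
      rw [hℓk k, if_pos hk, smul_smul, mul_comm]
    have hsupp : (b'.repr (i x)).support ⊆ s.erase j := by
      intro k hk
      by_contra hkn
      rw [Finsupp.mem_support_iff] at hk
      apply hk
      rw [hx, map_sum, Finsupp.finsetSum_apply]
      apply Finset.sum_eq_zero
      intro k' hk'
      rw [map_smul, Module.Basis.repr_self, Finsupp.smul_apply, Finsupp.single_apply,
        if_neg (by rintro rfl; exact hkn hk'), smul_zero]
    have hlt : (b'.repr (i x)).support.card < n := by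
      calc _ ≤ (s.erase j).card := Finset.card_le_card hsupp
        _ < s.card := Finset.card_erase_lt_of_mem hj
        _ = n := hcard
    exact ih _ hlt b' rfl
  · push Not at hred
    obtain ⟨c, hc⟩ : ∃ c : I → I → R, ∀ j k, c j k = b.repr (i (p (b j))) k :=
      ⟨_, fun _ _ => rfl⟩
    have hxP : x = ∑ k ∈ s, a k • p (b k) := by
      conv_lhs => rw [← hpi x, hx0, map_sum]
      simp_rw [map_smul]
    have hrel : ∀ k, ∑ j ∈ s, a j * c j k = a k := by
      intro k
      have h1 : i x = ∑ j ∈ s, a j • i (p (b j)) := by
        conv_lhs => rw [hxP, map_sum]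
        simp_rw [map_smul]
      have h2 := congrArg (fun v => b.repr v k) h1
      simp only [map_sum, map_smul, Finsupp.finsetSum_apply, Finsupp.smul_apply,
        smul_eq_mul] at h2
      rw [ha k, h2]
      apply Finset.sum_congr rfl
      intro j _
      rw [hc]
    have hd : ∀ j0 ∈ s, ∀ k ∈ s,
        ((if j0 = k then (1 : R) else 0) - c j0 k) ∈ IsLocalRing.maximalIdeal R := by
      intro j0 hj0 k hk
      by_contra hunit
      rw [IsLocalRing.mem_maximalIdeal, mem_nonunits_iff, not_not] at hunit
      obtain ⟨u', hu'⟩ := hunit.exists_right_inv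
      have hsum : ∑ j ∈ s, a j * ((if j = k then (1 : R) else 0) - c j k) = 0 := by
        simp only [mul_sub, Finset.sum_sub_distrib, mul_ite, mul_one, mul_zero,
          Finset.sum_ite_eq', if_pos hk, hrel k, sub_self]
      rw [← Finset.add_sum_erase s _ hj0] at hsum
      apply hred j0 hj0 (fun j => -(u' * ((if j = k then (1 : R) else 0) - c j k)))
      have h4 : a j0 * ((if j0 = k then (1 : R) else 0) - c j0 k) =
          -∑ j ∈ s.erase j0, a j * ((if j = k then (1 : R) else 0) - c j k) :=
        eq_neg_of_add_eq_zero_left hsum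
      calc a j0 = (a j0 * ((if j0 = k then (1 : R) else 0) - c j0 k)) * u' := by
            rw [mul_assoc, hu', mul_one]
        _ = (-∑ j ∈ s.erase j0, a j * ((if j = k then (1 : R) else 0) - c j k)) * u' := by
            rw [h4]
        _ = ∑ j ∈ s.erase j0, -(u' * ((if j = k then (1 : R) else 0) - c j k)) * a j := by
            rw [neg_mul, Finset.sum_mul, ← Finset.sum_neg_distrib]
            apply Finset.sum_congr rfl
            intro j _
            ring
    let C : Matrix s s R := Matrix.of fun j k => c j k
    have hCmap : C.map (IsLocalRing.residue R) = 1 := by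
      ext j k
      rw [Matrix.map_apply, Matrix.one_apply]
      have h1 := hd j j.2 k k.2
      rw [← IsLocalRing.residue_eq_zero_iff, map_sub] at h1
      have h2 : IsLocalRing.residue R (c j k) =
          IsLocalRing.residue R (if (j : I) = k then 1 else 0) := (sub_eq_zero.mp h1).symm
      show IsLocalRing.residue R (c j k) = _
      rw [h2]
      by_cases hjk : j = k
      · rw [if_pos hjk, if_pos (congrArg Subtype.val hjk), map_one]
      · rw [if_neg hjk, if_neg (fun h => hjk (Subtype.ext h)), map_zero]
    have hdet : IsUnit C.det := by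
      have h1 : IsLocalRing.residue R C.det = 1 := by
        rw [RingHom.map_det, RingHom.mapMatrix_apply, hCmap, Matrix.det_one]
      by_contra hnu
      have h2 : C.det ∈ IsLocalRing.maximalIdeal R := by
        rw [IsLocalRing.mem_maximalIdeal, mem_nonunits_iff]; exact hnu
      rw [← IsLocalRing.residue_eq_zero_iff, h1] at h2
      exact one_ne_zero h2
    let y : s → P := fun j => p (b j)
    let Y : (s → R) →ₗ[R] P := Fintype.linearCombination R y
    let ρ : P →ₗ[R] (s → R) := LinearMap.pi fun k => b.coord k ∘ₗ i
    have hρY : ∀ r : s → R, ρ (Y r) = Matrix.vecMul r C := by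
      intro r
      ext k
      show b.repr (i (∑ j, r j • p (b j))) k = _
      rw [map_sum, map_sum, Finsupp.finsetSum_apply]
      simp only [map_smul, Finsupp.smul_apply, smul_eq_mul, Matrix.vecMul, dotProduct]
      apply Finset.sum_congr rfl
      intro j _
      rw [← hc]
      rfl
    have hkill : ∀ r : s → R, Matrix.vecMul r C = 0 → r = 0 := by
      intro r h1
      have h2 := congrArg (fun v => Matrix.vecMul v C⁻¹) h1
      simp only [Matrix.vecMul_vecMul, Matrix.mul_nonsing_inv C hdet, Matrix.vecMul_one,
        Matrix.zero_vecMul] at h2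
      exact h2
    have hinj : Function.Injective Y := by
      rw [← LinearMap.ker_eq_bot, LinearMap.ker_eq_bot']
      intro r hr
      exact hkill r (by rw [← hρY, hr, map_zero])
    refine ⟨LinearMap.range Y, LinearMap.ker ρ, ⟨?_, ?_⟩, ?_, ?_⟩
    · rw [Submodule.disjoint_def]
      rintro v ⟨r, rfl⟩ hv
      have h1 : Matrix.vecMul r C = 0 := by rw [← hρY]; exact LinearMap.mem_ker.mp hv
      rw [hkill r h1, map_zero]
    · rw [Submodule.codisjoint_iff_exists_add_eq]
      intro v
      refine ⟨Y (Matrix.vecMul (ρ v) C⁻¹), v - Y (Matrix.vecMul (ρ v) C⁻¹), ⟨_, rfl⟩, ?_,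
        by abel⟩
      rw [LinearMap.mem_ker, map_sub, hρY, Matrix.vecMul_vecMul, Matrix.nonsing_inv_mul C hdet,
        Matrix.vecMul_one, sub_self]
    · exact Module.Free.of_equiv (LinearEquiv.ofInjective Y hinj)
    · refine ⟨fun j => a j, ?_⟩
      show ∑ j : s, a j • p (b j) = x
      rw [hxP]
      exact Finset.sum_coe_sort s (fun k => a k • p (b k))

theorem exists_free_summand [Module.Projective R P] (x : P) :
    ∃ F' C' : Submodule R P, IsCompl F' C' ∧ Module.Free R F' ∧ x ∈ F' := by
  obtain ⟨s, hs⟩ := Module.projective_def'.mp (inferInstance : Module.Projective R P)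
  exact exists_free_summand_aux s (Finsupp.linearCombination R id)
    (fun v => LinearMap.congr_fun hs v) x _ Finsupp.basisSingleOne rfl

theorem free_of_countable [Module.Projective R P]
    (hP : ∃ s : Set P, s.Countable ∧ span R s = ⊤) : Module.Free R P := by
  classical
  obtain ⟨s0, hs0, hspan0⟩ := hP
  obtain ⟨g, hg⟩ := (hs0.union (Set.countable_singleton (0 : P))).exists_eq_range
    ⟨0, Or.inr rfl⟩
  have hgspan : span R (Set.range g) = ⊤ := by
    rw [← hg, eq_top_iff, ← hspan0]; exact span_mono Set.subset_union_left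
  have step : ∀ (q : {q : Submodule R P × Submodule R P // IsCompl q.1 q.2}) (x : P),
      ∃ (q' : {q : Submodule R P × Submodule R P // IsCompl q.1 q.2}) (Fn : Submodule R P),
        Module.Free R Fn ∧ Fn ≤ q.1.2 ∧ q'.1.1 = q.1.1 ⊔ Fn ∧ x ∈ q'.1.1 := by
    rintro ⟨⟨G, C⟩, hGC⟩ x
    obtain ⟨gx, cx, hgx, hcx, hsum⟩ :=
      Submodule.codisjoint_iff_exists_add_eq.mp hGC.codisjoint x
    haveI : Module.Projective R C :=
      Module.Projective.of_split C.subtype (C.projectionOnto G hGC.symm)
        (Submodule.projectionOnto_comp_subtype hGC.symm)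
    obtain ⟨F', C', hcompl, hfree, hmem⟩ := exists_free_summand (R := R) (⟨cx, hcx⟩ : C)
    have hinj : Function.Injective C.subtype := C.injective_subtype
    have hsupC : F'.map C.subtype ⊔ C'.map C.subtype = C := by
      rw [← Submodule.map_sup, hcompl.sup_eq_top, Submodule.map_subtype_top]
    have hdisj : Disjoint (F'.map C.subtype) (C'.map C.subtype) := by
      rw [disjoint_iff, ← Submodule.map_inf _ hinj, hcompl.inf_eq_bot, Submodule.map_bot]
    have hcompl' : IsCompl (G ⊔ F'.map C.subtype) (C'.map C.subtype) :=
      hdisj.isCompl_sup_left_of_isCompl_sup_right (by rw [hsupC]; exact hGC)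
    refine ⟨⟨(G ⊔ F'.map C.subtype, C'.map C.subtype), hcompl'⟩, F'.map C.subtype, ?_,
      Submodule.map_subtype_le C F', rfl, ?_⟩
    · haveI := hfree
      exact Module.Free.of_equiv (Submodule.equivMapOfInjective C.subtype hinj F')
    · rw [← hsum]
      exact Submodule.add_mem _ (Submodule.mem_sup_left hgx)
        (Submodule.mem_sup_right (Submodule.mem_map.mpr ⟨⟨cx, hcx⟩, hmem, rfl⟩))
  choose nxt Fof hfree hle hsup hmem using step
  let seq : ℕ → {q : Submodule R P × Submodule R P // IsCompl q.1 q.2} :=
    fun n => Nat.rec ⟨(⊥, ⊤), isCompl_bot_top⟩ (fun n q => nxt q (g n)) n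
  have hseq0 : (seq 0).1.1 = ⊥ := rfl
  have hseqS : ∀ n, seq (n + 1) = nxt (seq n) (g n) := fun n => rfl
  let L : ℕ → Submodule R P := fun n => Fof (seq n) (g n)
  let G : ℕ → Submodule R P := fun n => (seq n).1.1
  have hGS : ∀ n, G (n + 1) = G n ⊔ L n := fun n => by
    show (seq (n + 1)).1.1 = _
    rw [hseqS n, hsup]
  have hGmono : ∀ m n, m ≤ n → G m ≤ G n := by
    intro m n hmn
    induction hmn with
    | refl => exact le_rfl
    | step _ ih => exact ih.trans (by rw [hGS]; exact le_sup_left)
  have hind : iSupIndep L := by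
    apply iSupIndep_of_linearOrder L G
    · intro n j hj
      calc L j ≤ G (j + 1) := by rw [hGS]; exact le_sup_right
        _ ≤ G n := hGmono _ _ hj
    · intro n
      exact ((seq n).2.disjoint.mono_right (hle (seq n) (g n))).symm
  have hsupL : iSup L = ⊤ := by
    have hGL : ∀ n, G n ≤ iSup L := by
      intro n
      induction n with
      | zero => show (seq 0).1.1 ≤ _; rw [hseq0]; exact bot_le
      | succ n ih => rw [hGS]; exact sup_le ih (le_iSup L n)
    rw [eq_top_iff, ← hgspan, Submodule.span_le]
    rintro _ ⟨n, rfl⟩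
    apply hGL (n + 1)
    show g n ∈ (seq (n + 1)).1.1
    rw [hseqS n]
    exact hmem (seq n) (g n)
  have hint : DirectSum.IsInternal L :=
    DirectSum.isInternal_submodule_of_iSupIndep_of_iSup_eq_top hind hsupL
  haveI : ∀ n, Module.Free R (L n) := fun n => hfree (seq n) (g n)
  exact Module.Free.of_equiv (LinearEquiv.ofBijective (DirectSum.coeLinearMap L) hint)

theorem free_of_projective_of_isLocalRing [Module.Projective R P] : Module.Free R P := by
  classical
  obtain ⟨s, hs⟩ := Module.projective_def'.mp (inferInstance : Module.Projective R P)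
  let p : (P →₀ R) →ₗ[R] P := Finsupp.linearCombination R id
  have hps : ∀ v, p (s v) = v := fun v => LinearMap.congr_fun hs v
  have hsinj : Function.Injective s := Function.LeftInverse.injective hps
  let b : Module.Basis P R (P →₀ R) := Finsupp.basisSingleOne
  let N : P → Submodule R (P →₀ R) := fun k => span R {b k}
  have hN : DirectSum.IsInternal N := by
    apply DirectSum.isInternal_submodule_of_iSupIndep_of_iSup_eq_top
    · exact b.linearIndependent.iSupIndep_span_singleton
    · rw [← Submodule.span_range_eq_iSup, b.span_eq]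
  haveI := hN.chooseDecomposition
  obtain ⟨L, hind, hsup, hcg⟩ := exists_decomp N (s ∘ₗ p) (LinearMap.range s)
    (fun x => ⟨p x, rfl⟩) (by rintro _ ⟨v, rfl⟩; show s (p (s v)) = s v; rw [hps])
    (fun k => ⟨{b k}, Set.countable_singleton _, rfl⟩)
  obtain ⟨hint, hcg'⟩ := transfer' s hsinj L hind hsup hcg
  haveI := hint.chooseDecomposition
  have hfree : ∀ k, Module.Free R ((L k).comap s) := by
    intro k
    haveI : Module.Projective R ((L k).comap s) := by
      refine Module.Projective.of_split ((L k).comap s).subtype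
        ((DirectSum.component R P (fun k => (L k).comap s) k) ∘ₗ
          (DirectSum.decomposeLinearEquiv (fun k => (L k).comap s)).toLinearMap) ?_
      apply LinearMap.ext; intro v
      simp
    exact free_of_countable (hcg' k)
  haveI := hfree
  exact Module.Free.of_equiv (LinearEquiv.ofBijective (DirectSum.coeLinearMap _) hint)

end LemmaA

end Groth.Agent.H46.Kap
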