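import Groth.Prelude.Def_CAlgX
import Mathlib.LinearAlgebra.Matrix.Adjugate
import Mathlib.LinearAlgebra.Matrix.ToLin
import Mathlib.RingTheory.Ideal.Maps
import Mathlib.Order.ConditionallyCompleteLattice.Basic

/-!
# McCoy's theorem

For `M : Matrix (Fin n) (Fin m) R` over a commutative ring, `M.mulVecLin` is injective iff the
annihilator of the ideal of `m × m` minors is zero.
-/

set_option autoImplicit false
universe u
open Matrix CAlgX

namespace Groth.Agent.H46

variable {R : Type u} [CommRing R] {m n : ℕ} (M : Matrix (Fin n) (Fin m) R)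

theorem minor_eq_zero_of_not_injective {r : ℕ} (f : Fin r → Fin n) (g : Fin r → Fin m)
    (hg : ¬ Function.Injective g) : (M.submatrix f g).det = 0 := by
  rw [Function.Injective] at hg
  push Not at hg
  obtain ⟨b, b', hbb', hne⟩ := hg
  exact Matrix.det_zero_of_column_eq hne (fun k => by simp [hbb'])

theorem minorIdeal_eq_bot_of_lt {r : ℕ} (hr : m < r) : minorIdeal M r = ⊥ := by
  unfold minorIdeal
  rw [Ideal.span_eq_bot]
  rintro _ ⟨⟨f, g⟩, rfl⟩
  apply minor_eq_zero_of_not_injective
  intro hg
  have := Fintype.card_le_of_injective g hg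
  simp only [Fintype.card_fin] at this
  omega

theorem minorIdeal_zero : minorIdeal M 0 = ⊤ := by
  unfold minorIdeal
  rw [Ideal.eq_top_iff_one]
  apply Ideal.subset_span
  exact ⟨(Fin.elim0, Fin.elim0), by simp⟩

theorem matrixRank_eq_iff [Nontrivial R] : matrixRank M = m ↔ minorIdeal M m ≠ ⊥ := by
  have hbdd : ∀ r ∈ {r : ℕ | minorIdeal M r ≠ ⊥}, r ≤ m := by
    intro r hr
    by_contra h
    push Not at h
    exact hr (minorIdeal_eq_bot_of_lt M h)
  have h0 : (0 : ℕ) ∈ {r : ℕ | minorIdeal M r ≠ ⊥} := by
    show minorIdeal M 0 ≠ ⊥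
    rw [minorIdeal_zero]
    exact top_ne_bot
  unfold matrixRank
  constructor
  · intro h
    have := Nat.sSup_mem ⟨0, h0⟩ ⟨m, hbdd⟩
    rw [h] at this
    exact this
  · intro h
    exact le_antisymm (csSup_le ⟨0, h0⟩ hbdd) (le_csSup ⟨m, hbdd⟩ h)

/-- McCoy, easy direction. -/
theorem injective_of_annihilator_eq_bot (h : (minorIdeal M m).annihilator = ⊥) :
    Function.Injective (Matrix.mulVecLin M) := by
  rw [injective_iff_map_eq_zero]
  intro v hv
  rw [Matrix.mulVecLin_apply] at hv
  ext k
  have hk : v k ∈ (minorIdeal M m).annihilator := by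
    unfold minorIdeal
    rw [Submodule.mem_annihilator_span]
    rintro ⟨_, ⟨⟨f, g⟩, rfl⟩⟩
    show v k • det (M.submatrix f g) = 0
    by_cases hg : Function.Injective g
    · have hbij : Function.Bijective g := Finite.injective_iff_bijective.1 hg
      have h1 : (M.submatrix f g) *ᵥ (v ∘ g) = 0 := by
        have h2 := Matrix.submatrix_mulVec_equiv M (v ∘ g) f (Equiv.ofBijective g hbij)
        have h3 : (v ∘ g) ∘ ⇑(Equiv.ofBijective g hbij).symm = v := by
          ext l
          simp only [Function.comp_apply]
          congr 1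
          exact (Equiv.ofBijective g hbij).apply_symm_apply l
        rw [h3, hv] at h2
        simpa using h2
      have h2 : det (M.submatrix f g) • (v ∘ g) = 0 := by
        calc det (M.submatrix f g) • (v ∘ g)
            = (det (M.submatrix f g) • (1 : Matrix (Fin m) (Fin m) R)) *ᵥ (v ∘ g) := by
              rw [Matrix.smul_mulVec, Matrix.one_mulVec]
          _ = (adjugate (M.submatrix f g) * (M.submatrix f g)) *ᵥ (v ∘ g) := by
              rw [Matrix.adjugate_mul]
          _ = adjugate (M.submatrix f g) *ᵥ ((M.submatrix f g) *ᵥ (v ∘ g)) := by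
              rw [Matrix.mulVec_mulVec]
          _ = 0 := by rw [h1, Matrix.mulVec_zero]
      obtain ⟨b, rfl⟩ := hbij.2 k
      have h3 := congrFun h2 b
      simp only [Pi.smul_apply, Function.comp_apply, smul_eq_mul, Pi.zero_apply] at h3
      rw [smul_eq_mul, mul_comm]
      exact h3
    · rw [minor_eq_zero_of_not_injective M f g hg, smul_zero]
  rw [h] at hk
  exact (Submodule.mem_bot R).1 hk

/-- McCoy, hard direction. -/
theorem annihilator_eq_bot_of_injective (h : Function.Injective (Matrix.mulVecLin M)) :
    (minorIdeal M m).annihilator = ⊥ := by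
  rw [eq_bot_iff]
  intro a ha
  rw [Submodule.mem_bot]
  by_contra ha0
  let Q : ℕ → Prop := fun r => ∃ (f : Fin r → Fin n) (g : Fin r → Fin m),
    a * det (M.submatrix f g) ≠ 0
  have hQ0 : Q 0 := ⟨Fin.elim0, Fin.elim0, by simpa using ha0⟩
  have hQm : ¬ Q m := by
    rintro ⟨f, g, hfg⟩
    apply hfg
    have := Submodule.mem_annihilator.1 ha (det (M.submatrix f g))
      (Ideal.subset_span ⟨(f, g), rfl⟩)
    simpa using this
  obtain ⟨r, hrm, hQr, hQr1⟩ : ∃ r, r < m ∧ Q r ∧ ¬ Q (r + 1) := by
    by_contra hcon
    push Not at hcon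
    have : ∀ r, r ≤ m → Q r := by
      intro r
      induction r with
      | zero => intro _; exact hQ0
      | succ r ih => intro hr; exact hcon r (by omega) (ih (by omega))
    exact hQm (this m le_rfl)
  obtain ⟨f, g, hfg⟩ := hQr
  obtain ⟨k, hk⟩ : ∃ k, ∀ b, g b ≠ k := by
    by_contra hcon
    push Not at hcon
    have hsurj : Function.Surjective g := fun k => hcon k
    have := Fintype.card_le_of_surjective g hsurj
    simp only [Fintype.card_fin] at this
    omega
  let g' : Fin (r + 1) → Fin m := Fin.snoc g k
  have hg'cast : ∀ j : Fin r, g' (Fin.castSucc j) = g j := fun j => by simp [g']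
  have hg'last : g' (Fin.last r) = k := by simp [g']
  let c : Fin (r + 1) → R := fun j =>
    (-1) ^ ((Fin.last r : ℕ) + (j : ℕ)) * det (M.submatrix f (g' ∘ j.succAbove))
  let v : Fin m → R := fun l => ∑ j, if g' j = l then a * c j else 0
  have hMv : M *ᵥ v = 0 := by
    ext i
    have hB : a * det (M.submatrix (Fin.snoc f i : Fin (r + 1) → Fin n) g') = 0 := by
      by_contra hne
      exact hQr1 ⟨_, _, hne⟩
    rw [Matrix.det_succ_row _ (Fin.last r)] at hB
    have hterm : ∀ j : Fin (r + 1),
        (-1) ^ ((Fin.last r : ℕ) + (j : ℕ)) *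
          (M.submatrix (Fin.snoc f i : Fin (r + 1) → Fin n) g') (Fin.last r) j *
          det ((M.submatrix (Fin.snoc f i : Fin (r + 1) → Fin n) g').submatrix
            (Fin.last r).succAbove j.succAbove) = M i (g' j) * c j := by
      intro j
      have h1 : (M.submatrix (Fin.snoc f i : Fin (r + 1) → Fin n) g') (Fin.last r) j =
          M i (g' j) := by simp [Matrix.submatrix_apply]
      have h2 : (M.submatrix (Fin.snoc f i : Fin (r + 1) → Fin n) g').submatrix
          (Fin.last r).succAbove j.succAbove = M.submatrix f (g' ∘ j.succAbove) := by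
        ext p q
        simp [Matrix.submatrix_apply, Fin.succAbove_last]
      rw [h1, h2]
      simp only [c]
      ring
    simp_rw [hterm] at hB
    calc (M *ᵥ v) i = ∑ l, M i l * ∑ j, (if g' j = l then a * c j else 0) := rfl
      _ = ∑ l, ∑ j, (if g' j = l then M i l * (a * c j) else 0) := by
          refine Finset.sum_congr rfl fun l _ => ?_
          rw [Finset.mul_sum]
          refine Finset.sum_congr rfl fun j _ => ?_
          split_ifs <;> simp
      _ = ∑ j, ∑ l, (if g' j = l then M i l * (a * c j) else 0) := Finset.sum_comm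
      _ = ∑ j, M i (g' j) * (a * c j) := by
          refine Finset.sum_congr rfl fun j _ => ?_
          rw [Finset.sum_ite_eq]
          simp
      _ = a * ∑ j, M i (g' j) * c j := by
          rw [Finset.mul_sum]
          refine Finset.sum_congr rfl fun j _ => by ring
      _ = 0 := hB
  have hv0 : v = 0 := by
    apply h
    rw [Matrix.mulVecLin_apply, Matrix.mulVecLin_apply, hMv, Matrix.mulVec_zero]
  have hvk : v k = a * det (M.submatrix f g) := by
    show ∑ j, (if g' j = k then a * c j else 0) = _
    rw [Fin.sum_univ_castSucc]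
    have h1 : ∀ j : Fin r, g' (Fin.castSucc j) ≠ k := fun j => by rw [hg'cast]; exact hk j
    simp only [h1, if_false, Finset.sum_const_zero, zero_add, hg'last, if_true]
    have h3 : g' ∘ (Fin.last r).succAbove = g := by
      ext b
      simp [Fin.succAbove_last, hg'cast]
    simp only [c]
    rw [h3, ← two_mul, pow_mul]
    simp
  rw [hv0] at hvk
  exact hfg hvk.symm

/-- McCoy's theorem. -/
theorem mccoy : Function.Injective (Matrix.mulVecLin M) ↔ (minorIdeal M m).annihilator = ⊥ :=
  ⟨annihilator_eq_bot_of_injective M, injective_of_annihilator_eq_bot M⟩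

/-- McCoy's theorem in terms of `matrixRank` and `detIdeal`. -/
theorem mccoy' [Nontrivial R] : Function.Injective (Matrix.mulVecLin M) ↔
    matrixRank M = m ∧ (detIdeal M).annihilator = ⊥ := by
  constructor
  · intro h
    have h1 := annihilator_eq_bot_of_injective M h
    have h2 : minorIdeal M m ≠ ⊥ := by
      intro h3
      rw [h3, Submodule.annihilator_bot] at h1
      exact top_ne_bot h1
    have h3 := (matrixRank_eq_iff M).2 h2
    refine ⟨h3, ?_⟩
    unfold detIdeal
    rw [h3]
    exact h1
  · rintro ⟨h1, h2⟩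
    unfold detIdeal at h2
    rw [h1] at h2
    exact injective_of_annihilator_eq_bot M h2

end Groth.Agent.H46
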