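import Groth.Agent.H12.DualLoc
import Groth.Agent.S0364

/-!
# The dimension function of a dualizing complex (helper46)

For a dualizing complex `ω` over a Noetherian ring `A` and a prime `p`:
* `exists_normDeg` : there is a unique degree `n` with `Hom(A/p, ω[n])_p ≠ 0`;
* `torsion_of_covBy` : for `p ⋖ q`, every map `A/p → ω[j]`, `j ≠ n_q - 1`, is `p`-torsion.
-/

set_option autoImplicit false
set_option linter.unusedSectionVars false
universe u
open CategoryTheory CategoryTheory.Limits DerivedCategory Pretriangulated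
attribute [local instance] HasDerivedCategory.standard

namespace Groth.Agent.H46.DimFun

open DerivedCategory.TStructure Groth.Agent.H12.DualDepth Groth.Agent.H12.LocHom
  Groth.Agent.H12.DualLoc

variable {A : Type u} [CommRing A] [IsNoetherianRing A] (ω : Dual.D A)

/-- the non-torsion condition: some map `A/p → ω[i]` is not killed by any element outside `p` -/
def NT (p : Ideal A) [p.IsPrime] (i : ℤ) : Prop :=
  ∃ φ : sM (ModuleCat.of A (A ⧸ p)) ⟶ ω⟦i⟧, ∀ s ∈ p.primeCompl, s • φ ≠ 0

lemma exists_isGE (hω : Dual.IsDualizing A ω) : ∃ a : ℤ, ω.IsGE a := by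
  obtain ⟨a, b, hab⟩ := hω.finite_injective_dimension
  exact ⟨a, (isGE_iff ω a).2
    (fun j hj => isZero_homology_of_isDualizing ω a b hab j (Or.inl hj))⟩

/-- `NT p i` is the non-vanishing of `Hom(κ(p), ω_p[i])` -/
lemma NT_iff (hω : Dual.IsDualizing A ω) (p : Ideal A) [p.IsPrime]
    [DRing.HasLBaseChange (algebraMap A (Localization p.primeCompl))] (i : ℤ) :
    NT ω p i ↔ ¬ Van ((DRing.LBaseChange (algebraMap A (Localization p.primeCompl))).obj ω) i
      (ModuleCat.of (Localization.AtPrime p)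
        (Localization.AtPrime p ⧸ IsLocalRing.maximalIdeal (Localization.AtPrime p))) := by
  obtain ⟨a, ha⟩ := exists_isGE ω hω
  haveI := ha
  have h1 := exists_not_torsion_iff p.primeCompl ω a (ModuleCat.of A (A ⧸ p)) i
  refine Iff.trans (show NT ω p i ↔ _ from h1) (not_congr ?_)
  exact ⟨fun h => van_of_iso (extQuotIsoResidue p) h,
    fun h => van_of_iso (extQuotIsoResidue p).symm h⟩

/-- the normalizing degree at a prime -/
lemma exists_normDeg (hω : Dual.IsDualizing A ω) (p : Ideal A) [p.IsPrime] :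
    ∃ n : ℤ, ∀ i : ℤ, NT ω p i ↔ i = n := by
  haveI : DRing.HasLBaseChange (algebraMap A (Localization p.primeCompl)) :=
    H35.HasLBC.hasLBaseChange _
  have hωp := isDualizing_L p.primeCompl ω hω
  obtain ⟨n, h1, ⟨e⟩⟩ := Groth.Agent.S0364.result (Localization.AtPrime p) _ hωp
    (IsLocalRing.maximalIdeal (Localization.AtPrime p))
  refine ⟨n, fun i => ?_⟩
  rw [NT_iff ω hω p i]
  constructor
  · intro hv
    by_contra hne
    exact hv ((van_iff_subsingleton _ _ _).2 (h1 i hne))
  · rintro rfl hv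
    haveI : Subsingleton (Dual.inD (Localization.AtPrime p)
        (Localization.AtPrime p ⧸ IsLocalRing.maximalIdeal (Localization.AtPrime p)) ⟶
        ((DRing.LBaseChange (algebraMap A (Localization p.primeCompl))).obj ω)⟦i⟧) :=
      (van_iff_subsingleton _ _ _).1 hv
    haveI : Subsingleton (Localization.AtPrime p ⧸
        IsLocalRing.maximalIdeal (Localization.AtPrime p)) := e.symm.toEquiv.subsingleton
    exact not_subsingleton (Localization.AtPrime p ⧸
        IsLocalRing.maximalIdeal (Localization.AtPrime p)) inferInstance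


/-- the first clause: `Hom(A/p, ω[i])_p ≠ 0` iff `NT` -/
lemma nontrivial_iff_NT (p : PrimeSpectrum A) (i : ℤ) :
    Nontrivial (LocalizedModule p.asIdeal.primeCompl (Dual.inD A (A ⧸ p.asIdeal) ⟶ ω⟦i⟧)) ↔
      NT ω p.asIdeal i := by
  rw [← Module.mem_support_iff, Module.mem_support_iff']
  rfl

section Dim

lemma disjoint_of_le {p q : Ideal A} [q.IsPrime] (h : p ≤ q) :
    Disjoint (q.primeCompl : Set A) (p : Set A) := by
  rw [Set.disjoint_left]
  intro x hx hxp
  exact hx (h hxp)

lemma ringKrullDim_quotient_map_eq_one {p q : PrimeSpectrum A} (h : p ⋖ q)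
    [hp' : (p.asIdeal.map (algebraMap A (Localization.AtPrime q.asIdeal))).IsPrime] :
    ringKrullDim (Localization.AtPrime q.asIdeal ⧸
      p.asIdeal.map (algebraMap A (Localization.AtPrime q.asIdeal))) = 1 := by
  set C := Localization.AtPrime q.asIdeal with hC
  set p' := p.asIdeal.map (algebraMap A C) with hp'def
  have hpq : p.asIdeal ≤ q.asIdeal := h.le
  have hdisj := disjoint_of_le hpq
  have hunder : p'.under A = p.asIdeal :=
    IsLocalization.under_map_of_isPrime_disjoint q.asIdeal.primeCompl C p.isPrime hdisj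
  haveI : IsDomain (C ⧸ p') := Ideal.Quotient.isDomain p'
  -- not a field
  have hnf : ¬ IsField (C ⧸ p') := by
    intro hf
    have hmax : p'.IsMaximal := Ideal.Quotient.maximal_of_isField p' hf
    have h1 : p' = IsLocalRing.maximalIdeal C := IsLocalRing.eq_maximalIdeal hmax
    have h2 : (IsLocalRing.maximalIdeal C).under A = q.asIdeal :=
      IsLocalization.AtPrime.under_maximalIdeal C q.asIdeal
    have h3 : p.asIdeal = q.asIdeal := by rw [← hunder, h1, h2]
    exact h.lt.ne (PrimeSpectrum.ext h3)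
  have h0 : ¬ ringKrullDim (C ⧸ p') ≤ 0 := fun hle => by
    have : Ring.KrullDimLE 0 (C ⧸ p') := Ring.krullDimLE_iff.mpr hle
    exact hnf Ring.KrullDimLE.isField_of_isDomain
  have h1 : Ring.KrullDimLE 1 (C ⧸ p') := by
    refine Ring.krullDimLE_one_iff_of_noZeroDivisors.mpr (fun I hI hIprime => ?_)
    let P' : Ideal C := I.comap (Ideal.Quotient.mk p')
    haveI hP'prime : P'.IsPrime := Ideal.comap_isPrime _ I
    have hp'P' : p' ≤ P' := by
      intro x hx
      show Ideal.Quotient.mk p' x ∈ I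
      rw [Ideal.Quotient.eq_zero_iff_mem.2 hx]
      exact I.zero_mem
    have hmapP' : P'.map (Ideal.Quotient.mk p') = I :=
      Ideal.map_comap_of_surjective _ Ideal.Quotient.mk_surjective I
    have hP'ne : P' ≠ p' := by
      intro heq
      apply hI
      rw [← hmapP', heq]
      exact Ideal.map_quotient_self p'
    let P : Ideal A := P'.under A
    haveI hPprime : P.IsPrime := Ideal.comap_isPrime _ P'
    have hpP : p.asIdeal ≤ P := by
      rw [← hunder]
      exact Ideal.comap_mono hp'P'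
    have hPq : P ≤ q.asIdeal := by
      have := (IsLocalization.isPrime_iff_isPrime_disjoint q.asIdeal.primeCompl C P').1 hP'prime
      intro x hx
      by_contra hxq
      exact Set.disjoint_left.1 this.2 hxq hx
    have hPne : P ≠ p.asIdeal := by
      intro heq
      apply hP'ne
      rw [← IsLocalization.map_under q.asIdeal.primeCompl C P']
      show Ideal.map (algebraMap A C) P = p'
      rw [heq]
    have hPq' : P = q.asIdeal := by
      let Ps : PrimeSpectrum A := ⟨P, hPprime⟩
      have hlt : p < Ps := lt_of_le_of_ne hpP (fun he => hPne (congrArg PrimeSpectrum.asIdeal he).symm)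
      have hle : Ps ≤ q := hPq
      rcases eq_or_lt_of_le hle with he | hlt'
      · exact congrArg PrimeSpectrum.asIdeal he
      · exact absurd hlt' (h.2 hlt)
    have hP'max : P' = IsLocalRing.maximalIdeal C := by
      rw [← IsLocalization.map_under q.asIdeal.primeCompl C P']
      show Ideal.map (algebraMap A C) P = _
      rw [hPq']
      exact IsLocalization.AtPrime.map_eq_maximalIdeal q.asIdeal C
    have hmax : P'.IsMaximal := hP'max ▸ IsLocalRing.maximalIdeal.isMaximal C
    rw [← hmapP']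
    rcases Ideal.map_eq_top_or_isMaximal_of_surjective (Ideal.Quotient.mk p') (Ideal.Quotient.mk_surjective (I := p')) hmax with ht | hm
    · exact absurd (hmapP' ▸ ht) hIprime.ne_top
    · exact hm
  rw [Ring.krullDimLE_iff] at h1
  exact le_antisymm h1 (Order.succ_le_of_lt (lt_of_not_ge h0))

end Dim


section Cov

/-- `(A/I) ⊗_A B ≅ B / I B` -/
noncomputable def extQuotIso (B : Type u) [CommRing B] [Algebra A B] (I : Ideal A) :
    (ModuleCat.extendScalars.{u, u, u} (algebraMap A B)).obj (ModuleCat.of A (A ⧸ I)) ≅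
      ModuleCat.of B (B ⧸ I.map (algebraMap A B)) :=
  ((H82.TorBC.bcEquiv A B (A ⧸ I)).symm ≪≫ₗ
    (Algebra.TensorProduct.quotIdealMapEquivTensorQuot B I).toLinearEquiv.symm).toModuleIso

/-- for `p ⋖ q`, maps `A/p → ω[j]` are `p`-torsion unless `j = n_q - 1` -/
lemma not_NT_of_covBy (hω : Dual.IsDualizing A ω) {p q : PrimeSpectrum A} (h : p ⋖ q) (nq : ℤ)
    (hnq : ∀ i, NT ω q.asIdeal i ↔ i = nq) (j : ℤ) (hj : j ≠ nq - 1) :
    ¬ NT ω p.asIdeal j := by
  rintro ⟨φ, hφ⟩
  set S := q.asIdeal.primeCompl with hS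
  haveI : DRing.HasLBaseChange (algebraMap A (Localization S)) :=
    H35.HasLBC.hasLBaseChange _
  set C := Localization.AtPrime q.asIdeal with hC
  haveI hp' : (p.asIdeal.map (algebraMap A C)).IsPrime :=
    IsLocalization.isPrime_of_isPrime_disjoint q.asIdeal.primeCompl _ _ p.isPrime
      (disjoint_of_le h.le)
  set p' := p.asIdeal.map (algebraMap A C) with hp'def
  have hd : ringKrullDim (C ⧸ p') = ((1 : ℕ) : WithBot ℕ∞) := by
    rw [ringKrullDim_quotient_map_eq_one h]; rfl
  obtain ⟨a, ha⟩ := exists_isGE ω hω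
  haveI := ha
  set L := DRing.LBaseChange (algebraMap A (Localization S)) with hL
  have hωq : Dual.IsDualizing C (L.obj ω) := isDualizing_L S ω hω
  have hW : Dual.IsDualizing C ((L.obj ω)⟦nq⟧) := isDualizing_shift _ hωq nq
  have hnW : Dual.IsNormalized C ((L.obj ω)⟦nq⟧) := by
    intro i hi
    refine (van_iff_subsingleton _ i (ModuleCat.of C (IsLocalRing.ResidueField C))).1 ?_
    refine van_of_iso (residueIso (A := C)).symm ?_
    rw [van_shift_iff _ nq i (nq + i) rfl]
    by_contra hv
    have h1 := ((NT_iff ω hω q.asIdeal (nq + i)).2 hv)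
    have h2 := (hnq (nq + i)).1 h1
    omega
  -- transport φ
  haveI : (ω⟦j⟧).IsGE (a - j) := t.isGE_shift ω a j (a - j) (by omega)
  haveI := isGE_TL S (ω⟦j⟧) (a - j)
  have hpr : Pr S (ηL S (ω⟦j⟧)) (sM (ModuleCat.of A (A ⧸ p.asIdeal))) :=
    pr_single_module S (ηL S (ω⟦j⟧)) (fun n => homology_unit_sIsoM S (ω⟦j⟧) n) (a - j)
      (ModuleCat.of A (A ⧸ p.asIdeal))
  obtain ⟨iso1⟩ := exists_iso_L_single (B := Localization S) (ModuleCat.of A (A ⧸ p.asIdeal))
  let iso2 : L.obj (ω⟦j⟧) ≅ (L.obj ω)⟦j⟧ :=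
    (Adjunction.LeftAdjointCommShift.iso (adjL S) j).app ω
  let e1 : sM ((ModuleCat.extendScalars.{u, u, u} (algebraMap A C)).obj
      (ModuleCat.of A (A ⧸ p.asIdeal))) ≅ sM (ModuleCat.of C (C ⧸ p')) :=
    (singleFunctor (ModuleCat.{u} C) 0).mapIso (extQuotIso C p.asIdeal)
  let e3 : (L.obj ω)⟦j⟧ ≅ ((L.obj ω)⟦nq⟧)⟦j - nq⟧ :=
    (shiftFunctorAdd' (Dual.D C) nq (j - nq) j (by omega)).app (L.obj ω)
  let ψ : sM (ModuleCat.of C (C ⧸ p')) ⟶ ((L.obj ω)⟦nq⟧)⟦j - nq⟧ :=
    e1.inv ≫ iso1.inv ≫ L.map φ ≫ iso2.hom ≫ e3.hom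
  refine torsion_hom_quotient_prime _ hW hnW p' 1 hd (j - nq) (by omega) ⟨ψ, ?_⟩
  intro t ht htψ
  obtain ⟨a', s, rfl⟩ := IsLocalization.exists_mk'_eq S t
  have ha' : a' ∉ p.asIdeal := by
    intro hmem
    apply ht
    show IsLocalization.mk' C a' s ∈ p'
    rw [IsLocalization.mk'_mem_iff]
    exact Ideal.mem_map_of_mem _ hmem
  have h1 : algebraMap A C a' • ψ = 0 := by
    rw [← IsLocalization.mk'_spec' C a' s, mul_smul, htψ, smul_zero]
  have h2 : algebraMap A C a' • L.map φ = 0 := by
    have h3 : e1.inv ≫ iso1.inv ≫ (algebraMap A C a' • L.map φ) ≫ iso2.hom ≫ e3.hom = 0 := by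
      rw [Linear.smul_comp, Linear.comp_smul, Linear.comp_smul]
      exact h1
    have h4 : iso1.inv ≫ (algebraMap A C a' • L.map φ) ≫ iso2.hom ≫ e3.hom = 0 := by
      rw [← cancel_epi e1.inv, h3, comp_zero]
    have h5 : (algebraMap A C a' • L.map φ) ≫ iso2.hom ≫ e3.hom = 0 := by
      rw [← cancel_epi iso1.inv, h4, comp_zero]
    have h6 : ((algebraMap A C a' • L.map φ) ≫ iso2.hom) ≫ e3.hom = 0 := by
      rw [Category.assoc]; exact h5
    have h7 : (algebraMap A C a' • L.map φ) ≫ iso2.hom = 0 := by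
      rw [← cancel_mono e3.hom, h6, zero_comp]
    rw [← cancel_mono iso2.hom, h7, zero_comp]
  have h8 : L.map (a' • φ) = 0 := (L_map_smul S a' φ).trans h2
  obtain ⟨u, hu, hu0⟩ := exists_smul_eq_zero_of_pr S (ω⟦j⟧) _ hpr (a' • φ) h8
  have hup : u ∈ p.asIdeal.primeCompl := fun hmem => hu (h.le hmem)
  refine hφ (u * a') (p.asIdeal.primeCompl.mul_mem hup ha') ?_
  rw [mul_smul]
  exact hu0

end Cov


section Main

/-- the dimension function (in terms of `NT`) -/
theorem exists_dimFun (hω : Dual.IsDualizing A ω) :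
    ∃ δ : PrimeSpectrum A → ℤ, (∀ (p : PrimeSpectrum A) (i : ℤ), NT ω p.asIdeal i ↔ i = -δ p) ∧
      ∀ p q : PrimeSpectrum A, p ⋖ q → δ p = δ q + 1 := by
  classical
  have hex : ∀ p : PrimeSpectrum A, ∃ n : ℤ, ∀ i : ℤ, NT ω p.asIdeal i ↔ i = n :=
    fun p => exists_normDeg ω hω p.asIdeal
  choose n hn using hex
  refine ⟨fun p => -(n p), fun p i => ?_, fun p q hpq => ?_⟩
  · rw [hn p i, neg_neg]
  · by_contra hne
    have h1 : n p ≠ n q - 1 := by
      intro h
      apply hne
      show -(n p) = -(n q) + 1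
      omega
    exact not_NT_of_covBy ω hω hpq (n q) (hn q) (n p) h1 ((hn p (n p)).2 rfl)

/-- `NT` forces the degree into the injective amplitude -/
lemma bounds_of_NT (a b : ℤ)
    (hab : ∀ (M : Type u) [AddCommGroup M] [Module A M] (i : ℤ),
      (i < a ∨ b < i) → Subsingleton (Dual.inD A M ⟶ ω⟦i⟧))
    (p : Ideal A) [p.IsPrime] (i : ℤ) (h : NT ω p i) : a ≤ i ∧ i ≤ b := by
  obtain ⟨φ, hφ⟩ := h
  by_contra hcon
  have hi : i < a ∨ b < i := by omega
  haveI := hab (A ⧸ p) i hi
  apply hφ 1 p.primeCompl.one_mem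
  rw [one_smul]
  exact Subsingleton.elim (α := Dual.inD A (A ⧸ p) ⟶ ω⟦i⟧) φ 0

instance : WellFoundedGT (PrimeSpectrum A) :=
  StrictMono.wellFoundedGT (f := PrimeSpectrum.asIdeal) (fun _ _ h => h)

/-- a function that drops by one along covers is strictly monotone -/
lemma strictMono_of_covBy (n : PrimeSpectrum A → ℤ)
    (hn : ∀ p q : PrimeSpectrum A, p ⋖ q → n p = n q - 1) :
    ∀ p q : PrimeSpectrum A, p < q → n p < n q := by
  intro p
  have key : ∀ k : ℕ, ∀ q : PrimeSpectrum A, q.asIdeal.height.toNat = k → p < q → n p < n q := by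
    intro k
    induction k using Nat.strong_induction_on with
    | _ k ih =>
      intro q hk hpq
      obtain ⟨x, hpx, hxq⟩ := exists_le_covBy_of_lt hpq
      have h1 := hn x q hxq
      rcases eq_or_lt_of_le hpx with rfl | hlt
      · omega
      · haveI := x.isPrime
        haveI := q.isPrime
        have hx : x.asIdeal.height < q.asIdeal.height :=
          Ideal.height_strict_mono_of_isPrime hxq.lt
        have hq : q.asIdeal.height < ⊤ := Ideal.height_lt_top_of_isPrime
        obtain ⟨mq, hmq⟩ := ENat.ne_top_iff_exists.1 hq.ne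
        obtain ⟨mx, hmx⟩ := ENat.ne_top_iff_exists.1 (hx.trans hq).ne
        have hx' : x.asIdeal.height.toNat < k := by
          rw [← hk, ← hmq, ← hmx, ENat.toNat_natCast, ENat.toNat_natCast]
          rw [← hmq, ← hmx] at hx
          exact_mod_cast hx
        have := ih _ hx' x rfl hlt
        omega
  intro q hpq
  exact key _ q rfl hpq

lemma length_le_of_strictMono_int {k : ℕ} (f : Fin (k + 1) → ℤ) (hf : StrictMono f) (a b : ℤ)
    (h : ∀ i, a ≤ f i ∧ f i ≤ b) : (k : ℤ) ≤ b - a := by
  have key : ∀ i : Fin (k + 1), f 0 + ((i : ℕ) : ℤ) ≤ f i := by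
    intro i
    induction i using Fin.induction with
    | zero => simp
    | succ i ih =>
      have h1 := hf (Fin.castSucc_lt_succ (i := i))
      have h2 : ((i.succ : Fin (k + 1)) : ℕ) = (i : ℕ) + 1 := Fin.val_succ i
      have h3 : ((i.castSucc : Fin (k + 1)) : ℕ) = (i : ℕ) := Fin.val_castSucc i
      rw [h3] at ih
      rw [h2]
      push_cast
      omega
  have h1 := key (Fin.last k)
  have h0 := (h 0).1
  have h2 := (h (Fin.last k)).2
  rw [Fin.val_last] at h1
  omega

/-- a Noetherian ring with a dualizing complex has finite Krull dimension -/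
theorem ringKrullDim_lt_top_of_dualizing (hω : Dual.IsDualizing A ω) : ringKrullDim A < ⊤ := by
  obtain ⟨δ, h1, h2⟩ := exists_dimFun ω hω
  obtain ⟨a, b, hab⟩ := hω.finite_injective_dimension
  have hbd : ∀ p : PrimeSpectrum A, a ≤ -δ p ∧ -δ p ≤ b := fun p =>
    haveI := p.isPrime
    bounds_of_NT ω a b hab p.asIdeal (-δ p) ((h1 p (-δ p)).2 rfl)
  have hmono := strictMono_of_covBy (fun p => -δ p) (fun p q hpq => by
    have := h2 p q hpq
    show -δ p = -δ q - 1
    omega)
  have hle : ringKrullDim A ≤ (((b - a).toNat : ℕ) : WithBot ℕ∞) := by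
    unfold ringKrullDim Order.krullDim
    refine iSup_le (fun s => ?_)
    have h3 := length_le_of_strictMono_int (fun i => -δ (s i))
      (fun i j hij => hmono _ _ (s.strictMono hij)) a b (fun i => hbd (s i))
    have h4 : s.length ≤ (b - a).toNat := by omega
    exact_mod_cast h4
  refine lt_of_le_of_lt hle ?_
  have h5 : (((b - a).toNat : ℕ) : WithBot ℕ∞) = (((b - a).toNat : ℕ∞) : WithBot ℕ∞) := rfl
  rw [h5]
  exact WithBot.coe_lt_coe.2 (ENat.natCast_lt_top _)

end Main

end Groth.Agent.H46.DimFun
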