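import Mathlib

/-!
# Length of the cokernel of a square matrix = order of its determinant

Core results:
* `length_coker_comp`: multiplicativity of coker length for composites (`ℕ∞`-valued).
* `cl`, `Q`: `cl M` = length of coker of `M`; `Q M : cl M = ord (det M)`.
* `Q_of_det_ne_zero`: over a domain in which every nonzero element has finite order,
  `Q M` holds for all `M` with nonzero determinant (factorisation over the fraction field into
  transvections and a diagonal matrix, clearing denominators).
-/

set_option autoImplicit false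
universe u

namespace Groth.Agent.H46.DetLen

open Matrix

section General
variable {R : Type*} [CommRing R] {V : Type*} [AddCommGroup V] [Module R V]

/-- multiplicativity of coker length for composites -/
theorem length_coker_comp (f g : V →ₗ[R] V) (hf : Function.Injective f) :
    Module.length R (V ⧸ LinearMap.range (f ∘ₗ g)) =
      Module.length R (V ⧸ LinearMap.range g) + Module.length R (V ⧸ LinearMap.range f) := by
  have h1 : LinearMap.range g ≤ (LinearMap.range (f ∘ₗ g)).comap f := by
    rintro x ⟨y, rfl⟩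
    exact ⟨y, rfl⟩
  have h2 : LinearMap.range (f ∘ₗ g) ≤ LinearMap.range f := by
    rintro x ⟨y, rfl⟩
    exact ⟨g y, rfl⟩
  refine Module.length_eq_add_of_exact (Submodule.mapQ _ _ f h1) (Submodule.factor h2) ?_ ?_ ?_
  · rw [← LinearMap.ker_eq_bot, LinearMap.ker_eq_bot']
    intro x hx
    obtain ⟨x, rfl⟩ := Submodule.Quotient.mk_surjective _ x
    rw [Submodule.mapQ_apply, Submodule.Quotient.mk_eq_zero] at hx
    obtain ⟨y, hy⟩ := hx
    have : g y = x := hf hy
    rw [Submodule.Quotient.mk_eq_zero]
    exact ⟨y, this⟩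
  · exact Submodule.factor_surjective h2
  · intro z
    obtain ⟨z, rfl⟩ := Submodule.Quotient.mk_surjective _ z
    rw [← Submodule.mkQ_apply, Submodule.factor_mk, Submodule.mkQ_apply,
      Submodule.Quotient.mk_eq_zero]
    constructor
    · rintro ⟨w, rfl⟩
      exact ⟨Submodule.Quotient.mk w, by rw [Submodule.mapQ_apply, Submodule.mkQ_apply]⟩
    · rintro ⟨w, hw⟩
      obtain ⟨w, rfl⟩ := Submodule.Quotient.mk_surjective _ w
      rw [Submodule.mapQ_apply, Submodule.mkQ_apply, Submodule.Quotient.eq] at hw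
      obtain ⟨y, hy⟩ := hw
      refine ⟨w - g y, ?_⟩
      simp only [LinearMap.coe_comp, Function.comp_apply] at hy
      rw [map_sub, hy]
      abel

end General

section Mat
variable {R : Type*} [CommRing R] {n : ℕ}

/-- length of the cokernel of a square matrix -/
noncomputable def cl (M : Matrix (Fin n) (Fin n) R) : ℕ∞ :=
  Module.length R ((Fin n → R) ⧸ LinearMap.range M.mulVecLin)

theorem cl_mul (M N : Matrix (Fin n) (Fin n) R) (hM : Function.Injective M.mulVecLin) :
    cl (M * N) = cl N + cl M := by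
  unfold cl
  rw [Matrix.mulVecLin_mul]
  exact length_coker_comp _ _ hM

theorem cl_of_isUnit_det (M : Matrix (Fin n) (Fin n) R) (h : IsUnit M.det) : cl M = 0 := by
  unfold cl
  rw [Module.length_eq_zero_iff]
  have hs : Function.Surjective M.mulVecLin :=
    Matrix.mulVec_surjective_iff_isUnit.mpr ((Matrix.isUnit_iff_isUnit_det M).mpr h)
  rw [Submodule.Quotient.subsingleton_iff]
  exact LinearMap.range_eq_top.mpr hs

theorem range_diagonal (u : Fin n → R) :
    LinearMap.range (Matrix.diagonal u).mulVecLin =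
      Submodule.pi Set.univ (fun k => (Ideal.span {u k} : Submodule R R)) := by
  ext y
  simp only [LinearMap.mem_range, Matrix.mulVecLin_apply, Submodule.mem_pi, Set.mem_univ,
    forall_true_left]
  constructor
  · rintro ⟨x, rfl⟩ k
    rw [Matrix.mulVec_diagonal]
    exact Ideal.mul_mem_right _ _ (Ideal.subset_span rfl)
  · intro h
    choose c hc using fun k => Ideal.mem_span_singleton'.mp (h k)
    refine ⟨c, ?_⟩
    ext k
    rw [Matrix.mulVec_diagonal, mul_comm, hc k]

theorem cl_diagonal (u : Fin n → R) : cl (Matrix.diagonal u) = ∑ k, Ring.ord R (u k) := by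
  unfold cl
  rw [range_diagonal, (Submodule.quotientPi _).length_eq, Module.length_pi_of_fintype]
  rfl

theorem ord_prod {ι : Type*} (s : Finset ι) (u : ι → R) (hu : ∀ k ∈ s, u k ∈ nonZeroDivisors R) :
    Ring.ord R (∏ k ∈ s, u k) = ∑ k ∈ s, Ring.ord R (u k) := by
  classical
  induction s using Finset.induction_on with
  | empty => simp
  | insert a s ha ih =>
    rw [Finset.prod_insert ha, Finset.sum_insert ha, Ring.ord_mul, ih]
    · intro k hk; exact hu k (Finset.mem_insert_of_mem hk)
    · exact Submonoid.prod_mem _ (fun k hk => hu k (Finset.mem_insert_of_mem hk))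

/-- the statement "length of coker = order of determinant" -/
def Q (M : Matrix (Fin n) (Fin n) R) : Prop := cl M = Ring.ord R M.det

theorem Q_mul {M N : Matrix (Fin n) (Fin n) R} (hM : Function.Injective M.mulVecLin)
    (hN : N.det ∈ nonZeroDivisors R) (qM : Q M) (qN : Q N) : Q (M * N) := by
  unfold Q at *
  rw [cl_mul M N hM, qM, qN, Matrix.det_mul, Ring.ord_mul R hN, add_comm]

theorem Q_diagonal (u : Fin n → R) (hu : ∀ k, u k ∈ nonZeroDivisors R) : Q (diagonal u) := by
  unfold Q
  rw [cl_diagonal, Matrix.det_diagonal, ord_prod _ _ (fun k _ => hu k)]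

theorem Q_of_isUnit_det (M : Matrix (Fin n) (Fin n) R) (h : IsUnit M.det) : Q M := by
  unfold Q
  rw [cl_of_isUnit_det M h, Ring.ord_of_isUnit h]

end Mat

section Domain
variable {D : Type*} [CommRing D] [IsDomain D] {K : Type*} [Field K] [Algebra D K]
  [IsFractionRing D K] {n : ℕ}

theorem inj_of_det_ne_zero (ψ : Matrix (Fin n) (Fin n) D) (h : ψ.det ≠ 0) :
    Function.Injective ψ.mulVecLin := by
  rw [injective_iff_map_eq_zero]
  intro v hv
  exact Matrix.eq_zero_of_mulVec_eq_zero h hv

theorem det_ne_zero_of_map (ψ : Matrix (Fin n) (Fin n) D) (M : Matrix (Fin n) (Fin n) K) (a : D)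
    (ha : a ≠ 0) (hM : M.det ≠ 0) (h : ψ.map (algebraMap D K) = algebraMap D K a • M) :
    ψ.det ≠ 0 := by
  intro h0
  have h1 : (algebraMap D K) ψ.det = (ψ.map (algebraMap D K)).det := by
    rw [RingHom.map_det]; rfl
  rw [h0, map_zero, h, Matrix.det_smul] at h1
  have : algebraMap D K a ≠ 0 := by
    rw [Ne, map_eq_zero_iff _ (IsFractionRing.injective D K)]; exact ha
  exact (mul_ne_zero (pow_ne_zero _ this) hM) h1.symm

/-- the statement on a matrix over the fraction field: all its integral multiples satisfy `Q`. -/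
def P (M : Matrix (Fin n) (Fin n) K) : Prop :=
  M.det ≠ 0 ∧ ∀ (ψ : Matrix (Fin n) (Fin n) D) (a : D), a ≠ 0 →
    ψ.map (algebraMap D K) = algebraMap D K a • M → Q ψ

theorem exists_int_mul (M : Matrix (Fin n) (Fin n) K) :
    ∃ (b : D) (ψ : Matrix (Fin n) (Fin n) D), b ≠ 0 ∧
      ψ.map (algebraMap D K) = algebraMap D K b • M := by
  obtain ⟨b, hb⟩ := IsLocalization.exist_integer_multiples (nonZeroDivisors D)
    (Finset.univ : Finset (Fin n × Fin n)) (fun p => M p.1 p.2)
  choose ψ hψ using fun p => hb p (Finset.mem_univ p)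
  refine ⟨b, fun i j => ψ (i, j), nonZeroDivisors.ne_zero b.2, ?_⟩
  ext i j
  show algebraMap D K (ψ (i, j)) = _
  rw [hψ (i, j), Matrix.smul_apply, Algebra.smul_def, smul_eq_mul]


theorem map_injective' {ψ ψ' : Matrix (Fin n) (Fin n) D}
    (h : ψ.map (algebraMap D K) = ψ'.map (algebraMap D K)) : ψ = ψ' := by
  ext i j
  apply IsFractionRing.injective D K
  exact congrFun (congrFun h i) j

theorem nzd_of_ne_zero {a : D} (ha : a ≠ 0) : a ∈ nonZeroDivisors D :=
  mem_nonZeroDivisors_of_ne_zero ha

theorem P_mul (hfin : ∀ a : D, a ≠ 0 → Ring.ord D a ≠ ⊤) {M N : Matrix (Fin n) (Fin n) K}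
    (hM : P (D := D) M) (hN : P (D := D) N) : P (D := D) (M * N) := by
  refine ⟨by rw [Matrix.det_mul]; exact mul_ne_zero hM.1 hN.1, fun ψ a ha h => ?_⟩
  obtain ⟨b₁, ψ₁, hb₁, h₁⟩ := exists_int_mul (D := D) M
  obtain ⟨b₂, ψ₂, hb₂, h₂⟩ := exists_int_mul (D := D) N
  have q₁ : Q ψ₁ := hM.2 ψ₁ b₁ hb₁ h₁
  have q₂ : Q ψ₂ := hN.2 ψ₂ b₂ hb₂ h₂
  have d₁ : ψ₁.det ≠ 0 := det_ne_zero_of_map ψ₁ M b₁ hb₁ hM.1 h₁
  have d₂ : ψ₂.det ≠ 0 := det_ne_zero_of_map ψ₂ N b₂ hb₂ hN.1 h₂
  have dψ : ψ.det ≠ 0 := det_ne_zero_of_map ψ (M * N) a ha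
    (by rw [Matrix.det_mul]; exact mul_ne_zero hM.1 hN.1) h
  have key : (diagonal fun _ => b₁ * b₂) * ψ = (diagonal fun _ => a) * (ψ₁ * ψ₂) := by
    rw [← Matrix.smul_eq_diagonal_mul, ← Matrix.smul_eq_diagonal_mul]
    apply map_injective' (K := K)
    rw [Matrix.map_smul' _ _ _ (map_mul _), Matrix.map_smul' _ _ _ (map_mul _), h,
      Matrix.map_mul, h₁, h₂, Matrix.smul_mul, Matrix.mul_smul, smul_smul, smul_smul, smul_smul,
      map_mul]
    congr 1
    ring
  have dab : (diagonal fun _ : Fin n => a).det ≠ 0 := by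
    rw [Matrix.det_diagonal]; exact Finset.prod_ne_zero_iff.mpr (fun _ _ => ha)
  have dbb : (diagonal fun _ : Fin n => b₁ * b₂).det ≠ 0 := by
    rw [Matrix.det_diagonal]; exact Finset.prod_ne_zero_iff.mpr (fun _ _ => mul_ne_zero hb₁ hb₂)
  have qR : Q ((diagonal fun _ => a) * (ψ₁ * ψ₂)) := by
    refine Q_mul (inj_of_det_ne_zero _ dab) (nzd_of_ne_zero ?_)
      (Q_diagonal _ (fun _ => nzd_of_ne_zero ha))
      (Q_mul (inj_of_det_ne_zero _ d₁) (nzd_of_ne_zero d₂) q₁ q₂)
    rw [Matrix.det_mul]; exact mul_ne_zero d₁ d₂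
  rw [← key] at qR
  have qb : Q (diagonal fun _ : Fin n => b₁ * b₂) :=
    Q_diagonal _ (fun _ => nzd_of_ne_zero (mul_ne_zero hb₁ hb₂))
  unfold Q at qR qb ⊢
  rw [cl_mul _ _ (inj_of_det_ne_zero _ dbb), Matrix.det_mul, Ring.ord_mul D (nzd_of_ne_zero dψ),
    qb, add_comm] at qR
  exact ENat.add_right_injective_of_ne_top (hfin _ dbb) qR

theorem P_diagonal (w : Fin n → K) (hw : ∀ k, w k ≠ 0) : P (D := D) (diagonal w) := by
  refine ⟨by rw [Matrix.det_diagonal]; exact Finset.prod_ne_zero_iff.mpr (fun k _ => hw k),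
    fun ψ a ha h => ?_⟩
  have ha' : algebraMap D K a ≠ 0 := by
    rw [Ne, map_eq_zero_iff _ (IsFractionRing.injective D K)]; exact ha
  have hψ : ψ = diagonal (fun k => ψ k k) := by
    ext i j
    by_cases hij : i = j
    · subst hij; simp
    · rw [Matrix.diagonal_apply_ne _ hij]
      apply IsFractionRing.injective D K
      have := congrFun (congrFun h i) j
      rw [Matrix.map_apply, Matrix.smul_apply, Matrix.diagonal_apply_ne _ hij, smul_zero] at this
      rw [this, map_zero]
  rw [hψ]
  refine Q_diagonal _ (fun k => nzd_of_ne_zero ?_)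
  intro h0
  have := congrFun (congrFun h k) k
  rw [Matrix.map_apply, Matrix.smul_apply, Matrix.diagonal_apply_eq, h0, map_zero, smul_eq_mul] at this
  exact (mul_ne_zero ha' (hw k)) this.symm

theorem P_transvection (t : TransvectionStruct (Fin n) K) : P (D := D) t.toMatrix := by
  refine ⟨by rw [TransvectionStruct.det]; exact one_ne_zero, fun ψ a ha h => ?_⟩
  have ha' : algebraMap D K a ≠ 0 := by
    rw [Ne, map_eq_zero_iff _ (IsFractionRing.injective D K)]; exact ha
  have hij := t.hij
  have hent : ∀ k l, algebraMap D K (ψ k l) =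
      algebraMap D K a * ((if k = l then 1 else 0) + (if t.i = k ∧ t.j = l then t.c else 0)) := by
    intro k l
    have := congrFun (congrFun h k) l
    rw [Matrix.map_apply, Matrix.smul_apply, smul_eq_mul] at this
    rw [this, TransvectionStruct.toMatrix, transvection, Matrix.add_apply, Matrix.one_apply,
      Matrix.single_apply]
  set b : D := ψ t.i t.j with hb
  set u : Fin n → D := fun k => if k = t.i then 1 else a with hu
  set v : Fin n → D := fun l => if l = t.i then a else 1 with hv
  have hψ : ψ = diagonal u * transvection t.i t.j b * diagonal v := by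
    ext k l
    apply IsFractionRing.injective D K
    rw [hent k l, Matrix.mul_diagonal, Matrix.diagonal_mul, transvection, Matrix.add_apply,
      Matrix.one_apply, Matrix.single_apply, map_mul, map_mul, map_add, hu, hv]
    have hbv : algebraMap D K b = algebraMap D K a * t.c := by
      rw [hb, hent t.i t.j]; simp [hij]
    by_cases hk : k = t.i
    · by_cases hl : l = t.i
      · subst hk; subst hl
        simp [hij.symm]
      · by_cases hlj : t.j = l
        · subst hk; subst hlj
          simp [hij, hij.symm, hbv]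
        · subst hk
          have : ¬ (t.i = l) := fun h => hl h.symm
          simp [hlj, hl, this]
    · by_cases hl : l = t.i
      · subst hl
        have h1 : ¬ (t.i = k) := fun h => hk h.symm
        simp [hk, h1]
      · have h1 : ¬ (t.i = k) := fun h => hk h.symm
        by_cases hkl : k = l
        · subst hkl; simp [hk, h1]
        · simp [hk, hl, h1, hkl]
  have hu0 : ∀ k, u k ≠ 0 := by
    intro k; simp only [hu]; split_ifs
    · exact one_ne_zero
    · exact ha
  have hv0 : ∀ k, v k ≠ 0 := by
    intro k; simp only [hv]; split_ifs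
    · exact ha
    · exact one_ne_zero
  have du : (diagonal u).det ≠ 0 := by
    rw [Matrix.det_diagonal]; exact Finset.prod_ne_zero_iff.mpr (fun k _ => hu0 k)
  have dv : (diagonal v).det ≠ 0 := by
    rw [Matrix.det_diagonal]; exact Finset.prod_ne_zero_iff.mpr (fun k _ => hv0 k)
  have dt : (transvection t.i t.j b).det = 1 := det_transvection_of_ne _ _ hij _
  have dut : (diagonal u * transvection t.i t.j b).det ≠ 0 := by
    rw [Matrix.det_mul, dt, mul_one]; exact du
  rw [hψ]
  refine Q_mul (inj_of_det_ne_zero _ dut) (nzd_of_ne_zero dv) ?_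
    (Q_diagonal _ (fun k => nzd_of_ne_zero (hv0 k)))
  refine Q_mul (inj_of_det_ne_zero _ du) ?_ (Q_diagonal _ (fun k => nzd_of_ne_zero (hu0 k)))
    (Q_of_isUnit_det _ (by rw [dt]; exact isUnit_one))
  rw [dt]; exact one_mem _

theorem P_list (hfin : ∀ a : D, a ≠ 0 → Ring.ord D a ≠ ⊤)
    (L : List (TransvectionStruct (Fin n) K)) :
    P (D := D) (L.map TransvectionStruct.toMatrix).prod := by
  induction L with
  | nil =>
    rw [List.map_nil, List.prod_nil, ← Matrix.diagonal_one]
    exact P_diagonal _ (fun _ => one_ne_zero)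
  | cons t L ih =>
    rw [List.map_cons, List.prod_cons]
    exact P_mul hfin (P_transvection t) ih

end Domain

/-- **Main theorem, domain case.** Over a domain in which every nonzero element has finite
order of vanishing, the cokernel of a square matrix with nonzero determinant has length the
order of the determinant. -/
theorem Q_of_det_ne_zero {D : Type u} [CommRing D] [IsDomain D]
    (hfin : ∀ a : D, a ≠ 0 → Ring.ord D a ≠ ⊤) {n : ℕ} (ψ : Matrix (Fin n) (Fin n) D)
    (h : ψ.det ≠ 0) : Q ψ := by
  let K := FractionRing D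
  obtain ⟨L, L', w, hM⟩ :=
    Matrix.Pivot.exists_list_transvec_mul_diagonal_mul_list_transvec (ψ.map (algebraMap D K))
  have hdet : (ψ.map (algebraMap D K)).det ≠ 0 := by
    have h1 : (algebraMap D K) ψ.det = (ψ.map (algebraMap D K)).det := by
      rw [RingHom.map_det]; rfl
    rw [← h1, Ne, map_eq_zero_iff _ (IsFractionRing.injective D K)]
    exact h
  have hw : ∀ k, w k ≠ 0 := by
    rw [hM, Matrix.det_mul, Matrix.det_mul, TransvectionStruct.det_toMatrix_prod,
      TransvectionStruct.det_toMatrix_prod, one_mul, mul_one, Matrix.det_diagonal] at hdet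
    intro k
    exact Finset.prod_ne_zero_iff.mp hdet k (Finset.mem_univ k)
  have hP : P (D := D) (ψ.map (algebraMap D K)) := by
    rw [hM]
    exact P_mul hfin (P_mul hfin (P_list hfin L) (P_diagonal w hw)) (P_list hfin L')
  exact hP.2 ψ 1 one_ne_zero (by rw [map_one, one_smul])

end Groth.Agent.H46.DetLen
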