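import Mathlib
import Groth.Agent.H46.DetLen
import Groth.Agent.H15.Pur21

/-!
# Lattice indices and the determinant

`idx L N = length (L / (N ∩ L))`; additivity, invariance under injective maps, finiteness for
lattices over a one-dimensional Noetherian domain, and the computation for free lattices via
`DetLen.Q_of_det_ne_zero`.
-/

set_option autoImplicit false
universe u

namespace Groth.Agent.H46.LatDist

open Groth.Agent.H46.DetLen

section Idx
variable {A : Type*} [CommRing A] {V : Type*} [AddCommGroup V] [Module A V]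

/-- the length of `L / (N ∩ L)` -/
noncomputable def idx (L N : Submodule A V) : ℕ∞ := Module.length A (↥L ⧸ N.submoduleOf L)

theorem idx_add {N L P : Submodule A V} (h₁ : N ≤ L) (h₂ : L ≤ P) :
    idx P N = idx L N + idx P L := by
  unfold idx
  have hc : N.submoduleOf L ≤ (N.submoduleOf P).comap (Submodule.inclusion h₂) := by
    intro x hx
    exact hx
  have hm : N.submoduleOf P ≤ L.submoduleOf P := fun x hx => h₁ hx
  refine Module.length_eq_add_of_exact (Submodule.mapQ _ _ (Submodule.inclusion h₂) hc)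
    (Submodule.factor hm) ?_ (Submodule.factor_surjective hm) ?_
  · rw [← LinearMap.ker_eq_bot, LinearMap.ker_eq_bot']
    intro x hx
    obtain ⟨x, rfl⟩ := Submodule.Quotient.mk_surjective _ x
    rw [Submodule.mapQ_apply, Submodule.Quotient.mk_eq_zero] at hx
    rw [Submodule.Quotient.mk_eq_zero]
    exact hx
  · intro z
    obtain ⟨z, rfl⟩ := Submodule.Quotient.mk_surjective _ z
    rw [← Submodule.mkQ_apply, Submodule.factor_mk, Submodule.mkQ_apply,
      Submodule.Quotient.mk_eq_zero]
    constructor
    · intro hz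
      have hz' : (z : V) ∈ L := hz
      refine ⟨Submodule.Quotient.mk ⟨z, hz'⟩, ?_⟩
      rw [Submodule.mapQ_apply, Submodule.mkQ_apply]
      rfl
    · rintro ⟨w, hw⟩
      obtain ⟨w, rfl⟩ := Submodule.Quotient.mk_surjective _ w
      rw [Submodule.mapQ_apply, Submodule.mkQ_apply, Submodule.Quotient.eq] at hw
      have hw' : ((w : V) - (z : V)) ∈ N := hw
      show (z : V) ∈ L
      have : (z : V) = (w : V) - ((w : V) - (z : V)) := by abel
      rw [this]
      exact L.sub_mem w.2 (h₁ hw')

theorem idx_map (ψ : V →ₗ[A] V) (hψ : Function.Injective ψ) (L N : Submodule A V) :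
    idx (L.map ψ) (N.map ψ) = idx L N := by
  unfold idx
  have h : (N.submoduleOf L).map
      ((Submodule.equivMapOfInjective ψ hψ L : L ≃ₗ[A] L.map ψ) : L →ₗ[A] L.map ψ) =
      (N.map ψ).submoduleOf (L.map ψ) := by
    ext ⟨y, hy⟩
    constructor
    · rintro ⟨x, hx, hxy⟩
      have hx' : (x : V) ∈ N := hx
      show y ∈ N.map ψ
      have : ψ (x : V) = y := congrArg Subtype.val hxy
      exact ⟨x, hx', this⟩
    · intro hy'
      have hy'' : y ∈ N.map ψ := hy'
      obtain ⟨x, hxN, hxy⟩ := hy''
      obtain ⟨l, hlL, hly⟩ := hy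
      have hxl : x = l := hψ (hxy.trans hly.symm)
      refine ⟨⟨x, hxl ▸ hlL⟩, hxN, ?_⟩
      apply Subtype.ext
      exact hxy
  exact (Submodule.Quotient.equiv _ _ (Submodule.equivMapOfInjective ψ hψ L) h).length_eq.symm

theorem idx_eq_of_range {L : Submodule A V} (f : L →ₗ[A] L) (N : Submodule A V)
    (h : N.submoduleOf L = LinearMap.range f) :
    idx L N = Module.length A (↥L ⧸ LinearMap.range f) := by
  unfold idx
  rw [h]

end Idx

section Conj
variable {A : Type*} [CommRing A] {X Y : Type*} [AddCommGroup X] [Module A X]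
  [AddCommGroup Y] [Module A Y]

theorem length_coker_conj (e : X ≃ₗ[A] Y) (f : X →ₗ[A] X) (g : Y →ₗ[A] Y)
    (h : ∀ x, e (f x) = g (e x)) :
    Module.length A (X ⧸ LinearMap.range f) = Module.length A (Y ⧸ LinearMap.range g) := by
  have hr : (LinearMap.range f).map (e : X →ₗ[A] Y) = LinearMap.range g := by
    ext y
    constructor
    · rintro ⟨_, ⟨x, rfl⟩, rfl⟩
      exact ⟨e x, (h x).symm⟩
    · rintro ⟨y', rfl⟩
      refine ⟨f (e.symm y'), ⟨_, rfl⟩, ?_⟩
      show e (f (e.symm y')) = g y'
      rw [h, e.apply_symm_apply]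
  exact (Submodule.Quotient.equiv _ _ e hr).length_eq

end Conj

section Lattice
variable {A : Type u} [CommRing A] [IsDomain A] {K : Type u} [Field K] [Algebra A K]
  [IsFractionRing A K] {V : Type u} [AddCommGroup V] [Module K V] [Module A V]
  [IsScalarTower A K V]

theorem exists_smul_mem (N : Submodule A V) (hN : Submodule.span K (N : Set V) = ⊤) (x : V) :
    ∃ s : A, s ≠ 0 ∧ s • x ∈ N := by
  have hx : x ∈ Submodule.span K (N : Set V) := by rw [hN]; trivial
  induction hx using Submodule.span_induction with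
  | mem x hx => exact ⟨1, one_ne_zero, by rwa [one_smul]⟩
  | zero => exact ⟨1, one_ne_zero, by rw [smul_zero]; exact N.zero_mem⟩
  | add x y _ _ hx hy =>
    obtain ⟨s, hs, hsx⟩ := hx
    obtain ⟨t, ht, hty⟩ := hy
    refine ⟨s * t, mul_ne_zero hs ht, ?_⟩
    rw [smul_add]
    refine N.add_mem ?_ ?_
    · rw [mul_comm, mul_smul]; exact N.smul_mem _ hsx
    · rw [mul_smul]; exact N.smul_mem _ hty
  | smul c x _ hx =>
    obtain ⟨s, hs, hsx⟩ := hx
    obtain ⟨p, q, hq, hc⟩ := IsFractionRing.div_surjective (A := A) c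
    have hq0 : q ≠ 0 := nonZeroDivisors.ne_zero hq
    have hq' : algebraMap A K q ≠ 0 := by
      rw [Ne, map_eq_zero_iff _ (IsFractionRing.injective A K)]; exact hq0
    refine ⟨q * s, mul_ne_zero hq0 hs, ?_⟩
    have : (q * s) • c • x = p • s • x := by
      rw [← algebraMap_smul K (q * s), ← algebraMap_smul K p, ← algebraMap_smul K s, smul_smul,
        smul_smul, ← hc, map_mul]
      congr 1
      field_simp
    rw [this]
    exact N.smul_mem _ hsx

theorem exists_smul_mem_finset (N : Submodule A V) (hN : Submodule.span K (N : Set V) = ⊤)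
    {ι : Type*} (S : Finset ι) (x : ι → V) : ∃ s : A, s ≠ 0 ∧ ∀ i ∈ S, s • x i ∈ N := by
  classical
  induction S using Finset.induction_on with
  | empty => exact ⟨1, one_ne_zero, by simp⟩
  | insert i S hi ih =>
    obtain ⟨s, hs, h⟩ := ih
    obtain ⟨t, ht, h'⟩ := exists_smul_mem (K := K) N hN (x i)
    refine ⟨s * t, mul_ne_zero hs ht, ?_⟩
    intro j hj
    rw [Finset.mem_insert] at hj
    rcases hj with rfl | hj
    · rw [mul_smul]; exact N.smul_mem _ h'
    · rw [mul_comm, mul_smul]; exact N.smul_mem _ (h j hj)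

theorem exists_smul_le (N L : Submodule A V) (hN : Submodule.span K (N : Set V) = ⊤)
    (hL : L.FG) : ∃ s : A, s ≠ 0 ∧ ∀ y ∈ L, s • y ∈ N := by
  obtain ⟨S, rfl⟩ := hL
  obtain ⟨s, hs, h⟩ := exists_smul_mem_finset (K := K) N hN S id
  refine ⟨s, hs, fun y hy => ?_⟩
  induction hy using Submodule.span_induction with
  | mem x hx => exact h x hx
  | zero => rw [smul_zero]; exact N.zero_mem
  | add x y _ _ hx hy => rw [smul_add]; exact N.add_mem hx hy
  | smul c x _ hx => rw [smul_comm]; exact N.smul_mem _ hx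

theorem idx_lt_top [IsNoetherianRing A] (hdim : ringKrullDim A ≤ 1) (L N : Submodule A V)
    (hL : L.FG) (hN : Submodule.span K (N : Set V) = ⊤) : idx L N < ⊤ := by
  obtain ⟨s, hs, h⟩ := exists_smul_le (K := K) N L hN hL
  haveI : Module.Finite A L := Module.Finite.iff_fg.mpr hL
  unfold idx
  refine Groth.Agent.H15.length_lt_top_of_isTorsionBy A hdim s
    (mem_nonZeroDivisors_of_ne_zero hs) _ ?_
  intro x
  obtain ⟨x, rfl⟩ := Submodule.Quotient.mk_surjective _ x
  rw [← Submodule.Quotient.mk_smul, Submodule.Quotient.mk_eq_zero]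
  exact h x x.2

/-- coordinates of an element of the `A`-span of a `K`-basis. -/
theorem repr_span_eq {n : ℕ} (b : Module.Basis (Fin n) K V) (hli : LinearIndependent A b)
    (y : Submodule.span A (Set.range b)) (i : Fin n) :
    b.repr (y : V) i = algebraMap A K ((Module.Basis.span hli).repr y i) := by
  have h1 : (y : V) = ∑ j, (algebraMap A K ((Module.Basis.span hli).repr y j)) • b j := by
    conv_lhs => rw [← (Module.Basis.span hli).sum_repr y]
    rw [Submodule.coe_sum]
    refine Finset.sum_congr rfl (fun j _ => ?_)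
    rw [Submodule.coe_smul, Module.Basis.coe_span_apply, algebraMap_smul]
  conv_lhs => rw [h1]
  rw [Module.Basis.repr_sum_self]

/-- **Free lattice computation.** -/
theorem idx_free (hfin : ∀ a : A, a ≠ 0 → Ring.ord A a ≠ ⊤) {n : ℕ}
    (b : Module.Basis (Fin n) K V) (θ : V →ₗ[K] V)
    (hθ : ∀ i, θ (b i) ∈ Submodule.span A (Set.range b)) (hdet : LinearMap.det θ ≠ 0) :
    ∃ x : A, algebraMap A K x = LinearMap.det θ ∧
      idx (Submodule.span A (Set.range b))
        ((Submodule.span A (Set.range b)).map (θ.restrictScalars A)) = Ring.ord A x := by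
  classical
  set F : Submodule A V := Submodule.span A (Set.range b) with hF
  have hli : LinearIndependent A b := by
    refine b.linearIndependent.restrict_scalars ?_
    intro r r' h
    apply IsFractionRing.injective A K
    simpa [Algebra.smul_def] using h
  set bF : Module.Basis (Fin n) A F := Module.Basis.span hli with hbF
  have hθF : ∀ x ∈ F, (θ.restrictScalars A) x ∈ F := by
    intro x hx
    induction hx using Submodule.span_induction with
    | mem x hx => obtain ⟨i, rfl⟩ := hx; exact hθ i
    | zero => rw [map_zero]; exact F.zero_mem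
    | add x y _ _ hx hy => rw [map_add]; exact F.add_mem hx hy
    | smul c x _ hx => rw [map_smul]; exact F.smul_mem _ hx
  set θF : F →ₗ[A] F := (θ.restrictScalars A).restrict hθF with hθF'
  set Ψ : Matrix (Fin n) (Fin n) A := LinearMap.toMatrix bF bF θF with hΨ
  have hmap : Ψ.map (algebraMap A K) = LinearMap.toMatrix b b θ := by
    ext i j
    rw [Matrix.map_apply, hΨ, LinearMap.toMatrix_apply, LinearMap.toMatrix_apply,
      ← repr_span_eq b hli]
    congr 2
    rw [hθF', LinearMap.restrict_coe_apply, hbF, Module.Basis.coe_span_apply]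
    rfl
  have hdetΨ : algebraMap A K Ψ.det = LinearMap.det θ := by
    rw [← LinearMap.det_toMatrix b θ, ← hmap, RingHom.map_det]
    rfl
  have hΨ0 : Ψ.det ≠ 0 := by
    intro h0
    rw [h0, map_zero] at hdetΨ
    exact hdet hdetΨ.symm
  refine ⟨Ψ.det, hdetΨ, ?_⟩
  have hsub : (F.map (θ.restrictScalars A)).submoduleOf F = LinearMap.range θF := by
    ext ⟨y, hy⟩
    constructor
    · intro h
      have h' : y ∈ F.map (θ.restrictScalars A) := h
      obtain ⟨x, hx, hxy⟩ := h'
      exact ⟨⟨x, hx⟩, Subtype.ext hxy⟩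
    · rintro ⟨x, hx⟩
      show y ∈ F.map (θ.restrictScalars A)
      exact ⟨x, x.2, congrArg Subtype.val hx⟩
  rw [idx_eq_of_range θF _ hsub]
  have hconj := length_coker_conj bF.equivFun θF Ψ.mulVecLin (by
    intro x
    rw [Matrix.mulVecLin_apply, hΨ]
    exact (LinearMap.toMatrix_mulVec_repr bF bF θF x).symm)
  rw [hconj]
  exact Q_of_det_ne_zero hfin Ψ hΨ0

end Lattice

end Groth.Agent.H46.LatDist
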