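import Mathlib
import Groth.Agent.H46.LatDist
import Groth.Prelude.Def_Tame

/-!
# Lattice distance = order of the determinant (dimension one Noetherian domains)
-/

set_option autoImplicit false
universe u

namespace Groth.Agent.H46.LatDist

open Groth.Agent.H46.DetLen

section
variable {A : Type u} [CommRing A] [IsDomain A] {K : Type u} [Field K] [Algebra A K]
  [IsFractionRing A K]

theorem ordFrac_div [IsNoetherianRing A] [Ring.KrullDimLE 1 A] (x y : A) (hx : x ≠ 0)
    (hy : y ≠ 0) :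
    CycAlg.ordFrac A K (algebraMap A K x / algebraMap A K y) =
      ((Ring.ord A x).toNat : ℤ) - ((Ring.ord A y).toNat : ℤ) := by
  have hcond : IsNoetherianRing A ∧ Ring.KrullDimLE 1 A ∧ Nontrivial A ∧ IsFractionRing A K :=
    ⟨inferInstance, inferInstance, inferInstance, inferInstance⟩
  unfold CycAlg.ordFrac
  rw [dif_pos hcond]
  have hnx : Ring.ord A x = (((Ring.ord A x).toNat : ℕ) : ℕ∞) :=
    (ENat.coe_toNat (Ring.ord_ne_top (mem_nonZeroDivisors_of_ne_zero hx))).symm
  have hny : Ring.ord A y = (((Ring.ord A y).toNat : ℕ) : ℕ∞) :=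
    (ENat.coe_toNat (Ring.ord_ne_top (mem_nonZeroDivisors_of_ne_zero hy))).symm
  rw [map_div₀, Ring.ordFrac_eq_ord _ hx, Ring.ordFrac_eq_ord _ hy,
    Ring.ordMonoidWithZeroHom_eq_coe _ (mem_nonZeroDivisors_of_ne_zero hx) hnx,
    Ring.ordMonoidWithZeroHom_eq_coe _ (mem_nonZeroDivisors_of_ne_zero hy) hny,
    ← WithZero.coe_div, WithZero.recZeroCoe_coe, toAdd_div, toAdd_ofAdd, toAdd_ofAdd]

variable {V : Type u} [AddCommGroup V] [Module K V] [Module A V] [IsScalarTower A K V]

theorem map_le_of_basis {n : ℕ} (b : Module.Basis (Fin n) K V) (θ : V →ₗ[K] V)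
    (hθ : ∀ i, θ (b i) ∈ Submodule.span A (Set.range b)) :
    (Submodule.span A (Set.range b)).map (θ.restrictScalars A) ≤
      Submodule.span A (Set.range b) := by
  rintro _ ⟨x, hx, rfl⟩
  induction hx using Submodule.span_induction with
  | mem x hx => obtain ⟨i, rfl⟩ := hx; exact hθ i
  | zero => rw [map_zero]; exact Submodule.zero_mem _
  | add x y _ _ hx hy => rw [map_add]; exact Submodule.add_mem _ hx hy
  | smul c x _ hx => rw [map_smul]; exact Submodule.smul_mem _ _ hx

theorem span_map_eq_top {n : ℕ} (b : Module.Basis (Fin n) K V) (θ : V →ₗ[K] V)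
    (hθ : Function.Surjective θ) :
    Submodule.span K (((Submodule.span A (Set.range b)).map (θ.restrictScalars A) :
      Submodule A V) : Set V) = ⊤ := by
  rw [eq_top_iff]
  have h1 : (⊤ : Submodule K V) = (Submodule.span K (Set.range b)).map θ := by
    rw [b.span_eq, Submodule.map_top, LinearMap.range_eq_top.mpr hθ]
  rw [h1, Submodule.map_span]
  apply Submodule.span_mono
  rintro _ ⟨v, hv, rfl⟩
  exact ⟨v, Submodule.subset_span hv, rfl⟩

theorem nat_of_lt_top {x : ℕ∞} (h : x < ⊤) : ∃ m : ℕ, x = m :=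
  ⟨x.toNat, (ENat.coe_toNat h.ne).symm⟩

theorem main [IsNoetherianRing A] (hA : ringKrullDim A ≤ 1) [FiniteDimensional K V]
    (M : Submodule A V) [Submodule.IsLattice K M] (φ : V ≃ₗ[K] V) :
    Submodule.IsLattice K (M.map (φ.toLinearMap.restrictScalars A)) ∧
      idx M (M ⊓ M.map (φ.toLinearMap.restrictScalars A)) < ⊤ ∧
      idx (M.map (φ.toLinearMap.restrictScalars A))
        (M ⊓ M.map (φ.toLinearMap.restrictScalars A)) < ⊤ ∧
      ((idx M (M ⊓ M.map (φ.toLinearMap.restrictScalars A))).toNat : ℤ) -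
        ((idx (M.map (φ.toLinearMap.restrictScalars A))
          (M ⊓ M.map (φ.toLinearMap.restrictScalars A))).toNat : ℤ) =
        CycAlg.ordFrac A K (LinearMap.det φ.toLinearMap) := by
  classical
  haveI hK1 : Ring.KrullDimLE 1 A := by
    rw [Ring.krullDimLE_iff]; exact_mod_cast hA
  have hfin : ∀ a : A, a ≠ 0 → Ring.ord A a ≠ ⊤ :=
    fun a ha => Ring.ord_ne_top (mem_nonZeroDivisors_of_ne_zero ha)
  set φA : V →ₗ[A] V := φ.toLinearMap.restrictScalars A with hφA
  have hφinj : Function.Injective φA := φ.injective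
  set M' := M.map φA with hM'
  have hMfg : M.FG := Submodule.IsLattice.fg
  have hMsp : Submodule.span K (M : Set V) = ⊤ := Submodule.IsLattice.span_eq_top
  have hM'fg : M'.FG := hMfg.map _
  have hM'sp : Submodule.span K (M' : Set V) = ⊤ := by
    have : (M' : Set V) = φ.toLinearMap '' (M : Set V) := by
      rw [hM', Submodule.map_coe]; rfl
    rw [this, Submodule.span_image, hMsp, Submodule.map_top, LinearMap.range_eq_top]
    exact φ.surjective
  have hlat : Submodule.IsLattice K M' := ⟨hM'fg, hM'sp⟩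
  refine ⟨hlat, ?_⟩
  -- a `K`-basis inside `M`
  set n := Module.finrank K V with hn
  let b₀ : Module.Basis (Fin n) K V := Module.finBasis K V
  choose s hs0 hsM using fun i => exists_smul_mem (K := K) M hMsp (b₀ i)
  have hsu : ∀ i, IsUnit (algebraMap A K (s i)) := fun i => by
    rw [isUnit_iff_ne_zero, Ne, map_eq_zero_iff _ (IsFractionRing.injective A K)]; exact hs0 i
  let b : Module.Basis (Fin n) K V := b₀.isUnitSMul hsu
  have hb : ∀ i, b i ∈ M := fun i => by
    rw [Module.Basis.isUnitSMul_apply, algebraMap_smul]; exact hsM i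
  set F : Submodule A V := Submodule.span A (Set.range b) with hF
  have hFM : F ≤ M := Submodule.span_le.mpr (by rintro _ ⟨i, rfl⟩; exact hb i)
  have hFfg : F.FG := Submodule.fg_span (Set.finite_range b)
  have hFsp : Submodule.span K (F : Set V) = ⊤ := by
    rw [eq_top_iff, ← b.span_eq]
    exact Submodule.span_mono Submodule.subset_span
  -- clearing denominators of `φ`
  obtain ⟨a, ha0, haF⟩ :=
    exists_smul_mem_finset (K := K) F hFsp Finset.univ (fun i => φ (b i))
  have ha' : algebraMap A K a ≠ 0 := by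
    rw [Ne, map_eq_zero_iff _ (IsFractionRing.injective A K)]; exact ha0
  set θ : V →ₗ[K] V := (algebraMap A K a) • φ.toLinearMap with hθ
  set θ₂ : V →ₗ[K] V := (algebraMap A K a) • LinearMap.id with hθ₂
  have hθb : ∀ i, θ (b i) ∈ F := fun i => by
    rw [hθ, LinearMap.smul_apply, algebraMap_smul]; exact haF i (Finset.mem_univ i)
  have hθ₂b : ∀ i, θ₂ (b i) ∈ F := fun i => by
    rw [hθ₂, LinearMap.smul_apply, LinearMap.id_apply, algebraMap_smul]
    exact F.smul_mem _ (Submodule.subset_span ⟨i, rfl⟩)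
  have hdetφ : LinearMap.det φ.toLinearMap ≠ 0 := (LinearEquiv.isUnit_det' φ).ne_zero
  have hdetθ : LinearMap.det θ = (algebraMap A K a) ^ n * LinearMap.det φ.toLinearMap := by
    rw [hθ, LinearMap.det_smul]
  have hdetθ₂ : LinearMap.det θ₂ = (algebraMap A K a) ^ n := by
    rw [hθ₂, LinearMap.det_smul, LinearMap.det_id, mul_one]
  have hθsurj : Function.Surjective θ := by
    intro v
    refine ⟨(algebraMap A K a)⁻¹ • φ.symm v, ?_⟩
    rw [hθ, LinearMap.smul_apply, map_smul, smul_smul, mul_inv_cancel₀ ha', one_smul]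
    exact φ.apply_symm_apply v
  have hθ₂surj : Function.Surjective θ₂ := by
    intro v
    refine ⟨(algebraMap A K a)⁻¹ • v, ?_⟩
    rw [hθ₂, LinearMap.smul_apply, LinearMap.id_apply, smul_smul, mul_inv_cancel₀ ha', one_smul]
  obtain ⟨x, hx, hidx⟩ := idx_free hfin b θ hθb
    (by rw [hdetθ]; exact mul_ne_zero (pow_ne_zero _ ha') hdetφ)
  obtain ⟨y, hy, hidy⟩ := idx_free hfin b θ₂ hθ₂b (by rw [hdetθ₂]; exact pow_ne_zero _ ha')
  set N := F.map (θ.restrictScalars A) with hN
  set N₂ := F.map (θ₂.restrictScalars A) with hN₂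
  have hNN₂ : N = N₂.map φA := by
    rw [hN, hN₂, ← Submodule.map_comp]
    congr 1
    ext v
    show θ v = φ (θ₂ v)
    rw [hθ, hθ₂, LinearMap.smul_apply, LinearMap.smul_apply, LinearMap.id_apply, map_smul]
    rfl
  have hN₂F : N₂ ≤ F := map_le_of_basis b θ₂ hθ₂b
  have hNF : N ≤ F := map_le_of_basis b θ hθb
  have hNM' : N ≤ M' := by rw [hNN₂]; exact Submodule.map_mono (hN₂F.trans hFM)
  have hNI : N ≤ M ⊓ M' := le_inf (hNF.trans hFM) hNM'
  have hNsp : Submodule.span K (N : Set V) = ⊤ := span_map_eq_top b θ hθsurj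
  have hN₂sp : Submodule.span K (N₂ : Set V) = ⊤ := span_map_eq_top b θ₂ hθ₂surj
  have hIsp : Submodule.span K ((M ⊓ M' : Submodule A V) : Set V) = ⊤ := by
    rw [eq_top_iff, ← hNsp]; exact Submodule.span_mono hNI
  have hIfg : (M ⊓ M').FG := by
    have : IsNoetherian A ↥(M ⊓ M') := isNoetherian_of_le inf_le_left
    rw [← Module.Finite.iff_fg]
    infer_instance
  have f1 : idx M (M ⊓ M') < ⊤ := idx_lt_top (K := K) hA M _ hMfg hIsp
  have f2 : idx M' (M ⊓ M') < ⊤ := idx_lt_top (K := K) hA M' _ hM'fg hIsp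
  have f3 : idx (M ⊓ M') N < ⊤ := idx_lt_top (K := K) hA _ N hIfg hNsp
  have f4 : idx M F < ⊤ := idx_lt_top (K := K) hA M F hMfg hFsp
  have f5 : idx F N < ⊤ := idx_lt_top (K := K) hA F N hFfg hNsp
  have f6 : idx F N₂ < ⊤ := idx_lt_top (K := K) hA F N₂ hFfg hN₂sp
  refine ⟨f1, f2, ?_⟩
  have E1 : idx M N = idx F N + idx M F := idx_add hNF hFM
  have E2 : idx M N = idx (M ⊓ M') N + idx M (M ⊓ M') := idx_add hNI inf_le_left
  have E3 : idx M' N = idx (M ⊓ M') N + idx M' (M ⊓ M') := idx_add hNI inf_le_right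
  have E4 : idx M' N = idx M N₂ := by
    rw [hNN₂, hM']; exact idx_map φA hφinj M N₂
  have E5 : idx M N₂ = idx F N₂ + idx M F := idx_add hN₂F hFM
  have hx0 : x ≠ 0 := by
    intro h0
    rw [h0, map_zero, hdetθ] at hx
    exact (mul_ne_zero (pow_ne_zero _ ha') hdetφ) hx.symm
  have hy0 : y ≠ 0 := by
    intro h0
    rw [h0, map_zero, hdetθ₂] at hy
    exact (pow_ne_zero _ ha') hy.symm
  have hdet : LinearMap.det φ.toLinearMap = algebraMap A K x / algebraMap A K y := by
    rw [hx, hy, hdetθ, hdetθ₂]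
    field_simp
  rw [hdet, ordFrac_div x y hx0 hy0, ← hidx, ← hidy]
  obtain ⟨m1, h1⟩ := nat_of_lt_top f1
  obtain ⟨m2, h2⟩ := nat_of_lt_top f2
  obtain ⟨m3, h3⟩ := nat_of_lt_top f3
  obtain ⟨m4, h4⟩ := nat_of_lt_top f4
  obtain ⟨m5, h5⟩ := nat_of_lt_top f5
  obtain ⟨m6, h6⟩ := nat_of_lt_top f6
  rw [h5, h4] at E1
  rw [h3, h1] at E2
  rw [h3, h2] at E3
  rw [h6, h4] at E5
  rw [E1] at E2
  rw [E4, E5] at E3
  have e2 : m5 + m4 = m3 + m1 := by exact_mod_cast E2
  have e3 : m6 + m4 = m3 + m2 := by exact_mod_cast E3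
  rw [h1, h2, h5, h6]
  simp only [ENat.toNat_natCast]
  omega

end

end Groth.Agent.H46.LatDist
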