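import Mathlib
import Groth.Prelude.Def_DRing4

/-!
# Contravariant functoriality of `Hom•(-, L)` (helper46) — definitions
-/

set_option autoImplicit false
universe u
open CategoryTheory CategoryTheory.Limits
open CochainComplex.HomComplex
attribute [local instance] HasDerivedCategory.standard

namespace Groth.Agent.H46.HomCxPre

variable {A : Type u} [CommRing A]

/-- precomposition with `g` as a linear map on cochains -/
noncomputable def precompLin {X Y : DRing.Cx A} (g : X ⟶ Y) (L : DRing.Cx A) (i : ℤ) :
    Cochain Y L i →ₗ[A] Cochain X L i where
  toFun z := (Cochain.ofHom g).comp z (zero_add i)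
  map_add' z z' := by simp
  map_smul' a z := by simp

/-- contravariant functoriality of `Hom•(-, L)` -/
noncomputable def homCxPre {X Y : DRing.Cx A} (g : X ⟶ Y) (L : DRing.Cx A) :
    DRing.homCx Y L ⟶ DRing.homCx X L where
  f i := ModuleCat.ofHom (precompLin g L i)
  comm' i j _ := by
    ext z
    change δ i j ((Cochain.ofHom g).comp z (zero_add i)) =
      (Cochain.ofHom g).comp (δ i j z) (zero_add j)
    exact δ_ofHom_comp g z j

end Groth.Agent.H46.HomCxPre
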