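import Groth.Agent.H46.QRDesc

/-!
# Faithfully flat descent of locally quasi-regular ideals: main theorem (helper46)
-/

namespace Groth.Agent.H46.QRDesc

universe u

open Groth.Agent.H59.Kosz

section main

variable {A B : Type u} [CommRing A] [CommRing B] [Algebra A B]

theorem range_get_map {T : Type u} [CommRing T] (ψ : A →+* T) (a : List A) :
    Set.range (fun i : Fin a.length => ψ (a.get i)) = {y | y ∈ a.map ψ} := by
  ext y
  simp only [Set.mem_range, Set.mem_setOf_eq, List.mem_map]
  constructor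
  · rintro ⟨i, rfl⟩; exact ⟨a.get i, List.get_mem _ _, rfl⟩
  · rintro ⟨x, hx, rfl⟩
    obtain ⟨i, rfl⟩ := List.get_of_mem hx
    exact ⟨i, rfl⟩

theorem setOf_mem_ofFn {T : Type u} {n : ℕ} (φ : Fin n → T) :
    {x | x ∈ List.ofFn φ} = Set.range φ := by
  ext x
  simp [List.mem_ofFn]

/-- quasi-regularity of the chosen generators at `p = q ∩ A` -/
lemma qr_atPrime_comap_of_CQ [Module.Flat A B] (I : Ideal A) (a : List A)
    (haI : ∀ x ∈ a, x ∈ I)
    (g : A) (hgI : ∀ x ∈ I, g * x ∈ Ideal.span {y | y ∈ a}) (q : Ideal B) [q.IsPrime]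
    (hg : g ∉ q.comap (algebraMap A B)) (hCQ : CQ (I.map (algebraMap A B)) q a.length) :
    CAlgX.IsQuasiRegular (fun i : Fin a.length =>
      algebraMap A (Localization.AtPrime (q.comap (algebraMap A B))) (a.get i)) := by
  obtain ⟨φ', hφ', hspan'⟩ := hCQ.atPrime
  let ψ : A →+* Localization.AtPrime q :=
    (algebraMap B (Localization.AtPrime q)).comp (algebraMap A B)
  have hu : IsUnit (ψ g) :=
    IsLocalization.map_units (Localization.AtPrime q) (⟨algebraMap A B g, hg⟩ : q.primeCompl)
  have h1 : I.map ψ = Ideal.span {y | y ∈ a.map ψ} := map_eq_span_of_mul_mem I a haI g hgI ψ hu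
  have h2 : CAlgX.IsQuasiRegular (fun i : Fin a.length => ψ (a.get i)) := by
    apply Groth.Agent.S3824.result φ' _ hφ'
    rw [range_get_map, ← h1, ← Ideal.map_map, hspan']
  letI : Algebra (Localization.AtPrime (q.comap (algebraMap A B))) (Localization.AtPrime q) :=
    (Localization.localRingHom (q.comap (algebraMap A B)) q (algebraMap A B) rfl).toAlgebra
  haveI : Module.FaithfullyFlat (Localization.AtPrime (q.comap (algebraMap A B)))
      (Localization.AtPrime q) := faithfullyFlat_localRingHom q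
  apply qr_of_faithfullyFlat (S := Localization.AtPrime q)
  have hcomp : ∀ x : A, algebraMap (Localization.AtPrime (q.comap (algebraMap A B)))
      (Localization.AtPrime q)
      (algebraMap A (Localization.AtPrime (q.comap (algebraMap A B))) x) = ψ x := fun x =>
    Localization.localRingHom_to_map (q.comap (algebraMap A B)) q (algebraMap A B) rfl x
  simp only [hcomp]
  exact h2

/-- comparison of lengths at two primes over the same prime of `A` -/
lemma len_le' [Module.Flat A B] (I : Ideal A) (hI : I.FG) (q q' : Ideal B) [q.IsPrime]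
    [q'.IsPrime] (hqq' : q.comap (algebraMap A B) = q'.comap (algebraMap A B))
    (hJq' : I.map (algebraMap A B) ≤ q') {r n' : ℕ} (hr : CQ (I.map (algebraMap A B)) q r)
    (hn' : CQ (I.map (algebraMap A B)) q' n') : n' ≤ r := by
  obtain ⟨φ, -, hφspan⟩ := hr.atPrime
  have hlspan : (I.map (algebraMap A B)).map (algebraMap B (Localization.AtPrime q)) =
      Ideal.span {x | x ∈ List.ofFn φ} := by
    rw [hφspan, setOf_mem_ofFn]
  obtain ⟨a, halen, haI, g, hg, hgI⟩ :=
    exists_generators_of_atPrime I hI q (List.ofFn φ) hlspan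
  obtain ⟨φ'', hφ'', hφ''span⟩ := hn'.atPrime
  let ψ : A →+* Localization.AtPrime q' :=
    (algebraMap B (Localization.AtPrime q')).comp (algebraMap A B)
  have hg' : algebraMap A B g ∉ q' := by
    intro hm
    apply hg
    rw [hqq']
    exact hm
  have hu : IsUnit (ψ g) :=
    IsLocalization.map_units (Localization.AtPrime q') (⟨algebraMap A B g, hg'⟩ : q'.primeCompl)
  have h1 : I.map ψ = Ideal.span {y | y ∈ a.map ψ} := map_eq_span_of_mul_mem I a haI g hgI ψ hu
  have hr' : a.length = r := by rw [halen, List.length_ofFn]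
  have hIψ : I.map ψ = (I.map (algebraMap A B)).map (algebraMap B (Localization.AtPrime q')) := by
    rw [Ideal.map_map]
  have key := le_of_qr φ'' hφ'' (fun i : Fin a.length => ψ (a.get i)) (by
    rw [range_get_map, ← h1, hIψ, hφ''span]) (by
    rw [← hφ''span]
    intro htop
    have hle : (I.map (algebraMap A B)).map (algebraMap B (Localization.AtPrime q')) ≤
        IsLocalRing.maximalIdeal (Localization.AtPrime q') := by
      rw [← Localization.AtPrime.map_eq_maximalIdeal]
      exact Ideal.map_mono hJq'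
    rw [htop] at hle
    exact (IsLocalRing.maximalIdeal.isMaximal _).ne_top (top_le_iff.mp hle))
  omega

/-- **Faithfully flat descent of locally quasi-regular ideals.** -/
theorem locallyQR_of_faithfullyFlat [Module.FaithfullyFlat A B] (I : Ideal A)
    (h : PP16.IsLocallyQuasiRegular B (I.map (algebraMap A B))) :
    PP16.IsLocallyQuasiRegular A I := by
  classical
  set J := I.map (algebraMap A B) with hJdef
  have hIfg : I.FG := Ideal.FG.of_FG_map_of_faithfullyFlat (S := B) (fg_of_locallyQR h)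
  have hCQ : ∀ q : PrimeSpectrum B, J ≤ q.asIdeal → ∃ n, CQ J q.asIdeal n := by
    intro q hq
    obtain ⟨g, hg, r, φ, hφ, hspan⟩ := h q.asIdeal hq
    exact ⟨r, g, hg, φ, hφ, hspan⟩
  have hJle : ∀ q : PrimeSpectrum B, J ≤ q.asIdeal ↔
      I ≤ (PrimeSpectrum.comap (algebraMap A B) q).asIdeal := by
    intro q; exact Ideal.map_le_iff_le_comap
  intro P hPprime hIP
  obtain ⟨𝔮₀, h𝔮₀⟩ := PrimeSpectrum.comap_surjective_of_faithfullyFlat (A := A) (B := B)
    (⟨P, hPprime⟩ : PrimeSpectrum A)
  have hP𝔮₀ : (PrimeSpectrum.comap (algebraMap A B) 𝔮₀).asIdeal = P :=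
    congrArg PrimeSpectrum.asIdeal h𝔮₀
  obtain ⟨r, hr⟩ := hCQ 𝔮₀ ((hJle 𝔮₀).mpr (hP𝔮₀ ▸ hIP))
  -- the saturated open set
  set N : Set (PrimeSpectrum B) := {q | ¬ J ≤ q.asIdeal} ∪ {q | CQ J q.asIdeal r} with hN
  have hNopen : IsOpen N := by
    apply IsOpen.union
    · have : {q : PrimeSpectrum B | ¬ J ≤ q.asIdeal} = (PrimeSpectrum.zeroLocus (J : Set B))ᶜ := by
        ext q; simp [PrimeSpectrum.mem_zeroLocus]
      rw [this]; exact (PrimeSpectrum.isClosed_zeroLocus _).isOpen_compl
    · rw [isOpen_iff_forall_mem_open]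
      rintro q ⟨h₁, hh₁, φ, hφ, hspan⟩
      refine ⟨PrimeSpectrum.basicOpen h₁, ?_, (PrimeSpectrum.basicOpen h₁).isOpen, hh₁⟩
      intro q' hq'
      exact ⟨h₁, hq', φ, hφ, hspan⟩
  have hNsat : ∀ q q' : PrimeSpectrum B, PrimeSpectrum.comap (algebraMap A B) q =
      PrimeSpectrum.comap (algebraMap A B) q' → q ∈ N → q' ∈ N := by
    intro q q' hqq' hqN
    by_cases hJq' : J ≤ q'.asIdeal
    · right
      have hJq : J ≤ q.asIdeal := by rw [hJle, hqq', ← hJle]; exact hJq'
      rcases hqN with hqN | hqN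
      · exact absurd hJq hqN
      · obtain ⟨n', hn'⟩ := hCQ q' hJq'
        have hids : q.asIdeal.comap (algebraMap A B) = q'.asIdeal.comap (algebraMap A B) :=
          congrArg PrimeSpectrum.asIdeal hqq'
        have h1 : n' ≤ r := len_le' I hIfg q.asIdeal q'.asIdeal hids hJq' hqN hn'
        have h2 : r ≤ n' := len_le' I hIfg q'.asIdeal q.asIdeal hids.symm hJq hn' hqN
        have : n' = r := le_antisymm h1 h2
        show CQ J q'.asIdeal r
        rw [← this]; exact hn'
    · left; exact hJq'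
  have hquot : Topology.IsQuotientMap (PrimeSpectrum.comap (algebraMap A B)) :=
    PrimeSpectrum.isQuotientMap_of_generalizingMap
      PrimeSpectrum.comap_surjective_of_faithfullyFlat
      (RingHom.Flat.generalizingMap_comap (RingHom.flat_algebraMap_iff.mpr inferInstance))
  set T : Set (PrimeSpectrum A) := PrimeSpectrum.comap (algebraMap A B) '' N with hT
  have hpre : PrimeSpectrum.comap (algebraMap A B) ⁻¹' T = N := by
    ext q; constructor
    · rintro ⟨q₁, hq₁, heq⟩; exact hNsat q₁ q heq hq₁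
    · intro hq; exact ⟨q, hq, rfl⟩
  have hTopen : IsOpen T := by rw [← hquot.isOpen_preimage, hpre]; exact hNopen
  have h𝔭T : (⟨P, hPprime⟩ : PrimeSpectrum A) ∈ T := ⟨𝔮₀, Or.inr hr, h𝔮₀⟩
  obtain ⟨_, ⟨g₁, rfl⟩, hg₁mem, hg₁T⟩ :=
    PrimeSpectrum.isTopologicalBasis_basic_opens.exists_subset_of_mem_open h𝔭T hTopen
  -- generators
  obtain ⟨φ₀, -, hφ₀span⟩ := hr.atPrime
  have hlspan : (I.map (algebraMap A B)).map (algebraMap B (Localization.AtPrime 𝔮₀.asIdeal)) =
      Ideal.span {x | x ∈ List.ofFn φ₀} := by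
    rw [hφ₀span, setOf_mem_ofFn]
  obtain ⟨a, halen, haI, g₀, hg₀, hg₀I⟩ :=
    exists_generators_of_atPrime I hIfg 𝔮₀.asIdeal (List.ofFn φ₀) hlspan
  have hra : a.length = r := by rw [halen, List.length_ofFn]
  have hg₀P : g₀ ∉ P := by
    intro hm; apply hg₀; rw [← hP𝔮₀] at hm; exact hm
  have hgI : ∀ x ∈ I, g₀ * g₁ * x ∈ Ideal.span {y | y ∈ a} := by
    intro x hx
    rw [mul_comm g₀ g₁, mul_assoc]
    exact Ideal.mul_mem_left _ _ (hg₀I x hx)
  refine ⟨g₀ * g₁, ?_, a.length,
    fun i => algebraMap A (Localization.Away (g₀ * g₁)) (a.get i), ?_, ?_⟩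
  · intro hm
    rcases Ideal.IsPrime.mem_or_mem hPprime hm with hm | hm
    · exact hg₀P hm
    · exact hg₁mem hm
  · apply qr_of_forall_maximal
    intro 𝔪 h𝔪
    set p₂ : Ideal A := 𝔪.comap (algebraMap A (Localization.Away (g₀ * g₁))) with hp₂
    haveI hp₂prime : p₂.IsPrime := Ideal.comap_isPrime _ _
    have hgp₂ : g₀ * g₁ ∉ p₂ := by
      intro hm
      have : algebraMap A (Localization.Away (g₀ * g₁)) (g₀ * g₁) ∈ 𝔪 := hm
      exact h𝔪.ne_top (Ideal.eq_top_of_isUnit_mem _ this
        (IsLocalization.Away.algebraMap_isUnit (g₀ * g₁)))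
    have hk : CAlgX.IsQuasiRegular (fun i : Fin a.length =>
        algebraMap A (Localization.AtPrime p₂) (a.get i)) := by
      by_cases hIp : I ≤ p₂
      · have hg₁p : g₁ ∉ p₂ := fun hm => hgp₂ (Ideal.mul_mem_left _ _ hm)
        obtain ⟨q, hqN, hqp⟩ := hg₁T (show (⟨p₂, hp₂prime⟩ : PrimeSpectrum A) ∈
          (PrimeSpectrum.basicOpen g₁ : Set (PrimeSpectrum A)) from hg₁p)
        have hJq : J ≤ q.asIdeal := by rw [hJle, hqp]; exact hIp
        have hqCQ : CQ J q.asIdeal r := hqN.resolve_left (not_not.mpr hJq)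
        have hp₂eq : p₂ = q.asIdeal.comap (algebraMap A B) :=
          (congrArg PrimeSpectrum.asIdeal hqp).symm
        rw [← hra] at hqCQ
        have hgq : g₀ * g₁ ∉ q.asIdeal.comap (algebraMap A B) := hp₂eq ▸ hgp₂
        have := qr_atPrime_comap_of_CQ I a haI (g₀ * g₁) hgI q.asIdeal hgq hqCQ
        clear_value p₂
        subst hp₂eq
        exact this
      · apply qr_of_span_eq_top
        obtain ⟨x, hxa, hxp⟩ : ∃ x ∈ a, x ∉ p₂ := by
          by_contra hcon
          push Not at hcon
          apply hIp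
          intro y hy
          have h1 : g₀ * g₁ * y ∈ p₂ := by
            have : Ideal.span {y | y ∈ a} ≤ p₂ := by
              rw [Ideal.span_le]; exact hcon
            exact this (hgI y hy)
          exact (Ideal.IsPrime.mem_or_mem hp₂prime h1).resolve_left hgp₂
        obtain ⟨i, rfl⟩ := List.get_of_mem hxa
        exact Ideal.eq_top_of_isUnit_mem _ (Ideal.subset_span ⟨i, rfl⟩)
          (IsLocalization.map_units _ (⟨a.get i, hxp⟩ : p₂.primeCompl))
    -- transfer to the localisation of `A_g` at `𝔪`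
    haveI : IsLocalization.AtPrime (Localization.AtPrime 𝔪) p₂ :=
      IsLocalization.isLocalization_isLocalization_atPrime_isLocalization
        (Submonoid.powers (g₀ * g₁)) (Localization.AtPrime 𝔪) 𝔪
    let e : Localization.AtPrime p₂ ≃ₐ[A] Localization.AtPrime 𝔪 :=
      IsLocalization.algEquiv p₂.primeCompl _ _
    have := Groth.Agent.H87.QRegLoc.isQuasiRegular_of_ringEquiv e.toRingEquiv _ hk
    have he : ∀ x : A, e.toRingEquiv (algebraMap A (Localization.AtPrime p₂) x) =
        algebraMap (Localization.Away (g₀ * g₁)) (Localization.AtPrime 𝔪)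
          (algebraMap A (Localization.Away (g₀ * g₁)) x) := by
      intro x
      rw [← IsScalarTower.algebraMap_apply]
      exact e.commutes x
    simp only [he] at this
    exact this
  · have hu : IsUnit (algebraMap A (Localization.Away (g₀ * g₁)) (g₀ * g₁)) :=
      IsLocalization.Away.algebraMap_isUnit (S := Localization.Away (g₀ * g₁)) (g₀ * g₁)
    rw [map_eq_span_of_mul_mem I a haI (g₀ * g₁) hgI
      (algebraMap A (Localization.Away (g₀ * g₁))) hu, ← range_get_map]

end main

end Groth.Agent.H46.QRDesc
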