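import Groth.Agent.H46.QRSym5

/-!
# Differential smoothness and quasi-regularity of the diagonal (helper46)

Bridge between the `B`-symmetric powers of `Ω[B⁄A]` and the `B ⊗[A] B`-symmetric powers of the
conormal module of the diagonal ideal.
-/

namespace Groth.Agent.H46.DiffQR

open Groth.Agent.H46.SymGr Groth.Agent.H46.SymGrJ Groth.Agent.H46.QRSym
open scoped TensorProduct

universe u v w

section general

/-- multilinear maps agreeing on families from a spanning set are equal -/
theorem multilinear_ext_of_span {R : Type*} [CommSemiring R] {ι : Type*} [Finite ι]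
    {M N : Type*} [AddCommMonoid M] [Module R M] [AddCommMonoid N] [Module R N]
    (S : Set M) (hS : Submodule.span R S = ⊤) (f g : MultilinearMap R (fun _ : ι => M) N)
    (h : ∀ x : ι → M, (∀ i, x i ∈ S) → f x = g x) : f = g := by
  classical
  cases nonempty_fintype ι
  have key : ∀ (s : Finset ι) (x : ι → M), (∀ i, i ∉ s → x i ∈ S) → f x = g x := by
    intro s
    induction s using Finset.induction_on with
    | empty => intro x hx; exact h x (fun i => hx i (Finset.notMem_empty i))
    | insert a s ha ih =>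
      intro x hx
      have h1 : f.toLinearMap x a = g.toLinearMap x a := by
        apply LinearMap.ext_on hS
        intro m hm
        show f (Function.update x a m) = g (Function.update x a m)
        apply ih
        intro i hi
        by_cases hia : i = a
        · subst hia; simpa using hm
        · rw [Function.update_of_ne hia]
          apply hx
          simp [hia, hi]
      have h2 := LinearMap.congr_fun h1 (x a)
      simpa using h2
  ext x
  exact key Finset.univ x (fun i hi => absurd (Finset.mem_univ i) hi)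

/-- for a nonempty index type the pure symmetric tensors generate additively -/
theorem mem_closure_tprod {R : Type u} [CommRing R] {ι : Type u} [Nonempty ι] {M : Type v}
    [AddCommGroup M] [Module R M] (s : SymmetricPower R ι M) :
    s ∈ AddSubmonoid.closure (Set.range (SymmetricPower.tprod R (ι := ι) (M := M))) := by
  classical
  have hs : s ∈ Submodule.span R (Set.range (SymmetricPower.tprod R (ι := ι) (M := M))) := by
    rw [SymmetricPower.span_tprod_eq_top]; trivial
  induction hs using Submodule.span_induction with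
  | mem z hz => exact AddSubmonoid.subset_closure hz
  | zero => exact zero_mem _
  | add z z' _ _ hz hz' => exact add_mem hz hz'
  | smul c z hzs hz =>
    clear hzs
    induction hz using AddSubmonoid.closure_induction with
    | mem y hy =>
      obtain ⟨w, rfl⟩ := hy
      apply AddSubmonoid.subset_closure
      let i₀ : ι := Classical.arbitrary ι
      refine ⟨Function.update w i₀ (c • w i₀), ?_⟩
      rw [MultilinearMap.map_update_smul, Function.update_eq_self]
    | zero => rw [smul_zero]; exact zero_mem _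
    | add y y' _ _ hy hy' => rw [smul_add]; exact add_mem hy hy'

section chg

variable {R₁ R₂ : Type u} [CommRing R₁] [CommRing R₂] (f : R₁ →+* R₂) (ι : Type u)
  {M : Type v} [AddCommGroup M] [Module R₁ M] [Module R₂ M]
  (hf : ∀ (r : R₁) (m : M), r • m = f r • m)

/-- change of rings for symmetric powers of a module whose two structures are compatible -/
noncomputable def chg : SymmetricPower R₁ ι M →+ SymmetricPower R₂ ι M :=
  letI : Module R₁ (SymmetricPower R₂ ι M) := Module.compHom _ f
  (symLift (R := R₁) (ι := ι) (M := M) (N := SymmetricPower R₂ ι M)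
    { toFun := fun w => SymmetricPower.tprod R₂ w
      map_update_add' := by
        intro _ w i a b
        exact MultilinearMap.map_update_add _ w i a b
      map_update_smul' := by
        intro _ w i c a
        show SymmetricPower.tprod R₂ (Function.update w i (c • a)) =
          f c • SymmetricPower.tprod R₂ (Function.update w i a)
        rw [hf, MultilinearMap.map_update_smul] }
    (fun e x => SymmetricPower.tprod_equiv e x)).toAddMonoidHom

theorem chg_tprod (w : ι → M) :
    chg f ι hf (SymmetricPower.tprod R₁ w) = SymmetricPower.tprod R₂ w := by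
  let _ : Module R₁ (SymmetricPower R₂ ι M) := Module.compHom _ f
  unfold chg
  exact symLift_tprod (R := R₁) _ (fun e x => SymmetricPower.tprod_equiv e x) w

theorem chg_surjective [Nonempty ι] : Function.Surjective (chg f ι hf) := by
  intro t
  have ht := mem_closure_tprod t
  induction ht using AddSubmonoid.closure_induction with
  | mem y hy =>
    obtain ⟨w, rfl⟩ := hy
    exact ⟨SymmetricPower.tprod R₁ w, chg_tprod f ι hf w⟩
  | zero => exact ⟨0, map_zero _⟩
  | add y y' _ _ hy hy' =>
    obtain ⟨a, rfl⟩ := hy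
    obtain ⟨b, rfl⟩ := hy'
    exact ⟨a + b, map_add _ a b⟩

end chg

/-- uniqueness of the pinned map for an ideal -/
theorem eq_phiJ_of_pinned (R : Type u) [CommRing R] (J : Ideal R) (ι : Type u) [Fintype ι]
    (ψ : SymmetricPower R ι J.Cotangent →ₗ[R] PP16.grJ R J (Fintype.card ι))
    (hψ : ∀ x : ι → ↥J, ψ (SymmetricPower.tprod R (fun i => J.toCotangent (x i))) =
      PP16.zetaJ R J x) : ψ = phiJ R J ι := by
  apply LinearMap.ext_on (SymmetricPower.span_tprod_eq_top R ι J.Cotangent)
  rintro _ ⟨w, rfl⟩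
  obtain ⟨x, rfl⟩ : ∃ x : ι → ↥J, w = fun i => J.toCotangent (x i) :=
    ⟨fun i => outJ R J (w i), funext fun i => (toCotangent_outJ R J (w i)).symm⟩
  rw [hψ, phiJ_tprod]

/-- value map on `J^n/J^(n+1)` -/
noncomputable def valJ (R : Type u) [CommRing R] (J : Ideal R) (n : ℕ) :
    PP16.grJ R J n →ₗ[R] R ⧸ J ^ (n + 1) :=
  Submodule.liftQ _ ((Submodule.mkQ (J ^ (n + 1))).comp (J ^ n).subtype) (by
    intro x hx
    rw [LinearMap.mem_ker]
    show Submodule.Quotient.mk (x : R) = 0
    rw [Submodule.Quotient.mk_eq_zero]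
    exact hx)

theorem valJ_injective (R : Type u) [CommRing R] (J : Ideal R) (n : ℕ) :
    Function.Injective (valJ R J n) := by
  rw [← LinearMap.ker_eq_bot]
  unfold valJ
  apply Submodule.ker_liftQ_eq_bot
  intro x hx
  rw [LinearMap.mem_ker] at hx
  have h : Submodule.Quotient.mk (p := J ^ (n + 1)) (x : R) = 0 := hx
  rw [Submodule.Quotient.mk_eq_zero] at h
  exact h

end general

section concrete

variable (A B : Type u) [CommRing A] [CommRing B] [Algebra A B]

/-- uniqueness of the pinned map for differentials -/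
theorem eq_phi_of_pinned (ι : Type u) [Fintype ι]
    (φ : SymmetricPower B ι Ω[B⁄A] →ₗ[B] PP16.grI A B (Fintype.card ι))
    (hφ : ∀ b : ι → B, φ (SymmetricPower.tprod B (fun i => KaehlerDifferential.D A B (b i))) =
      PP16.zetaProd A B b) : φ = phi A B ι := by
  have h1 : φ.compMultilinearMap (SymmetricPower.tprod B) =
      (phi A B ι).compMultilinearMap (SymmetricPower.tprod B) := by
    apply multilinear_ext_of_span (Set.range (KaehlerDifferential.D A B))
      (KaehlerDifferential.span_range_derivation A B)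
    intro x hx
    choose b hb using hx
    have hx' : x = fun i => KaehlerDifferential.D A B (b i) := funext fun i => (hb i).symm
    rw [hx']
    show φ (SymmetricPower.tprod B (fun i => KaehlerDifferential.D A B (b i))) =
      phi A B ι (SymmetricPower.tprod B (fun i => KaehlerDifferential.D A B (b i)))
    rw [hφ, phi_tprod_D]
  apply LinearMap.ext_on (SymmetricPower.span_tprod_eq_top B ι Ω[B⁄A])
  rintro _ ⟨w, rfl⟩
  exact congrArg (fun f => f w) h1

/-- value map on `I^n/I^(n+1)` -/
noncomputable def valI (n : ℕ) :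
    PP16.grI A B n →ₗ[B] (B ⊗[A] B) ⧸ (KaehlerDifferential.ideal A B) ^ (n + 1) :=
  Submodule.liftQ _
    (((Submodule.mkQ ((KaehlerDifferential.ideal A B) ^ (n + 1))).restrictScalars B).comp
      (Submodule.subtype ((KaehlerDifferential.ideal A B ^ n).restrictScalars B))) (by
    intro x hx
    rw [LinearMap.mem_ker]
    show Submodule.Quotient.mk (x : B ⊗[A] B) = 0
    rw [Submodule.Quotient.mk_eq_zero]
    exact hx)

theorem valI_injective (n : ℕ) : Function.Injective (valI A B n) := by
  rw [← LinearMap.ker_eq_bot]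
  unfold valI
  apply Submodule.ker_liftQ_eq_bot
  intro x hx
  rw [LinearMap.mem_ker] at hx
  have h : Submodule.Quotient.mk (p := (KaehlerDifferential.ideal A B) ^ (n + 1))
      (x : B ⊗[A] B) = 0 := hx
  rw [Submodule.Quotient.mk_eq_zero] at h
  exact h

theorem smul_eq_lmul_smul (r : B ⊗[A] B) (ω : Ω[B⁄A]) :
    r • ω = (Algebra.TensorProduct.lmul' A r : B) • ω := by
  have h1 : r - (Algebra.TensorProduct.lmul' A r : B) ⊗ₜ[A] (1 : B) ∈ KaehlerDifferential.ideal A B := by
    show Algebra.TensorProduct.lmul' A (r - (Algebra.TensorProduct.lmul' A r : B) ⊗ₜ[A] (1 : B)) = 0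
    rw [map_sub, Algebra.TensorProduct.lmul'_apply_tmul, mul_one, sub_self]
  have h2 : (r - (Algebra.TensorProduct.lmul' A r : B) ⊗ₜ[A] (1 : B)) • ω = 0 :=
    Ideal.Cotangent.smul_eq_zero_of_mem h1 ω
  have h3 : ((Algebra.TensorProduct.lmul' A r : B) ⊗ₜ[A] (1 : B)) • ω =
      (Algebra.TensorProduct.lmul' A r : B) • ω := by
    have h4 : ((Algebra.TensorProduct.lmul' A r : B) ⊗ₜ[A] (1 : B) : B ⊗[A] B) =
        algebraMap B (B ⊗[A] B) (Algebra.TensorProduct.lmul' A r) := by
      rw [Algebra.TensorProduct.algebraMap_apply]; rfl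
    rw [h4, algebraMap_smul]
  rw [sub_smul, sub_eq_zero] at h2
  rw [h2, h3]

theorem smul_eq_includeLeft_smul (b : B) (ω : Ω[B⁄A]) :
    b • ω = (Algebra.TensorProduct.includeLeftRingHom (R := A) (A := B) (B := B) b) • ω := by
  have h4 : (Algebra.TensorProduct.includeLeftRingHom (R := A) (A := B) (B := B) b) =
      algebraMap B (B ⊗[A] B) b := by
    rw [Algebra.TensorProduct.algebraMap_apply]; rfl
  rw [h4, algebraMap_smul]

/-- the computation on pure tensors behind the bridge -/
theorem val_tprod (ι : Type u) [Fintype ι] (x : ι → ↥(KaehlerDifferential.ideal A B)) :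
    valI A B (Fintype.card ι) (phi A B ι (SymmetricPower.tprod B
      (fun i => KaehlerDifferential.fromIdeal A B (x i)))) =
    valJ (B ⊗[A] B) (KaehlerDifferential.ideal A B) (Fintype.card ι)
      (phiJ (B ⊗[A] B) (KaehlerDifferential.ideal A B) ι (SymmetricPower.tprod (B ⊗[A] B)
        (fun i => (KaehlerDifferential.ideal A B).toCotangent (x i)))) := by
  rw [phi_tprod_fromIdeal, phiJ_tprod]
  rfl

/-- `Sym[B ⊗ B] → Sym[B]` -/
noncomputable def E₁ (ι : Type u) :
    SymmetricPower (B ⊗[A] B) ι Ω[B⁄A] →+ SymmetricPower B ι Ω[B⁄A] :=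
  chg (Algebra.TensorProduct.lmul' A (S := B) : B ⊗[A] B →ₐ[A] B).toRingHom ι
    (fun r m => smul_eq_lmul_smul A B r m)

/-- `Sym[B] → Sym[B ⊗ B]` -/
noncomputable def E₂ (ι : Type u) :
    SymmetricPower B ι Ω[B⁄A] →+ SymmetricPower (B ⊗[A] B) ι Ω[B⁄A] :=
  chg (Algebra.TensorProduct.includeLeftRingHom (R := A) (A := B) (B := B)) ι
    (fun r m => smul_eq_includeLeft_smul A B r m)

theorem E₁_tprod (ι : Type u) (w : ι → Ω[B⁄A]) :
    E₁ A B ι (SymmetricPower.tprod (B ⊗[A] B) w) = SymmetricPower.tprod B w :=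
  chg_tprod _ ι _ w

theorem E₂_tprod (ι : Type u) (w : ι → Ω[B⁄A]) :
    E₂ A B ι (SymmetricPower.tprod B w) = SymmetricPower.tprod (B ⊗[A] B) w :=
  chg_tprod _ ι _ w

theorem E₁_surjective (ι : Type u) [Nonempty ι] : Function.Surjective (E₁ A B ι) :=
  chg_surjective _ ι _

theorem E₂_surjective (ι : Type u) [Nonempty ι] : Function.Surjective (E₂ A B ι) :=
  chg_surjective _ ι _

theorem exists_family (ι : Type u) (w : ι → Ω[B⁄A]) :
    ∃ x : ι → ↥(KaehlerDifferential.ideal A B),
      w = fun i => KaehlerDifferential.fromIdeal A B (x i) :=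
  ⟨fun i => out A B (w i), funext fun i => (fromIdeal_out A B (w i)).symm⟩

/-- `valJ ∘ phiJ` as an additive map on `Sym[B ⊗ B] ι Ω` -/
noncomputable def VJ (ι : Type u) [Fintype ι] :
    SymmetricPower (B ⊗[A] B) ι Ω[B⁄A] →+
      (B ⊗[A] B) ⧸ (KaehlerDifferential.ideal A B) ^ (Fintype.card ι + 1) :=
  ((valJ (B ⊗[A] B) (KaehlerDifferential.ideal A B) (Fintype.card ι)).comp
    (phiJ (B ⊗[A] B) (KaehlerDifferential.ideal A B) ι)).toAddMonoidHom

/-- `valI ∘ phi` as an additive map -/
noncomputable def VI (ι : Type u) [Fintype ι] :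
    SymmetricPower B ι Ω[B⁄A] →+
      (B ⊗[A] B) ⧸ (KaehlerDifferential.ideal A B) ^ (Fintype.card ι + 1) :=
  ((valI A B (Fintype.card ι)).comp (phi A B ι)).toAddMonoidHom

theorem VJ_eq_zero_iff (ι : Type u) [Fintype ι]
    (s : SymmetricPower (B ⊗[A] B) ι (KaehlerDifferential.ideal A B).Cotangent) :
    VJ A B ι s = 0 ↔ phiJ (B ⊗[A] B) (KaehlerDifferential.ideal A B) ι s = 0 := by
  show valJ (B ⊗[A] B) (KaehlerDifferential.ideal A B) (Fintype.card ι)
    (phiJ (B ⊗[A] B) (KaehlerDifferential.ideal A B) ι s) = 0 ↔ _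
  constructor
  · intro h
    exact valJ_injective _ _ _ (by rw [h, map_zero])
  · intro h
    rw [h, map_zero]

theorem VI_eq_zero_iff (ι : Type u) [Fintype ι] (t : SymmetricPower B ι Ω[B⁄A]) :
    VI A B ι t = 0 ↔ phi A B ι t = 0 := by
  show valI A B (Fintype.card ι) (phi A B ι t) = 0 ↔ _
  constructor
  · intro h
    exact valI_injective _ _ _ (by rw [h, map_zero])
  · intro h
    rw [h, map_zero]

theorem bridge₁ (ι : Type u) [Fintype ι] [Nonempty ι]
    (s : SymmetricPower (B ⊗[A] B) ι Ω[B⁄A]) :
    VI A B ι (E₁ A B ι s) = VJ A B ι s := by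
  have hs := mem_closure_tprod s
  induction hs using AddSubmonoid.closure_induction with
  | mem y hy =>
    obtain ⟨w, rfl⟩ := hy
    obtain ⟨x, rfl⟩ := exists_family A B ι w
    rw [E₁_tprod]
    exact val_tprod A B ι x
  | zero => rw [map_zero, map_zero, map_zero]
  | add y y' _ _ hy hy' => rw [map_add, map_add, map_add, hy, hy']

theorem bridge₂ (ι : Type u) [Fintype ι] [Nonempty ι]
    (t : SymmetricPower B ι Ω[B⁄A]) :
    VJ A B ι (E₂ A B ι t) = VI A B ι t := by
  have ht := mem_closure_tprod t
  induction ht using AddSubmonoid.closure_induction with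
  | mem y hy =>
    obtain ⟨w, rfl⟩ := hy
    obtain ⟨x, rfl⟩ := exists_family A B ι w
    rw [E₂_tprod]
    exact (val_tprod A B ι x).symm
  | zero => rw [map_zero, map_zero, map_zero]
  | add y y' _ _ hy hy' => rw [map_add, map_add, map_add, hy, hy']

theorem phi_injective_iff (ι : Type u) [Fintype ι] [Nonempty ι] :
    Function.Injective (phi A B ι) ↔
      Function.Injective (phiJ (B ⊗[A] B) (KaehlerDifferential.ideal A B) ι) := by
  constructor
  · intro h
    refine (injective_iff_map_eq_zero _).2 (fun s hs => ?_)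
    obtain ⟨t, ht⟩ := E₂_surjective A B ι s
    have h0 : VJ A B ι s = 0 := (VJ_eq_zero_iff A B ι s).2 hs
    have h1 : VI A B ι t = 0 := by rw [← bridge₂ A B ι t, ht]; exact h0
    have h2 : phi A B ι t = 0 := (VI_eq_zero_iff A B ι t).1 h1
    have h3 : t = 0 := h (by rw [h2, map_zero])
    rw [← ht, h3]
    exact map_zero _
  · intro h
    refine (injective_iff_map_eq_zero _).2 (fun t ht => ?_)
    obtain ⟨s, hs⟩ := E₁_surjective A B ι t
    have h0 : VI A B ι t = 0 := (VI_eq_zero_iff A B ι t).2 ht
    have h1 : VJ A B ι s = 0 := by rw [← bridge₁ A B ι s, hs]; exact h0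
    have h2 : phiJ (B ⊗[A] B) (KaehlerDifferential.ideal A B) ι s = 0 :=
      (VJ_eq_zero_iff A B ι s).1 h1
    have h3 : s = 0 := h (h2.trans (map_zero _).symm)
    rw [← hs, h3]
    exact map_zero _

theorem lmul_surjective : Function.Surjective (Algebra.TensorProduct.lmul' A (S := B)) :=
  fun b => ⟨b ⊗ₜ[A] 1, by rw [Algebra.TensorProduct.lmul'_apply_tmul, mul_one]⟩

/-- `(B ⊗ B)/I ≃ B` -/
noncomputable def quotEquiv : ((B ⊗[A] B) ⧸ KaehlerDifferential.ideal A B) ≃+* B :=
  (Ideal.quotientKerAlgEquivOfSurjective (lmul_surjective A B)).toRingEquiv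

theorem quotEquiv_mk (r : B ⊗[A] B) :
    quotEquiv A B (Ideal.Quotient.mk _ r) = Algebra.TensorProduct.lmul' A r := rfl

theorem quot_smul (q : (B ⊗[A] B) ⧸ KaehlerDifferential.ideal A B)
    (ω : (KaehlerDifferential.ideal A B).Cotangent) :
    q • ω = (quotEquiv A B q • (ω : Ω[B⁄A]) : Ω[B⁄A]) := by
  obtain ⟨r, rfl⟩ := Ideal.Quotient.mk_surjective q
  have h1 : (Ideal.Quotient.mk (KaehlerDifferential.ideal A B) r) • ω = r • ω := by
    rw [← Ideal.Quotient.algebraMap_eq, algebraMap_smul]
  rw [h1, quotEquiv_mk]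
  exact smul_eq_lmul_smul A B r ω

attribute [local instance] RingHomInvPair.of_ringEquiv RingHomInvPair.of_ringEquiv_symm in
/-- the identity as a semilinear equivalence -/
noncomputable def semiEquiv :
    (KaehlerDifferential.ideal A B).Cotangent ≃ₛₗ[((quotEquiv A B :
      ((B ⊗[A] B) ⧸ KaehlerDifferential.ideal A B) ≃+* B) :
      ((B ⊗[A] B) ⧸ KaehlerDifferential.ideal A B) →+* B)] Ω[B⁄A] where
  toFun x := x
  map_add' _ _ := rfl
  map_smul' q x := quot_smul A B q x
  invFun x := x
  left_inv _ := rfl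
  right_inv _ := rfl

attribute [local instance] RingHomInvPair.of_ringEquiv RingHomInvPair.of_ringEquiv_symm in
theorem projective_iff :
    Module.Projective ((B ⊗[A] B) ⧸ KaehlerDifferential.ideal A B)
      (KaehlerDifferential.ideal A B).Cotangent ↔ Module.Projective B Ω[B⁄A] := by
  constructor
  · intro h
    exact Module.Projective.of_equiv (semiEquiv A B)
  · intro h
    exact Module.Projective.of_equiv (semiEquiv A B).symm

/-- in degree zero the canonical map is injective -/
theorem phi_injective_of_isEmpty (ι : Type u) [Fintype ι] [IsEmpty ι] :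
    Function.Injective (phi A B ι) := by
  refine (injective_iff_map_eq_zero _).2 (fun s hs => ?_)
  have hs' : s ∈ Submodule.span B (Set.range (SymmetricPower.tprod B (ι := ι)
      (M := Ω[B⁄A]))) := by
    rw [SymmetricPower.span_tprod_eq_top]; trivial
  have hrange : Set.range (SymmetricPower.tprod B (ι := ι) (M := Ω[B⁄A])) =
      {SymmetricPower.tprod B (fun i : ι => KaehlerDifferential.fromIdeal A B
        ((isEmptyElim i : ↥(KaehlerDifferential.ideal A B))))} := by
    ext z
    constructor
    · rintro ⟨w, rfl⟩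
      rw [Set.mem_singleton_iff]
      congr 1
      funext i
      exact isEmptyElim i
    · rintro rfl
      exact ⟨_, rfl⟩
  rw [hrange, Submodule.mem_span_singleton] at hs'
  obtain ⟨c, rfl⟩ := hs'
  rw [map_smul, phi_tprod_fromIdeal] at hs
  unfold Psi at hs
  rw [← Submodule.Quotient.mk_smul, Submodule.Quotient.mk_eq_zero] at hs
  have h2 : c ⊗ₜ[A] (1 : B) ∈ KaehlerDifferential.ideal A B := by
    have h3 : ((c • prodI A B (fun i : ι => (isEmptyElim i :
        ↥(KaehlerDifferential.ideal A B))) : _) : B ⊗[A] B) ∈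
        (KaehlerDifferential.ideal A B) ^ (Fintype.card ι + 1) := hs
    replace h3 := Ideal.pow_le_self (Nat.succ_ne_zero _) h3
    have h4 : ((c • prodI A B (fun i : ι => (isEmptyElim i :
        ↥(KaehlerDifferential.ideal A B))) : _) : B ⊗[A] B) = c ⊗ₜ[A] (1 : B) := by
      show c • (∏ i : ι, _ : B ⊗[A] B) = _
      rw [Finset.univ_eq_empty, Finset.prod_empty, Algebra.TensorProduct.one_def,
        TensorProduct.smul_tmul', smul_eq_mul, mul_one]
    rw [h4] at h3
    exact h3
  have h3 : c = 0 := by
    have h4 : Algebra.TensorProduct.lmul' A (c ⊗ₜ[A] (1 : B)) = 0 := h2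
    rw [Algebra.TensorProduct.lmul'_apply_tmul, mul_one] at h4
    exact h4
  rw [h3, zero_smul]

/-- **S3823**: differential smoothness is quasi-regularity of the diagonal ideal. -/
theorem isDiffSmooth_iff_locallyQR [Algebra.FiniteType A B] :
    PP16.IsDiffSmooth A B ↔
      PP16.IsLocallyQuasiRegular (B ⊗[A] B) (KaehlerDifferential.ideal A B) := by
  rw [isLocallyQuasiRegular_iff]
  constructor
  · rintro ⟨hproj, hφ⟩
    refine ⟨KaehlerDifferential.ideal_fg A B, (projective_iff A B).2 hproj, ?_⟩
    intro ι _ _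
    obtain ⟨φ, hφ1, hφ2⟩ := hφ ι
    have h1 : φ = phi A B ι := eq_phi_of_pinned A B ι φ hφ1
    rw [h1] at hφ2
    exact ⟨phiJ _ _ ι, fun x => phiJ_tprod _ _ ι x, (phi_injective_iff A B ι).1 hφ2.1,
      phiJ_surjective _ _ ι⟩
  · rintro ⟨-, hproj, hsym⟩
    refine ⟨(projective_iff A B).1 hproj, ?_⟩
    intro ι _
    refine ⟨phi A B ι, phi_tprod_D A B ι, ?_, phi_surjective A B ι⟩
    rcases isEmpty_or_nonempty ι with hι | hι
    · exact phi_injective_of_isEmpty A B ι
    · obtain ⟨ψ, hψ1, hψ2⟩ := hsym ι
      have h1 : ψ = phiJ _ _ ι := eq_phiJ_of_pinned _ _ ι ψ hψ1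
      rw [h1] at hψ2
      exact (phi_injective_iff A B ι).2 hψ2.1

end concrete

end Groth.Agent.H46.DiffQR
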