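import Mathlib
import Groth.Prelude.Def_CAlgX
import Groth.Prelude.Def_PP16
import Groth.Agent.H14.AdicH1
import Groth.Agent.S4537
import Groth.Agent.H46.DiffQR
import Groth.Agent.H75.SymPow

/-!
# Adic formal smoothness ⇒ projective conormal module and `Sym ≃ gr` (helper46)

`B` an `A`-algebra, `𝔍` an ideal with `C = B/𝔍` formally smooth over `A`.  If `B` is `𝔍`-adically
formally smooth over `A`, then `𝔍/𝔍²` is projective over `C` and `Sym^n(𝔍/𝔍²) → 𝔍^n/𝔍^(n+1)` is
injective (EGA 0_IV 19.5.4 (a) ⇒ (b)).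
-/

set_option autoImplicit false
set_option maxHeartbeats 400000

namespace Groth.Agent.H46.AdicFS

open Groth.Agent.H46.SymGr Groth.Agent.H46.SymGrJ Groth.Agent.H46.DiffQR
open Groth.Agent.H75

universe u

section general

/-- adic lifting along a surjection with nilpotent kernel -/
theorem nil_lift {A B : Type u} [CommRing A] [CommRing B] [Algebra A B] {𝔫 : Ideal B}
    (h : CAlgX.IsAdicFormallySmooth A B 𝔫)
    {E E' : Type u} [CommRing E] [CommRing E'] [Algebra A E] [Algebra A E'] (π : E →ₐ[A] E')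
    (hπ : Function.Surjective π) (hker : IsNilpotent (RingHom.ker (π : E →+* E')))
    (ψ : B →ₐ[A] E')
    (hψ : ∃ k : ℕ, ∀ x ∈ 𝔫 ^ k, ψ x = 0) : ∃ χ : B →ₐ[A] E, π.comp χ = ψ := by
  have h' := (Groth.Agent.S4537.result 𝔫).mp h
  let e : (E ⧸ RingHom.ker π) ≃ₐ[A] E' := Ideal.quotientKerAlgEquivOfSurjective hπ
  obtain ⟨k, hk⟩ := hψ
  obtain ⟨χ, hχ⟩ := h' E (RingHom.ker π) hker ⟨1, by simp⟩ (e.symm.toAlgHom.comp ψ)
    ⟨k, fun x hx => by rw [AlgHom.comp_apply, hk x hx, map_zero]⟩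
  refine ⟨χ, ?_⟩
  apply AlgHom.ext
  intro b
  have h1 := AlgHom.congr_fun hχ b
  rw [AlgHom.comp_apply, AlgHom.comp_apply] at h1
  have h2 : e (Ideal.Quotient.mkₐ A (RingHom.ker π) (χ b)) = π (χ b) := rfl
  rw [AlgHom.comp_apply, ← h2, h1]
  exact e.apply_symm_apply _

end general

section main

variable {A B : Type u} [CommRing A] [CommRing B] [Algebra A B] (𝔍 : Ideal B)

/-- the polynomial algebra on the conormal module -/
abbrev PM : Type u := MvPolynomial 𝔍.Cotangent (B ⧸ 𝔍)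

/-- the ideal of the variables -/
noncomputable abbrev XI : Ideal (PM 𝔍) := MvPolynomial.idealOfVars 𝔍.Cotangent (B ⧸ 𝔍)

/-- truncated polynomial algebras -/
abbrev TN (N : ℕ) : Type u := PM 𝔍 ⧸ (XI 𝔍) ^ N

/-- evaluation as an `A`-algebra map -/
noncomputable def evA {R : Type u} [CommRing R] [Algebra A R] (σ : (B ⧸ 𝔍) →ₐ[A] R)
    (g : 𝔍.Cotangent → R) : PM 𝔍 →ₐ[A] R :=
  { MvPolynomial.eval₂Hom (σ : (B ⧸ 𝔍) →+* R) g with
    commutes' := fun a => by
      show MvPolynomial.eval₂Hom (σ : (B ⧸ 𝔍) →+* R) g (algebraMap A (PM 𝔍) a) = _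
      rw [MvPolynomial.algebraMap_apply, MvPolynomial.eval₂Hom_C]
      exact σ.commutes a }

theorem evA_C {R : Type u} [CommRing R] [Algebra A R] (σ : (B ⧸ 𝔍) →ₐ[A] R)
    (g : 𝔍.Cotangent → R) (c : B ⧸ 𝔍) : evA 𝔍 σ g (MvPolynomial.C c) = σ c :=
  MvPolynomial.eval₂Hom_C _ _ _

theorem evA_X {R : Type u} [CommRing R] [Algebra A R] (σ : (B ⧸ 𝔍) →ₐ[A] R)
    (g : 𝔍.Cotangent → R) (m : 𝔍.Cotangent) : evA 𝔍 σ g (MvPolynomial.X m) = g m :=
  MvPolynomial.eval₂Hom_X' _ _ _

/-- the constant coefficient as an `A`-algebra map -/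
noncomputable def ccA : PM 𝔍 →ₐ[A] (B ⧸ 𝔍) :=
  { (MvPolynomial.constantCoeff : PM 𝔍 →+* (B ⧸ 𝔍)) with
    commutes' := fun a => by
      show MvPolynomial.constantCoeff (algebraMap A (PM 𝔍) a) = _
      rw [MvPolynomial.algebraMap_apply, MvPolynomial.constantCoeff_C] }

theorem ccA_apply (p : PM 𝔍) : ccA (A := A) 𝔍 p = MvPolynomial.constantCoeff p := rfl

theorem mem_XI_iff (p : PM 𝔍) : p ∈ XI 𝔍 ↔ MvPolynomial.constantCoeff p = 0 := by
  have h := MvPolynomial.mem_pow_idealOfVars_iff' (σ := 𝔍.Cotangent) (R := B ⧸ 𝔍) 1 p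
  rw [pow_one] at h
  rw [h, MvPolynomial.constantCoeff_eq]
  constructor
  · intro hx
    exact hx 0 (by simp)
  · intro h0 x hx
    have h1 : Finsupp.degree x = 0 := by omega
    rw [Finsupp.degree_eq_zero_iff] at h1
    rw [h1]
    exact h0

theorem X_mem_XI (m : 𝔍.Cotangent) : (MvPolynomial.X m : PM 𝔍) ∈ XI 𝔍 :=
  Ideal.subset_span ⟨m, rfl⟩

theorem sub_C_mem_XI (p : PM 𝔍) : p - MvPolynomial.C (MvPolynomial.constantCoeff p) ∈ XI 𝔍 := by
  rw [mem_XI_iff, map_sub, MvPolynomial.constantCoeff_C, sub_self]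

/-- the constant coefficient on the truncations -/
noncomputable def ccN (N : ℕ) (hN : 1 ≤ N) : TN 𝔍 N →ₐ[A] (B ⧸ 𝔍) :=
  Ideal.Quotient.liftₐ ((XI 𝔍) ^ N) (ccA 𝔍) (fun p hp => by
    have h1 : p ∈ XI 𝔍 := Ideal.pow_le_self (by omega) hp
    exact (mem_XI_iff 𝔍 p).mp h1)

theorem ccN_mk (N : ℕ) (hN : 1 ≤ N) (p : PM 𝔍) :
    ccN (A := A) 𝔍 N hN (Ideal.Quotient.mk _ p) = MvPolynomial.constantCoeff p := rfl

/-! ### the linear coefficients -/

/-- the coefficients of the variables -/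
noncomputable def linP : PM 𝔍 →ₗ[B ⧸ 𝔍] (𝔍.Cotangent →₀ (B ⧸ 𝔍)) where
  toFun p := Finsupp.ofSupportFinite
    (fun m => MvPolynomial.coeff (Finsupp.single m 1) p) (by
      apply Set.Finite.subset ((p.support.finite_toSet).preimage
        (f := fun m : 𝔍.Cotangent => (Finsupp.single m 1 : 𝔍.Cotangent →₀ ℕ))
        (Set.injOn_of_injective (Finsupp.single_left_injective one_ne_zero)))
      intro m hm
      simpa [MvPolynomial.mem_support_iff] using hm)
  map_add' p q := by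
    ext m
    simp [Finsupp.ofSupportFinite_coe, MvPolynomial.coeff_add]
  map_smul' c p := by
    ext m
    simp [Finsupp.ofSupportFinite_coe, MvPolynomial.coeff_smul]

theorem linP_apply (p : PM 𝔍) (m : 𝔍.Cotangent) :
    linP 𝔍 p m = MvPolynomial.coeff (Finsupp.single m 1) p := rfl

theorem linP_of_mem_sq (p : PM 𝔍) (hp : p ∈ XI 𝔍 ^ 2) : linP 𝔍 p = 0 := by
  ext m
  rw [linP_apply, Finsupp.zero_apply]
  exact (MvPolynomial.mem_pow_idealOfVars_iff' 2 p).mp hp (Finsupp.single m 1)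
    (by rw [Finsupp.degree_single]; omega)

theorem linP_C (c : B ⧸ 𝔍) : linP 𝔍 (MvPolynomial.C c) = 0 := by
  classical
  ext m
  rw [linP_apply, Finsupp.zero_apply, MvPolynomial.coeff_C, if_neg]
  intro h
  have h1 := DFunLike.congr_fun h m
  simp at h1

theorem linP_mul_X (p : PM 𝔍) (m : 𝔍.Cotangent) :
    linP 𝔍 (p * MvPolynomial.X m) = MvPolynomial.constantCoeff p • Finsupp.single m 1 := by
  classical
  ext m'
  rw [linP_apply, MvPolynomial.coeff_mul_X', Finsupp.smul_apply, Finsupp.single_apply]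
  by_cases h : m = m'
  · subst h
    have hm : m ∈ (Finsupp.single m 1 : 𝔍.Cotangent →₀ ℕ).support := by simp
    rw [if_pos hm, if_pos rfl, tsub_self, smul_eq_mul, mul_one, MvPolynomial.constantCoeff_eq]
  · have hm : m ∉ (Finsupp.single m' 1 : 𝔍.Cotangent →₀ ℕ).support := by
      simp [h]
    rw [if_neg hm, if_neg h, smul_zero]

theorem linP_X (m : 𝔍.Cotangent) : linP 𝔍 (MvPolynomial.X m) = Finsupp.single m 1 := by
  have h := linP_mul_X 𝔍 1 m
  rwa [one_mul, map_one, one_smul] at h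

theorem linP_mul (p q : PM 𝔍) :
    linP 𝔍 (p * q) = MvPolynomial.constantCoeff p • linP 𝔍 q +
      MvPolynomial.constantCoeff q • linP 𝔍 p := by
  induction q using MvPolynomial.induction_on with
  | C c =>
    rw [linP_C, smul_zero, zero_add, MvPolynomial.constantCoeff_C, mul_comm,
      MvPolynomial.C_mul', map_smul]
  | add q₁ q₂ h₁ h₂ =>
    rw [mul_add, map_add, h₁, h₂, map_add, map_add, smul_add, add_smul]
    abel
  | mul_X q m _ =>
    rw [← mul_assoc, linP_mul_X, linP_mul_X, map_mul, map_mul, MvPolynomial.constantCoeff_X,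
      mul_zero, zero_smul, add_zero, mul_smul]

theorem linP_linForm (v : 𝔍.Cotangent →₀ (B ⧸ 𝔍)) : linP 𝔍 (SymPow.linForm v) = v := by
  induction v using Finsupp.induction_linear with
  | zero => rw [map_zero, map_zero]
  | add v w hv hw => rw [map_add, map_add, hv, hw]
  | single m c =>
    have h1 : (Finsupp.single m c : 𝔍.Cotangent →₀ (B ⧸ 𝔍)) = c • Finsupp.single m 1 := by
      rw [Finsupp.smul_single, smul_eq_mul, mul_one]
    rw [h1, map_smul, map_smul, SymPow.linForm_single, linP_X]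

/-- every polynomial is its constant term plus its linear form modulo `(X)²` -/
theorem rep2 (p : PM 𝔍) :
    p - MvPolynomial.C (MvPolynomial.constantCoeff p) - SymPow.linForm (linP 𝔍 p) ∈
      XI 𝔍 ^ 2 := by
  induction p using MvPolynomial.induction_on with
  | C c =>
    rw [MvPolynomial.constantCoeff_C, sub_self, linP_C, map_zero, sub_zero]
    exact zero_mem _
  | add p q hp hq =>
    have e : p + q - MvPolynomial.C (MvPolynomial.constantCoeff (p + q)) -
        SymPow.linForm (linP 𝔍 (p + q)) =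
        (p - MvPolynomial.C (MvPolynomial.constantCoeff p) - SymPow.linForm (linP 𝔍 p)) +
        (q - MvPolynomial.C (MvPolynomial.constantCoeff q) - SymPow.linForm (linP 𝔍 q)) := by
      rw [map_add, map_add, map_add, map_add]
      ring
    rw [e]
    exact add_mem hp hq
  | mul_X p m _ =>
    have e : p * MvPolynomial.X m -
        MvPolynomial.C (MvPolynomial.constantCoeff (p * MvPolynomial.X m)) -
        SymPow.linForm (linP 𝔍 (p * MvPolynomial.X m)) =
        (p - MvPolynomial.C (MvPolynomial.constantCoeff p)) * MvPolynomial.X m := by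
      rw [linP_mul_X, map_smul, SymPow.linForm_single, map_mul, MvPolynomial.constantCoeff_X,
        mul_zero, map_zero, sub_zero, MvPolynomial.smul_eq_C_mul]
      ring
    rw [e, sq]
    exact Ideal.mul_mem_mul (sub_C_mem_XI 𝔍 p) (X_mem_XI 𝔍 m)

end main

end Groth.Agent.H46.AdicFS
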