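import Groth.Agent.H46.AdicFSa

/-!
# Adic formal smoothness ⇒ projective conormal module and `Sym ≃ gr`, part 2 (helper46)
-/

set_option autoImplicit false
set_option maxHeartbeats 400000

namespace Groth.Agent.H46.AdicFS

open Groth.Agent.H46.SymGr Groth.Agent.H46.SymGrJ Groth.Agent.H46.DiffQR
open Groth.Agent.H75

universe u

section main

variable (A : Type u) {B : Type u} [CommRing A] [CommRing B] [Algebra A B] (𝔍 : Ideal B)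

/-- `B/𝔍² → B/𝔍` -/
noncomputable def q2 : (B ⧸ 𝔍 ^ 2) →ₐ[A] (B ⧸ 𝔍) :=
  Ideal.Quotient.factorₐ A (Ideal.pow_le_self two_ne_zero)

theorem q2_mk (b : B) :
    q2 A 𝔍 (Ideal.Quotient.mk _ b) = Ideal.Quotient.mk _ b := rfl

theorem q2_surjective : Function.Surjective (q2 A 𝔍) := by
  intro y
  obtain ⟨b, rfl⟩ := Ideal.Quotient.mk_surjective y
  exact ⟨Ideal.Quotient.mk _ b, rfl⟩

/-- the class of an element of the cotangent module in `B/𝔍²` -/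
noncomputable abbrev cot : 𝔍.Cotangent →ₗ[B] (B ⧸ 𝔍 ^ 2) := 𝔍.cotangentToQuotientSquare

theorem cot_toCotangent (x : 𝔍) : cot 𝔍 (𝔍.toCotangent x) = Ideal.Quotient.mk _ (x : B) := rfl

theorem q2_cot (m : 𝔍.Cotangent) : q2 A 𝔍 (cot 𝔍 m) = 0 := by
  obtain ⟨x, rfl⟩ := 𝔍.toCotangent_surjective m
  rw [cot_toCotangent, q2_mk]
  exact Ideal.Quotient.eq_zero_iff_mem.mpr x.2

theorem exists_cot_of_q2_eq_zero (y : B ⧸ 𝔍 ^ 2) (hy : q2 A 𝔍 y = 0) :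
    ∃ m : 𝔍.Cotangent, cot 𝔍 m = y := by
  obtain ⟨b, rfl⟩ := Ideal.Quotient.mk_surjective y
  rw [q2_mk] at hy
  have hb : b ∈ 𝔍 := Ideal.Quotient.eq_zero_iff_mem.mp hy
  exact ⟨𝔍.toCotangent ⟨b, hb⟩, rfl⟩

theorem cot_mul_cot (m m' : 𝔍.Cotangent) : cot 𝔍 m * cot 𝔍 m' = 0 := by
  obtain ⟨x, rfl⟩ := 𝔍.toCotangent_surjective m
  obtain ⟨y, rfl⟩ := 𝔍.toCotangent_surjective m'
  rw [cot_toCotangent, cot_toCotangent, ← map_mul]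
  apply Ideal.Quotient.eq_zero_iff_mem.mpr
  rw [sq]
  exact Ideal.mul_mem_mul x.2 y.2

theorem ker_q2_sq : (RingHom.ker (q2 A 𝔍)) ^ 2 = ⊥ := by
  rw [eq_bot_iff, pow_two (RingHom.ker (q2 A 𝔍)), Ideal.mul_le]
  intro x hx y hy
  obtain ⟨m, rfl⟩ := exists_cot_of_q2_eq_zero A 𝔍 x hx
  obtain ⟨m', rfl⟩ := exists_cot_of_q2_eq_zero A 𝔍 y hy
  rw [cot_mul_cot]
  exact Ideal.zero_mem _

theorem mk_mul_cot (b : B) (m : 𝔍.Cotangent) :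
    Ideal.Quotient.mk (𝔍 ^ 2) b * cot 𝔍 m = cot 𝔍 ((Ideal.Quotient.mk 𝔍 b) • m) := by
  have h1 : (Ideal.Quotient.mk 𝔍 b) • m = b • m := by
    show (algebraMap B (B ⧸ 𝔍) b) • m = b • m
    rw [algebraMap_smul]
  rw [h1, map_smul, Algebra.smul_def]
  rfl

variable [Algebra.FormallySmooth A (B ⧸ 𝔍)]

/-- a section of `B/𝔍² → B/𝔍` -/
noncomputable def sec : (B ⧸ 𝔍) →ₐ[A] (B ⧸ 𝔍 ^ 2) :=
  Algebra.FormallySmooth.liftOfSurjective (AlgHom.id A (B ⧸ 𝔍)) (q2 A 𝔍) (q2_surjective A 𝔍)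
    ⟨2, ker_q2_sq A 𝔍⟩

theorem q2_sec (c : B ⧸ 𝔍) : q2 A 𝔍 (sec A 𝔍 c) = c :=
  Algebra.FormallySmooth.liftOfSurjective_apply _ _ _ _ c

theorem sec_mul_cot (c : B ⧸ 𝔍) (m : 𝔍.Cotangent) :
    sec A 𝔍 c * cot 𝔍 m = cot 𝔍 (c • m) := by
  obtain ⟨b, rfl⟩ := Ideal.Quotient.mk_surjective c
  have h1 : q2 A 𝔍 (sec A 𝔍 (Ideal.Quotient.mk 𝔍 b) - Ideal.Quotient.mk (𝔍 ^ 2) b) = 0 := by
    rw [map_sub, q2_sec, q2_mk, sub_self]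
  obtain ⟨m', hm'⟩ := exists_cot_of_q2_eq_zero A 𝔍 _ h1
  have h2 : sec A 𝔍 (Ideal.Quotient.mk 𝔍 b) = Ideal.Quotient.mk (𝔍 ^ 2) b + cot 𝔍 m' := by
    rw [hm']; ring
  rw [h2, add_mul, cot_mul_cot, add_zero, mk_mul_cot]

/-- the comparison map `C[M] → B/𝔍²` -/
noncomputable def G : PM 𝔍 →ₐ[A] (B ⧸ 𝔍 ^ 2) := evA 𝔍 (sec A 𝔍) (fun m => cot 𝔍 m)

theorem G_C (c : B ⧸ 𝔍) : G A 𝔍 (MvPolynomial.C c) = sec A 𝔍 c := evA_C 𝔍 _ _ c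

theorem G_X (m : 𝔍.Cotangent) : G A 𝔍 (MvPolynomial.X m) = cot 𝔍 m := evA_X 𝔍 _ _ m

theorem q2_G (p : PM 𝔍) : q2 A 𝔍 (G A 𝔍 p) = MvPolynomial.constantCoeff p := by
  induction p using MvPolynomial.induction_on with
  | C c => rw [G_C, q2_sec, MvPolynomial.constantCoeff_C]
  | add p q hp hq => rw [map_add, map_add, hp, hq, map_add]
  | mul_X p m _ =>
    rw [map_mul, map_mul, G_X, q2_cot, mul_zero, map_mul, MvPolynomial.constantCoeff_X, mul_zero]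

theorem G_of_mem (p : PM 𝔍) (hp : p ∈ XI 𝔍 ^ 2) : G A 𝔍 p = 0 := by
  have h1 : (XI 𝔍).map (G A 𝔍 : PM 𝔍 →+* (B ⧸ 𝔍 ^ 2)) ≤ RingHom.ker (q2 A 𝔍) := by
    rw [Ideal.map_le_iff_le_comap]
    apply Ideal.span_le.mpr
    rintro _ ⟨m, rfl⟩
    show G A 𝔍 (MvPolynomial.X m) ∈ RingHom.ker (q2 A 𝔍)
    rw [RingHom.mem_ker, G_X]
    exact q2_cot A 𝔍 m
  have h2 : (G A 𝔍 : PM 𝔍 →+* (B ⧸ 𝔍 ^ 2)) p ∈
      ((XI 𝔍) ^ 2).map (G A 𝔍 : PM 𝔍 →+* (B ⧸ 𝔍 ^ 2)) := Ideal.mem_map_of_mem _ hp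
  rw [Ideal.map_pow] at h2
  have h3 := Ideal.pow_right_mono h1 2 h2
  rw [ker_q2_sq] at h3
  exact h3

/-- the formula for `G` -/
theorem G_formula (p : PM 𝔍) :
    G A 𝔍 p = sec A 𝔍 (MvPolynomial.constantCoeff p) +
      cot 𝔍 (Finsupp.linearCombination (B ⧸ 𝔍) (id : 𝔍.Cotangent → 𝔍.Cotangent) (linP 𝔍 p)) := by
  induction p using MvPolynomial.induction_on with
  | C c => rw [G_C, MvPolynomial.constantCoeff_C, linP_C, map_zero, map_zero, add_zero]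
  | add p q hp hq =>
    rw [map_add, hp, hq, map_add, map_add, map_add, map_add, map_add]
    abel
  | mul_X p m hp =>
    have h1 : MvPolynomial.constantCoeff (p * MvPolynomial.X m : PM 𝔍) = 0 := by
      rw [map_mul, MvPolynomial.constantCoeff_X, mul_zero]
    have h2 : Finsupp.linearCombination (B ⧸ 𝔍) (id : 𝔍.Cotangent → 𝔍.Cotangent)
        (linP 𝔍 (p * MvPolynomial.X m)) = MvPolynomial.constantCoeff p • m := by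
      rw [linP_mul_X, map_smul, Finsupp.linearCombination_single, one_smul, id]
    rw [h1, h2, map_zero, zero_add, map_mul, G_X, hp, add_mul, cot_mul_cot, add_zero,
      sec_mul_cot]

/-- `C[M]/(X)² → B/𝔍²` -/
noncomputable def g1 : TN 𝔍 2 →ₐ[A] (B ⧸ 𝔍 ^ 2) :=
  Ideal.Quotient.liftₐ _ (G A 𝔍) (G_of_mem A 𝔍)

theorem g1_mk (p : PM 𝔍) : g1 A 𝔍 (Ideal.Quotient.mk _ p) = G A 𝔍 p := rfl

theorem g1_surjective : Function.Surjective (g1 A 𝔍) := by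
  intro y
  obtain ⟨b, rfl⟩ := Ideal.Quotient.mk_surjective y
  have h1 : q2 A 𝔍 (Ideal.Quotient.mk (𝔍 ^ 2) b - sec A 𝔍 (Ideal.Quotient.mk 𝔍 b)) = 0 := by
    rw [map_sub, q2_sec, q2_mk, sub_self]
  obtain ⟨m, hm⟩ := exists_cot_of_q2_eq_zero A 𝔍 _ h1
  refine ⟨Ideal.Quotient.mk _ (MvPolynomial.C (Ideal.Quotient.mk 𝔍 b) + MvPolynomial.X m), ?_⟩
  rw [g1_mk, map_add, G_C, G_X, hm]
  ring

theorem q2_g1 (t : TN 𝔍 2) : q2 A 𝔍 (g1 A 𝔍 t) = ccN (A := A) 𝔍 2 (by omega) t := by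
  obtain ⟨p, rfl⟩ := Ideal.Quotient.mk_surjective t
  rw [g1_mk, q2_G, ccN_mk]

theorem ker_g1_mul (x y : TN 𝔍 2) (hx : g1 A 𝔍 x = 0) (hy : g1 A 𝔍 y = 0) : x * y = 0 := by
  obtain ⟨p, rfl⟩ := Ideal.Quotient.mk_surjective x
  obtain ⟨q, rfl⟩ := Ideal.Quotient.mk_surjective y
  have hp : p ∈ XI 𝔍 := by
    rw [mem_XI_iff, ← q2_G A, ← g1_mk, hx, map_zero]
  have hq : q ∈ XI 𝔍 := by
    rw [mem_XI_iff, ← q2_G A, ← g1_mk, hy, map_zero]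
  rw [← map_mul]
  apply Ideal.Quotient.eq_zero_iff_mem.mpr
  rw [pow_two (XI 𝔍)]
  exact Ideal.mul_mem_mul hp hq

/-- the linear coefficients on `C[M]/(X)²` -/
noncomputable def linT : TN 𝔍 2 →ₗ[B ⧸ 𝔍] (𝔍.Cotangent →₀ (B ⧸ 𝔍)) :=
  (Submodule.liftQ (((XI 𝔍) ^ 2).restrictScalars (B ⧸ 𝔍)) (linP 𝔍) (fun p hp => by
    rw [LinearMap.mem_ker]
    exact linP_of_mem_sq 𝔍 p hp)).comp
    (Submodule.Quotient.restrictScalarsEquiv (B ⧸ 𝔍) ((XI 𝔍) ^ 2)).symm.toLinearMap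

theorem linT_mk (p : PM 𝔍) : linT 𝔍 (Ideal.Quotient.mk _ p) = linP 𝔍 p := rfl

theorem linT_mul (t t' : TN 𝔍 2) :
    linT 𝔍 (t * t') = ccN (A := A) 𝔍 2 (by omega) t • linT 𝔍 t' +
      ccN (A := A) 𝔍 2 (by omega) t' • linT 𝔍 t := by
  obtain ⟨p, rfl⟩ := Ideal.Quotient.mk_surjective t
  obtain ⟨q, rfl⟩ := Ideal.Quotient.mk_surjective t'
  rw [← map_mul, linT_mk, linT_mk, linT_mk, ccN_mk, ccN_mk, linP_mul]

end main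

end Groth.Agent.H46.AdicFS
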