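import Groth.Agent.H46.AdicFSb

/-!
# Adic formal smoothness ⇒ projective conormal module and `Sym ≃ gr`, part 3 (helper46)
-/

set_option autoImplicit false
set_option maxHeartbeats 400000

namespace Groth.Agent.H46.AdicFS

open Groth.Agent.H46.SymGr Groth.Agent.H46.SymGrJ Groth.Agent.H46.DiffQR
open Groth.Agent.H75

universe u

section lifts

variable (A : Type u) {B : Type u} [CommRing A] [CommRing B] [Algebra A B] (𝔍 : Ideal B)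

/-- transition maps of the truncations -/
noncomputable def gN (N : ℕ) (hN : 2 ≤ N) : TN 𝔍 N →ₐ[A] TN 𝔍 2 :=
  Ideal.Quotient.factorₐ A (Ideal.pow_le_pow_right hN)

theorem gN_mk (N : ℕ) (hN : 2 ≤ N) (p : PM 𝔍) :
    gN A 𝔍 N hN (Ideal.Quotient.mk _ p) = Ideal.Quotient.mk _ p := rfl

theorem gN_surjective (N : ℕ) (hN : 2 ≤ N) : Function.Surjective (gN A 𝔍 N hN) := by
  intro y
  obtain ⟨p, rfl⟩ := Ideal.Quotient.mk_surjective y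
  exact ⟨Ideal.Quotient.mk _ p, rfl⟩

theorem gN_ker_nilpotent (N : ℕ) (hN : 2 ≤ N) :
    IsNilpotent (RingHom.ker (gN A 𝔍 N hN : TN 𝔍 N →+* TN 𝔍 2)) := by
  refine ⟨N, ?_⟩
  rw [Ideal.zero_eq_bot, eq_bot_iff]
  have h1 : RingHom.ker (gN A 𝔍 N hN : TN 𝔍 N →+* TN 𝔍 2) ≤
      (XI 𝔍).map (Ideal.Quotient.mk ((XI 𝔍) ^ N)) := by
    intro x hx
    obtain ⟨p, rfl⟩ := Ideal.Quotient.mk_surjective x
    rw [RingHom.mem_ker] at hx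
    have hp : p ∈ (XI 𝔍) ^ 2 := Ideal.Quotient.eq_zero_iff_mem.mp hx
    exact Ideal.mem_map_of_mem _ (Ideal.pow_le_self two_ne_zero hp)
  have h2 := Ideal.pow_right_mono h1 N
  have e1 := Ideal.map_pow (Ideal.Quotient.mk ((XI 𝔍) ^ N)) (XI 𝔍) N
  rw [← e1, Ideal.map_quotient_self] at h2
  exact h2

theorem ccN_gN (N : ℕ) (hN : 2 ≤ N) (t : TN 𝔍 N) :
    ccN (A := A) 𝔍 2 (by omega) (gN A 𝔍 N hN t) = ccN (A := A) 𝔍 N (by omega) t := by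
  obtain ⟨p, rfl⟩ := Ideal.Quotient.mk_surjective t
  rfl

variable {A 𝔍} (N : ℕ) (hN : 1 ≤ N) (Ψ : B →ₐ[A] TN 𝔍 N)
  (hΨ : ∀ b, ccN (A := A) 𝔍 N hN (Ψ b) = Ideal.Quotient.mk 𝔍 b)

include hΨ in
theorem Psi_mem_map (x : B) (hx : x ∈ 𝔍) :
    Ψ x ∈ (XI 𝔍).map (Ideal.Quotient.mk ((XI 𝔍) ^ N)) := by
  obtain ⟨p, hp⟩ := Ideal.Quotient.mk_surjective (Ψ x)
  have h1 := hΨ x
  rw [← hp, ccN_mk, Ideal.Quotient.eq_zero_iff_mem.mpr hx] at h1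
  rw [← hp]
  exact Ideal.mem_map_of_mem _ ((mem_XI_iff 𝔍 p).mpr h1)

include hΨ in
theorem Psi_pow_mem (k : ℕ) (z : B) (hz : z ∈ 𝔍 ^ k) :
    Ψ z ∈ ((XI 𝔍) ^ k).map (Ideal.Quotient.mk ((XI 𝔍) ^ N)) := by
  have h1 : (𝔍).map (Ψ : B →+* TN 𝔍 N) ≤ (XI 𝔍).map (Ideal.Quotient.mk ((XI 𝔍) ^ N)) := by
    rw [Ideal.map_le_iff_le_comap]
    intro x hx
    exact Psi_mem_map N hN Ψ hΨ x hx
  have h2 : (Ψ : B →+* TN 𝔍 N) z ∈ (𝔍 ^ k).map (Ψ : B →+* TN 𝔍 N) :=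
    Ideal.mem_map_of_mem _ hz
  have e1 := Ideal.map_pow (Ψ : B →+* TN 𝔍 N) 𝔍 k
  rw [e1] at h2
  have h3 := Ideal.pow_right_mono h1 k h2
  have e2 := Ideal.map_pow (Ideal.Quotient.mk ((XI 𝔍) ^ N)) (XI 𝔍) k
  rw [← e2] at h3
  exact h3

include hΨ in
theorem Psi_eq_zero (z : B) (hz : z ∈ 𝔍 ^ N) : Ψ z = 0 := by
  have h := Psi_pow_mem N hN Ψ hΨ N z hz
  rw [Ideal.map_quotient_self] at h
  exact h

end lifts

section chi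

variable (A : Type u) {B : Type u} [CommRing A] [CommRing B] [Algebra A B] (𝔍 : Ideal B)
  [Algebra.FormallySmooth A (B ⧸ 𝔍)]
  (χ : B →ₐ[A] TN 𝔍 2) (hχ : ∀ b, g1 A 𝔍 (χ b) = Ideal.Quotient.mk (𝔍 ^ 2) b)

include hχ in
theorem cc_chi (b : B) : ccN (A := A) 𝔍 2 (by omega) (χ b) = Ideal.Quotient.mk 𝔍 b := by
  rw [← q2_g1, hχ, q2_mk]

/-- the linear part of `χ` on `𝔍` -/
noncomputable def sB : 𝔍 →ₗ[B] (𝔍.Cotangent →₀ (B ⧸ 𝔍)) where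
  toFun x := linT 𝔍 (χ x)
  map_add' x y := by rw [Submodule.coe_add, map_add, map_add]
  map_smul' b x := by
    rw [RingHom.id_apply, Submodule.coe_smul, smul_eq_mul, map_mul, linT_mul A,
      cc_chi A 𝔍 χ hχ, cc_chi A 𝔍 χ hχ, Ideal.Quotient.eq_zero_iff_mem.mpr x.2, zero_smul,
      add_zero]
    show (algebraMap B (B ⧸ 𝔍) b) • _ = _
    rw [algebraMap_smul]

theorem sB_apply (x : 𝔍) : sB A 𝔍 χ hχ x = linT 𝔍 (χ x) := rfl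

theorem sB_mul (x y : 𝔍) : sB A 𝔍 χ hχ (x * y) = 0 := by
  show linT 𝔍 (χ ((x : B) * (y : B))) = 0
  rw [map_mul, linT_mul A, cc_chi A 𝔍 χ hχ, cc_chi A 𝔍 χ hχ,
    Ideal.Quotient.eq_zero_iff_mem.mpr x.2, Ideal.Quotient.eq_zero_iff_mem.mpr y.2, zero_smul,
    zero_smul, add_zero]

/-- the section of `(M →₀ C) → M` given by `χ` -/
noncomputable def sC : 𝔍.Cotangent →ₗ[B ⧸ 𝔍] (𝔍.Cotangent →₀ (B ⧸ 𝔍)) :=
  LinearMap.extendScalarsOfSurjective Ideal.Quotient.mk_surjective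
    (Ideal.Cotangent.lift (sB A 𝔍 χ hχ) (sB_mul A 𝔍 χ hχ))

theorem sC_toCotangent (x : 𝔍) : sC A 𝔍 χ hχ (𝔍.toCotangent x) = linT 𝔍 (χ x) := rfl

theorem pi_sC (m : 𝔍.Cotangent) :
    Finsupp.linearCombination (B ⧸ 𝔍) (id : 𝔍.Cotangent → 𝔍.Cotangent) (sC A 𝔍 χ hχ m) = m := by
  obtain ⟨x, rfl⟩ := 𝔍.toCotangent_surjective m
  apply 𝔍.cotangentToQuotientSquare_injective
  obtain ⟨p, hp⟩ := Ideal.Quotient.mk_surjective (χ x)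
  have h1 := G_formula A 𝔍 p
  have h2 : MvPolynomial.constantCoeff p = 0 := by
    rw [← ccN_mk (A := A) 𝔍 2 (by omega), hp, cc_chi A 𝔍 χ hχ]
    exact Ideal.Quotient.eq_zero_iff_mem.mpr x.2
  have h3 : G A 𝔍 p = Ideal.Quotient.mk (𝔍 ^ 2) (x : B) := by
    rw [← g1_mk, hp, hχ]
  rw [h2, map_zero, zero_add, h3] at h1
  rw [sC_toCotangent, ← hp, linT_mk]
  exact h1.symm

/-! ### higher lifts -/

variable (N : ℕ) (hN : 2 ≤ N) (Ψ : B →ₐ[A] TN 𝔍 N) (hΨ : ∀ b, gN A 𝔍 N hN (Ψ b) = χ b)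

include hχ hΨ in
theorem cc_Psi (b : B) : ccN (A := A) 𝔍 N (by omega) (Ψ b) = Ideal.Quotient.mk 𝔍 b := by
  rw [← ccN_gN A 𝔍 N hN, hΨ, cc_chi A 𝔍 χ hχ]

include hΨ in
theorem exists_rep (x : 𝔍) :
    ∃ p : PM 𝔍, Ψ x = Ideal.Quotient.mk _ p ∧ p ∈ XI 𝔍 ∧
      p - SymPow.linForm (sC A 𝔍 χ hχ (𝔍.toCotangent x)) ∈ XI 𝔍 ^ 2 := by
  obtain ⟨p, hp⟩ := Ideal.Quotient.mk_surjective (Ψ x)
  have h0 : MvPolynomial.constantCoeff p = 0 := by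
    rw [← ccN_mk (A := A) 𝔍 N (by omega), hp, cc_Psi A 𝔍 χ hχ N hN Ψ hΨ]
    exact Ideal.Quotient.eq_zero_iff_mem.mpr x.2
  have h1 : χ x = Ideal.Quotient.mk _ p := by
    rw [← hΨ, ← hp, gN_mk]
  refine ⟨p, hp.symm, (mem_XI_iff 𝔍 p).mpr h0, ?_⟩
  have h2 := rep2 𝔍 p
  rw [h0, map_zero, sub_zero] at h2
  rw [sC_toCotangent, h1, linT_mk]
  exact h2

end chi

end Groth.Agent.H46.AdicFS
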