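import Groth.Agent.H46.AdicFSc

/-!
# Adic formal smoothness ⇒ projective conormal module and `Sym ≃ gr`, part 4 (helper46)
-/

set_option autoImplicit false
set_option maxHeartbeats 400000

namespace Groth.Agent.H46.AdicFS

open Groth.Agent.H46.SymGr Groth.Agent.H46.SymGrJ Groth.Agent.H46.DiffQR
open Groth.Agent.H75

universe u

section bridge

variable {B : Type u} [CommRing B] (𝔍 : Ideal B) (ι : Type u)

theorem smul_compat (r : B) (m : 𝔍.Cotangent) : r • m = (Ideal.Quotient.mk 𝔍 r) • m := by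
  show r • m = (algebraMap B (B ⧸ 𝔍) r) • m
  rw [algebraMap_smul]

/-- `Sym_B^ι(𝔍/𝔍²) → Sym_{B/𝔍}^ι(𝔍/𝔍²)` -/
noncomputable def chgBC : SymmetricPower B ι 𝔍.Cotangent →+ SymmetricPower (B ⧸ 𝔍) ι 𝔍.Cotangent :=
  chg (Ideal.Quotient.mk 𝔍) ι (smul_compat 𝔍)

theorem chgBC_tprod (w : ι → 𝔍.Cotangent) :
    chgBC 𝔍 ι (SymmetricPower.tprod B w) = SymmetricPower.tprod (B ⧸ 𝔍) w :=
  chg_tprod _ ι (smul_compat 𝔍) w

variable [Nonempty ι]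

/-- the inverse of `chgBC` -/
noncomputable def chgInv :
    SymmetricPower (B ⧸ 𝔍) ι 𝔍.Cotangent →+ SymmetricPower B ι 𝔍.Cotangent :=
  letI : Module (B ⧸ 𝔍) (SymmetricPower B ι 𝔍.Cotangent) :=
    Module.IsTorsionBySet.module (fun x a => smul_sym_eq_zero B 𝔍 ι a.2 x)
  (symLift (R := B ⧸ 𝔍) (ι := ι) (M := 𝔍.Cotangent) (N := SymmetricPower B ι 𝔍.Cotangent)
    { toFun := fun w => SymmetricPower.tprod B w
      map_update_add' := by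
        intro _ w i a b
        exact MultilinearMap.map_update_add _ w i a b
      map_update_smul' := by
        intro _ w i c a
        obtain ⟨r, rfl⟩ := Ideal.Quotient.mk_surjective c
        rw [← smul_compat, MultilinearMap.map_update_smul]
        exact (Module.IsTorsionBySet.mk_smul _ r _).symm }
    (fun e x => SymmetricPower.tprod_equiv e x)).toAddMonoidHom

theorem chgInv_tprod (w : ι → 𝔍.Cotangent) :
    chgInv 𝔍 ι (SymmetricPower.tprod (B ⧸ 𝔍) w) = SymmetricPower.tprod B w := by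
  letI : Module (B ⧸ 𝔍) (SymmetricPower B ι 𝔍.Cotangent) :=
    Module.IsTorsionBySet.module (fun x a => smul_sym_eq_zero B 𝔍 ι a.2 x)
  unfold chgInv
  exact symLift_tprod (R := B ⧸ 𝔍) _ (fun e x => SymmetricPower.tprod_equiv e x) w

theorem chgInv_chgBC (t : SymmetricPower B ι 𝔍.Cotangent) : chgInv 𝔍 ι (chgBC 𝔍 ι t) = t := by
  have ht := mem_closure_tprod t
  induction ht using AddSubmonoid.closure_induction with
  | mem y hy =>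
    obtain ⟨w, rfl⟩ := hy
    rw [chgBC_tprod, chgInv_tprod]
  | zero => rw [map_zero, map_zero]
  | add y y' _ _ hy hy' => rw [map_add, map_add, hy, hy']

theorem chgBC_injective : Function.Injective (chgBC 𝔍 ι) :=
  Function.LeftInverse.injective (chgInv_chgBC 𝔍 ι)

end bridge

section tau

variable {B : Type u} [CommRing B] (𝔍 : Ideal B) (ι : Type u) [Fintype ι]

/-- `Sym^ι (M →₀ C) → C[M]/(X)^(n+1)` -/
noncomputable def tau : SymmetricPower (B ⧸ 𝔍) ι (𝔍.Cotangent →₀ (B ⧸ 𝔍)) →+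
    TN 𝔍 (Fintype.card ι + 1) :=
  (Ideal.Quotient.mk ((XI 𝔍) ^ (Fintype.card ι + 1))).toAddMonoidHom.comp
    (SymPow.sigma (B := B ⧸ 𝔍) (X := 𝔍.Cotangent) (ι := ι)).toAddMonoidHom

theorem tau_apply (a : SymmetricPower (B ⧸ 𝔍) ι (𝔍.Cotangent →₀ (B ⧸ 𝔍))) :
    tau 𝔍 ι a = Ideal.Quotient.mk _ (SymPow.sigma a) := rfl

theorem tau_injective : Function.Injective (tau 𝔍 ι) := by
  intro c d h
  rw [tau_apply, tau_apply] at h
  have hk := Ideal.Quotient.eq.mp h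
  have e : SymPow.sigma c = SymPow.sigma d + (SymPow.sigma c - SymPow.sigma d) := by ring
  have h2 := congrArg (SymPow.retr (ι := ι)) e
  rw [map_add, SymPow.retr_sigma, SymPow.retr_sigma, SymPow.retr_eq_zero_of_mem _ hk,
    add_zero] at h2
  exact h2

end tau

section main

variable (A : Type u) {B : Type u} [CommRing A] [CommRing B] [Algebra A B] (𝔍 : Ideal B)
  [Algebra.FormallySmooth A (B ⧸ 𝔍)]
  (χ : B →ₐ[A] TN 𝔍 2) (hχ : ∀ b, g1 A 𝔍 (χ b) = Ideal.Quotient.mk (𝔍 ^ 2) b)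
  (ι : Type u) [Fintype ι] [Nonempty ι]

theorem two_le_card : 2 ≤ Fintype.card ι + 1 := by
  have := Fintype.card_pos (α := ι)
  omega

variable (Ψ : B →ₐ[A] TN 𝔍 (Fintype.card ι + 1))
  (hΨ : ∀ b, gN A 𝔍 (Fintype.card ι + 1) (two_le_card ι) (Ψ b) = χ b)

include hΨ in
theorem Psi_prod (x : ι → 𝔍) :
    Ψ (∏ i, (x i : B)) = tau 𝔍 ι (SymmetricPower.tprod (B ⧸ 𝔍)
      (fun i => sC A 𝔍 χ hχ (𝔍.toCotangent (x i)))) := by
  choose p hp1 hp2 hp3 using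
    fun i => exists_rep A 𝔍 χ hχ (Fintype.card ι + 1) (two_le_card ι) Ψ hΨ (x i)
  rw [map_prod]
  simp only [hp1]
  have e1 := map_prod (Ideal.Quotient.mk ((XI 𝔍) ^ (Fintype.card ι + 1))) p Finset.univ
  rw [← e1, tau_apply, Ideal.Quotient.eq, SymPow.sigma_tprod]
  have h3 := SymPow.prod_sub_prod_mem (XI 𝔍) Finset.univ p
    (fun i => SymPow.linForm (sC A 𝔍 χ hχ (𝔍.toCotangent (x i))))
    (fun i _ => hp2 i) (fun i _ => SymPow.linForm_mem _) (fun i _ => hp3 i)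
  rw [Finset.card_univ] at h3
  exact h3

include hχ hΨ in
theorem Psi_kills (z : B) (hz : z ∈ 𝔍 ^ (Fintype.card ι + 1)) : Ψ z = 0 :=
  Psi_eq_zero (Fintype.card ι + 1) (by omega) Ψ
    (cc_Psi A 𝔍 χ hχ (Fintype.card ι + 1) (two_le_card ι) Ψ hΨ) z hz

/-- `B/𝔍^(n+1) → C[M]/(X)^(n+1)` -/
noncomputable def Theta : (B ⧸ 𝔍 ^ (Fintype.card ι + 1)) →+* TN 𝔍 (Fintype.card ι + 1) :=
  Ideal.Quotient.lift (𝔍 ^ (Fintype.card ι + 1)) (Ψ : B →+* TN 𝔍 (Fintype.card ι + 1))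
    (fun z hz => Psi_kills A 𝔍 χ hχ ι Ψ hΨ z hz)

/-- `𝔍^n/𝔍^(n+1) → C[M]/(X)^(n+1)` -/
noncomputable def psi' : PP16.grJ B 𝔍 (Fintype.card ι) →+ TN 𝔍 (Fintype.card ι + 1) :=
  (Theta A 𝔍 χ hχ ι Ψ hΨ).toAddMonoidHom.comp (valJ B 𝔍 (Fintype.card ι)).toAddMonoidHom

theorem psi'_zetaJ (x : ι → 𝔍) :
    psi' A 𝔍 χ hχ ι Ψ hΨ (PP16.zetaJ B 𝔍 x) = Ψ (∏ i, (x i : B)) := rfl

theorem key (t : SymmetricPower B ι 𝔍.Cotangent) :
    psi' A 𝔍 χ hχ ι Ψ hΨ (phiJ B 𝔍 ι t) =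
      tau 𝔍 ι (SymPow.map (sC A 𝔍 χ hχ) (chgBC 𝔍 ι t)) := by
  have ht := mem_closure_tprod t
  induction ht using AddSubmonoid.closure_induction with
  | mem y hy =>
    obtain ⟨w, rfl⟩ := hy
    obtain ⟨x, rfl⟩ : ∃ x : ι → ↥𝔍, w = fun i => 𝔍.toCotangent (x i) :=
      ⟨fun i => outJ B 𝔍 (w i), funext fun i => (toCotangent_outJ B 𝔍 (w i)).symm⟩
    rw [phiJ_tprod, psi'_zetaJ, Psi_prod A 𝔍 χ hχ ι Ψ hΨ, chgBC_tprod, SymPow.map_tprod]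
  | zero => simp only [map_zero]
  | add y y' _ _ hy hy' => simp only [map_add, hy, hy']

include hχ hΨ in
theorem phiJ_injective : Function.Injective (phiJ B 𝔍 ι) := by
  have hinj : Function.Injective (SymPow.map (R := B ⧸ 𝔍) (ι := ι) (sC A 𝔍 χ hχ)) := by
    have h1 : (SymPow.map (R := B ⧸ 𝔍) (ι := ι)
        (Finsupp.linearCombination (B ⧸ 𝔍) (id : 𝔍.Cotangent → 𝔍.Cotangent))).comp
        (SymPow.map (sC A 𝔍 χ hχ)) = LinearMap.id := by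
      apply SymPow.hom_ext
      intro w
      rw [LinearMap.comp_apply, SymPow.map_tprod, SymPow.map_tprod, LinearMap.id_apply]
      congr 1
      funext i
      exact pi_sC A 𝔍 χ hχ (w i)
    exact Function.LeftInverse.injective (fun a => LinearMap.congr_fun h1 a)
  rw [injective_iff_map_eq_zero]
  intro t ht
  apply chgBC_injective 𝔍 ι
  rw [map_zero]
  apply hinj
  rw [map_zero]
  apply tau_injective 𝔍 ι
  rw [map_zero, ← key A 𝔍 χ hχ ι Ψ hΨ, ht, map_zero]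

end main

/-- `nil_lift` for maps between quotient rings (avoids expensive instance unification) -/
theorem nil_lift_quot {A B : Type u} [CommRing A] [CommRing B] [Algebra A B] {𝔫 : Ideal B}
    (h : CAlgX.IsAdicFormallySmooth A B 𝔫)
    {P P' : Type u} [CommRing P] [CommRing P'] [Algebra A P] [Algebra A P'] (I : Ideal P)
    (I' : Ideal P') (π : (P ⧸ I) →ₐ[A] (P' ⧸ I')) (hπ : Function.Surjective π)
    (hker : IsNilpotent (RingHom.ker (π : (P ⧸ I) →+* (P' ⧸ I'))))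
    (ψ : B →ₐ[A] (P' ⧸ I')) (hψ : ∃ k : ℕ, ∀ x ∈ 𝔫 ^ k, ψ x = 0) :
    ∃ χ : B →ₐ[A] (P ⧸ I), π.comp χ = ψ := nil_lift h π hπ hker ψ hψ

theorem g1_ker_nilpotent (A : Type u) {B : Type u} [CommRing A] [CommRing B] [Algebra A B]
    (𝔍 : Ideal B) [Algebra.FormallySmooth A (B ⧸ 𝔍)] :
    IsNilpotent (RingHom.ker (g1 A 𝔍 : TN 𝔍 2 →+* B ⧸ 𝔍 ^ 2)) := by
  refine ⟨2, ?_⟩
  rw [Ideal.zero_eq_bot, eq_bot_iff]
  have h1 : RingHom.ker (g1 A 𝔍 : TN 𝔍 2 →+* B ⧸ 𝔍 ^ 2) ≤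
      (XI 𝔍).map (Ideal.Quotient.mk ((XI 𝔍) ^ 2)) := by
    intro x hx
    obtain ⟨p, rfl⟩ := Ideal.Quotient.mk_surjective x
    rw [RingHom.mem_ker] at hx
    have hx' : g1 A 𝔍 (Ideal.Quotient.mk _ p) = 0 := hx
    have hp : p ∈ XI 𝔍 := by
      rw [mem_XI_iff, ← q2_G A, ← g1_mk, hx', map_zero]
    exact Ideal.mem_map_of_mem _ hp
  have h2 := Ideal.pow_right_mono h1 2
  have e1 := Ideal.map_pow (Ideal.Quotient.mk ((XI 𝔍) ^ 2)) (XI 𝔍) 2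
  rw [← e1, Ideal.map_quotient_self] at h2
  exact h2

/-- (a) ⇒ (b) -/
theorem a_imp_b (A : Type u) {B : Type u} [CommRing A] [CommRing B] [Algebra A B] (𝔍 : Ideal B)
    [Algebra.FormallySmooth A (B ⧸ 𝔍)] (h : CAlgX.IsAdicFormallySmooth A B 𝔍) :
    Module.Projective (B ⧸ 𝔍) 𝔍.Cotangent ∧ PP16.SymGrBijective B 𝔍 := by
  obtain ⟨χ, hχ0⟩ := nil_lift_quot h ((XI 𝔍) ^ 2) (𝔍 ^ 2) (g1 A 𝔍) (g1_surjective A 𝔍)
    (g1_ker_nilpotent A 𝔍) (Ideal.Quotient.mkₐ A (𝔍 ^ 2))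
    ⟨2, fun x hx => Ideal.Quotient.eq_zero_iff_mem.mpr hx⟩
  have hχ : ∀ b, g1 A 𝔍 (χ b) = Ideal.Quotient.mk (𝔍 ^ 2) b := fun b => AlgHom.congr_fun hχ0 b
  have hχ2 : ∀ x ∈ 𝔍 ^ 2, χ x = 0 := fun x hx =>
    Psi_eq_zero 2 (by omega) χ (cc_chi A 𝔍 χ hχ) x hx
  refine ⟨?_, ?_⟩
  · exact Module.Projective.of_split (sC A 𝔍 χ hχ)
      (Finsupp.linearCombination (B ⧸ 𝔍) (id : 𝔍.Cotangent → 𝔍.Cotangent))
      (LinearMap.ext fun m => pi_sC A 𝔍 χ hχ m)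
  · intro ι _ _
    obtain ⟨Ψ, hΨ0⟩ := nil_lift_quot h ((XI 𝔍) ^ (Fintype.card ι + 1)) ((XI 𝔍) ^ 2)
      (gN A 𝔍 (Fintype.card ι + 1) (two_le_card ι))
      (gN_surjective A 𝔍 _ _) (gN_ker_nilpotent A 𝔍 _ _) χ ⟨2, hχ2⟩
    have hΨ : ∀ b, gN A 𝔍 (Fintype.card ι + 1) (two_le_card ι) (Ψ b) = χ b :=
      fun b => AlgHom.congr_fun hΨ0 b
    exact ⟨phiJ B 𝔍 ι, phiJ_tprod B 𝔍 ι,
      phiJ_injective A 𝔍 χ hχ ι Ψ hΨ, phiJ_surjective B 𝔍 ι⟩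

end Groth.Agent.H46.AdicFS
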