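import Mathlib
import Groth.Agent.H75.SymPow

/-!
# Symmetric powers of a direct summand of a free module inside the polynomial ring (helper46)

For a module `X` over `R` with a section `s : X → (X →₀ R)` of the canonical surjection, the
endomorphism `S : R[X] → R[X]`, `X_m ↦ linForm (s m)`, and its interplay with homogeneous
components and with `sigma`, `retr` of `H75.SymPow`.
-/

set_option autoImplicit false
set_option maxHeartbeats 400000

namespace Groth.Agent.H46.AdicFS

open Groth.Agent.H75

universe u

section enum

theorem exists_enum {X : Type u} {ι : Type u} [Fintype ι] (d : X →₀ ℕ)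
    (h : d.degree = Fintype.card ι) :
    ∃ y : ι → X, (∑ i, Finsupp.single (y i) 1 : X →₀ ℕ) = d := by
  classical
  have hcard : Fintype.card (Σ x : d.support, Fin (d x)) = Fintype.card ι := by
    rw [Fintype.card_sigma, ← h, Finsupp.degree_apply]
    simp only [Fintype.card_fin]
    exact Finset.sum_coe_sort d.support d
  let e : (Σ x : d.support, Fin (d x)) ≃ ι := Fintype.equivOfCardEq hcard
  refine ⟨fun i => ((e.symm i).1 : X), ?_⟩
  rw [← Equiv.sum_comp e (fun i => (Finsupp.single ((e.symm i).1 : X) 1 : X →₀ ℕ))]
  simp only [Equiv.symm_apply_apply]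
  rw [Fintype.sum_sigma]
  simp only [Finset.sum_const, Finset.card_univ, Fintype.card_fin]
  have h2 : ∀ x : d.support, d x • (Finsupp.single (x : X) 1 : X →₀ ℕ) =
      Finsupp.single (x : X) (d x) := by
    intro x
    rw [Finsupp.smul_single, smul_eq_mul, mul_one]
  simp only [h2]
  rw [Finset.sum_coe_sort d.support (fun x => (Finsupp.single x (d x) : X →₀ ℕ))]
  exact Finsupp.sum_single d

end enum

section free

variable {R X ι : Type u} [CommRing R] [Fintype ι]

theorem sigma_retr_monomial (d : X →₀ ℕ) (h : d.degree = Fintype.card ι) :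
    SymPow.sigma (SymPow.retr (ι := ι) (MvPolynomial.monomial d (1 : R))) =
      MvPolynomial.monomial d (1 : R) := by
  classical
  have hex := exists_enum (ι := ι) d h
  rw [SymPow.retr_monomial, dif_pos hex, SymPow.sigma_tprod]
  simp only [SymPow.linForm_single]
  rw [SymPow.prod_X_eq, hex.choose_spec]

theorem sigma_retr (p : MvPolynomial X R)
    (hp : ∀ d, MvPolynomial.coeff d p ≠ 0 → d.degree = Fintype.card ι) :
    SymPow.sigma (SymPow.retr (ι := ι) p) = p := by
  classical
  conv_rhs => rw [p.as_sum]
  conv_lhs => rw [p.as_sum]
  rw [map_sum, map_sum]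
  refine Finset.sum_congr rfl (fun d hd => ?_)
  have h1 : MvPolynomial.monomial d (p.coeff d) =
      p.coeff d • MvPolynomial.monomial d (1 : R) := by
    rw [MvPolynomial.smul_monomial, smul_eq_mul, mul_one]
  rw [h1, map_smul, map_smul, sigma_retr_monomial d (hp d (MvPolynomial.mem_support_iff.mp hd))]

end free

section S

variable {R X : Type u} [CommRing R] [AddCommGroup X] [Module R X]
  (s : X →ₗ[R] (X →₀ R))

/-- the endomorphism `X_m ↦ linForm (s m)` of the polynomial ring -/
noncomputable def SS : MvPolynomial X R →ₐ[R] MvPolynomial X R :=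
  MvPolynomial.aeval (fun m => SymPow.linForm (s m))

theorem SS_X (m : X) : SS s (MvPolynomial.X m) = SymPow.linForm (s m) :=
  MvPolynomial.aeval_X _ m

theorem SS_C (c : R) : SS s (MvPolynomial.C c) = MvPolynomial.C c :=
  MvPolynomial.aeval_C _ c

theorem SS_linForm (f : X →₀ R) :
    SS s (SymPow.linForm f) =
      SymPow.linForm (s (Finsupp.linearCombination R (id : X → X) f)) := by
  induction f using Finsupp.induction_linear with
  | zero => simp only [map_zero]
  | add f g hf hg => simp only [map_add, hf, hg]
  | single m c =>
    have h1 : (Finsupp.single m c : X →₀ R) = c • Finsupp.single m 1 := by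
      rw [Finsupp.smul_single, smul_eq_mul, mul_one]
    rw [h1, map_smul, map_smul, SymPow.linForm_single, SS_X, map_smul, map_smul,
      Finsupp.linearCombination_single, one_smul, id, map_smul]

theorem isHomogeneous_linForm (f : X →₀ R) :
    (SymPow.linForm f : MvPolynomial X R).IsHomogeneous 1 := by
  induction f using Finsupp.induction_linear with
  | zero => rw [map_zero]; exact MvPolynomial.isHomogeneous_zero _ _ _
  | add f g hf hg => rw [map_add]; exact hf.add hg
  | single m c =>
    have h1 : (Finsupp.single m c : X →₀ R) = c • Finsupp.single m 1 := by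
      rw [Finsupp.smul_single, smul_eq_mul, mul_one]
    rw [h1, map_smul, SymPow.linForm_single, MvPolynomial.smul_eq_C_mul]
    exact (MvPolynomial.isHomogeneous_X R m).C_mul c

theorem SS_isHomogeneous (p : MvPolynomial X R) (n : ℕ) (hp : p.IsHomogeneous n) :
    (SS s p).IsHomogeneous n := by
  have h := hp.aeval (S := R) (fun m => SymPow.linForm (s m)) (n := 1)
    (fun m => isHomogeneous_linForm (s m))
  rwa [one_mul] at h

theorem SS_homogeneousComponent (j : ℕ) (q : MvPolynomial X R) :
    MvPolynomial.homogeneousComponent j (SS s q) = SS s (MvPolynomial.homogeneousComponent j q) := by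
  classical
  conv_lhs => rw [← MvPolynomial.sum_homogeneousComponent q]
  rw [map_sum, map_sum]
  have h1 : ∀ i ∈ Finset.range (q.totalDegree + 1),
      MvPolynomial.homogeneousComponent j (SS s (MvPolynomial.homogeneousComponent i q)) =
        if j = i then SS s (MvPolynomial.homogeneousComponent i q) else 0 := by
    intro i _
    exact MvPolynomial.homogeneousComponent_of_mem
      (SS_isHomogeneous s _ i (MvPolynomial.homogeneousComponent_isHomogeneous i q))
  rw [Finset.sum_congr rfl h1, Finset.sum_ite_eq]
  split_ifs with hj
  · rfl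
  · have h2 : q.totalDegree < j := by
      rw [Finset.mem_range] at hj
      omega
    rw [MvPolynomial.homogeneousComponent_eq_zero j q h2, map_zero]

variable {ι : Type u} [Fintype ι]

theorem sigma_map_SS (t : SymmetricPower R ι (X →₀ R)) :
    SymPow.sigma (SymPow.map (s ∘ₗ Finsupp.linearCombination R (id : X → X)) t) =
      SS s (SymPow.sigma t) := by
  have h : (SymPow.sigma (B := R) (X := X) (ι := ι)).comp
      (SymPow.map (s ∘ₗ Finsupp.linearCombination R (id : X → X))) =
      (SS s).toLinearMap.comp (SymPow.sigma (B := R) (X := X) (ι := ι)) := by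
    apply SymPow.hom_ext
    intro f
    rw [LinearMap.comp_apply, LinearMap.comp_apply, SymPow.map_tprod, SymPow.sigma_tprod,
      SymPow.sigma_tprod, AlgHom.toLinearMap_apply, map_prod]
    refine Finset.prod_congr rfl (fun i _ => ?_)
    rw [SS_linForm, LinearMap.comp_apply]
  exact LinearMap.congr_fun h t

end S

end Groth.Agent.H46.AdicFS
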