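import Groth.Agent.H46.AdicFSd
import Groth.Agent.H46.AdicFSe

/-!
# Projective conormal module and `Sym ≃ gr` ⇒ adic formal smoothness (helper46)

EGA 0_IV 19.5.4 (b) ⇒ (a), part 1: the comparison map `C[M] → B/𝔍^K`.
-/

set_option autoImplicit false
set_option maxHeartbeats 400000

namespace Groth.Agent.H46.AdicFS

open Groth.Agent.H46.SymGr Groth.Agent.H46.SymGrJ Groth.Agent.H46.DiffQR
open Groth.Agent.H75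

universe u

section qK

variable (A : Type u) {B : Type u} [CommRing A] [CommRing B] [Algebra A B] (𝔍 : Ideal B)

/-- `B/𝔍^K → B/𝔍` -/
noncomputable def qK (K : ℕ) (hK : 1 ≤ K) : (B ⧸ 𝔍 ^ K) →ₐ[A] (B ⧸ 𝔍) :=
  Ideal.Quotient.factorₐ A (Ideal.pow_le_self (by omega))

theorem qK_mk (K : ℕ) (hK : 1 ≤ K) (b : B) :
    qK A 𝔍 K hK (Ideal.Quotient.mk _ b) = Ideal.Quotient.mk _ b := rfl

theorem qK_surjective (K : ℕ) (hK : 1 ≤ K) : Function.Surjective (qK A 𝔍 K hK) := by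
  intro y
  obtain ⟨b, rfl⟩ := Ideal.Quotient.mk_surjective y
  exact ⟨Ideal.Quotient.mk _ b, rfl⟩

theorem qK_ker_nilpotent (K : ℕ) (hK : 1 ≤ K) :
    IsNilpotent (RingHom.ker (qK A 𝔍 K hK : (B ⧸ 𝔍 ^ K) →+* (B ⧸ 𝔍))) := by
  refine ⟨K, ?_⟩
  rw [Ideal.zero_eq_bot, eq_bot_iff]
  have h1 : RingHom.ker (qK A 𝔍 K hK : (B ⧸ 𝔍 ^ K) →+* (B ⧸ 𝔍)) ≤
      𝔍.map (Ideal.Quotient.mk (𝔍 ^ K)) := by
    intro x hx
    obtain ⟨b, rfl⟩ := Ideal.Quotient.mk_surjective x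
    rw [RingHom.mem_ker] at hx
    have hx' : qK A 𝔍 K hK (Ideal.Quotient.mk _ b) = 0 := hx
    rw [qK_mk] at hx'
    exact Ideal.mem_map_of_mem _ (Ideal.Quotient.eq_zero_iff_mem.mp hx')
  have h2 := Ideal.pow_right_mono h1 K
  have e1 := Ideal.map_pow (Ideal.Quotient.mk (𝔍 ^ K)) 𝔍 K
  rw [← e1, Ideal.map_quotient_self] at h2
  exact h2

/-- `B/𝔍^K → B/𝔍²` -/
noncomputable def red2 (K : ℕ) (hK : 2 ≤ K) : (B ⧸ 𝔍 ^ K) →ₐ[A] (B ⧸ 𝔍 ^ 2) :=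
  Ideal.Quotient.factorₐ A (Ideal.pow_le_pow_right hK)

theorem red2_mk (K : ℕ) (hK : 2 ≤ K) (b : B) :
    red2 A 𝔍 K hK (Ideal.Quotient.mk _ b) = Ideal.Quotient.mk _ b := rfl

theorem q2_red2 (K : ℕ) (hK : 2 ≤ K) (z : B ⧸ 𝔍 ^ K) :
    q2 A 𝔍 (red2 A 𝔍 K hK z) = qK A 𝔍 K (by omega) z := by
  obtain ⟨b, rfl⟩ := Ideal.Quotient.mk_surjective z
  rfl

theorem mul_cot_of_q2 (y : B ⧸ 𝔍 ^ 2) (c : B ⧸ 𝔍) (hy : q2 A 𝔍 y = c) (m : 𝔍.Cotangent) :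
    y * cot 𝔍 m = cot 𝔍 (c • m) := by
  obtain ⟨b, rfl⟩ := Ideal.Quotient.mk_surjective c
  have h1 : q2 A 𝔍 (y - Ideal.Quotient.mk (𝔍 ^ 2) b) = 0 := by
    rw [map_sub, hy, q2_mk, sub_self]
  obtain ⟨m', hm'⟩ := exists_cot_of_q2_eq_zero A 𝔍 _ h1
  have h2 : y = Ideal.Quotient.mk (𝔍 ^ 2) b + cot 𝔍 m' := by
    rw [hm']; ring
  rw [h2, add_mul, cot_mul_cot, add_zero, mk_mul_cot]

end qK

section gam

variable (A : Type u) {B : Type u} [CommRing A] [CommRing B] [Algebra A B] (𝔍 : Ideal B)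
  (s : 𝔍.Cotangent →ₗ[B ⧸ 𝔍] (𝔍.Cotangent →₀ (B ⧸ 𝔍)))
  (hs : ∀ m, Finsupp.linearCombination (B ⧸ 𝔍) (id : 𝔍.Cotangent → 𝔍.Cotangent) (s m) = m)
  (K : ℕ) (hK : 2 ≤ K)
  (σ : (B ⧸ 𝔍) →ₐ[A] (B ⧸ 𝔍 ^ K)) (hσ : ∀ c, qK A 𝔍 K (by omega) (σ c) = c)

/-- chosen representatives of the elements of the conormal module -/
noncomputable def yy (m : 𝔍.Cotangent) : B := (outJ B 𝔍 m : B)

theorem yy_mem (m : 𝔍.Cotangent) : yy 𝔍 m ∈ 𝔍 := (outJ B 𝔍 m).2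

theorem toCot_yy (m : 𝔍.Cotangent) : 𝔍.toCotangent ⟨yy 𝔍 m, yy_mem 𝔍 m⟩ = m :=
  toCotangent_outJ B 𝔍 m

/-- the comparison map `C[M] → B/𝔍^K` on the free symmetric algebra -/
noncomputable def gam0 : PM 𝔍 →ₐ[A] (B ⧸ 𝔍 ^ K) :=
  evA 𝔍 σ (fun m => Ideal.Quotient.mk _ (yy 𝔍 m))

theorem gam0_C (c : B ⧸ 𝔍) : gam0 A 𝔍 K σ (MvPolynomial.C c) = σ c := evA_C 𝔍 _ _ c

theorem gam0_X (m : 𝔍.Cotangent) :
    gam0 A 𝔍 K σ (MvPolynomial.X m) = Ideal.Quotient.mk _ (yy 𝔍 m) := evA_X 𝔍 _ _ m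

theorem gam0_pow_mem (i : ℕ) (p : PM 𝔍) (hp : p ∈ XI 𝔍 ^ i) :
    gam0 A 𝔍 K σ p ∈ (𝔍 ^ i).map (Ideal.Quotient.mk (𝔍 ^ K)) := by
  have h1 : (XI 𝔍).map (gam0 A 𝔍 K σ : PM 𝔍 →+* (B ⧸ 𝔍 ^ K)) ≤
      𝔍.map (Ideal.Quotient.mk (𝔍 ^ K)) := by
    rw [Ideal.map_le_iff_le_comap]
    apply Ideal.span_le.mpr
    rintro _ ⟨m, rfl⟩
    change (gam0 A 𝔍 K σ) (MvPolynomial.X m) ∈ 𝔍.map (Ideal.Quotient.mk (𝔍 ^ K))
    rw [gam0_X]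
    exact Ideal.mem_map_of_mem _ (yy_mem 𝔍 m)
  have h2 : (gam0 A 𝔍 K σ : PM 𝔍 →+* (B ⧸ 𝔍 ^ K)) p ∈
      ((XI 𝔍) ^ i).map (gam0 A 𝔍 K σ : PM 𝔍 →+* (B ⧸ 𝔍 ^ K)) := Ideal.mem_map_of_mem _ hp
  have e1 := Ideal.map_pow (gam0 A 𝔍 K σ : PM 𝔍 →+* (B ⧸ 𝔍 ^ K)) (XI 𝔍) i
  rw [e1] at h2
  have h3 := Ideal.pow_right_mono h1 i h2
  have e2 := Ideal.map_pow (Ideal.Quotient.mk (𝔍 ^ K)) 𝔍 i
  rw [← e2] at h3
  exact h3

include hσ in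
theorem qK_gam0 (p : PM 𝔍) :
    qK A 𝔍 K (by omega) (gam0 A 𝔍 K σ p) = MvPolynomial.constantCoeff p := by
  induction p using MvPolynomial.induction_on with
  | C c => rw [gam0_C, hσ, MvPolynomial.constantCoeff_C]
  | add p q hp hq => rw [map_add, map_add, hp, hq, map_add]
  | mul_X p m _ =>
    rw [map_mul, map_mul, gam0_X, qK_mk, Ideal.Quotient.eq_zero_iff_mem.mpr (yy_mem 𝔍 m),
      mul_zero, map_mul, MvPolynomial.constantCoeff_X, mul_zero]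

include hσ in
theorem red2_gam0_linForm (v : 𝔍.Cotangent →₀ (B ⧸ 𝔍)) :
    red2 A 𝔍 K hK (gam0 A 𝔍 K σ (SymPow.linForm v)) =
      cot 𝔍 (Finsupp.linearCombination (B ⧸ 𝔍) (id : 𝔍.Cotangent → 𝔍.Cotangent) v) := by
  induction v using Finsupp.induction_linear with
  | zero => simp only [map_zero]
  | add v w hv hw => simp only [map_add, hv, hw]
  | single m c =>
    have h1 : (Finsupp.single m c : 𝔍.Cotangent →₀ (B ⧸ 𝔍)) = c • Finsupp.single m 1 := by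
      rw [Finsupp.smul_single, smul_eq_mul, mul_one]
    have h2 : Ideal.Quotient.mk (𝔍 ^ 2) (yy 𝔍 m) = cot 𝔍 m := by
      rw [← cot_toCotangent 𝔍 ⟨yy 𝔍 m, yy_mem 𝔍 m⟩, toCot_yy]
    have h3 : Finsupp.linearCombination (B ⧸ 𝔍) (id : 𝔍.Cotangent → 𝔍.Cotangent)
        (c • Finsupp.single m 1) = c • m := by
      rw [map_smul, Finsupp.linearCombination_single, one_smul, id]
    rw [h1, h3, map_smul, SymPow.linForm_single, MvPolynomial.smul_eq_C_mul, map_mul, gam0_C,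
      gam0_X, map_mul, red2_mk, h2,
      mul_cot_of_q2 A 𝔍 _ c (by rw [q2_red2, hσ]) m]

include hs hσ in
theorem key_sq (x : 𝔍) :
    ∃ a : B, Ideal.Quotient.mk (𝔍 ^ K) a =
        gam0 A 𝔍 K σ (SymPow.linForm (s (𝔍.toCotangent x))) ∧ a ∈ 𝔍 ∧ a - (x : B) ∈ 𝔍 ^ 2 := by
  obtain ⟨a, ha⟩ := Ideal.Quotient.mk_surjective
    (gam0 A 𝔍 K σ (SymPow.linForm (s (𝔍.toCotangent x))))
  have h1 := red2_gam0_linForm A 𝔍 K hK σ hσ (s (𝔍.toCotangent x))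
  rw [← ha, red2_mk, hs, cot_toCotangent] at h1
  have h2 : a - (x : B) ∈ 𝔍 ^ 2 := Ideal.Quotient.eq.mp h1
  refine ⟨a, ha, ?_, h2⟩
  have h3 : a = (x : B) + (a - (x : B)) := by ring
  rw [h3]
  exact 𝔍.add_mem x.2 (Ideal.pow_le_self two_ne_zero h2)

end gam

end Groth.Agent.H46.AdicFS
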