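import Groth.Agent.H46.AdicFSf

/-!
# Projective conormal module and `Sym ≃ gr` ⇒ adic formal smoothness, part 2 (helper46)
-/

set_option autoImplicit false
set_option maxHeartbeats 400000

namespace Groth.Agent.H46.AdicFS

open Groth.Agent.H46.SymGr Groth.Agent.H46.SymGrJ Groth.Agent.H46.DiffQR
open Groth.Agent.H75

universe u

section gam

variable (A : Type u) {B : Type u} [CommRing A] [CommRing B] [Algebra A B] (𝔍 : Ideal B)
  (s : 𝔍.Cotangent →ₗ[B ⧸ 𝔍] (𝔍.Cotangent →₀ (B ⧸ 𝔍)))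
  (hs : ∀ m, Finsupp.linearCombination (B ⧸ 𝔍) (id : 𝔍.Cotangent → 𝔍.Cotangent) (s m) = m)
  (K : ℕ) (hK : 2 ≤ K)
  (σ : (B ⧸ 𝔍) →ₐ[A] (B ⧸ 𝔍 ^ K)) (hσ : ∀ c, qK A 𝔍 K (by omega) (σ c) = c)

include hs hK hσ in
/-- the comparison map computes the canonical map `Sym → gr` -/
theorem Lam_identity (ι : Type u) [Fintype ι] [Nonempty ι] (hcard : Fintype.card ι + 1 ≤ K)
    (τ : SymmetricPower B ι 𝔍.Cotangent) :
    Ideal.Quotient.factor (Ideal.pow_le_pow_right hcard)
        (gam0 A 𝔍 K σ (SymPow.sigma (SymPow.map s (chgBC 𝔍 ι τ)))) =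
      valJ B 𝔍 (Fintype.card ι) (phiJ B 𝔍 ι τ) := by
  have ht := mem_closure_tprod τ
  induction ht using AddSubmonoid.closure_induction with
  | mem y hy =>
    obtain ⟨w, rfl⟩ := hy
    obtain ⟨x, rfl⟩ : ∃ x : ι → ↥𝔍, w = fun i => 𝔍.toCotangent (x i) :=
      ⟨fun i => outJ B 𝔍 (w i), funext fun i => (toCotangent_outJ B 𝔍 (w i)).symm⟩
    choose a ha1 ha2 ha3 using fun i => key_sq A 𝔍 s hs K hK σ hσ (x i)
    rw [chgBC_tprod, SymPow.map_tprod, SymPow.sigma_tprod, map_prod, phiJ_tprod]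
    simp only [← ha1]
    have e1 := map_prod (Ideal.Quotient.mk (𝔍 ^ K)) a Finset.univ
    rw [← e1]
    show Ideal.Quotient.mk (𝔍 ^ (Fintype.card ι + 1)) (∏ i, a i) =
      Ideal.Quotient.mk (𝔍 ^ (Fintype.card ι + 1)) (∏ i, (x i : B))
    rw [Ideal.Quotient.eq]
    have h3 := SymGr.prod_sub_prod_mem 𝔍 Finset.univ a (fun i => (x i : B))
      (fun i _ => ha2 i) (fun i _ => (x i).2) (fun i _ => ha3 i)
    rw [Finset.card_univ] at h3
    exact h3
  | zero => simp only [map_zero]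
  | add y y' _ _ hy hy' => simp only [map_add, hy, hy']

include hs hK hσ in
/-- a homogeneous polynomial fixed by `SS` and mapping into `𝔍^(n+1)` vanishes -/
theorem hom_zero (ι : Type u) [Fintype ι] [Nonempty ι] (n : ℕ) (hn : Fintype.card ι = n)
    (hcard : n + 1 ≤ K) (hinj : Function.Injective (phiJ B 𝔍 ι))
    (h : PM 𝔍) (hh : ∀ d, MvPolynomial.coeff d h ≠ 0 → d.degree = n)
    (hS : SS s h = h)
    (hγ : gam0 A 𝔍 K σ h ∈ (𝔍 ^ (n + 1)).map (Ideal.Quotient.mk (𝔍 ^ K))) : h = 0 := by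
  subst hn
  set t' := SymPow.retr (ι := ι) h with ht'
  have e0 : SymPow.sigma t' = h := sigma_retr h hh
  set t := SymPow.map (Finsupp.linearCombination (B ⧸ 𝔍) (id : 𝔍.Cotangent → 𝔍.Cotangent)) t'
    with ht
  have hcomp : (SymPow.map (R := B ⧸ 𝔍) (ι := ι) s).comp
      (SymPow.map (Finsupp.linearCombination (B ⧸ 𝔍) (id : 𝔍.Cotangent → 𝔍.Cotangent))) =
      SymPow.map (s ∘ₗ Finsupp.linearCombination (B ⧸ 𝔍) (id : 𝔍.Cotangent → 𝔍.Cotangent)) := by
    apply SymPow.hom_ext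
    intro f
    rw [LinearMap.comp_apply, SymPow.map_tprod, SymPow.map_tprod, SymPow.map_tprod]
    rfl
  have e1 : SymPow.sigma (SymPow.map s t) = h := by
    have h1 := LinearMap.congr_fun hcomp t'
    rw [LinearMap.comp_apply] at h1
    rw [ht, h1, sigma_map_SS, e0, hS]
  obtain ⟨τ, hτ⟩ := chg_surjective (Ideal.Quotient.mk 𝔍) ι (smul_compat 𝔍) t
  have hτ' : chgBC 𝔍 ι τ = t := hτ
  have h2 := Lam_identity A 𝔍 s hs K hK σ hσ ι hcard τ
  rw [hτ', e1] at h2
  obtain ⟨z, hz, hz'⟩ := (Ideal.mem_map_iff_of_surjective _ Ideal.Quotient.mk_surjective).mp hγ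
  rw [← hz'] at h2
  have h3 : Ideal.Quotient.factor (Ideal.pow_le_pow_right hcard)
      (Ideal.Quotient.mk (𝔍 ^ K) z) = 0 := by
    show Ideal.Quotient.mk (𝔍 ^ (Fintype.card ι + 1)) z = 0
    exact Ideal.Quotient.eq_zero_iff_mem.mpr hz
  rw [h3] at h2
  have h4 : phiJ B 𝔍 ι τ = 0 := by
    apply valJ_injective B 𝔍 (Fintype.card ι)
    rw [← h2, map_zero]
  have h5 : τ = 0 := hinj (by rw [h4, map_zero])
  rw [← e1, ← hτ', h5, map_zero, map_zero, map_zero]

include hs hK hσ in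
/-- the kernel of the comparison map on the image of `SS` -/
theorem ker_le
    (hinj : ∀ (ι : Type u) [Fintype ι] [Nonempty ι], Function.Injective (phiJ B 𝔍 ι))
    (q : PM 𝔍) (hS : SS s q = q) (hγ : gam0 A 𝔍 K σ q = 0) : q ∈ XI 𝔍 ^ K := by
  have key : ∀ j, j ≤ K → q ∈ XI 𝔍 ^ j := by
    intro j
    induction j with
    | zero =>
      intro _
      rw [pow_zero, Ideal.one_eq_top]
      trivial
    | succ j ih =>
      intro hj
      have hqj : q ∈ XI 𝔍 ^ j := ih (by omega)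
      set h := MvPolynomial.homogeneousComponent j q with hh0
      have hh : ∀ d, MvPolynomial.coeff d h ≠ 0 → d.degree = j := by
        intro d hd
        rw [hh0, MvPolynomial.coeff_homogeneousComponent] at hd
        by_contra hne
        rw [if_neg hne] at hd
        exact hd rfl
      have hSh : SS s h = h := by
        rw [hh0, ← SS_homogeneousComponent, hS]
      have hq' : q - h ∈ XI 𝔍 ^ (j + 1) := by
        rw [MvPolynomial.mem_pow_idealOfVars_iff']
        intro d hd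
        rw [MvPolynomial.coeff_sub, hh0, MvPolynomial.coeff_homogeneousComponent]
        by_cases hdj : d.degree = j
        · rw [if_pos hdj, sub_self]
        · rw [if_neg hdj, sub_zero]
          exact (MvPolynomial.mem_pow_idealOfVars_iff' j q).mp hqj d (by omega)
      have hγh : gam0 A 𝔍 K σ h ∈ (𝔍 ^ (j + 1)).map (Ideal.Quotient.mk (𝔍 ^ K)) := by
        have h1 := gam0_pow_mem A 𝔍 K σ (j + 1) (q - h) hq'
        rw [map_sub, hγ, zero_sub] at h1
        have h2 := Ideal.neg_mem_iff _ |>.mp h1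
        exact h2
      have hzero : h = 0 := by
        rcases Nat.eq_zero_or_pos j with hj0 | hjpos
        · subst hj0
          have h1 : h = MvPolynomial.C (MvPolynomial.coeff 0 q) := by
            rw [hh0, MvPolynomial.homogeneousComponent_zero]
          rw [h1, gam0_C] at hγh
          obtain ⟨z, hz, hz'⟩ :=
            (Ideal.mem_map_iff_of_surjective _ Ideal.Quotient.mk_surjective).mp hγh
          have h2 := hσ (MvPolynomial.coeff 0 q)
          rw [← hz', qK_mk] at h2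
          rw [zero_add, pow_one] at hz
          rw [Ideal.Quotient.eq_zero_iff_mem.mpr hz] at h2
          rw [h1, ← h2, map_zero]
        · haveI : Nonempty (ULift.{u} (Fin j)) := ⟨⟨⟨0, hjpos⟩⟩⟩
          exact hom_zero A 𝔍 s hs K hK σ hσ (ULift.{u} (Fin j)) j (by simp) hj
            (hinj (ULift.{u} (Fin j))) h hh hSh hγh
      have e : q = q - h := by rw [hzero, sub_zero]
      rw [e]
      exact hq'
  exact key K le_rfl

end gam

end Groth.Agent.H46.AdicFS
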