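import Groth.Agent.H46.AdicFSg

/-!
# Projective conormal module and `Sym ≃ gr` ⇒ adic formal smoothness, part 3 (helper46)
-/

set_option autoImplicit false
set_option maxHeartbeats 400000

namespace Groth.Agent.H46.AdicFS

open Groth.Agent.H46.SymGr Groth.Agent.H46.SymGrJ Groth.Agent.H46.DiffQR
open Groth.Agent.H75

universe u

section gam

variable (A : Type u) {B : Type u} [CommRing A] [CommRing B] [Algebra A B] (𝔍 : Ideal B)
  (s : 𝔍.Cotangent →ₗ[B ⧸ 𝔍] (𝔍.Cotangent →₀ (B ⧸ 𝔍)))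
  (hs : ∀ m, Finsupp.linearCombination (B ⧸ 𝔍) (id : 𝔍.Cotangent → 𝔍.Cotangent) (s m) = m)
  (K : ℕ) (hK : 2 ≤ K)
  (σ : (B ⧸ 𝔍) →ₐ[A] (B ⧸ 𝔍 ^ K)) (hσ : ∀ c, qK A 𝔍 K (by omega) (σ c) = c)

/-- the comparison map `C[M] → B/𝔍^K` through the symmetric algebra of `M` -/
noncomputable def gamR : PM 𝔍 →+* (B ⧸ 𝔍 ^ K) :=
  (gam0 A 𝔍 K σ : PM 𝔍 →+* (B ⧸ 𝔍 ^ K)).comp (SS s : PM 𝔍 →+* PM 𝔍)

theorem gamR_apply (p : PM 𝔍) : gamR A 𝔍 s K σ p = gam0 A 𝔍 K σ (SS s p) := rfl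

theorem gamR_C (c : B ⧸ 𝔍) : gamR A 𝔍 s K σ (MvPolynomial.C c) = σ c := by
  rw [gamR_apply, SS_C, gam0_C]

theorem gamR_X (m : 𝔍.Cotangent) :
    gamR A 𝔍 s K σ (MvPolynomial.X m) = gam0 A 𝔍 K σ (SymPow.linForm (s m)) := by
  rw [gamR_apply, SS_X]

include hs hK hσ in
theorem gamR_surjective_aux (i : ℕ) (hi : i ≤ K) :
    ∀ z ∈ 𝔍 ^ (K - i), Ideal.Quotient.mk (𝔍 ^ K) z ∈ (gamR A 𝔍 s K σ).range := by
  induction i with
  | zero =>
    intro z hz
    rw [Nat.sub_zero] at hz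
    rw [Ideal.Quotient.eq_zero_iff_mem.mpr hz]
    exact Subring.zero_mem _
  | succ i ih =>
    have ih' := ih (by omega)
    intro z hz
    set j := K - (i + 1) with hj
    have hj1 : K - i = j + 1 := by omega
    rw [hj1] at ih'
    have hz' := pow_le_SfinJ B 𝔍 j hz
    have key : ∀ w ∈ SfinJ B 𝔍 j,
        w ∈ 𝔍 ^ j ∧ Ideal.Quotient.mk (𝔍 ^ K) w ∈ (gamR A 𝔍 s K σ).range := by
      intro w0 hw0
      unfold SfinJ at hw0
      induction hw0 using Submodule.span_induction with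
      | mem w hw =>
        obtain ⟨x, rfl⟩ := hw
        have hmem : ∏ l, (x l : B) ∈ 𝔍 ^ j := by
          have h0 := Ideal.prod_mem_prod (s := Finset.univ) (I := fun _ : Fin j => 𝔍)
            (x := fun l => (x l : B)) (fun l _ => (x l).2)
          rw [Finset.prod_const, Finset.card_univ, Fintype.card_fin] at h0
          exact h0
        refine ⟨hmem, ?_⟩
        choose a ha1 ha2 ha3 using fun l => key_sq A 𝔍 s hs K hK σ hσ (x l)
        have h3 := SymGr.prod_sub_prod_mem 𝔍 Finset.univ a (fun l => (x l : B))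
          (fun l _ => ha2 l) (fun l _ => (x l).2) (fun l _ => ha3 l)
        rw [Finset.card_univ, Fintype.card_fin] at h3
        have e : ∏ l, (x l : B) = ∏ l, a l - (∏ l, a l - ∏ l, (x l : B)) := by ring
        rw [e, map_sub]
        refine Subring.sub_mem _ ?_ (ih' _ h3)
        rw [map_prod]
        refine Subring.prod_mem _ (fun l _ => ?_)
        rw [ha1, ← gamR_X]
        exact RingHom.mem_range_self _ _
      | zero =>
        exact ⟨Ideal.zero_mem _, by rw [map_zero]; exact Subring.zero_mem _⟩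
      | add w w' _ _ hw hw' =>
        exact ⟨Ideal.add_mem _ hw.1 hw'.1, by rw [map_add]; exact Subring.add_mem _ hw.2 hw'.2⟩
      | smul b w _ hw =>
        refine ⟨Ideal.mul_mem_left _ b hw.1, ?_⟩
        obtain ⟨r, hr⟩ := Ideal.Quotient.mk_surjective (σ (Ideal.Quotient.mk 𝔍 b))
        have h1 : b - r ∈ 𝔍 := by
          have h2 := hσ (Ideal.Quotient.mk 𝔍 b)
          rw [← hr, qK_mk] at h2
          exact Ideal.Quotient.eq.mp h2.symm
        have e : b • w = r * w + (b - r) * w := by rw [smul_eq_mul]; ring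
        rw [e, map_add, map_mul]
        refine Subring.add_mem _ (Subring.mul_mem _ ?_ hw.2) (ih' _ ?_)
        · rw [hr, ← gamR_C A 𝔍 s K σ]
          exact RingHom.mem_range_self _ _
        · rw [pow_succ']
          exact Ideal.mul_mem_mul h1 hw.1
    exact (key z hz').2

include hs hK hσ in
theorem gamR_surjective : Function.Surjective (gamR A 𝔍 s K σ) := by
  intro y
  obtain ⟨b, rfl⟩ := Ideal.Quotient.mk_surjective y
  have h := gamR_surjective_aux A 𝔍 s hs K hK σ hσ K le_rfl b (by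
    rw [Nat.sub_self, pow_zero, Ideal.one_eq_top]
    trivial)
  exact h

include hs in
theorem SS_SS (p : PM 𝔍) : SS s (SS s p) = SS s p := by
  induction p using MvPolynomial.induction_on with
  | C c => rw [SS_C, SS_C]
  | add p q hp hq => rw [map_add, map_add, hp, hq]
  | mul_X p m hp => rw [map_mul, map_mul, hp, SS_X, SS_linForm, hs]

end gam

section final

variable (A : Type u) {B : Type u} [CommRing A] [CommRing B] [Algebra A B] (𝔍 : Ideal B)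
  [Algebra.FormallySmooth A (B ⧸ 𝔍)]

/-- (b) ⇒ (a) -/
theorem b_imp_a (hproj : Module.Projective (B ⧸ 𝔍) 𝔍.Cotangent)
    (hsym : PP16.SymGrBijective B 𝔍) : CAlgX.IsAdicFormallySmooth A B 𝔍 := by
  obtain ⟨s, hs0⟩ := Module.projective_def'.mp hproj
  have hs : ∀ m, Finsupp.linearCombination (B ⧸ 𝔍) (id : 𝔍.Cotangent → 𝔍.Cotangent) (s m) = m :=
    fun m => LinearMap.congr_fun hs0 m
  have hinj : ∀ (ι : Type u) [Fintype ι] [Nonempty ι], Function.Injective (phiJ B 𝔍 ι) := by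
    intro ι _ _
    obtain ⟨φ, hφ, hbij⟩ := hsym ι
    rw [← eq_phiJ_of_pinned B 𝔍 ι φ hφ]
    exact hbij.1
  intro E _ _ N hN ψ hψ
  obtain ⟨k0, hk0⟩ := hψ
  obtain ⟨k, hk1, hk⟩ : ∃ k : ℕ, 1 ≤ k ∧ ∀ x ∈ 𝔍 ^ k, ψ x = 0 :=
    ⟨k0 + 1, by omega, fun x hx => hk0 x (Ideal.pow_le_pow_right (Nat.le_succ k0) hx)⟩
  set K := 2 * k with hKdef
  have hK : 2 ≤ K := by omega
  -- the section of `B/𝔍^K → B/𝔍`
  let σ : (B ⧸ 𝔍) →ₐ[A] (B ⧸ 𝔍 ^ K) :=
    Algebra.FormallySmooth.liftOfSurjective (AlgHom.id A (B ⧸ 𝔍)) (qK A 𝔍 K (by omega))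
      (qK_surjective A 𝔍 K (by omega)) (qK_ker_nilpotent A 𝔍 K (by omega))
  have hσ : ∀ c, qK A 𝔍 K (by omega) (σ c) = c :=
    fun c => Algebra.FormallySmooth.liftOfSurjective_apply _ _ _ _ c
  -- `ψ` on `B/𝔍^K`
  let ψK : (B ⧸ 𝔍 ^ K) →ₐ[A] (E ⧸ N) :=
    Ideal.Quotient.liftₐ (𝔍 ^ K) ψ
      (fun x hx => hk x (Ideal.pow_le_pow_right (by omega) hx))
  have hψK : ∀ b, ψK (Ideal.Quotient.mk _ b) = ψ b := fun b => rfl
  -- lifting the coefficients
  have hNnil : IsNilpotent N := ⟨2, by rw [hN]; rfl⟩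
  let c : (B ⧸ 𝔍) →ₐ[A] E := Algebra.FormallySmooth.lift N hNnil (ψK.comp σ)
  have hc : ∀ x, Ideal.Quotient.mk N (c x) = ψK (σ x) :=
    fun x => Algebra.FormallySmooth.mk_lift N hNnil (ψK.comp σ) x
  -- lifting the variables
  choose e he using fun m : 𝔍.Cotangent => Ideal.Quotient.mk_surjective (ψ (yy 𝔍 m))
  let ρ0 : PM 𝔍 →ₐ[A] E := evA 𝔍 c e
  have hρ0 : ∀ p, Ideal.Quotient.mk N (ρ0 p) = ψK (gam0 A 𝔍 K σ p) := by
    intro p
    induction p using MvPolynomial.induction_on with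
    | C x => rw [evA_C, gam0_C, hc]
    | add p q hp hq => rw [map_add, map_add, map_add, map_add, hp, hq]
    | mul_X p m hp => rw [map_mul, map_mul, map_mul, map_mul, hp, evA_X, gam0_X, he, hψK]
  -- `ρ0` kills `(X)^K`
  have hρ0N : ∀ p ∈ XI 𝔍 ^ k, ρ0 p ∈ N := by
    intro p hp
    rw [← Ideal.Quotient.eq_zero_iff_mem, hρ0]
    have h1 := gam0_pow_mem A 𝔍 K σ k p hp
    obtain ⟨z, hz, hz'⟩ := (Ideal.mem_map_iff_of_surjective _ Ideal.Quotient.mk_surjective).mp h1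
    rw [← hz', hψK]
    exact hk z hz
  have hρ0K : ∀ p ∈ XI 𝔍 ^ K, ρ0 p = 0 := by
    intro p hp
    have h1 : XI 𝔍 ^ K = XI 𝔍 ^ k * XI 𝔍 ^ k := by
      rw [← pow_add]; congr 1; omega
    rw [h1] at hp
    have h2 : (XI 𝔍 ^ k * XI 𝔍 ^ k) ≤ Ideal.comap (ρ0 : PM 𝔍 →+* E) ⊥ := by
      rw [Ideal.mul_le]
      intro x hx y hy
      rw [Ideal.mem_comap, Ideal.mem_bot]
      show ρ0 (x * y) = 0
      rw [map_mul]
      have h3 : ρ0 x * ρ0 y ∈ N ^ 2 := by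
        rw [pow_two]
        exact Ideal.mul_mem_mul (hρ0N x hx) (hρ0N y hy)
      rw [hN] at h3
      exact h3
    exact h2 hp
  -- the map on `B/𝔍^K`
  let ρR : PM 𝔍 →+* E := (ρ0 : PM 𝔍 →+* E).comp (SS s : PM 𝔍 →+* PM 𝔍)
  have hker : RingHom.ker (gamR A 𝔍 s K σ) ≤ RingHom.ker ρR := by
    intro p hp
    rw [RingHom.mem_ker] at hp ⊢
    show ρ0 (SS s p) = 0
    apply hρ0K
    exact ker_le A 𝔍 s hs K hK σ hσ hinj (SS s p) (SS_SS 𝔍 s hs p) hp
  have hsurj := gamR_surjective A 𝔍 s hs K hK σ hσ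
  let ρbar : (B ⧸ 𝔍 ^ K) →+* E := (gamR A 𝔍 s K σ).liftOfSurjective hsurj ⟨ρR, hker⟩
  have hρbar : ∀ p, ρbar (gamR A 𝔍 s K σ p) = ρ0 (SS s p) :=
    fun p => RingHom.liftOfSurjective_comp_apply (gamR A 𝔍 s K σ) hsurj ⟨ρR, hker⟩ p
  let χ : B →ₐ[A] E :=
    { ρbar.comp (Ideal.Quotient.mk (𝔍 ^ K)) with
      commutes' := fun a => by
        show ρbar (Ideal.Quotient.mk (𝔍 ^ K) (algebraMap A B a)) = algebraMap A E a
        have h0 : SS s (algebraMap A (PM 𝔍) a) = algebraMap A (PM 𝔍) a := by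
          rw [MvPolynomial.algebraMap_apply, SS_C]
        have h1 : Ideal.Quotient.mk (𝔍 ^ K) (algebraMap A B a) =
            gamR A 𝔍 s K σ (algebraMap A (PM 𝔍) a) := by
          rw [gamR_apply, h0, (gam0 A 𝔍 K σ).commutes a]
          rfl
        rw [h1, hρbar, h0, ρ0.commutes a] }
  refine ⟨χ, ?_⟩
  apply AlgHom.ext
  intro b
  obtain ⟨p, hp⟩ := hsurj (Ideal.Quotient.mk (𝔍 ^ K) b)
  show Ideal.Quotient.mk N (ρbar (Ideal.Quotient.mk (𝔍 ^ K) b)) = ψ b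
  rw [← hp, hρbar, hρ0, ← gamR_apply, hp, hψK]

end final

end Groth.Agent.H46.AdicFS
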