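import Mathlib
import Groth.Prelude.Def_CAlgX
import Groth.Prelude.Def_PP16
import Groth.Agent.H87.AdicJac

/-!
# Jacobian criterion for adic formal smoothness: extension of derivations (helper46)
-/

set_option autoImplicit false
set_option maxHeartbeats 400000

namespace Groth.Agent.H46.AdicJac

open TensorProduct KaehlerDifferential

universe u

section retr

variable (Λ A B : Type u) [CommRing Λ] [CommRing A] [CommRing B] [Algebra Λ A] [Algebra A B]
  [Algebra Λ B] [IsScalarTower Λ A B] (J : Ideal B)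

/-- (γ') + (δ) give a retraction of `C ⊗ (B ⊗ Ω_A) → C ⊗ Ω_B` -/
theorem exists_retraction
    (hγ : Function.Injective ((mapBaseChange Λ A B).lTensor (B ⧸ J)))
    (hδ : Module.Projective (B ⧸ J) ((B ⧸ J) ⊗[B] (Ω[B⁄A]))) :
    ∃ r : (B ⧸ J) ⊗[B] Ω[B⁄Λ] →ₗ[B] (B ⧸ J) ⊗[B] (B ⊗[A] Ω[A⁄Λ]),
      r ∘ₗ (mapBaseChange Λ A B).lTensor (B ⧸ J) = LinearMap.id := by
  have hsurj : Function.Surjective ((KaehlerDifferential.map Λ A B B).lTensor (B ⧸ J)) :=
    LinearMap.lTensor_surjective _ (KaehlerDifferential.map_surjective Λ A B)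
  have hex : Function.Exact ((mapBaseChange Λ A B).lTensor (B ⧸ J))
      ((KaehlerDifferential.map Λ A B B).lTensor (B ⧸ J)) :=
    lTensor_exact (B ⧸ J) (exact_mapBaseChange_map Λ A B) (KaehlerDifferential.map_surjective Λ A B)
  obtain ⟨s, hs⟩ := Module.projective_lifting_property
    ((KaehlerDifferential.map Λ A B B).baseChange (B ⧸ J)) LinearMap.id (by
      intro y
      obtain ⟨x, hx⟩ := hsurj y
      exact ⟨x, hx⟩)
  have hs' : (KaehlerDifferential.map Λ A B B).lTensor (B ⧸ J) ∘ₗ (s.restrictScalars B) =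
      LinearMap.id := by
    refine LinearMap.ext fun y => ?_
    exact LinearMap.congr_fun hs y
  exact ((hex.split_tfae'.out 0 1 rfl rfl).mp ⟨hγ, s.restrictScalars B, hs'⟩).2

/-- extension of derivations into modules killed by `J` -/
theorem exists_derivation_ext
    (hγ : Function.Injective ((mapBaseChange Λ A B).lTensor (B ⧸ J)))
    (hδ : Module.Projective (B ⧸ J) ((B ⧸ J) ⊗[B] (Ω[B⁄A])))
    (M : Type*) [AddCommGroup M] [Module B M] [Module A M] [Module Λ M] [IsScalarTower A B M]
    [IsScalarTower Λ A M] [IsScalarTower Λ B M]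
    (hM : ∀ b ∈ J, ∀ m : M, b • m = 0) (D : Derivation Λ A M) :
    ∃ D' : Derivation Λ B M, ∀ a, D' (algebraMap A B a) = D a := by
  obtain ⟨r, hr⟩ := exists_retraction Λ A B J hγ hδ
  let d : Ω[A⁄Λ] →ₗ[A] M := D.liftKaehlerDifferential
  let dB : B ⊗[A] Ω[A⁄Λ] →ₗ[B] M := d.liftBaseChange B
  obtain ⟨F, hF⟩ := Groth.Agent.H87.AdicJac.exists_tensor_lift (B := B) (S := B ⧸ J)
    (X := B ⊗[A] Ω[A⁄Λ]) (N := M) Ideal.Quotient.mk_surjective
    (fun b hb n => hM b (Ideal.Quotient.eq_zero_iff_mem.mp hb) n) dB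
  let d' : Ω[B⁄Λ] →ₗ[B] M := F ∘ₗ r ∘ₗ (TensorProduct.mk B (B ⧸ J) Ω[B⁄Λ] 1)
  refine ⟨d'.compDer (KaehlerDifferential.D Λ B), fun a => ?_⟩
  show F (r ((1 : B ⧸ J) ⊗ₜ[B] (KaehlerDifferential.D Λ B (algebraMap A B a)))) = D a
  have h1 : (1 : B ⧸ J) ⊗ₜ[B] (KaehlerDifferential.D Λ B (algebraMap A B a)) =
      (mapBaseChange Λ A B).lTensor (B ⧸ J)
        ((1 : B ⧸ J) ⊗ₜ[B] ((1 : B) ⊗ₜ[A] KaehlerDifferential.D Λ A a)) := by
    rw [LinearMap.lTensor_tmul, mapBaseChange_tmul, one_smul, KaehlerDifferential.map_D]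
  rw [h1]
  have h2 := LinearMap.congr_fun hr ((1 : B ⧸ J) ⊗ₜ[B] ((1 : B) ⊗ₜ[A] KaehlerDifferential.D Λ A a))
  rw [LinearMap.comp_apply, LinearMap.id_apply] at h2
  rw [h2]
  have h3 := hF 1 ((1 : B) ⊗ₜ[A] KaehlerDifferential.D Λ A a)
  rw [map_one, one_smul] at h3
  rw [h3, LinearMap.liftBaseChange_tmul, one_smul, Derivation.liftKaehlerDifferential_comp_D]

end retr

section corr

variable (Λ A B : Type u) [CommRing Λ] [CommRing A] [CommRing B] [Algebra Λ A] [Algebra A B]
  [Algebra Λ B] [IsScalarTower Λ A B] (J : Ideal B)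

/-- correcting a `Λ`-lift to an `A`-lift by a derivation -/
theorem exists_correction
    (hγ : Function.Injective ((mapBaseChange Λ A B).lTensor (B ⧸ J)))
    (hδ : Module.Projective (B ⧸ J) ((B ⧸ J) ⊗[B] (Ω[B⁄A])))
    {E : Type u} [CommRing E] (N : Ideal E) (hN : N ^ 2 = ⊥) (f : B →+* E) (g : A →+* E)
    (hJN : ∀ b ∈ J, ∀ n ∈ N, f b * n = 0)
    (hfg : ∀ a, f (algebraMap A B a) - g a ∈ N)
    (hΛ : ∀ l, g (algebraMap Λ A l) = f (algebraMap Λ B l)) :
    ∃ χ : B →+* E, (∀ b, χ b - f b ∈ N) ∧ ∀ a, χ (algebraMap A B a) = g a := by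
  letI algB : Algebra B E := f.toAlgebra
  letI algA : Algebra A E := (f.comp (algebraMap A B)).toAlgebra
  letI algΛ : Algebra Λ E := (f.comp (algebraMap Λ B)).toAlgebra
  haveI : IsScalarTower A B E := IsScalarTower.of_algebraMap_eq (fun _ => rfl)
  haveI : IsScalarTower Λ B E := IsScalarTower.of_algebraMap_eq (fun _ => rfl)
  haveI : IsScalarTower Λ A E := IsScalarTower.of_algebraMap_eq (fun l => by
    show f (algebraMap Λ B l) = f (algebraMap A B (algebraMap Λ A l))
    rw [← IsScalarTower.algebraMap_apply])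
  have hmul : ∀ x ∈ N, ∀ y ∈ N, x * y = 0 := by
    intro x hx y hy
    have h := Ideal.mul_mem_mul hx hy
    rw [← pow_two, hN] at h
    exact h
  let M : Submodule B E := N.restrictScalars B
  have hBsmul : ∀ (b : B) (m : M), ((b • m : M) : E) = f b * (m : E) := fun b m => rfl
  have hAsmul : ∀ (a : A) (m : M), ((a • m : M) : E) = f (algebraMap A B a) * (m : E) :=
    fun a m => rfl
  have hΛsmul : ∀ (l : Λ) (m : M), ((l • m : M) : E) = f (algebraMap Λ B l) * (m : E) :=
    fun l m => rfl
  let D₀ : A →ₗ[Λ] M :=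
    { toFun := fun a => ⟨f (algebraMap A B a) - g a, hfg a⟩
      map_add' := fun a a' => by
        apply Subtype.ext
        show f (algebraMap A B (a + a')) - g (a + a') =
          (f (algebraMap A B a) - g a) + (f (algebraMap A B a') - g a')
        rw [map_add, map_add, map_add]; ring
      map_smul' := fun l a => by
        apply Subtype.ext
        rw [RingHom.id_apply, hΛsmul]
        show f (algebraMap A B (l • a)) - g (l • a) =
          f (algebraMap Λ B l) * (f (algebraMap A B a) - g a)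
        rw [Algebra.smul_def, map_mul, map_mul, map_mul, hΛ,
          ← IsScalarTower.algebraMap_apply Λ A B]
        ring }
  have hD₀ : ∀ a, ((D₀ a : M) : E) = f (algebraMap A B a) - g a := fun a => rfl
  let D : Derivation Λ A M := Derivation.mk' D₀ (fun a a' => by
    apply Subtype.ext
    rw [Submodule.coe_add, hAsmul, hAsmul, hD₀, hD₀, hD₀, map_mul, map_mul, map_mul]
    have h := hmul _ (hfg a) _ (hfg a')
    linear_combination (-1 : E) * h)
  have hD : ∀ a, ((D a : M) : E) = f (algebraMap A B a) - g a := fun a => rfl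
  obtain ⟨D', hD'⟩ := exists_derivation_ext Λ A B J hγ hδ M
    (fun b hb m => by
      apply Subtype.ext
      rw [hBsmul]
      exact hJN b hb _ m.2) D
  have hmemN : ∀ b, ((D' b : M) : E) ∈ N := fun b => (D' b).2
  refine ⟨{ toFun := fun b => f b - ((D' b : M) : E)
            map_one' := by
              rw [Derivation.map_one_eq_zero, map_one]
              show (1 : E) - 0 = 1
              ring
            map_mul' := fun b b' => by
              rw [Derivation.leibniz, Submodule.coe_add, hBsmul, hBsmul, map_mul]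
              have h := hmul _ (hmemN b) _ (hmemN b')
              linear_combination (-1 : E) * h
            map_zero' := by
              rw [map_zero, map_zero]
              show (0 : E) - 0 = 0
              ring
            map_add' := fun b b' => by
              rw [map_add, map_add, Submodule.coe_add]; ring }, fun b => ?_, fun a => ?_⟩
  · show f b - ((D' b : M) : E) - f b ∈ N
    have e : f b - ((D' b : M) : E) - f b = -((D' b : M) : E) := by ring
    rw [e]
    exact N.neg_mem (hmemN b)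
  · show f (algebraMap A B a) - ((D' (algebraMap A B a) : M) : E) = g a
    rw [hD', hD]
    ring

end corr

end Groth.Agent.H46.AdicJac
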