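import Groth.Agent.H46.AdicJacA
import Groth.Agent.H46.AdicFSh

/-!
# Jacobian criterion for adic formal smoothness: sufficiency (helper46)
-/

set_option autoImplicit false
set_option maxHeartbeats 400000

namespace Groth.Agent.H46.AdicJac

open TensorProduct KaehlerDifferential

universe u

section main

variable (Λ A B : Type u) [CommRing Λ] [CommRing A] [CommRing B] [Algebra Λ A] [Algebra A B]
  [Algebra Λ B] [IsScalarTower Λ A B] (J : Ideal B)

theorem ker_mkₐ {E : Type u} [CommRing E] [Algebra A E] (N : Ideal E) :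
    RingHom.ker (Ideal.Quotient.mkₐ A N) = N := by
  ext x
  rw [RingHom.mem_ker, Ideal.Quotient.mkₐ_eq_mk, Ideal.Quotient.eq_zero_iff_mem]

/-- the base case: the kernel is killed by `J` -/
theorem base_case (hΛsm : CAlgX.IsAdicFormallySmooth Λ B J)
    (hγ : Function.Injective ((mapBaseChange Λ A B).lTensor (B ⧸ J)))
    (hδ : Module.Projective (B ⧸ J) ((B ⧸ J) ⊗[B] (Ω[B⁄A])))
    {E' E'' : Type u} [CommRing E'] [CommRing E''] [Algebra A E'] [Algebra A E'']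
    (π : E' →ₐ[A] E'') (hπ : Function.Surjective π) (hK : RingHom.ker π ^ 2 = ⊥)
    (ψ : B →ₐ[A] E'') (hψ : ∃ k : ℕ, ∀ x ∈ J ^ k, ψ x = 0)
    (hJ : ∀ b ∈ J, ∀ e, π e = ψ b → ∀ n ∈ RingHom.ker π, e * n = 0) :
    ∃ χ : B →ₐ[A] E', π.comp χ = ψ := by
  letI : Algebra Λ E' := Algebra.compHom E' (algebraMap Λ A)
  letI : Algebra Λ E'' := Algebra.compHom E'' (algebraMap Λ A)
  haveI : IsScalarTower Λ A E' := IsScalarTower.of_algebraMap_eq (fun _ => rfl)
  haveI : IsScalarTower Λ A E'' := IsScalarTower.of_algebraMap_eq (fun _ => rfl)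
  have hK' : RingHom.ker (π.restrictScalars Λ) ^ 2 = ⊥ := hK
  obtain ⟨φ, hφ⟩ := Groth.Agent.H87.AdicJac.smooth_lift hΛsm (π.restrictScalars Λ) hπ hK'
    (ψ.restrictScalars Λ) hψ
  have hφ' : ∀ b, π (φ b) = ψ b := fun b => AlgHom.congr_fun hφ b
  obtain ⟨χ₀, h1, h2⟩ := exists_correction Λ A B J hγ hδ (RingHom.ker π) hK (φ : B →+* E')
    (algebraMap A E')
    (fun b hb n hn => hJ b hb (φ b) (hφ' b) n hn)
    (fun a => by
      rw [RingHom.mem_ker, map_sub]
      show π (φ (algebraMap A B a)) - π (algebraMap A E' a) = 0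
      rw [hφ', AlgHom.commutes, AlgHom.commutes, sub_self])
    (fun l => by
      show algebraMap A E' (algebraMap Λ A l) = φ (algebraMap Λ B l)
      rw [φ.commutes]; rfl)
  refine ⟨{ χ₀ with commutes' := h2 }, ?_⟩
  apply AlgHom.ext
  intro b
  show π (χ₀ b) = ψ b
  have h3 := h1 b
  rw [RingHom.mem_ker, map_sub, sub_eq_zero] at h3
  rw [h3]
  exact hφ' b

/-- induction on the power of `J` killing the kernel -/
theorem lift_of_pow (hΛsm : CAlgX.IsAdicFormallySmooth Λ B J)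
    (hγ : Function.Injective ((mapBaseChange Λ A B).lTensor (B ⧸ J)))
    (hδ : Module.Projective (B ⧸ J) ((B ⧸ J) ⊗[B] (Ω[B⁄A]))) (m : ℕ) :
    ∀ {E' E'' : Type u} [CommRing E'] [CommRing E''] [Algebra A E'] [Algebra A E'']
    (π : E' →ₐ[A] E'') (_ : Function.Surjective π) (_ : RingHom.ker π ^ 2 = ⊥)
    (ψ : B →ₐ[A] E'') (_ : ∃ k : ℕ, ∀ x ∈ J ^ k, ψ x = 0)
    (_ : ∀ b ∈ J ^ m, ∀ e, π e = ψ b → ∀ n ∈ RingHom.ker π, e * n = 0),
    ∃ χ : B →ₐ[A] E', π.comp χ = ψ := by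
  induction m with
  | zero =>
    intro E' E'' _ _ _ _ π hπ hK ψ hψ hJ
    exact base_case Λ A B J hΛsm hγ hδ π hπ hK ψ hψ
      (fun b _ => hJ b (by rw [pow_zero, Ideal.one_eq_top]; trivial))
  | succ m ih =>
    intro E' E'' _ _ _ _ π hπ hK ψ hψ hJ
    have hmulN : ∀ x ∈ RingHom.ker π, ∀ y ∈ RingHom.ker π, x * y = 0 := by
      intro x hx y hy
      have h := Ideal.mul_mem_mul hx hy
      rw [← pow_two, hK] at h
      exact h
    let N' : Ideal E' :=
      Ideal.span {z | ∃ b ∈ J ^ m, ∃ e, π e = ψ b ∧ ∃ n ∈ RingHom.ker π, z = e * n}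
    have hN'N : N' ≤ RingHom.ker π := Ideal.span_le.mpr (by
      rintro _ ⟨b, hb, e, he, n, hn, rfl⟩
      exact (RingHom.ker π).mul_mem_left e hn)
    let π₂ : E' →ₐ[A] E' ⧸ N' := Ideal.Quotient.mkₐ A N'
    let π₁ : E' ⧸ N' →ₐ[A] E'' := Ideal.Quotient.liftₐ N' π (fun x hx => hN'N hx)
    have hπ₁ : ∀ e, π₁ (Ideal.Quotient.mk N' e) = π e := fun e => rfl
    have hπ₁₂ : ∀ e, π₁ (π₂ e) = π e := fun e => rfl
    have hπ₁surj : Function.Surjective π₁ := fun y => by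
      obtain ⟨e, he⟩ := hπ y
      exact ⟨Ideal.Quotient.mk N' e, he⟩
    have hK₁ : RingHom.ker π₁ ^ 2 = ⊥ := by
      rw [eq_bot_iff, pow_two, Ideal.mul_le]
      intro x hx y hy
      obtain ⟨e, rfl⟩ := Ideal.Quotient.mk_surjective x
      obtain ⟨e', rfl⟩ := Ideal.Quotient.mk_surjective y
      rw [RingHom.mem_ker, hπ₁] at hx hy
      rw [Ideal.mem_bot, ← map_mul, hmulN e hx e' hy, map_zero]
    obtain ⟨χ₁, hχ₁⟩ := ih π₁ hπ₁surj hK₁ ψ hψ (by
      intro b hb x hx y hy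
      obtain ⟨e, rfl⟩ := Ideal.Quotient.mk_surjective x
      obtain ⟨n, rfl⟩ := Ideal.Quotient.mk_surjective y
      rw [hπ₁] at hx
      rw [RingHom.mem_ker, hπ₁] at hy
      rw [← map_mul, Ideal.Quotient.eq_zero_iff_mem]
      exact Ideal.subset_span ⟨b, hb, e, hx, n, hy, rfl⟩)
    have hχ₁' : ∀ b, π₁ (χ₁ b) = ψ b := fun b => AlgHom.congr_fun hχ₁ b
    obtain ⟨k, hk⟩ := hψ
    have hψ₁ : ∃ k', ∀ x ∈ J ^ k', χ₁ x = 0 := by
      refine ⟨k + k, fun x hx => ?_⟩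
      rw [pow_add] at hx
      refine Submodule.mul_induction_on hx ?_ ?_
      · intro y hy z hz
        have h1 : χ₁ y ∈ RingHom.ker π₁ := by rw [RingHom.mem_ker, hχ₁', hk y hy]
        have h2 : χ₁ z ∈ RingHom.ker π₁ := by rw [RingHom.mem_ker, hχ₁', hk z hz]
        have h3 := Ideal.mul_mem_mul h1 h2
        rw [← pow_two, hK₁] at h3
        rw [map_mul]
        exact h3
      · intro y z hy hz
        rw [map_add, hy, hz, add_zero]
    have hkerπ₂ : RingHom.ker π₂ = N' := ker_mkₐ A N'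
    have hK₂ : RingHom.ker π₂ ^ 2 = ⊥ := by
      rw [hkerπ₂, eq_bot_iff, ← hK]
      exact Ideal.pow_right_mono hN'N 2
    obtain ⟨χ, hχ⟩ := base_case Λ A B J hΛsm hγ hδ π₂ Ideal.Quotient.mk_surjective hK₂ χ₁ hψ₁ (by
      intro b hb e he n' hn'
      have hn'' : n' ∈ N' := by rwa [hkerπ₂] at hn'
      clear hn'
      have hπe : π e = ψ b := by rw [← hπ₁₂, he, hχ₁']
      induction hn'' using Submodule.span_induction with
      | mem z hz =>
        obtain ⟨b₀, hb₀, e₀, he₀, n₀, hn₀, rfl⟩ := hz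
        rw [← mul_assoc]
        refine hJ (b * b₀) (by rw [pow_succ']; exact Ideal.mul_mem_mul hb hb₀) (e * e₀) ?_ n₀ hn₀
        rw [map_mul, map_mul, he₀, hπe]
      | zero => rw [mul_zero]
      | add x y _ _ hx hy => rw [mul_add, hx, hy, add_zero]
      | smul c x _ hx => rw [smul_eq_mul, mul_left_comm, hx, mul_zero])
    refine ⟨χ, ?_⟩
    apply AlgHom.ext
    intro b
    have h : π₂ (χ b) = χ₁ b := AlgHom.congr_fun hχ b
    show π (χ b) = ψ b
    rw [← hπ₁₂, h, hχ₁']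

/-- part (i) of the Jacobian criterion -/
theorem part_i [Algebra.FormallySmooth Λ (B ⧸ J)]
    (hα : Module.Projective (B ⧸ J) J.Cotangent) (hβ : PP16.SymGrBijective B J)
    (hγ : Function.Injective ((mapBaseChange Λ A B).lTensor (B ⧸ J)))
    (hδ : Module.Projective (B ⧸ J) ((B ⧸ J) ⊗[B] (Ω[B⁄A]))) :
    CAlgX.IsAdicFormallySmooth A B J := by
  have hΛsm := Groth.Agent.H46.AdicFS.b_imp_a Λ J hα hβ
  intro E _ _ N hN ψ hψ
  obtain ⟨k, hk⟩ := hψ
  have hker : RingHom.ker (Ideal.Quotient.mkₐ A N) = N := ker_mkₐ A N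
  obtain ⟨χ, hχ⟩ := lift_of_pow Λ A B J hΛsm hγ hδ k (Ideal.Quotient.mkₐ A N)
    Ideal.Quotient.mk_surjective (by rw [hker]; exact hN) ψ ⟨k, hk⟩ (by
      intro b hb e he n hn
      have he' : e ∈ N := by
        rw [hk b hb] at he
        exact Ideal.Quotient.eq_zero_iff_mem.mp he
      have hn' : n ∈ N := by rwa [hker] at hn
      have h := Ideal.mul_mem_mul he' hn'
      rw [← pow_two, hN] at h
      exact h)
  exact ⟨χ, hχ⟩

end main

end Groth.Agent.H46.AdicJac
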