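import Groth.Agent.H46.AdicJacB
import Groth.Agent.H17.FSRel
import Groth.Agent.S4544
import Groth.Agent.S4537

/-!
# Jacobian criterion for adic formal smoothness: necessity (helper46)
-/

set_option autoImplicit false
set_option maxHeartbeats 400000

namespace Groth.Agent.H46.AdicJac

open TensorProduct KaehlerDifferential

universe u

section comp

variable (Λ A B : Type u) [CommRing Λ] [CommRing A] [CommRing B] [Algebra Λ A] [Algebra A B]
  [Algebra Λ B] [IsScalarTower Λ A B] (J : Ideal B)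

/-- composition: `A` formally smooth over `Λ`, `B` adically formally smooth over `A` -/
theorem adic_comp [Algebra.FormallySmooth Λ A] (hB : CAlgX.IsAdicFormallySmooth A B J) :
    CAlgX.IsAdicFormallySmooth Λ B J := by
  intro E _ _ N hN ψ hψ
  have hNnil : IsNilpotent N := ⟨2, by rw [hN]; rfl⟩
  let g : A →ₐ[Λ] E :=
    Algebra.FormallySmooth.lift N hNnil (ψ.comp (IsScalarTower.toAlgHom Λ A B))
  have hg : ∀ a, Ideal.Quotient.mk N (g a) = ψ (algebraMap A B a) :=
    fun a => Algebra.FormallySmooth.mk_lift N hNnil _ a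
  letI : Algebra A E := g.toRingHom.toAlgebra
  let ψA : B →ₐ[A] E ⧸ N :=
    { ψ.toRingHom with
      commutes' := fun a => by
        show ψ (algebraMap A B a) = algebraMap A (E ⧸ N) a
        rw [← hg]
        rfl }
  obtain ⟨χ, hχ⟩ := hB E N hN ψA hψ
  refine ⟨{ χ.toRingHom with commutes' := fun l => ?_ }, ?_⟩
  · show χ (algebraMap Λ B l) = algebraMap Λ E l
    rw [IsScalarTower.algebraMap_apply Λ A B, χ.commutes]
    show g (algebraMap Λ A l) = _
    exact g.commutes l
  · apply AlgHom.ext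
    intro b
    exact AlgHom.congr_fun hχ b

end comp

section ext

open Groth.Agent.H17.FSRel TrivSqZeroExt

attribute [local instance] Groth.Agent.H17.FSRel.opMod Groth.Agent.H17.FSRel.isCentral

variable {Λ A B : Type u} [CommRing Λ] [CommRing A] [CommRing B] [Algebra Λ A] [Algebra A B]
  [Algebra Λ B] [IsScalarTower Λ A B] (J : Ideal B)
variable (M : Type u) [AddCommGroup M] [Module (B ⧸ J) M] [Module B M] [Module A M] [Module Λ M]
  [IsScalarTower B (B ⧸ J) M] [IsScalarTower A (B ⧸ J) M] [IsScalarTower Λ (B ⧸ J) M]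

/-- extension of derivations with values in `B/J`-modules under adic formal smoothness -/
theorem exists_derivation_extension_adic (hB : CAlgX.IsAdicFormallySmooth A B J)
    (d : Derivation Λ A M) :
    ∃ D : Derivation Λ B M, ∀ a, D (algebraMap A B a) = d a := by
  obtain ⟨v, hv⟩ := Groth.Agent.H87.AdicJac.smooth_lift hB (proj (B := B ⧸ J) d)
    (fun c => ⟨(inl c : TrivSqZeroExt (B ⧸ J) M), fst_inl M c⟩) (ker_proj_sq d)
    (Ideal.Quotient.mkₐ A J)
    ⟨1, fun x hx => by
      rw [pow_one] at hx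
      exact Ideal.Quotient.eq_zero_iff_mem.mpr hx⟩
  have hfst : ∀ b, fst (v b).val = Ideal.Quotient.mk J b := fun b => AlgHom.congr_fun hv b
  have hmul : ∀ b b', (v (b * b')).val = (v b).val * (v b').val := fun b b' => by
    rw [map_mul, Tw.val_mul]
  have hadd : ∀ b b', (v (b + b')).val = (v b).val + (v b').val := fun b b' => by
    rw [map_add, Tw.val_add]
  have halg : ∀ a, (v (algebraMap A B a)).val = inl (algebraMap A (B ⧸ J) a) + inr (d a) :=
    fun a => by rw [v.commutes a, Tw.val_algebraMap]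
  have hsm : ∀ (b : B) (m : M), Ideal.Quotient.mk J b • m = b • m := fun b m =>
    algebraMap_smul (B ⧸ J) b m
  let D₀ : B →ₗ[Λ] M :=
    { toFun := fun b => snd (v b).val
      map_add' := fun b b' => by rw [hadd, snd_add]
      map_smul' := fun r b => by
        have h1 : r • b = algebraMap A B (algebraMap Λ A r) * b := by
          rw [← IsScalarTower.algebraMap_apply, Algebra.smul_def]
        simp only [RingHom.id_apply]
        rw [h1, hmul, halg, snd_mul, hfst]
        simp only [fst_add, fst_inl, fst_inr, add_zero, snd_add, snd_inl, snd_inr, zero_add,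
          Derivation.map_algebraMap, smul_zero, op_smul_eq_smul]
        rw [← IsScalarTower.algebraMap_apply, algebraMap_smul] }
  refine ⟨Derivation.mk' D₀ (fun b b' => ?_), fun a => ?_⟩
  · show snd (v (b * b')).val = b • snd (v b').val + b' • snd (v b).val
    rw [hmul, snd_mul, hfst, hfst, op_smul_eq_smul, hsm, hsm]
  · show snd (v (algebraMap A B a)).val = d a
    rw [halg]; simp

end ext

section gamma

variable (Λ A B : Type u) [CommRing Λ] [CommRing A] [CommRing B] [Algebra Λ A] [Algebra A B]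
  [Algebra Λ B] [IsScalarTower Λ A B] (J : Ideal B)

/-- (γ') from adic formal smoothness -/
theorem gamma_injective (hB : CAlgX.IsAdicFormallySmooth A B J) :
    Function.Injective ((mapBaseChange Λ A B).lTensor (B ⧸ J)) := by
  let f : Ω[A⁄Λ] →ₗ[A] (B ⧸ J) ⊗[B] (B ⊗[A] Ω[A⁄Λ]) :=
    ((TensorProduct.mk B (B ⧸ J) (B ⊗[A] Ω[A⁄Λ]) 1).restrictScalars A) ∘ₗ
      (TensorProduct.mk A B Ω[A⁄Λ] 1)
  have hf : ∀ ω, f ω = (1 : B ⧸ J) ⊗ₜ[B] ((1 : B) ⊗ₜ[A] ω) := fun ω => rfl
  let d : Derivation Λ A ((B ⧸ J) ⊗[B] (B ⊗[A] Ω[A⁄Λ])) := f.compDer (KaehlerDifferential.D Λ A)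
  obtain ⟨D', hD'⟩ := exists_derivation_extension_adic J ((B ⧸ J) ⊗[B] (B ⊗[A] Ω[A⁄Λ])) hB d
  let l : Ω[B⁄Λ] →ₗ[B] (B ⧸ J) ⊗[B] (B ⊗[A] Ω[A⁄Λ]) := D'.liftKaehlerDifferential
  let lC : (B ⧸ J) ⊗[B] Ω[B⁄Λ] →ₗ[B ⧸ J] (B ⧸ J) ⊗[B] (B ⊗[A] Ω[A⁄Λ]) :=
    l.liftBaseChange (B ⧸ J)
  have key0 : (l.restrictScalars A) ∘ₗ (KaehlerDifferential.map Λ Λ A B) = f := by
    apply Derivation.liftKaehlerDifferential_unique
    apply Derivation.ext
    intro a
    show l (KaehlerDifferential.map Λ Λ A B (KaehlerDifferential.D Λ A a)) =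
      f (KaehlerDifferential.D Λ A a)
    rw [KaehlerDifferential.map_D, Derivation.liftKaehlerDifferential_comp_D, hD']
    rfl
  have key : ∀ ω : Ω[A⁄Λ], l (KaehlerDifferential.map Λ Λ A B ω) =
      (1 : B ⧸ J) ⊗ₜ[B] ((1 : B) ⊗ₜ[A] ω) := fun ω => by
    rw [← hf, ← key0]
    rfl
  have hleft : ∀ x, lC ((mapBaseChange Λ A B).lTensor (B ⧸ J) x) = x := by
    intro x
    induction x using TensorProduct.induction_on with
    | zero => simp
    | add x y hx hy => rw [map_add, map_add, hx, hy]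
    | tmul c y =>
      induction y using TensorProduct.induction_on with
      | zero => simp
      | add y z hy hz => rw [tmul_add, map_add, map_add, hy, hz]
      | tmul b ω =>
        rw [LinearMap.lTensor_tmul, mapBaseChange_tmul, LinearMap.liftBaseChange_tmul, map_smul,
          key, ← tmul_smul, smul_tmul', smul_tmul', smul_eq_mul, mul_one, smul_eq_mul, mul_one]
  exact Function.LeftInverse.injective hleft

/-- part (ii) of the Jacobian criterion -/
theorem part_ii [Algebra.FormallySmooth Λ (B ⧸ J)] [Algebra.FormallySmooth Λ A]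
    (hB : CAlgX.IsAdicFormallySmooth A B J) :
    Module.Projective (B ⧸ J) J.Cotangent ∧ PP16.SymGrBijective B J ∧
      Function.Injective ((mapBaseChange Λ A B).lTensor (B ⧸ J)) ∧
      Module.Projective (B ⧸ J) ((B ⧸ J) ⊗[B] (Ω[B⁄A])) := by
  have hΛ := adic_comp Λ A B J hB
  obtain ⟨h1, h2⟩ := Groth.Agent.H46.AdicFS.a_imp_b Λ J hΛ
  refine ⟨h1, h2, gamma_injective Λ A B J hB, ?_⟩
  exact Groth.Agent.S4544.result ⊥ J ⟨1, by rw [pow_one, Ideal.map_bot]; exact bot_le⟩
    ((Groth.Agent.S4537.result J).mp hB) J ⟨1, by rw [pow_one]⟩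

end gamma

end Groth.Agent.H46.AdicJac
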