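import Groth.Agent.H46.AdicJacC
import Groth.Agent.H44.CoeffField

/-!
# Jacobian criterion for local algebras over a field (helper46)
-/

set_option autoImplicit false
set_option maxHeartbeats 400000

namespace Groth.Agent.H46.AdicJac

open TensorProduct KaehlerDifferential

universe u v

section cmp

variable (Λ₀ : Type v) (Λ A : Type u) [CommRing Λ₀] [CommRing Λ] [CommRing A] [Algebra Λ₀ Λ] [Algebra Λ A]
  [Algebra Λ₀ A] [IsScalarTower Λ₀ Λ A]

/-- the universal `Λ₀`-derivation as a `Λ`-derivation, when it kills `Λ` -/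
noncomputable def derOver (h : ∀ l : Λ, KaehlerDifferential.D Λ₀ A (algebraMap Λ A l) = 0) :
    Derivation Λ A Ω[A⁄Λ₀] :=
  Derivation.mk'
    { toFun := fun x => KaehlerDifferential.D Λ₀ A x
      map_add' := fun x y => map_add _ x y
      map_smul' := fun l x => by
        rw [RingHom.id_apply, Algebra.smul_def, Derivation.leibniz, h, smul_zero, add_zero,
          algebraMap_smul] }
    (fun x y => (KaehlerDifferential.D Λ₀ A).leibniz x y)

theorem derOver_apply (h : ∀ l : Λ, KaehlerDifferential.D Λ₀ A (algebraMap Λ A l) = 0) (x : A) :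
    derOver Λ₀ Λ A h x = KaehlerDifferential.D Λ₀ A x := rfl

/-- the inverse of `Ω[A⁄Λ₀] → Ω[A⁄Λ]` -/
noncomputable def kdInv (h : ∀ l : Λ, KaehlerDifferential.D Λ₀ A (algebraMap Λ A l) = 0) :
    Ω[A⁄Λ] →ₗ[A] Ω[A⁄Λ₀] := (derOver Λ₀ Λ A h).liftKaehlerDifferential

theorem kdInv_comp_map (h : ∀ l : Λ, KaehlerDifferential.D Λ₀ A (algebraMap Λ A l) = 0) :
    kdInv Λ₀ Λ A h ∘ₗ KaehlerDifferential.map Λ₀ Λ A A = LinearMap.id := by
  apply Derivation.liftKaehlerDifferential_unique
  apply Derivation.ext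
  intro x
  show kdInv Λ₀ Λ A h (KaehlerDifferential.map Λ₀ Λ A A (KaehlerDifferential.D Λ₀ A x)) =
    KaehlerDifferential.D Λ₀ A x
  rw [KaehlerDifferential.map_D]
  show (derOver Λ₀ Λ A h).liftKaehlerDifferential (KaehlerDifferential.D Λ A x) = _
  rw [Derivation.liftKaehlerDifferential_comp_D, derOver_apply]

theorem map_comp_kdInv (h : ∀ l : Λ, KaehlerDifferential.D Λ₀ A (algebraMap Λ A l) = 0) :
    KaehlerDifferential.map Λ₀ Λ A A ∘ₗ kdInv Λ₀ Λ A h = LinearMap.id := by
  apply Derivation.liftKaehlerDifferential_unique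
  apply Derivation.ext
  intro x
  show KaehlerDifferential.map Λ₀ Λ A A (kdInv Λ₀ Λ A h (KaehlerDifferential.D Λ A x)) =
    KaehlerDifferential.D Λ A x
  have h1 : kdInv Λ₀ Λ A h (KaehlerDifferential.D Λ A x) = KaehlerDifferential.D Λ₀ A x := by
    show (derOver Λ₀ Λ A h).liftKaehlerDifferential (KaehlerDifferential.D Λ A x) = _
    rw [Derivation.liftKaehlerDifferential_comp_D, derOver_apply]
  rw [h1, KaehlerDifferential.map_D]
  rfl

end cmp

section cmp2

variable (Λ₀ : Type v) (Λ A B : Type u) [CommRing Λ₀] [CommRing Λ] [CommRing A] [CommRing B]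
  [Algebra Λ₀ Λ] [Algebra Λ A] [Algebra Λ₀ A] [IsScalarTower Λ₀ Λ A]
  [Algebra A B] [Algebra Λ B] [Algebra Λ₀ B] [IsScalarTower Λ A B] [IsScalarTower Λ₀ A B]
  [IsScalarTower Λ₀ Λ B]

theorem map_map_eq (ω : Ω[A⁄Λ₀]) :
    KaehlerDifferential.map Λ Λ A B (KaehlerDifferential.map Λ₀ Λ A A ω) =
      KaehlerDifferential.map Λ₀ Λ B B (KaehlerDifferential.map Λ₀ Λ₀ A B ω) := by
  have h : (KaehlerDifferential.map Λ Λ A B) ∘ₗ (KaehlerDifferential.map Λ₀ Λ A A) =
      ((KaehlerDifferential.map Λ₀ Λ B B).restrictScalars A) ∘ₗ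
        (KaehlerDifferential.map Λ₀ Λ₀ A B) := by
    apply Derivation.liftKaehlerDifferential_unique
    apply Derivation.ext
    intro x
    show KaehlerDifferential.map Λ Λ A B (KaehlerDifferential.map Λ₀ Λ A A
        (KaehlerDifferential.D Λ₀ A x)) =
      KaehlerDifferential.map Λ₀ Λ B B (KaehlerDifferential.map Λ₀ Λ₀ A B
        (KaehlerDifferential.D Λ₀ A x))
    rw [KaehlerDifferential.map_D, KaehlerDifferential.map_D, KaehlerDifferential.map_D,
      KaehlerDifferential.map_D]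
    rfl
  exact LinearMap.congr_fun h ω

theorem square :
    (mapBaseChange Λ A B) ∘ₗ ((KaehlerDifferential.map Λ₀ Λ A A).baseChange B) =
      (KaehlerDifferential.map Λ₀ Λ B B) ∘ₗ (mapBaseChange Λ₀ A B) := by
  refine LinearMap.ext fun x => ?_
  induction x using TensorProduct.induction_on with
  | zero => simp
  | add x y hx hy => rw [map_add, map_add, hx, hy]
  | tmul b ω =>
    rw [LinearMap.comp_apply, LinearMap.comp_apply, LinearMap.baseChange_tmul,
      mapBaseChange_tmul, mapBaseChange_tmul, map_smul, map_map_eq]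

variable (C : Type u) [AddCommGroup C] [Module B C]

theorem injective_lTensor_iff
    (hA : ∀ l : Λ, KaehlerDifferential.D Λ₀ A (algebraMap Λ A l) = 0)
    (hB : ∀ l : Λ, KaehlerDifferential.D Λ₀ B (algebraMap Λ B l) = 0) :
    Function.Injective ((mapBaseChange Λ₀ A B).lTensor C) ↔
      Function.Injective ((mapBaseChange Λ A B).lTensor C) := by
  -- the vertical maps
  let e₁ : C ⊗[B] (B ⊗[A] Ω[A⁄Λ₀]) →ₗ[B] C ⊗[B] (B ⊗[A] Ω[A⁄Λ]) :=
    (((KaehlerDifferential.map Λ₀ Λ A A).baseChange B).restrictScalars B).lTensor C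
  let e₁' : C ⊗[B] (B ⊗[A] Ω[A⁄Λ]) →ₗ[B] C ⊗[B] (B ⊗[A] Ω[A⁄Λ₀]) :=
    (((kdInv Λ₀ Λ A hA).baseChange B).restrictScalars B).lTensor C
  let e₂ : C ⊗[B] Ω[B⁄Λ₀] →ₗ[B] C ⊗[B] Ω[B⁄Λ] := (KaehlerDifferential.map Λ₀ Λ B B).lTensor C
  let e₂' : C ⊗[B] Ω[B⁄Λ] →ₗ[B] C ⊗[B] Ω[B⁄Λ₀] := (kdInv Λ₀ Λ B hB).lTensor C
  have h11 : ∀ x, e₁' (e₁ x) = x := by
    intro x
    have : e₁' ∘ₗ e₁ = LinearMap.id := by
      show LinearMap.lTensor C _ ∘ₗ LinearMap.lTensor C _ = _
      rw [← LinearMap.lTensor_comp]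
      have h0 : ((kdInv Λ₀ Λ A hA).baseChange B).restrictScalars B ∘ₗ
          ((KaehlerDifferential.map Λ₀ Λ A A).baseChange B).restrictScalars B = LinearMap.id := by
        show (kdInv Λ₀ Λ A hA).baseChange B ∘ₗ (KaehlerDifferential.map Λ₀ Λ A A).baseChange B = _
        rw [← LinearMap.baseChange_comp, kdInv_comp_map, LinearMap.baseChange_id]
      rw [h0, LinearMap.lTensor_id]
    exact LinearMap.congr_fun this x
  have h11' : ∀ x, e₁ (e₁' x) = x := by
    intro x
    have : e₁ ∘ₗ e₁' = LinearMap.id := by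
      show LinearMap.lTensor C _ ∘ₗ LinearMap.lTensor C _ = _
      rw [← LinearMap.lTensor_comp]
      have h0 : ((KaehlerDifferential.map Λ₀ Λ A A).baseChange B).restrictScalars B ∘ₗ
          ((kdInv Λ₀ Λ A hA).baseChange B).restrictScalars B = LinearMap.id := by
        show (KaehlerDifferential.map Λ₀ Λ A A).baseChange B ∘ₗ (kdInv Λ₀ Λ A hA).baseChange B = _
        rw [← LinearMap.baseChange_comp, map_comp_kdInv, LinearMap.baseChange_id]
      rw [h0, LinearMap.lTensor_id]
    exact LinearMap.congr_fun this x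
  have h22 : ∀ x, e₂' (e₂ x) = x := by
    intro x
    have : e₂' ∘ₗ e₂ = LinearMap.id := by
      show LinearMap.lTensor C _ ∘ₗ LinearMap.lTensor C _ = _
      rw [← LinearMap.lTensor_comp, kdInv_comp_map, LinearMap.lTensor_id]
    exact LinearMap.congr_fun this x
  have hsq : ∀ x, (mapBaseChange Λ A B).lTensor C (e₁ x) = e₂ ((mapBaseChange Λ₀ A B).lTensor C x) := by
    intro x
    have : (mapBaseChange Λ A B).lTensor C ∘ₗ e₁ = e₂ ∘ₗ (mapBaseChange Λ₀ A B).lTensor C := by
      show LinearMap.lTensor C _ ∘ₗ LinearMap.lTensor C _ =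
        LinearMap.lTensor C _ ∘ₗ LinearMap.lTensor C _
      rw [← LinearMap.lTensor_comp, ← LinearMap.lTensor_comp]
      congr 1
      exact square Λ₀ Λ A B
    exact LinearMap.congr_fun this x
  constructor
  · intro hinj x y hxy
    have hx := h11' x
    have hy := h11' y
    rw [← hx, ← hy, hsq, hsq] at hxy
    have h3 := hinj (Function.LeftInverse.injective h22 hxy)
    rw [← hx, ← hy, h3]
  · intro hinj x y hxy
    have h3 : e₁ x = e₁ y := hinj (by rw [hsq, hsq, hxy])
    exact Function.LeftInverse.injective h11 h3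

end cmp2

section field

open IsLocalRing

theorem D_algebraMap_bot {k A : Type u} [Field k] [CommRing A] [Algebra k A]
    (l : ↥(⊥ : Subfield k)) :
    KaehlerDifferential.D ℤ A (algebraMap k A (l : k)) = 0 := by
  have h := Groth.Agent.H44.CoeffField.derivation_bot_eq_zero
    ((KaehlerDifferential.D ℤ A).compAlgebraMap k) l.2
  exact h

/-- the Jacobian criterion for a local algebra over a field -/
theorem jacobian_field {k A : Type u} [Field k] [CommRing A] [IsLocalRing A] [Algebra k A] :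
    CAlgX.IsAdicFormallySmooth k A (maximalIdeal A) ↔
      (PP16.SymGrBijective A (maximalIdeal A) ∧
        Function.Injective ((mapBaseChange ℤ k A).lTensor (A ⧸ maximalIdeal A))) := by
  letI aL : Algebra ↥(⊥ : Subfield k) A :=
    { smul := fun a x => (a : k) • x
      algebraMap := (algebraMap k A).comp (algebraMap ↥(⊥ : Subfield k) k)
      commutes' := fun a x => Algebra.commutes (a : k) x
      smul_def' := fun a x => Algebra.smul_def (a : k) x }
  haveI t1 : IsScalarTower ↥(⊥ : Subfield k) k A := IsScalarTower.of_algebraMap_eq (fun _ => rfl)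
  haveI : Algebra.FormallySmooth ↥(⊥ : Subfield k) k :=
    Groth.Agent.H44.CoeffField.formallySmooth_bot k
  haveI hres : Algebra.FormallySmooth ↥(⊥ : Subfield k) (A ⧸ maximalIdeal A) :=
    Groth.Agent.H44.CoeffField.formallySmooth_bot' k (ResidueField A)
  have hiff := injective_lTensor_iff ℤ ↥(⊥ : Subfield k) k A (A ⧸ maximalIdeal A)
    (fun l => Groth.Agent.H44.CoeffField.derivation_bot_eq_zero (KaehlerDifferential.D ℤ k) l.2)
    (fun l => D_algebraMap_bot l)
  constructor
  · intro h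
    obtain ⟨_, h2, h3, _⟩ := part_ii ↥(⊥ : Subfield k) k A (maximalIdeal A) h
    exact ⟨h2, hiff.mpr h3⟩
  · rintro ⟨h2, h3⟩
    letI : Field (A ⧸ maximalIdeal A) := Ideal.Quotient.field (maximalIdeal A)
    exact part_i ↥(⊥ : Subfield k) k A (maximalIdeal A) Module.Projective.of_free h2
      (hiff.mp h3) Module.Projective.of_free

end field

end Groth.Agent.H46.AdicJac
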