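import Groth.Agent.H46.AdicJacD
import Groth.Agent.S2466
import Groth.Agent.S2468
import Groth.Agent.H44.PBasisAdm

/-!
# Jacobian criterion in characteristic `p` with a family of subfields (helper46)
-/

set_option autoImplicit false
set_option maxHeartbeats 400000

namespace Groth.Agent.H46.AdicJacP

open TensorProduct KaehlerDifferential

universe u

section li

theorem li_of_subset {k : Type*} [Field k] {κ : Type*} {R R' : Type*} [CommRing R] [CommRing R']
    [Algebra R k] [Algebra R' k] (v : κ → k)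
    (h : ∀ r' : R', ∃ r : R, algebraMap R k r = algebraMap R' k r')
    (hinj : Function.Injective (algebraMap R' k)) (hli : LinearIndependent R v) :
    LinearIndependent R' v := by
  rw [linearIndependent_iff'] at hli ⊢
  intro t g hg i hi
  choose r hr using h
  have h1 : ∑ j ∈ t, (r (g j)) • v j = 0 := by
    rw [← hg]
    refine Finset.sum_congr rfl fun j _ => ?_
    rw [Algebra.smul_def, Algebra.smul_def, hr]
  have h2 := hli t (fun j => r (g j)) h1 i hi
  apply hinj
  rw [← hr, h2, map_zero, map_zero]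

theorem exists_li_of_iInf {k : Type u} [Field k] {ι : Type*} [Preorder ι]
    [IsDirected ι (· ≤ ·)] (L : ι → Subfield k) (hL : Antitone L) (F : Subfield k)
    (hF : ⨅ α, L α = F) (N : ℕ) :
    ∀ (m : Fin N → k), LinearIndependent F m → ∀ α₀ : ι,
      ∃ α, α₀ ≤ α ∧ LinearIndependent (L α) m := by
  induction N with
  | zero =>
    intro m _ α₀
    exact ⟨α₀, le_rfl, linearIndependent_empty_type⟩
  | succ N ih =>
    intro m hm α₀
    rw [linearIndependent_fin_succ] at hm
    obtain ⟨hm1, hm2⟩ := hm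
    obtain ⟨α₁, h01, hα₁⟩ := ih (Fin.tail m) hm1 α₀
    by_contra hcon
    push_neg at hcon
    have hmono : ∀ β, α₁ ≤ β → LinearIndependent (L β) (Fin.tail m) := fun β hβ =>
      li_of_subset (R := L α₁) (R' := L β) _ (fun r' => ⟨⟨r', hL hβ r'.2⟩, rfl⟩)
        Subtype.val_injective hα₁
    have hspan : ∀ β, α₁ ≤ β → m 0 ∈ Submodule.span (L β) (Set.range (Fin.tail m)) := by
      intro β hβ
      by_contra hnot
      exact hcon β (h01.trans hβ) (linearIndependent_fin_succ.mpr ⟨hmono β hβ, hnot⟩)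
    have hcoef : ∀ β, α₁ ≤ β → ∃ c : Fin N → L β, ∑ i, c i • Fin.tail m i = m 0 := fun β hβ =>
      (Submodule.mem_span_range_iff_exists_fun _).mp (hspan β hβ)
    obtain ⟨c, hc⟩ := hcoef α₁ le_rfl
    have hcβ : ∀ β, α₁ ≤ β → ∀ i, (c i : k) ∈ L β := by
      intro β hβ i
      obtain ⟨c', hc'⟩ := hcoef β hβ
      have h3 : ∑ j, ((c j) - ⟨c' j, hL hβ (c' j).2⟩ : L α₁) • Fin.tail m j = 0 := by
        simp only [sub_smul, Finset.sum_sub_distrib]
        rw [hc, sub_eq_zero]
        exact hc'.symm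
      have h4 := (Fintype.linearIndependent_iff.mp hα₁) _ h3 i
      have h5 : (c i : k) = c' i := congrArg Subtype.val (sub_eq_zero.mp h4)
      rw [h5]
      exact (c' i).2
    have hcF : ∀ i, (c i : k) ∈ F := by
      intro i
      rw [← hF, Subfield.mem_iInf]
      intro γ
      obtain ⟨β, hβγ, hβ1⟩ := exists_ge_ge γ α₁
      exact hL hβγ (hcβ β hβ1 i)
    apply hm2
    rw [Submodule.mem_span_range_iff_exists_fun]
    exact ⟨fun i => ⟨c i, hcF i⟩, hc⟩

end li

section key

variable (p : ℕ) [Fact p.Prime] {k : Type u} [Field k] [CharP k p]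

theorem finite_exps (κ : Type*) [Finite κ] : Finite {e : κ →₀ ℕ // ∀ i, e i < p} := by
  refine Finite.of_injective (fun e i => (⟨e.1 i, e.2 i⟩ : Fin p)) ?_
  intro e e' h
  apply Subtype.ext
  apply Finsupp.ext
  intro i
  exact congrArg Fin.val (congrFun h i)

theorem exists_pIndependent {ι : Type*} [Preorder ι] [IsDirected ι (· ≤ ·)]
    (kα : ι → Subfield k) (hanti : Antitone kα)
    (hint : ⨅ α, (kα α ⊔ (frobenius k p).fieldRange) = (frobenius k p).fieldRange)
    {κ : Type u} [Finite κ] (x : κ → k) (hx : EGA41.IsPIndependent p ↥(⊥ : Subfield k) x)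
    (α₀ : ι) : ∃ α, α₀ ≤ α ∧ EGA41.IsPIndependent p ↥(kα α) x := by
  haveI := finite_exps p κ
  obtain ⟨N, ⟨eq⟩⟩ := Finite.exists_equiv_fin {e : κ →₀ ℕ // ∀ i, e i < p}
  have h1 : LinearIndependent (frobenius k p).fieldRange
      (fun e : {e : κ →₀ ℕ // ∀ i, e i < p} => EGA41.pMonomial x e.1) := by
    refine li_of_subset _ ?_ Subtype.val_injective hx
    intro r'
    obtain ⟨y, hy⟩ := RingHom.mem_fieldRange.mp r'.2
    refine ⟨⟨r', ?_⟩, rfl⟩
    rw [← hy, frobenius_def]
    exact Algebra.subset_adjoin ⟨y, rfl⟩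
  have h2 : LinearIndependent (frobenius k p).fieldRange
      ((fun e : {e : κ →₀ ℕ // ∀ i, e i < p} => EGA41.pMonomial x e.1) ∘ eq.symm) :=
    (linearIndependent_equiv eq.symm).mpr h1
  obtain ⟨α, hα, h3⟩ := exists_li_of_iInf (fun α => kα α ⊔ (frobenius k p).fieldRange)
    (fun a b hab => sup_le_sup_right (hanti hab) _) _ hint N _ h2 α₀
  refine ⟨α, hα, ?_⟩
  have h4 := (linearIndependent_equiv eq.symm).mp h3
  refine li_of_subset _ ?_ Subtype.val_injective h4
  have hsub : ∀ z : k, z ∈ Algebra.adjoin ↥(kα α) (Set.range fun b : k => b ^ p) →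
      z ∈ kα α ⊔ (frobenius k p).fieldRange := by
    intro z hz
    induction hz using Algebra.adjoin_induction with
    | mem y hy =>
      obtain ⟨z, rfl⟩ := hy
      refine (le_sup_right : (frobenius k p).fieldRange ≤ kα α ⊔ (frobenius k p).fieldRange) ?_
      exact RingHom.mem_fieldRange.mpr ⟨z, frobenius_def p z⟩
    | algebraMap r =>
      exact (le_sup_left : kα α ≤ kα α ⊔ (frobenius k p).fieldRange) r.2
    | add y z _ _ hy hz => exact add_mem hy hz
    | mul y z _ _ hy hz => exact mul_mem hy hz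
  intro r'
  exact ⟨⟨r', hsub r' r'.2⟩, rfl⟩

end key

section main

open IsLocalRing

variable (p : ℕ) [Fact p.Prime] {k : Type u} [Field k] [CharP k p]

/-- the prime subfield maps into every subfield -/
@[reducible] noncomputable def algBot (S : Subfield k) : Algebra ↥(⊥ : Subfield k) ↥S :=
  (Subfield.inclusion (bot_le : (⊥ : Subfield k) ≤ S)).toAlgebra

attribute [local instance] algBot

theorem towerBot (S : Subfield k) : IsScalarTower ↥(⊥ : Subfield k) ↥S k :=
  IsScalarTower.of_algebraMap_eq (fun _ => rfl)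

theorem towerBot' (S : Subfield k) (A : Type u) [CommRing A] [Algebra k A] :
    IsScalarTower ↥(⊥ : Subfield k) ↥S A :=
  IsScalarTower.of_algebraMap_eq (fun _ => rfl)

attribute [local instance] towerBot towerBot'

variable {A : Type u} [CommRing A] [IsLocalRing A] [Algebra k A]

theorem eq_zero_of_forall {ι : Type*} [Preorder ι] [IsDirected ι (· ≤ ·)]
    (kα : ι → Subfield k) (hanti : Antitone kα)
    (hint : ⨅ α, (kα α ⊔ (frobenius k p).fieldRange) = (frobenius k p).fieldRange)
    (α₀ : ι) (v : (A ⧸ maximalIdeal A) ⊗[A] (A ⊗[k] Ω[k⁄↥(⊥ : Subfield k)]))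
    (hv : ∀ α, α₀ ≤ α →
      ((KaehlerDifferential.map ↥(⊥ : Subfield k) ↥(kα α) k k).baseChange A).baseChange
        (A ⧸ maximalIdeal A) v = 0) : v = 0 := by
  classical
  obtain ⟨T, hT⟩ := Groth.Agent.H44.PBasis.exists_pBasis_set p (k₀ := ↥(⊥ : Subfield k)) (K := k)
  obtain ⟨bs, hbs⟩ := Groth.Agent.S2466.result p (fun t : T => id (t : k)) hT
  let bV : Module.Basis T (A ⧸ maximalIdeal A)
      ((A ⧸ maximalIdeal A) ⊗[A] (A ⊗[k] Ω[k⁄↥(⊥ : Subfield k)])) :=
    (bs.baseChange A).baseChange (A ⧸ maximalIdeal A)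
  have hbV : ∀ t, bV t = (1 : A ⧸ maximalIdeal A) ⊗ₜ[A]
      ((1 : A) ⊗ₜ[k] KaehlerDifferential.D ↥(⊥ : Subfield k) k (t : k)) := fun t => by
    rw [Module.Basis.baseChange_apply, Module.Basis.baseChange_apply, hbs]
    rfl
  set F := (bV.repr v).support with hF
  let x : {t // t ∈ F} → k := fun t => ((t : T) : k)
  have hli0 : LinearIndependent k
      (fun t : {t // t ∈ F} => KaehlerDifferential.D ↥(⊥ : Subfield k) k (x t)) := by
    have h := bs.linearIndependent.comp (fun t : {t // t ∈ F} => (t : T)) Subtype.val_injective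
    have e : (⇑bs ∘ fun t : {t // t ∈ F} => (t : T)) =
        fun t : {t // t ∈ F} => KaehlerDifferential.D ↥(⊥ : Subfield k) k (x t) :=
      funext fun t => hbs t
    rwa [e] at h
  have hx := (Groth.Agent.S2468.result p x).1.mpr hli0
  obtain ⟨α, hα, hxα⟩ := exists_pIndependent p kα hanti hint x hx α₀
  have hliα : LinearIndependent k (fun t => KaehlerDifferential.D ↥(kα α) k (x t)) :=
    (Groth.Agent.S2468.result p x).1.mp hxα
  have hliL : LinearIndependent (A ⧸ maximalIdeal A) (fun t : {t // t ∈ F} =>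
      (1 : A ⧸ maximalIdeal A) ⊗ₜ[A] ((1 : A) ⊗ₜ[k] KaehlerDifferential.D ↥(kα α) k (x t))) := by
    have h1 : LinearIndependent (A ⧸ maximalIdeal A)
        (fun t => (1 : A ⧸ maximalIdeal A) ⊗ₜ[k] KaehlerDifferential.D ↥(kα α) k (x t)) :=
      Module.Flat.linearIndependent_one_tmul hliα
    refine LinearIndependent.of_comp (TensorProduct.AlgebraTensorModule.cancelBaseChange k A
      (A ⧸ maximalIdeal A) (A ⧸ maximalIdeal A) Ω[k⁄↥(kα α)]).toLinearMap ?_
    have e : (⇑(TensorProduct.AlgebraTensorModule.cancelBaseChange k A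
        (A ⧸ maximalIdeal A) (A ⧸ maximalIdeal A) Ω[k⁄↥(kα α)]).toLinearMap ∘
        fun t : {t // t ∈ F} => (1 : A ⧸ maximalIdeal A) ⊗ₜ[A]
          ((1 : A) ⊗ₜ[k] KaehlerDifferential.D ↥(kα α) k (x t))) =
        fun t => (1 : A ⧸ maximalIdeal A) ⊗ₜ[k] KaehlerDifferential.D ↥(kα α) k (x t) := by
      funext t
      simp
    rw [e]
    exact h1
  have hvsum : v = ∑ t ∈ F, (bV.repr v t) • bV t := by
    conv_lhs => rw [← bV.linearCombination_repr v, Finsupp.linearCombination_apply, Finsupp.sum]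
  have h0 := hv α hα
  rw [hvsum, map_sum] at h0
  simp only [map_smul, hbV, LinearMap.baseChange_tmul, KaehlerDifferential.map_D] at h0
  rw [← Finset.sum_coe_sort F] at h0
  have h5 := Fintype.linearIndependent_iff.mp hliL (fun t => bV.repr v t) h0
  have h6 : bV.repr v = 0 := by
    ext t
    by_cases ht : t ∈ F
    · exact h5 ⟨t, ht⟩
    · exact Finsupp.notMem_support_iff.mp ht
  exact (LinearEquiv.map_eq_zero_iff bV.repr).mp h6

/-- the Jacobian criterion in characteristic `p` with a cofinal family of subfields -/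
theorem jacobian_charP {ι : Type u} [Preorder ι] [IsDirected ι (fun a b => a ≤ b)] [Nonempty ι]
    (kα : ι → Subfield k) (hanti : Antitone kα)
    (hint : ⨅ α, (kα α ⊔ (frobenius k p).fieldRange) = (frobenius k p).fieldRange) :
    CAlgX.IsAdicFormallySmooth k A (maximalIdeal A) ↔
      (PP16.SymGrBijective A (maximalIdeal A) ∧ ∃ α₀ : ι, ∀ α : ι, α₀ ≤ α →
        Function.Injective ((mapBaseChange (kα α) k A).lTensor (A ⧸ maximalIdeal A))) := by
  haveI : Algebra.FormallySmooth ↥(⊥ : Subfield k) k :=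
    Groth.Agent.H44.CoeffField.formallySmooth_bot k
  haveI hres : Algebra.FormallySmooth ↥(⊥ : Subfield k) (A ⧸ maximalIdeal A) :=
    Groth.Agent.H44.CoeffField.formallySmooth_bot' k (ResidueField A)
  constructor
  · intro h
    obtain ⟨_, h2, _, _⟩ :=
      Groth.Agent.H46.AdicJac.part_ii ↥(⊥ : Subfield k) k A (maximalIdeal A) h
    obtain ⟨α₀⟩ := ‹Nonempty ι›
    exact ⟨h2, α₀, fun α _ =>
      Groth.Agent.H46.AdicJac.gamma_injective ↥(kα α) k A (maximalIdeal A) h⟩
  · rintro ⟨h2, α₀, hinj⟩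
    have hγ : Function.Injective
        ((mapBaseChange ↥(⊥ : Subfield k) k A).lTensor (A ⧸ maximalIdeal A)) := by
      rw [injective_iff_map_eq_zero]
      intro v hv
      apply eq_zero_of_forall p kα hanti hint α₀ v
      intro α hα
      apply hinj α hα
      rw [map_zero]
      have hsq : (mapBaseChange ↥(kα α) k A).lTensor (A ⧸ maximalIdeal A) ∘ₗ
          (((KaehlerDifferential.map ↥(⊥ : Subfield k) ↥(kα α) k k).baseChange A).restrictScalars
            A).lTensor (A ⧸ maximalIdeal A) =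
          (KaehlerDifferential.map ↥(⊥ : Subfield k) ↥(kα α) A A).lTensor (A ⧸ maximalIdeal A) ∘ₗ
            (mapBaseChange ↥(⊥ : Subfield k) k A).lTensor (A ⧸ maximalIdeal A) := by
        rw [← LinearMap.lTensor_comp, ← LinearMap.lTensor_comp]
        congr 1
        exact Groth.Agent.H46.AdicJac.square ↥(⊥ : Subfield k) ↥(kα α) k A
      have h3 := LinearMap.congr_fun hsq v
      rw [LinearMap.comp_apply, LinearMap.comp_apply, hv, map_zero] at h3
      exact h3
    letI : Field (A ⧸ maximalIdeal A) := Ideal.Quotient.field (maximalIdeal A)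
    exact Groth.Agent.H46.AdicJac.part_i ↥(⊥ : Subfield k) k A (maximalIdeal A)
      Module.Projective.of_free h2 hγ Module.Projective.of_free

end main

end Groth.Agent.H46.AdicJacP
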