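import Mathlib

set_option linter.style.haveILetI false

/-!
# Adjoining a fraction `z / t` to a quotient ring `B ⧸ 𝔟`

`main`: if `t` is a non-zero-divisor modulo `𝔟`, `δ z ≡ t s` modulo `𝔟`, and every `f` with
`f z ^ n ∈ 𝔟 + (t)` lies in `𝔟 + (t, δ)`, then the ideal
`adj 𝔟 t z δ s = 𝔟 B[X] + (t X - z, δ X - s)` is the kernel of `B[X] → (B ⧸ 𝔟)[1/t]`, `X ↦ z / t`.
-/

namespace Groth.Agent.H46.AF

open Polynomial

variable {B : Type*} [CommRing B]

/-- The ideal `𝔟 B[X] + (t X - z, δ X - s)`. -/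
noncomputable def adj (𝔟 : Ideal B) (t z δ s : B) : Ideal B[X] :=
  Ideal.map C 𝔟 ⊔ Ideal.span {C t * X - C z, C δ * X - C s}

theorem main (𝔟 : Ideal B) (t z δ s : B)
    (h1 : ∀ f, t * f ∈ 𝔟 → f ∈ 𝔟)
    (hδ : δ * z - t * s ∈ 𝔟)
    (h2 : ∀ f (n : ℕ), 0 < n → f * z ^ n ∈ 𝔟 ⊔ Ideal.span {t} → f ∈ 𝔟 ⊔ Ideal.span {t, δ}) :
    (∀ F, C t * F ∈ adj 𝔟 t z δ s → F ∈ adj 𝔟 t z δ s) ∧
    (∀ f, C f ∈ adj 𝔟 t z δ s → f ∈ 𝔟) ∧
    (𝔟.IsPrime → (adj 𝔟 t z δ s).IsPrime) := by
  classical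
  set 𝔠 := adj 𝔟 t z δ s with h𝔠
  let Q := B ⧸ 𝔟
  let π : B →+* Q := Ideal.Quotient.mk 𝔟
  let τ : Q := π t
  let L := Localization.Away τ
  let ι : Q →+* L := algebraMap Q L
  let w : L := IsLocalization.Away.invSelf τ * ι (π z)
  let Φ : B[X] →+* L := eval₂RingHom (ι.comp π) w
  have hτ : Submonoid.powers τ ≤ nonZeroDivisors Q := by
    rw [Submonoid.powers_le, mem_nonZeroDivisors_iff_right]
    intro q hq
    obtain ⟨f, rfl⟩ := Ideal.Quotient.mk_surjective q
    have : t * f ∈ 𝔟 := by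
      rw [← Ideal.Quotient.eq_zero_iff_mem, map_mul, mul_comm]; exact hq
    exact Ideal.Quotient.eq_zero_iff_mem.mpr (h1 f this)
  have hinj : Function.Injective ι := IsLocalization.injective L hτ
  have hunit : ι τ * IsLocalization.Away.invSelf τ = 1 := IsLocalization.Away.mul_invSelf τ
  have hu : IsUnit (ι τ) := IsUnit.of_mul_eq_one _ hunit
  have hΦC : ∀ f, Φ (C f) = ι (π f) := by intro f; simp [Φ]
  have hΦX : Φ X = w := by simp [Φ]
  have hιτw : ι τ * w = ι (π z) := by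
    simp only [w]; rw [← mul_assoc, hunit, one_mul]
  have hkill : 𝔠 ≤ RingHom.ker Φ := by
    rw [h𝔠, adj]
    refine sup_le ?_ ?_
    · rw [Ideal.map_le_iff_le_comap]
      intro f hf
      rw [Ideal.mem_comap, RingHom.mem_ker, hΦC]
      have : π f = 0 := Ideal.Quotient.eq_zero_iff_mem.mpr hf
      rw [this, map_zero]
    · rw [Ideal.span_le]
      rintro p (rfl | rfl)
      · rw [SetLike.mem_coe, RingHom.mem_ker, map_sub, map_mul, hΦC, hΦC, hΦX]
        change ι τ * w - ι (π z) = 0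
        rw [hιτw, sub_self]
      · rw [SetLike.mem_coe, RingHom.mem_ker, map_sub, map_mul, hΦC, hΦC, hΦX]
        have e : ι τ * (ι (π δ) * w - ι (π s)) = ι (π (δ * z - t * s)) := by
          rw [mul_sub, mul_left_comm, hιτw]
          simp only [map_sub, map_mul]
          rfl
        have hz : π (δ * z - t * s) = 0 := Ideal.Quotient.eq_zero_iff_mem.mpr hδ
        rw [hz, map_zero] at e
        exact (hu.mul_right_eq_zero).mp e
  have key : ∀ n : ℕ, ∀ F : B[X], F.natDegree ≤ n → Φ F = 0 → F ∈ 𝔠 := by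
    intro n
    induction n with
    | zero =>
      intro F hF hΦ
      have hFC : F = C (F.coeff 0) := eq_C_of_natDegree_le_zero hF
      rw [hFC, hΦC] at hΦ
      have : π (F.coeff 0) = 0 := hinj (by rw [hΦ, map_zero])
      rw [hFC]
      exact Ideal.mem_sup_left (Ideal.mem_map_of_mem _ (Ideal.Quotient.eq_zero_iff_mem.mp this))
    | succ n ih =>
      intro F hF hΦ
      have hsum : Φ F = ∑ k ∈ Finset.range (n + 2), ι (π (F.coeff k)) * w ^ k := by
        simp only [Φ, coe_eval₂RingHom]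
        rw [eval₂_eq_sum_range' _ (by omega : F.natDegree < n + 2)]
        simp
      have hG : (∑ k ∈ Finset.range (n + 2), F.coeff k * z ^ k * t ^ (n + 1 - k)) ∈ 𝔟 := by
        rw [← Ideal.Quotient.eq_zero_iff_mem]
        apply hinj
        rw [map_zero]
        have : ι (π (∑ k ∈ Finset.range (n + 2), F.coeff k * z ^ k * t ^ (n + 1 - k)))
            = ι τ ^ (n + 1) * Φ F := by
          rw [hsum, Finset.mul_sum, map_sum, map_sum]
          refine Finset.sum_congr rfl fun k hk => ?_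
          have hk' : k ≤ n + 1 := by
            have := Finset.mem_range.mp hk; omega
          simp only [map_mul, map_pow]
          have e1 : ι τ ^ (n + 1) = ι τ ^ (n + 1 - k) * ι τ ^ k := by
            rw [← pow_add]; congr 1; omega
          have h3 : ι τ ^ k * w ^ k = ι (π z) ^ k := by rw [← mul_pow, hιτw]
          rw [e1]
          change ι (π (F.coeff k)) * ι (π z) ^ k * ι τ ^ (n + 1 - k) = _
          rw [← h3]; ring
        rw [this, hΦ, mul_zero]
      have hlead : F.coeff (n + 1) * z ^ (n + 1) ∈ 𝔟 ⊔ Ideal.span {t} := by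
        rw [Finset.sum_range_succ] at hG
        simp only [Nat.sub_self, pow_zero, mul_one] at hG
        have hrest : (∑ k ∈ Finset.range (n + 1), F.coeff k * z ^ k * t ^ (n + 1 - k))
            ∈ Ideal.span {t} := by
          refine Ideal.sum_mem _ fun k hk => ?_
          have hk' : k < n + 1 := Finset.mem_range.mp hk
          rw [Ideal.mem_span_singleton]
          exact Dvd.dvd.mul_left (dvd_pow_self t (by omega)) _
        have e : F.coeff (n + 1) * z ^ (n + 1)
            = (∑ k ∈ Finset.range (n + 1), F.coeff k * z ^ k * t ^ (n + 1 - k)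
                + F.coeff (n + 1) * z ^ (n + 1))
              - ∑ k ∈ Finset.range (n + 1), F.coeff k * z ^ k * t ^ (n + 1 - k) := by ring
        rw [e]
        exact Ideal.sub_mem _ (Ideal.mem_sup_left hG) (Ideal.mem_sup_right hrest)
      have hmem := h2 _ (n + 1) (Nat.succ_pos n) hlead
      obtain ⟨β, hβ, y, hy, hβy⟩ := Submodule.mem_sup.mp hmem
      obtain ⟨r0, r1, hr⟩ := Ideal.mem_span_pair.mp hy
      set E : B[X] := C β * X ^ (n + 1) + C r0 * X ^ n * (C t * X - C z)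
        + C r1 * X ^ n * (C δ * X - C s) with hE
      have hE𝔠 : E ∈ 𝔠 := by
        rw [h𝔠, adj]
        refine Ideal.add_mem _ (Ideal.add_mem _ ?_ ?_) ?_
        · exact Ideal.mul_mem_right _ _ (Ideal.mem_sup_left (Ideal.mem_map_of_mem _ hβ))
        · exact Ideal.mul_mem_left _ _ (Ideal.mem_sup_right (Ideal.subset_span (by simp)))
        · exact Ideal.mul_mem_left _ _ (Ideal.mem_sup_right (Ideal.subset_span (by simp)))
      have hF' : (F - E) ∈ 𝔠 := by
        apply ih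
        · rw [natDegree_le_iff_coeff_eq_zero]
          intro N hN
          have hE2 : E = C (β + r0 * t + r1 * δ) * X ^ (n + 1) - C (r0 * z + r1 * s) * X ^ n := by
            rw [hE]; simp only [map_add, map_mul]; ring
          rw [coeff_sub, hE2, coeff_sub, coeff_C_mul_X_pow, coeff_C_mul_X_pow]
          rcases Nat.lt_or_ge (n + 1) N with h | h
          · rw [if_neg (by omega), if_neg (by omega), coeff_eq_zero_of_natDegree_lt (by omega)]
            simp
          · have hN' : N = n + 1 := by omega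
            subst hN'
            rw [if_pos rfl, if_neg (by omega), ← hβy, ← hr]; ring
        · rw [map_sub, hΦ, RingHom.mem_ker.mp (hkill hE𝔠), sub_zero]
      have e : F = (F - E) + E := by ring
      rw [e]; exact Ideal.add_mem _ hF' hE𝔠
  have hker : 𝔠 = RingHom.ker Φ :=
    le_antisymm hkill (fun F hF => key _ F le_rfl (RingHom.mem_ker.mp hF))
  refine ⟨?_, ?_, ?_⟩
  · intro F hF
    have h0 : Φ (C t * F) = 0 := RingHom.mem_ker.mp (hkill hF)
    rw [map_mul, hΦC] at h0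
    exact key _ F le_rfl ((hu.mul_right_eq_zero).mp h0)
  · intro f hf
    have h0 : Φ (C f) = 0 := RingHom.mem_ker.mp (hkill hf)
    rw [hΦC] at h0
    have : π f = 0 := hinj (by rw [h0, map_zero])
    exact Ideal.Quotient.eq_zero_iff_mem.mp this
  · intro hp
    haveI : IsDomain Q := Ideal.Quotient.isDomain 𝔟
    haveI : IsDomain L := IsLocalization.isDomain_localization hτ
    rw [hker]
    exact RingHom.ker_isPrime Φ

/-- regular version of `adj`. -/
noncomputable def adjR (𝔟 : Ideal B) (t z : B) : Ideal B[X] :=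
  Ideal.map C 𝔟 ⊔ Ideal.span {C t * X - C z}

theorem adj_self (𝔟 : Ideal B) (t z : B) : adj 𝔟 t z t z = adjR 𝔟 t z := by
  simp [adj, adjR]

theorem main_reg (𝔟 : Ideal B) (t z : B)
    (h1 : ∀ f, t * f ∈ 𝔟 → f ∈ 𝔟)
    (h2 : ∀ f (n : ℕ), 0 < n → f * z ^ n ∈ 𝔟 ⊔ Ideal.span {t} → f ∈ 𝔟 ⊔ Ideal.span {t}) :
    (∀ F, C t * F ∈ adjR 𝔟 t z → F ∈ adjR 𝔟 t z) ∧
    (∀ f, C f ∈ adjR 𝔟 t z → f ∈ 𝔟) ∧
    (𝔟.IsPrime → (adjR 𝔟 t z).IsPrime) := by
  rw [← adj_self]
  refine main 𝔟 t z t z h1 (by simp) ?_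
  intro f n hn hf
  have := h2 f n hn hf
  simpa using this

/-- Criterion for hypothesis `h2` through a ring hom. -/
theorem h2_of_hom {B' : Type*} [CommRing B'] (Θ : B →+* B') (𝔟 𝔞 : Ideal B) (t z : B)
    (hle : 𝔟 ⊔ Ideal.span {t} ≤ RingHom.ker Θ) (hker : RingHom.ker Θ ≤ 𝔞)
    (hz : Θ z ∈ nonZeroDivisors B') :
    ∀ f (n : ℕ), 0 < n → f * z ^ n ∈ 𝔟 ⊔ Ideal.span {t} → f ∈ 𝔞 := by
  intro f n _ hf
  have h0 : Θ (f * z ^ n) = 0 := RingHom.mem_ker.mp (hle hf)
  rw [map_mul, map_pow] at h0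
  have hzn : Θ z ^ n ∈ nonZeroDivisors B' := pow_mem hz n
  have : Θ f = 0 := (mem_nonZeroDivisors_iff_right.mp hzn) _ h0
  exact hker (RingHom.mem_ker.mpr this)

/-- kernel of "set `X = 0`, then apply `θ`". -/
theorem ker_comp_eval0 {B' : Type*} [CommRing B'] (θ : B →+* B') :
    RingHom.ker (θ.comp (evalRingHom (0 : B))) = Ideal.span {X} ⊔ Ideal.map C (RingHom.ker θ) := by
  apply le_antisymm
  · intro F hF
    have h0 : θ (F.coeff 0) = 0 := by
      have := RingHom.mem_ker.mp hF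
      simpa [coeff_zero_eq_eval_zero] using this
    have e : F = (F - C (F.coeff 0)) + C (F.coeff 0) := by ring
    rw [e]
    refine Ideal.add_mem _ (Ideal.mem_sup_left ?_) (Ideal.mem_sup_right ?_)
    · exact Ideal.mem_span_singleton.mpr X_dvd_sub_C
    · exact Ideal.mem_map_of_mem _ (RingHom.mem_ker.mpr h0)
  · refine sup_le ?_ ?_
    · rw [Ideal.span_le]
      rintro p rfl
      simp [RingHom.mem_ker]
    · rw [Ideal.map_le_iff_le_comap]
      intro f hf
      have := RingHom.mem_ker.mp hf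
      simp [Ideal.mem_comap, RingHom.mem_ker, this]

theorem nzd_of_coeff (p : B[X]) (k : ℕ) (hk : p.coeff k ∈ nonZeroDivisors B) :
    p ∈ nonZeroDivisors B[X] := by
  rw [Polynomial.mem_nonZeroDivisors_iff]
  intro a ha
  have h1 : (a • p).coeff k = 0 := by rw [ha, coeff_zero]
  rw [coeff_smul, smul_eq_mul] at h1
  exact (mem_nonZeroDivisors_iff_right.mp hk) _ h1

theorem nzd_neg {a : B} (ha : a ∈ nonZeroDivisors B) : -a ∈ nonZeroDivisors B := by
  rw [mem_nonZeroDivisors_iff_right] at ha ⊢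
  intro x hx
  apply ha
  rw [mul_neg, neg_eq_zero] at hx
  exact hx

theorem nzd_C {a : B} (ha : a ∈ nonZeroDivisors B) : C a ∈ nonZeroDivisors B[X] :=
  nzd_of_coeff _ 0 (by simpa using ha)

theorem nzd_X : (X : B[X]) ∈ nonZeroDivisors B[X] := monic_X.mem_nonZeroDivisors

/-- `t` nzd mod `𝔟` as membership in `nonZeroDivisors (B ⧸ 𝔟)`. -/
theorem nzd_mk_of (𝔟 : Ideal B) (t : B) (h : ∀ f, t * f ∈ 𝔟 → f ∈ 𝔟) :
    Ideal.Quotient.mk 𝔟 t ∈ nonZeroDivisors (B ⧸ 𝔟) := by
  rw [mem_nonZeroDivisors_iff_right]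
  intro q hq
  obtain ⟨f, rfl⟩ := Ideal.Quotient.mk_surjective q
  have : t * f ∈ 𝔟 := by
    rw [← Ideal.Quotient.eq_zero_iff_mem, map_mul, mul_comm]; exact hq
  exact Ideal.Quotient.eq_zero_iff_mem.mpr (h f this)

end Groth.Agent.H46.AF
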