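import Mathlib
import Groth.Agent.H46.BD0
import Groth.Agent.H19.BD_TRUNC
import Groth.Agent.H29.BD_LES

/-!
# Biduality for unbounded complexes: the way-out argument (helper46, for S1819)
-/

set_option autoImplicit false
universe u
open CategoryTheory CategoryTheory.Limits HomologicalComplex CochainComplex
open CochainComplex.HomComplex
attribute [local instance] HasDerivedCategory.standard
open Groth.Agent.H33.TensorHom Groth.Agent.H33.Bidual

namespace Groth.Agent.H46.BD

variable {A : Type u} [CommRing A]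

/-- the biduality morphism of short complexes -/
noncomputable def bidualSC (S : ShortComplex (DRing.Cx A)) (J : DRing.Cx A) :
    S ⟶ homSC (homSC S J) J where
  τ₁ := bidual S.X₁ J
  τ₂ := bidual S.X₂ J
  τ₃ := bidual S.X₃ J
  comm₁₂ := (bidual_naturality S.f J).symm
  comm₂₃ := (bidual_naturality S.g J).symm

theorem exactAt_of_isZero (X : DRing.Cx A) (i : ℤ) (h : IsZero (X.X i)) : X.ExactAt i :=
  ShortComplex.exact_of_isZero_X₂ _ h

section
variable (J : DRing.Cx A) (a b : ℤ) (hab : ∀ q : ℤ, q < a ∨ b < q → IsZero (J.X q))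
include hab

theorem isZero_DD_X_of_ge (X : DRing.Cx A) (t : ℤ) (hX : ∀ p : ℤ, p < t → IsZero (X.X p)) (m : ℤ)
    (hm : m < t - (b - a)) : IsZero ((DRing.homCx (DRing.homCx X J) J).X m) := by
  apply isZero_homCx_X
  intro q
  by_cases hq : b - t < q
  · left
    apply isZero_homCx_X
    intro p
    by_cases hp : p < t
    · exact Or.inl (hX p hp)
    · exact Or.inr (hab (p + q) (Or.inr (by omega)))
  · exact Or.inr (hab (q + m) (Or.inl (by omega)))

theorem isZero_DD_X_of_le (X : DRing.Cx A) (s : ℤ) (hX : ∀ p : ℤ, s < p → IsZero (X.X p)) (m : ℤ)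
    (hm : s + (b - a) < m) : IsZero ((DRing.homCx (DRing.homCx X J) J).X m) := by
  apply isZero_homCx_X
  intro q
  by_cases hq : q < a - s
  · left
    apply isZero_homCx_X
    intro p
    by_cases hp : s < p
    · exact Or.inl (hX p hp)
    · exact Or.inr (hab (p + q) (Or.inl (by omega)))
  · exact Or.inr (hab (q + m) (Or.inr (by omega)))

end

theorem finite_of_isZero {M : ModuleCat.{u} A} (h : IsZero M) : Module.Finite A M := by
  haveI := ModuleCat.subsingleton_of_isZero h
  infer_instance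

theorem finite_homology_of_isZero (X : DRing.Cx A) (i : ℤ) (h : IsZero (X.X i)) :
    Module.Finite A (X.homology i) :=
  finite_of_isZero ((exactAt_iff_isZero_homology X i).1 (exactAt_of_isZero X i h))

theorem finite_homology_of_quasiIsoAt {X Y : DRing.Cx A} (f : X ⟶ Y) (i : ℤ) (hf : QuasiIsoAt f i) :
    Module.Finite A (X.homology i) ↔ Module.Finite A (Y.homology i) := by
  haveI := (quasiIsoAt_iff_isIso_homologyMap f i).1 hf
  let e := (asIso (homologyMap f i)).toLinearEquiv
  exact ⟨fun h => Module.Finite.equiv e, fun h => Module.Finite.equiv e.symm⟩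

/-- (FINAL) way-out: biduality in degree `n` for an arbitrary complex with finite cohomology
follows from biduality for bounded complexes. -/
theorem quasiIsoAt_bidual_aux [IsNoetherianRing A] (J : DRing.Cx A)
    (hJ : ∀ q, Injective (J.X q)) (a b : ℤ) (hle : a ≤ b)
    (hab : ∀ q : ℤ, q < a ∨ b < q → IsZero (J.X q))
    (hbdd : ∀ (k : ℕ) (X : DRing.Cx A) (s : ℤ), (∀ p : ℤ, p < s ∨ s + k < p → IsZero (X.X p)) →
      (∀ i : ℤ, Module.Finite A (X.homology i)) → QuasiIso (bidual X J))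
    (X : DRing.Cx A) (hfin : ∀ i : ℤ, Module.Finite A (X.homology i)) (n : ℤ) :
    QuasiIsoAt (bidual X J) n := by
  obtain ⟨t, ht⟩ : ∃ t : ℤ, t = n + (b - a) + 2 := ⟨_, rfl⟩
  obtain ⟨s, hs⟩ : ∃ s : ℤ, s = n - (b - a) - 2 := ⟨_, rfl⟩
  obtain ⟨X₁, X₃, f, g, w, hS, hX₁, hX₃, hf, hX₃ex, hg⟩ :=
    Groth.Agent.H19.BD_TRUNC.exists_truncLE_ses X t
  have hS' : (homSC (homSC (ShortComplex.mk f g w) J) J).ShortExact :=
    shortExact_homSC_of_injective _ (shortExact_homSC_of_injective _ hS J hJ) J hJ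
  have e1 := Groth.Agent.H29.BD_LES.quasiIsoAt_τ₁_iff_τ₂ (bidualSC (ShortComplex.mk f g w) J) hS hS' n
    (exactAt_of_isZero _ _ (hX₃ (n - 1) (by omega)))
    (exactAt_of_isZero _ _ (hX₃ n (by omega)))
    (exactAt_of_isZero _ _ (isZero_DD_X_of_ge J a b hab X₃ t hX₃ (n - 1) (by omega)))
    (exactAt_of_isZero _ _ (isZero_DD_X_of_ge J a b hab X₃ t hX₃ n (by omega)))
  refine e1.1 ?_
  show QuasiIsoAt (bidual X₁ J) n
  obtain ⟨Y₁, Y₃, f', g', w', hT, hY₁, hY₃, hf', hY₃ex, hg'⟩ :=
    Groth.Agent.H19.BD_TRUNC.exists_truncLE_ses X₁ s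
  have hT' : (homSC (homSC (ShortComplex.mk f' g' w') J) J).ShortExact :=
    shortExact_homSC_of_injective _ (shortExact_homSC_of_injective _ hT J hJ) J hJ
  have e2 := Groth.Agent.H29.BD_LES.quasiIsoAt_τ₂_iff_τ₃ (bidualSC (ShortComplex.mk f' g' w') J) hT hT' n
    (exactAt_of_isZero _ _ (hY₁ n (by omega)))
    (exactAt_of_isZero _ _ (hY₁ (n + 1) (by omega)))
    (exactAt_of_isZero _ _ (isZero_DD_X_of_le J a b hab Y₁ s hY₁ n (by omega)))
    (exactAt_of_isZero _ _ (isZero_DD_X_of_le J a b hab Y₁ s hY₁ (n + 1) (by omega)))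
  refine e2.2 ?_
  show QuasiIsoAt (bidual Y₃ J) n
  have hTp := fun p => (HomologicalComplex.shortExact_iff_degreewise_shortExact _).1 hT p
  have hY₃bdd : ∀ p : ℤ, p < s ∨ s + ((t - s).toNat : ℤ) < p → IsZero (Y₃.X p) := by
    rintro p (hp | hp)
    · exact hY₃ p hp
    · have hp' : t < p := by
        have := Int.self_le_toNat (t - s)
        omega
      haveI : Epi (g'.f p) := (hTp p).epi_g
      exact IsZero.of_epi_eq_zero (g'.f p) ((hX₁ p hp').eq_of_src _ _)
  have hX₁fin : ∀ i : ℤ, Module.Finite A (X₁.homology i) := by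
    intro i
    by_cases hi : i ≤ t
    · exact (finite_homology_of_quasiIsoAt f i (hf i hi)).2 (hfin i)
    · exact finite_homology_of_isZero X₁ i (hX₁ i (by omega))
  have hY₃fin : ∀ i : ℤ, Module.Finite A (Y₃.homology i) := by
    intro i
    by_cases hi : i ≤ s
    · exact finite_of_isZero ((exactAt_iff_isZero_homology Y₃ i).1 (hY₃ex i hi))
    · exact (finite_homology_of_quasiIsoAt g' i (hg' i (by omega))).1 (hX₁fin i)
  exact (hbdd (t - s).toNat Y₃ s hY₃bdd hY₃fin).quasiIsoAt n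

theorem quasiIsoAt_bidual [IsNoetherianRing A] (J : DRing.Cx A)
    (hJ : ∀ q, Injective (J.X q)) (a b : ℤ) (hab : ∀ q : ℤ, q < a ∨ b < q → IsZero (J.X q))
    (hbdd : ∀ (k : ℕ) (X : DRing.Cx A) (s : ℤ), (∀ p : ℤ, p < s ∨ s + k < p → IsZero (X.X p)) →
      (∀ i : ℤ, Module.Finite A (X.homology i)) → QuasiIso (bidual X J))
    (X : DRing.Cx A) (hfin : ∀ i : ℤ, Module.Finite A (X.homology i)) (n : ℤ) :
    QuasiIsoAt (bidual X J) n :=
  quasiIsoAt_bidual_aux J hJ a (max a b) (le_max_left a b)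
    (fun q hq => hab q (by
      rcases hq with h | h
      · exact Or.inl h
      · exact Or.inr (lt_of_le_of_lt (le_max_right a b) h))) hbdd X hfin n

end Groth.Agent.H46.BD
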