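import Mathlib
import Groth.Agent.H46.BD0
import Groth.Agent.H46.HomCxPre
import Groth.Agent.H11.BD_LIN
import Groth.Agent.H5.KInj.Products

set_option autoImplicit false
set_option linter.style.haveILetI false
universe u
open CategoryTheory CategoryTheory.Limits HomologicalComplex CochainComplex
open CochainComplex.HomComplex
attribute [local instance] HasDerivedCategory.standard
open Groth.Agent.H33.TensorHom Groth.Agent.H33.Bidual

namespace Groth.Agent.H46.BDBase
variable {A : Type u} [CommRing A]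

/-- `A[-t]` -/
noncomputable abbrev sglA (A : Type u) [CommRing A] (t : ℤ) : DRing.Cx A :=
  (HomologicalComplex.single (ModuleCat.{u} A) (ComplexShape.up ℤ) t).obj (ModuleCat.of A A)

noncomputable def e1 (t : ℤ) : (sglA A t).X t :=
  (HomologicalComplex.singleObjXSelf (ComplexShape.up ℤ) t (ModuleCat.of A A)).inv.hom (1 : A)

theorem eq_smul_e1 (t : ℤ) (x : (sglA A t).X t) : ∃ a : A, x = a • e1 t := by
  refine ⟨(HomologicalComplex.singleObjXSelf (ComplexShape.up ℤ) t (ModuleCat.of A A)).hom.hom x, ?_⟩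
  have h1 : x = (HomologicalComplex.singleObjXSelf (ComplexShape.up ℤ) t (ModuleCat.of A A)).inv.hom
      ((HomologicalComplex.singleObjXSelf (ComplexShape.up ℤ) t (ModuleCat.of A A)).hom.hom x) := by
    rw [← ModuleCat.comp_apply, Iso.hom_inv_id]; rfl
  conv_lhs => rw [h1]
  unfold e1
  rw [← map_smul]
  congr 1
  exact (mul_one _).symm

variable (J : DRing.Cx A) (t : ℤ)

/-- the cocycle `bidual(1)` -/
noncomputable def cA : Cochain (DRing.homCx (sglA A t) J) J t :=
  toC (((bidual (sglA A t) J).f t).hom (e1 t))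

theorem δ_cA : δ t (t + 1) (cA J t) = 0 := by
  have h := (bidual (sglA A t) J).comm t (t + 1)
  have hd : (sglA A t).d t (t + 1) = 0 := HomologicalComplex.single_obj_d _ _ _ _ _
  rw [hd, zero_comp] at h
  have h2 := congrArg (fun g => g.hom (e1 t)) h
  exact h2

theorem evc_cA (p q : ℤ) (hp : p + t = q) (z : (DRing.homCx (sglA A t) J).X p) :
    evc (cA J t) p q hp z = (t * p).negOnePow • evc (toC z) t q (by omega) (e1 t) :=
  uval_bidual (sglA A t) J t p q (by omega) (e1 t) z


theorem bijective_cA_v (p q : ℤ) (hp : p + t = q) :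
    Function.Bijective ((cA J t).v p q hp).hom := by
  have hu : ((t * p).negOnePow : ℤˣ) • ((t * p).negOnePow : ℤˣ) • (1 : ℤ) = 1 := by
    rw [smul_smul, Int.units_mul_self, one_smul]
  have key : ∀ z : (DRing.homCx (sglA A t) J).X p,
      ((cA J t).v p q hp).hom z = (t * p).negOnePow • evc (toC z) t q (by omega) (e1 t) :=
    fun z => evc_cA J t p q hp z
  constructor
  · rw [injective_iff_map_eq_zero]
    intro z hz
    rw [key] at hz
    have hz0 : evc (toC z) t q (by omega) (e1 t) = 0 := by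
      have := congrArg (fun y => ((t * p).negOnePow : ℤˣ) • y) hz
      simpa [smul_smul, Int.units_mul_self] using this
    show (z : Cochain (sglA A t) J p) = 0
    refine Cochain.ext _ _ (fun p' q' hpq' => ?_)
    show (toC z).v p' q' hpq' = (0 : Cochain (sglA A t) J p).v p' q' hpq'
    rw [Cochain.zero_v]
    by_cases hp' : p' = t
    · subst hp'
      obtain rfl : q' = q := by omega
      refine ModuleCat.hom_ext (LinearMap.ext (fun x => ?_))
      obtain ⟨a, rfl⟩ := eq_smul_e1 p' x
      have h0 : ((toC z).v p' q' hpq').hom (e1 p') = 0 := hz0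
      have hl : ((toC z).v p' q' hpq').hom (a • e1 p') = 0 := by rw [map_smul, h0, smul_zero]
      exact hl.trans (by simp)
    · exact (HomologicalComplex.isZero_single_obj_X _ _ _ _ hp').eq_of_src _ _
  · intro y
    let g : ModuleCat.of A A ⟶ J.X q :=
      ModuleCat.ofHom (LinearMap.toSpanSingleton A (J.X q) ((t * p).negOnePow • y))
    let z : Cochain (sglA A t) J p := Cochain.fromSingleMk g (show t + p = q by omega)
    refine ⟨z, (key z).trans ?_⟩
    have h1 : evc (toC (P := sglA A t) (L := J) z) t q (by omega) (e1 t) = (t * p).negOnePow • y := by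
      unfold evc e1
      show ((Cochain.fromSingleMk g (show t + p = q by omega)).v t q _).hom _ = _
      rw [Cochain.fromSingleMk_v]
      have h2 : (HomologicalComplex.singleObjXSelf (ComplexShape.up ℤ) t (ModuleCat.of A A)).hom.hom
          ((HomologicalComplex.singleObjXSelf (ComplexShape.up ℤ) t (ModuleCat.of A A)).inv.hom
            (1 : A)) = 1 := by
        rw [← ModuleCat.comp_apply, Iso.inv_hom_id]; rfl
      show g.hom ((HomologicalComplex.singleObjXSelf (ComplexShape.up ℤ) t (ModuleCat.of A A)).hom.hom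
          ((HomologicalComplex.singleObjXSelf (ComplexShape.up ℤ) t (ModuleCat.of A A)).inv.hom
            (1 : A))) = _
      rw [h2]
      simp [g]
    rw [h1, smul_smul, Int.units_mul_self, one_smul]


/-- the cocycle `bidual(1)` -/
noncomputable def cocA : Cocycle (DRing.homCx (sglA A t) J) J t :=
  Cocycle.mk (cA J t) (t + 1) rfl (δ_cA J t)

/-- the chain map `Hom•(A[-t], J) ⟶ J⟦t⟧` attached to `bidual(1)` -/
noncomputable def α : DRing.homCx (sglA A t) J ⟶ J⟦t⟧ := Cocycle.equivHomShift.symm (cocA J t)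

theorem α_f (q : ℤ) : (α J t).f q =
    (cA J t).v q (q + t) rfl ≫ (J.shiftFunctorObjXIso t q (q + t) rfl).inv := by
  unfold α
  rw [Cocycle.equivHomShift_symm_apply]
  simp only [Cocycle.homOf_f, Cocycle.rightShift_coe]
  rw [Cochain.rightShift_v _ t 0 (zero_add t) q q (add_zero q) (q + t) rfl]
  rfl

instance isIso_α : IsIso (α J t) := by
  haveI : ∀ q, IsIso ((α J t).f q) := fun q => by
    rw [α_f]
    haveI : IsIso ((cA J t).v q (q + t) rfl) :=
      (ConcreteCategory.isIso_iff_bijective _).2 (bijective_cA_v J t q (q + t) rfl)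
    infer_instance
  exact HomologicalComplex.Hom.isIso_of_components _


section DA
open DerivedCategory Groth.Agent.H11.BD_LIN

theorem hom_shift_eq_zero
    (hext0 : ∀ i : ℤ, i ≠ 0 → ∀ f : Q.obj J ⟶ (Q.obj J)⟦i⟧, f = 0) (n : ℤ) (hn : n ≠ t)
    (g : (Q.obj J)⟦t⟧ ⟶ (Q.obj J)⟦n⟧) : g = 0 := by
  let s : (Q.obj J)⟦n⟧ ≅ ((Q.obj J)⟦n - t⟧)⟦t⟧ :=
    (CategoryTheory.shiftFunctorAdd' (DerivedCategory (ModuleCat.{u} A)) (n - t) t n (by omega)).app (Q.obj J)
  obtain ⟨g', hg'⟩ := (CategoryTheory.shiftFunctor (DerivedCategory (ModuleCat.{u} A)) t).map_surjective (g ≫ s.hom)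
  rw [hext0 (n - t) (by omega) g', Functor.map_zero] at hg'
  exact (cancel_mono s.hom).1 (hg'.symm.trans zero_comp.symm)

theorem end_shift_eq_smul (hend : Function.Bijective (fun a : A => a • 𝟙 (Q.obj J)))
    (h : (Q.obj J)⟦t⟧ ⟶ (Q.obj J)⟦t⟧) : ∃ a : A, h = a • 𝟙 ((Q.obj J)⟦t⟧) := by
  obtain ⟨h', rfl⟩ := (CategoryTheory.shiftFunctor (DerivedCategory (ModuleCat.{u} A)) t).map_surjective h
  obtain ⟨a, ha⟩ := hend.2 h'
  refine ⟨a, ?_⟩
  rw [← ha]
  rw [Functor.map_smul, CategoryTheory.Functor.map_id]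

theorem eq_zero_of_smul_id_shift (hend : Function.Bijective (fun a : A => a • 𝟙 (Q.obj J)))
    (a : A) (h : a • 𝟙 ((Q.obj J)⟦t⟧) = 0) : a = 0 := by
  apply hend.1
  show a • 𝟙 (Q.obj J) = (0 : A) • 𝟙 (Q.obj J)
  rw [zero_smul]
  apply (CategoryTheory.shiftFunctor (DerivedCategory (ModuleCat.{u} A)) t).map_injective
  rw [Functor.map_smul, CategoryTheory.Functor.map_id, Functor.map_zero]
  exact h

/-- (BASE) -/
theorem quasiIso_bidual_single_ring [J.IsKInjective]
    (hext0 : ∀ i : ℤ, i ≠ 0 → ∀ f : DerivedCategory.Q.obj J ⟶ (DerivedCategory.Q.obj J)⟦i⟧, f = 0)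
    (hend : Function.Bijective (fun a : A => a • 𝟙 (DerivedCategory.Q.obj J))) :
    QuasiIso (bidual ((HomologicalComplex.single (ModuleCat.{u} A) (ComplexShape.up ℤ) t).obj
      (ModuleCat.of A A)) J) := by
  obtain ⟨F, hF⟩ : ∃ F : DRing.Cx A, F = DRing.homCx (sglA A t) J := ⟨_, rfl⟩
  let γ : Q.obj (DRing.homCx (sglA A t) J) ⟶ (Q.obj J)⟦t⟧ :=
    classOfCocycle (DRing.homCx (sglA A t) J) J t (cocA J t)
  haveI : IsIso γ := by
    have h : γ = Q.map (α J t) ≫ (Q.commShiftIso t).hom.app J := rfl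
    rw [h]
    infer_instance
  have hvan : ∀ n : ℤ, n ≠ t →
      ∀ f : Q.obj (DRing.homCx (sglA A t) J) ⟶ (Q.obj J)⟦n⟧, f = 0 := by
    intro n hn f
    have h0 := hom_shift_eq_zero J t hext0 n hn (inv γ ≫ f)
    calc f = γ ≫ inv γ ≫ f := by simp
      _ = 0 := by rw [h0, comp_zero]
  apply Groth.Agent.H46.HomCxPre.quasiIso_of_elements
  · rintro n z hz ⟨y', hy'⟩
    by_cases hn : n = t
    · subst hn
      obtain ⟨a, rfl⟩ := eq_smul_e1 n z
      have h1 : δ (n - 1) n (toC y') = (a • cocA J n).1 := by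
        have h2 : ((bidual (sglA A n) J).f n).hom (a • e1 n) =
            a • ((bidual (sglA A n) J).f n).hom (e1 n) := map_smul _ _ _
        exact hy'.trans h2
      have h3 : classOfCocycle (DRing.homCx (sglA A n) J) J n (a • cocA J n) = 0 :=
        (classOfCocycle_eq_zero_iff _ J n _).2 ⟨toC y', h1⟩
      rw [map_smul] at h3
      have h4 : a • 𝟙 ((Q.obj J)⟦n⟧) = 0 := by
        have h5 := congrArg (fun x => inv γ ≫ x) h3
        simpa [γ] using h5
      have ha := eq_zero_of_smul_id_shift J n hend a h4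
      subst ha
      exact ⟨0, by simp⟩
    · haveI : Subsingleton ((sglA A t).X n) :=
        ModuleCat.subsingleton_of_isZero (HomologicalComplex.isZero_single_obj_X _ _ _ _ hn)
      exact ⟨0, Subsingleton.elim _ _⟩
  · intro n z' hz'
    by_cases hn : n = t
    · subst hn
      let zc : Cocycle (DRing.homCx (sglA A n) J) J n := Cocycle.mk (toC z') (n + 1) rfl hz'
      obtain ⟨a, ha⟩ := end_shift_eq_smul J n hend
        (inv γ ≫ classOfCocycle (DRing.homCx (sglA A n) J) J n zc)
      have h0 : classOfCocycle (DRing.homCx (sglA A n) J) J n zc = a • γ := by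
        have h5 := congrArg (fun x => γ ≫ x) ha
        simpa using h5
      have h1 : classOfCocycle (DRing.homCx (sglA A n) J) J n (zc - a • cocA J n) = 0 := by
        rw [map_sub, map_smul, h0]
        exact sub_self _
      obtain ⟨w, hw⟩ := (classOfCocycle_eq_zero_iff _ J n _).1 h1
      refine ⟨a • e1 n, w, ?_, ?_⟩
      · have hd : (sglA A n).d n (n + 1) = 0 := HomologicalComplex.single_obj_d _ _ _ _ _
        rw [hd]
        rfl
      · have h2 : ((bidual (sglA A n) J).f n).hom (a • e1 n) =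
            a • ((bidual (sglA A n) J).f n).hom (e1 n) := map_smul _ _ _
        rw [h2]
        have hw' : δ (n - 1) n w = toC z' - a • cA J n := hw
        show toC z' = a • cA J n + δ (n - 1) n w
        rw [hw']
        abel
    · obtain ⟨w, hw⟩ := Groth.Agent.H46.HomCxPre.exists_coboundary_of_hom_eq_zero
        (DRing.homCx (sglA A t) J) J n (hvan n hn) (toC z') hz'
      refine ⟨0, w, by simp, ?_⟩
      rw [map_zero, zero_add]
      exact hw.symm

end DA

end Groth.Agent.H46.BDBase
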