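import Mathlib
import Groth.Agent.H46.BD1

/-!
# (FREE) biduality for finite free modules in a single degree (helper46, S1819; backup piece)
-/

set_option autoImplicit false
set_option linter.style.haveILetI false
universe u
open CategoryTheory CategoryTheory.Limits HomologicalComplex CochainComplex
open CochainComplex.HomComplex
attribute [local instance] HasDerivedCategory.standard
open Groth.Agent.H33.TensorHom Groth.Agent.H33.Bidual Groth.Agent.H46.BD

namespace Groth.Agent.H46.BDFree
variable {A : Type u} [CommRing A]

theorem quasiIso_bidual_single_free (J : DRing.Cx A) (hJ : ∀ q, Injective (J.X q))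
    (hTwo : ∀ S : ShortComplex (DRing.Cx A), S.ShortExact → QuasiIso (bidual S.X₁ J) →
      QuasiIso (bidual S.X₃ J) → QuasiIso (bidual S.X₂ J))
    (hA : ∀ t : ℤ, QuasiIso (bidual ((HomologicalComplex.single (ModuleCat.{u} A)
      (ComplexShape.up ℤ) t).obj (ModuleCat.of A A)) J)) (r : ℕ) (t : ℤ) :
    QuasiIso (bidual ((HomologicalComplex.single (ModuleCat.{u} A) (ComplexShape.up ℤ) t).obj
      (ModuleCat.of A (Fin r → A))) J) := by
  induction r with
  | zero =>
    have hz : ∀ p : ℤ, IsZero (((HomologicalComplex.single (ModuleCat.{u} A) (ComplexShape.up ℤ)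
        t).obj (ModuleCat.of A (Fin 0 → A))).X p) := by
      intro p
      by_cases hp : p = t
      · subst hp
        exact IsZero.of_iso (ModuleCat.isZero_of_subsingleton (ModuleCat.of A (Fin 0 → A)))
          (HomologicalComplex.singleObjXSelf (ComplexShape.up ℤ) p (ModuleCat.of A (Fin 0 → A)))
      · exact HomologicalComplex.isZero_single_obj_X _ _ _ _ hp
    rw [quasiIso_iff]
    intro n
    rw [quasiIsoAt_iff_exactAt _ _ (exactAt_of_isZero _ _ (hz n))]
    exact exactAt_of_isZero _ _ (isZero_homCx_X _ J n (fun q =>
      Or.inl (isZero_homCx_X _ J q (fun p => Or.inl (hz p)))))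
  | succ r ih =>
    let i : ModuleCat.of A A ⟶ ModuleCat.of A (Fin (r + 1) → A) :=
      ModuleCat.ofHom (LinearMap.single A (fun _ : Fin (r + 1) => A) 0)
    let p : ModuleCat.of A (Fin (r + 1) → A) ⟶ ModuleCat.of A (Fin r → A) :=
      ModuleCat.ofHom (LinearMap.funLeft A A Fin.succ)
    have w : i ≫ p = 0 := by
      ext j
      show (Pi.single (M := fun _ : Fin (r + 1) => A) 0 (1 : A)) (Fin.succ j) = 0
      exact Pi.single_eq_of_ne (M := fun _ : Fin (r + 1) => A) (Fin.succ_ne_zero j) (1 : A)
    let S : ShortComplex (ModuleCat.{u} A) := ShortComplex.mk i p w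
    have hS : S.ShortExact := by
      have hex : S.Exact := by
        rw [ShortComplex.moduleCat_exact_iff]
        intro (f : Fin (r + 1) → A) hf
        have hf' : ∀ j : Fin r, f (Fin.succ j) = 0 := fun j => congrFun hf j
        refine ⟨f 0, ?_⟩
        show Pi.single (0 : Fin (r + 1)) (f 0) = f
        funext j
        refine Fin.cases ?_ (fun j => ?_) j
        · exact Pi.single_eq_same _ _
        · rw [Pi.single_eq_of_ne (Fin.succ_ne_zero j), hf' j]
      have : Mono S.f := (ModuleCat.mono_iff_injective _).2 (by
        intro x y hxy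
        have := congrFun hxy 0
        simpa [S, i] using this)
      have : Epi S.g := (ModuleCat.epi_iff_surjective _).2
        (LinearMap.funLeft_surjective_of_injective A A Fin.succ (Fin.succ_injective r))
      exact ShortComplex.ShortExact.mk hex
    have hS' : (ShortComplex.mk
        ((HomologicalComplex.single (ModuleCat.{u} A) (ComplexShape.up ℤ) t).map i)
        ((HomologicalComplex.single (ModuleCat.{u} A) (ComplexShape.up ℤ) t).map p)
        (by rw [← Functor.map_comp, w, Functor.map_zero])).ShortExact :=
      hS.map_of_exact (HomologicalComplex.single (ModuleCat.{u} A) (ComplexShape.up ℤ) t)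
    exact hTwo (ShortComplex.mk
        ((HomologicalComplex.single (ModuleCat.{u} A) (ComplexShape.up ℤ) t).map i)
        ((HomologicalComplex.single (ModuleCat.{u} A) (ComplexShape.up ℤ) t).map p)
        (by rw [← Functor.map_comp, w, Functor.map_zero])) hS' (hA t) ih

end Groth.Agent.H46.BDFree
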