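import Groth.Agent.H46.LCDerived
import Groth.Agent.H35.DerCompKos2
import Groth.Agent.H35.DerCompCrit
import Groth.Agent.S8933

/-!
# Greenlees–May duality over a Noetherian ring (helper46)

* `isIso_smul_Lf` : `f` acts invertibly on `Z_f`; `LO_Lf` : `Z_f` is left orthogonal to the derived
  `I`-complete objects when `f ∈ I`.
* `IsCech.LO`, `IsCech.bijective_restrict` : iterated fibres of localisation maps preserve left
  orthogonality, and restriction along them is bijective on maps to derived complete objects.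
* `isZero_of_smul_iso_of_Lf_zero`, `isZero_of_isKos_of_tors` : a torsion object with vanishing Koszul
  object vanishes.
* `isZero_Rgamma_of_LO` : `RΓ_I Y = 0` when `Y` is left orthogonal to derived complete objects.
* `isIso_Rgamma_map_unit` : `RΓ_I K → RΓ_I (K^∧)` is an isomorphism.
* `exists_iso_comp_Rgamma` : `(RΓ_I K)^∧ ≅ K^∧`.
-/

set_option autoImplicit false
set_option linter.unusedSectionVars false
universe u
open CategoryTheory CategoryTheory.Limits Pretriangulated DerCA
attribute [local instance] HasDerivedCategory.standard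

namespace Groth.Agent.H46.GreenleesMay

open DerivedCategory DRing Groth.Agent.H35 Groth.Agent.H35.TriChase Groth.Agent.H46.LocD
  Groth.Agent.H46.CechTower Groth.Agent.H46.LCDerived Groth.Agent.H35.DerCompKos
  Groth.Agent.H35.DerCompKos2 Groth.Agent.H35.DerCompAdj

variable {A : Type u} [CommRing A]

/-! ### multiplication by `f` on a localisation -/

lemma isIso_conj {C : Type*} [Category C] {X Y : C} (j : X ≅ Y) (g : X ⟶ X) (g' : Y ⟶ Y)
    (h : g = j.hom ≫ g' ≫ j.inv) (hg' : IsIso g') : IsIso g := by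
  rw [h]
  infer_instance

lemma smul_id_conj {X Y : Dual.D A} (j : X ≅ Y) (f : A) :
    f • 𝟙 X = j.hom ≫ (f • 𝟙 Y) ≫ j.inv := by
  rw [Linear.smul_comp, Linear.comp_smul, Category.id_comp, j.hom_inv_id]

lemma Q_map_smul_id (X : DRing.Cx A) (f : A) : Q.map (f • 𝟙 X) = f • 𝟙 (Q.obj X) := by
  rw [Functor.map_smul, CategoryTheory.Functor.map_id]

lemma bijective_smul_localizedModule (f : A) (M : Type u) [AddCommGroup M] [Module A M] :
    Function.Bijective (fun x : LocalizedModule (Submonoid.powers f) M => f • x) := by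
  have h := IsLocalizedModule.map_units (LocalizedModule.mkLinearMap (Submonoid.powers f) M)
    ⟨f, Submonoid.mem_powers f⟩
  have h2 := (Module.End.isUnit_iff _).1 h
  exact h2

/-- `f` acts invertibly on `Z_f`. -/
lemma isIso_smul_Lf (f : A) (Z : Dual.D A) :
    IsIso (f • 𝟙 ((Lf (Submonoid.powers f)).obj Z)) := by
  let X := Q.objPreimage Z
  let e : Q.obj X ≅ Z := Q.objObjPreimageIso Z
  let Y := (locCx (Submonoid.powers f)).obj X
  let j : (Lf (Submonoid.powers f)).obj Z ≅ Q.obj Y :=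
    (Lf (Submonoid.powers f)).mapIso e.symm ≪≫ (LfFac (Submonoid.powers f)).app X
  refine isIso_conj j _ _ (smul_id_conj j f) ?_
  rw [← Q_map_smul_id]
  have : IsIso (f • 𝟙 Y) := by
    refine Groth.Agent.S8933.isIso_smul_id_of_bijective Y f (fun n => ?_)
    exact bijective_smul_localizedModule f (X.X n)
  infer_instance


/-! ### left orthogonality -/

section LOsec

variable (I : Ideal A)

lemma LO_of_isZero {W : Dual.D A} (h : IsZero W) : LO I W := fun _ _ x => h.eq_of_src x 0

lemma LO_shift_neg_one {Y : Dual.D A} (hY : LO I Y) : LO I (Y⟦(-1 : ℤ)⟧) :=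
  fun L hL g => hom_shift_neg_one_eq_zero I hY L hL g

/-- a fibre of a map between left orthogonal objects is left orthogonal -/
lemma LO_fibre {X Y W : Dual.D A} {p : Y ⟶ X} {q : X ⟶ W} (h : DT p q) (hX : LO I X)
    (hW : LO I W) : LO I Y := by
  obtain ⟨δ, hT⟩ := h
  intro L hL x
  have hT' := inv_rot_of_distTriang _ hT
  have h1 : (Triangle.mk p q δ).invRotate.mor₁ ≫ x = 0 :=
    hom_shift_neg_one_eq_zero I hW L hL _
  obtain ⟨y, hy⟩ := Triangle.yoneda_exact₂ _ hT' x h1
  rw [hy, hX L hL y]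
  exact comp_zero

variable [HasDerivedCompletion I]

/-- `Z_f` is left orthogonal to the derived complete objects when `f ∈ I`. -/
lemma LO_Lf {f : A} (hf : f ∈ I) (Z : Dual.D A) : LO I ((Lf (Submonoid.powers f)).obj Z) := by
  obtain ⟨W₁, hc⟩ := exists_isConeMul f ((Lf (Submonoid.powers f)).obj Z)
  have hc' := hc
  obtain ⟨p, d, hT⟩ := hc'
  have hiso := isIso_smul_Lf f Z
  have hz : IsZero W₁ := (Triangle.isZero₃_iff_isIso₁ _ hT).2 hiso
  exact LO_of_isConeMul I hf hc (LO_of_isZero I hz)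

lemma IsCech.LO : ∀ (fs : List A) (_ : ∀ f ∈ fs, f ∈ I) {X Y : Dual.D A} {p : Y ⟶ X}
    (_ : IsCech fs X Y p) (_ : LO I X), LO I Y
  | [], _, X, Y, p, h, hX => by
    have hp : IsIso p := h
    exact DerCompKos.LO.of_iso (asIso p).symm hX
  | f :: fs, hfs, X, Y, p, h, hX => by
    obtain ⟨Y₁, p₁, p₂, h₁, h₂, rfl⟩ := h
    have hY₁ : DerCompKos.LO I Y₁ :=
      IsCech.LO fs (fun g hg => hfs g (List.mem_cons_of_mem _ hg)) h₁ hX
    exact LO_fibre I h₂ hY₁ (LO_Lf I (hfs f List.mem_cons_self) Y₁)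

lemma IsCech.bijective_restrict : ∀ (fs : List A) (_ : ∀ f ∈ fs, f ∈ I) {X Y : Dual.D A}
    {p : Y ⟶ X} (_ : IsCech fs X Y p) (L : Dual.D A) (_ : IsDerivedComplete I L),
    Function.Bijective (fun x : X ⟶ L => p ≫ x)
  | [], _, X, Y, p, h, L, _ => by
    have hp : IsIso p := h
    constructor
    · intro g g' hgg'
      exact (cancel_epi p).1 hgg'
    · intro y
      exact ⟨inv p ≫ y, by simp⟩
  | f :: fs, hfs, X, Y, p, h, L, hL => by
    obtain ⟨Y₁, p₁, p₂, h₁, h₂, rfl⟩ := h
    have b₁ := IsCech.bijective_restrict fs (fun g hg => hfs g (List.mem_cons_of_mem _ hg)) h₁ L hL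
    obtain ⟨δ, hT⟩ := h₂
    have b₂ : Function.Bijective (fun x : Y₁ ⟶ L => p₂ ≫ x) :=
      bijective_of_LO I p₂ _ δ hT (LO_Lf I (hfs f List.mem_cons_self) Y₁) L hL
    have : (fun x : X ⟶ L => (p₂ ≫ p₁) ≫ x) =
        (fun x : Y₁ ⟶ L => p₂ ≫ x) ∘ (fun x : X ⟶ L => p₁ ≫ x) := by
      funext g
      simp
    rw [this]
    exact b₂.comp b₁

end LOsec


/-! ### torsion objects with vanishing Koszul object -/

lemma isZero_of_isZero_homology (Z : Dual.D A)
    (h : ∀ n : ℤ, IsZero ((DerivedCategory.homologyFunctor (ModuleCat.{u} A) n).obj Z)) :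
    IsZero Z := by
  haveI : Z.IsLE 0 := (DerivedCategory.isLE_iff Z 0).2 (fun i _ => h i)
  haveI : Z.IsGE 1 := (DerivedCategory.isGE_iff Z 1).2 (fun i _ => h i)
  exact DerivedCategory.TStructure.t.isZero Z 0 1 (by omega)

/-- if `Z_S = 0` then every cohomology class of `Z` is `S`-torsion -/
lemma torsion_of_isZero_Lf (S : Submonoid A) (Z : Dual.D A) (hZ : IsZero ((Lf S).obj Z)) (n : ℤ)
    (x : Dual.HD A Z n) : ∃ s ∈ S, s • x = 0 := by
  let X := Q.objPreimage Z
  let e : Q.obj X ≅ Z := Q.objObjPreimageIso Z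
  have h1 : IsZero (Q.obj ((locCx S).obj X)) :=
    hZ.of_iso (((LfFac S).app X).symm ≪≫ (Lf S).mapIso e)
  have h2 : IsZero (((locCx S).obj X).homology n) :=
    IsZero.of_iso ((DerivedCategory.homologyFunctor (ModuleCat.{u} A) n).map_isZero h1)
      ((DerivedCategory.homologyFunctorFactors (ModuleCat.{u} A) n).app _).symm
  have h3 : IsZero ((locFunctor S).obj (X.homology n)) :=
    h2.of_iso (Groth.Agent.H46.homologyLocIso S X n).symm
  haveI : Subsingleton (LocalizedModule S (X.homology n)) := ModuleCat.subsingleton_of_isZero h3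
  let j : (DerivedCategory.homologyFunctor (ModuleCat.{u} A) n).obj Z ≅ X.homology n :=
    (DerivedCategory.homologyFunctor (ModuleCat.{u} A) n).mapIso e.symm ≪≫
      (DerivedCategory.homologyFunctorFactors (ModuleCat.{u} A) n).app X
  have h4 : LocalizedModule.mk (j.hom.hom x) (1 : S) = LocalizedModule.mk 0 (1 : S) :=
    Subsingleton.elim _ _
  rw [LocalizedModule.mk_eq] at h4
  obtain ⟨u, hu⟩ := h4
  rw [one_smul, one_smul, smul_zero] at hu
  refine ⟨u, u.2, ?_⟩
  have h5 : j.inv.hom ((u : A) • j.hom.hom x) = 0 := by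
    have : (u : A) • j.hom.hom x = 0 := hu
    rw [this, map_zero]
  rw [map_smul] at h5
  have h6 : j.inv.hom (j.hom.hom x) = x := by
    have := congrArg (fun g => g.hom x) j.hom_inv_id
    exact this
  rwa [h6] at h5

/-- `Z = 0` if `f` acts invertibly on `Z` and `Z_f = 0` -/
lemma isZero_of_smul_iso_of_Lf_zero (f : A) (Z : Dual.D A) (h1 : IsIso (f • 𝟙 Z))
    (h2 : IsZero ((Lf (Submonoid.powers f)).obj Z)) : IsZero Z := by
  refine isZero_of_isZero_homology Z (fun n => ?_)
  have hiso : IsIso ((DerivedCategory.homologyFunctor (ModuleCat.{u} A) n).map (f • 𝟙 Z)) :=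
    inferInstance
  rw [Groth.Agent.S7058.homologyFunctor_map_smul_id] at hiso
  have hbij := (ConcreteCategory.isIso_iff_bijective
    (f • 𝟙 ((DerivedCategory.homologyFunctor (ModuleCat.{u} A) n).obj Z))).1 hiso
  have hinj : ∀ y : Dual.HD A Z n, f • y = 0 → y = 0 := by
    intro y hy
    apply hbij.1
    change f • y = f • (0 : Dual.HD A Z n)
    rw [hy, smul_zero]
  have hpow : ∀ (m : ℕ) (y : Dual.HD A Z n), f ^ m • y = 0 → y = 0 := by
    intro m
    induction m with
    | zero => intro y hy; simpa using hy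
    | succ m ih =>
      intro y hy
      apply ih
      apply hinj
      rw [← mul_smul, ← pow_succ']
      exact hy
  haveI : Subsingleton (Dual.HD A Z n) := by
    refine ⟨fun a b => ?_⟩
    suffices h0 : ∀ y : Dual.HD A Z n, y = 0 by rw [h0 a, h0 b]
    intro y
    obtain ⟨s, ⟨m, rfl⟩, hs⟩ := torsion_of_isZero_Lf _ Z h2 n y
    exact hpow m y hs
  exact ModuleCat.isZero_of_subsingleton _

lemma isZero_of_isKos_of_tors : ∀ (l : List A) (Z Z' : Dual.D A), IsKos l Z Z' → IsZero Z' →
    (∀ g ∈ l, IsZero ((Lf (Submonoid.powers g)).obj Z)) → IsZero Z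
  | [], Z, Z', ⟨e⟩, h0, _ => h0.of_iso e
  | f :: l, Z, Z', ⟨Z₁, h₁, h'⟩, h0, ht => by
    obtain ⟨p, d, hT⟩ := h₁
    have hZ₁ : IsZero Z₁ := by
      refine isZero_of_isKos_of_tors l Z₁ Z' h' h0 (fun g hg => ?_)
      have hg' := ht g (List.mem_cons_of_mem _ hg)
      have hT' := (Lf (Submonoid.powers g)).map_distinguished _ hT
      exact Triangle.isZero₃_of_isZero₁₂ _ hT' hg' hg'
    have hiso : IsIso (f • 𝟙 Z) := (Triangle.isZero₃_iff_isIso₁ _ hT).1 hZ₁
    exact isZero_of_smul_iso_of_Lf_zero f Z hiso (ht f List.mem_cons_self)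


/-! ### Greenlees–May -/

section GM

variable [IsNoetherianRing A] (I : Ideal A) [HasRgammaI I] [HasDerivedCompletion I]

/-- `RΓ_I Y = 0` when `Y` is left orthogonal to the derived complete objects -/
theorem isZero_Rgamma_of_LO (Y : Dual.D A) (hY : LO I Y) : IsZero ((RgammaI I).obj Y) := by
  obtain ⟨fs, hfs⟩ := exists_list_span I
  have hmem : ∀ f ∈ fs, f ∈ I := fun f hf => by rw [← hfs]; exact Ideal.subset_span hf
  have hC := Groth.Agent.H46.GammaTower.isCech_Rgamma fs I hfs Y
  have hZ : LO I ((RgammaI I).obj Y) := IsCech.LO I fs hmem hC hY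
  obtain ⟨Z', hK⟩ := exists_isKos fs ((RgammaI I).obj Y)
  have hz' : IsZero Z' := isZero_of_LO_of_isKos hfs hK hZ
  refine isZero_of_isKos_of_tors fs _ Z' hK hz' (fun g hg => ?_)
  exact isZero_Lf_of_isPowerTorsion I _ (isPowerTorsion_Rgamma I Y) g (hmem g hg)

/-- maps from torsion objects to left orthogonal objects vanish -/
lemma hom_PT_LO_eq_zero {T W : Dual.D A} (hT : PT I T) (hW : LO I W) (g : T ⟶ W) : g = 0 := by
  obtain ⟨g', rfl⟩ := (bijective_comp_ε I T W hT).2 g
  rw [(isZero_Rgamma_of_LO I W hW).eq_of_tgt g' 0]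
  exact zero_comp

/-- composition with `K → K^∧` is bijective on maps from torsion objects -/
lemma bijective_comp_unit (T K : Dual.D A) (hT : PT I T) :
    Function.Bijective (fun g : T ⟶ K => g ≫ toDerivedCompletion I K) := by
  obtain ⟨Y, q, δ, hTr⟩ := distinguished_cocone_triangle (toDerivedCompletion I K)
  have hY : LO I Y := LO_cone_unit I K q δ hTr
  exact bijective_of_DT ⟨δ, hTr⟩ (fun g => hom_PT_LO_eq_zero I hT hY g)
    (fun g => hom_PT_LO_eq_zero I hT (LO_shift_neg_one I hY) g)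

/-- `RΓ_I K → RΓ_I (K^∧)` is an isomorphism -/
theorem isIso_Rgamma_map_unit (K : Dual.D A) :
    IsIso ((RgammaI I).map (toDerivedCompletion I K)) := by
  set η := toDerivedCompletion I K with hη
  set φ := (RgammaI I).map η with hφ
  have nat : φ ≫ (RgammaIε I).app (comp I K) = (RgammaIε I).app K ≫ η :=
    (RgammaIε I).naturality η
  have hb : ∀ (T : Dual.D A), PT I T →
      Function.Bijective (fun g : T ⟶ (RgammaI I).obj K => g ≫ φ) := by
    intro T hT
    have b1 := bijective_comp_ε I T K hT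
    have b2 := bijective_comp_ε I T (comp I K) hT
    have b3 := bijective_comp_unit I T K hT
    constructor
    · intro g g' hgg'
      apply b1.1
      apply b3.1
      show (g ≫ (RgammaIε I).app K) ≫ η = (g' ≫ (RgammaIε I).app K) ≫ η
      rw [Category.assoc, Category.assoc, ← nat, ← Category.assoc, ← Category.assoc]
      exact congrArg (fun z => z ≫ (RgammaIε I).app (comp I K)) hgg'
    · intro y
      obtain ⟨x, hx⟩ := b3.2 (y ≫ (RgammaIε I).app (comp I K))
      obtain ⟨g, hg⟩ := b1.2 x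
      refine ⟨g, ?_⟩
      apply b2.1
      show (g ≫ φ) ≫ (RgammaIε I).app (comp I K) = y ≫ (RgammaIε I).app (comp I K)
      rw [Category.assoc, nat, ← Category.assoc]
      have hg' : g ≫ (RgammaIε I).app K = x := hg
      have hx' : x ≫ η = y ≫ (RgammaIε I).app (comp I K) := hx
      rw [hg', hx']
  obtain ⟨ψ, hψ⟩ := (hb _ (isPowerTorsion_Rgamma I (comp I K))).2 (𝟙 _)
  have hψ' : ψ ≫ φ = 𝟙 _ := hψ
  refine ⟨⟨ψ, ?_, hψ'⟩⟩
  apply (hb _ (isPowerTorsion_Rgamma I K)).1
  show (φ ≫ ψ) ≫ φ = 𝟙 _ ≫ φ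
  rw [Category.assoc, hψ', Category.comp_id, Category.id_comp]

omit [IsNoetherianRing A] [HasRgammaI I] in
/-- a map to a derived complete object inducing bijections on maps to derived complete objects
is the derived completion -/
theorem exists_iso_of_bijective {K K' : Dual.D A} (η' : K ⟶ K') (hK' : IsDerivedComplete I K')
    (hb : ∀ L : Dual.D A, IsDerivedComplete I L → Function.Bijective (fun x : K' ⟶ L => η' ≫ x)) :
    ∃ c : comp I K ≅ K', toDerivedCompletion I K ≫ c.hom = η' := by
  obtain ⟨c, hc⟩ := lift_surjective I K K' hK' η'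
  obtain ⟨d, hd⟩ := (hb (comp I K) (isDerivedComplete_comp I K)).2 (toDerivedCompletion I K)
  have hd' : η' ≫ d = toDerivedCompletion I K := hd
  refine ⟨⟨c, d, ?_, ?_⟩, hc⟩
  · apply lift_injective I K _ (isDerivedComplete_comp I K)
    rw [← Category.assoc, hc, hd', Category.comp_id]
  · apply (hb K' hK').1
    show η' ≫ d ≫ c = η' ≫ 𝟙 K'
    rw [← Category.assoc, hd', hc, Category.comp_id]

/-- `(RΓ_I K)^∧ ≅ K^∧` -/
theorem exists_iso_comp_Rgamma (K : Dual.D A) :
    Nonempty (comp I ((RgammaI I).obj K) ≅ comp I K) := by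
  obtain ⟨fs, hfs⟩ := exists_list_span I
  have hmem : ∀ f ∈ fs, f ∈ I := fun f hf => by rw [← hfs]; exact Ideal.subset_span hf
  have hC := Groth.Agent.H46.GammaTower.isCech_Rgamma fs I hfs K
  obtain ⟨c, -⟩ := exists_iso_of_bijective I
    ((RgammaIε I).app K ≫ toDerivedCompletion I K) (isDerivedComplete_comp I K) (fun L hL => by
      have b1 : Function.Bijective (fun x : comp I K ⟶ L => toDerivedCompletion I K ≫ x) :=
        ⟨fun y y' h => lift_injective I K L hL y y' h, fun x => lift_surjective I K L hL x⟩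
      have b2 := IsCech.bijective_restrict I fs hmem hC L hL
      have : (fun x : comp I K ⟶ L => ((RgammaIε I).app K ≫ toDerivedCompletion I K) ≫ x) =
          (fun x : K ⟶ L => (RgammaIε I).app K ≫ x) ∘
            (fun x : comp I K ⟶ L => toDerivedCompletion I K ≫ x) := by
        funext x
        simp
      rw [this]
      exact b2.comp b1)
  exact ⟨c⟩

end GM

end Groth.Agent.H46.GreenleesMay
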