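import Groth.Agent.H46.HomCxPre
import Groth.Agent.H46.GreenleesMay
import Groth.Agent.S7101

/-!
# Comparison of `RHom(K, -)` and `RHom(G, -)` (helper46)

For a morphism `ε' : Q G ⟶ Q K` in `D(A)` and an object `M` such that restriction along `ε'`
is bijective on `Hom(-, M[n])` for all `n`, `RHom(K, M) ≅ RHom(G, M)`.
-/

set_option autoImplicit false
set_option linter.style.haveILetI false
set_option linter.unusedSectionVars false
universe u v
open CategoryTheory CategoryTheory.Limits Pretriangulated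
open CochainComplex.HomComplex
attribute [local instance] HasDerivedCategory.standard

namespace Groth.Agent.H46.LDC

open DerivedCategory Groth.Agent.H46.HomCxPre Groth.Agent.H46.RHomCxTri
  Groth.Agent.H35.TriChase

section Abstract

variable {C : Type u} [Category.{v} C] [Preadditive C] [HasZeroObject C] [HasShift C ℤ]
  [∀ n : ℤ, (shiftFunctor C n).Additive] [Pretriangulated C]

/-- if restriction along `T.mor₁` is injective on `Hom(-, L)` and surjective on `Hom(-, L')`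
with `L'[1] ≅ L`, then `Hom(T.obj₃, L) = 0` -/
lemma hom_obj₃_eq_zero (T : Triangle C) (hT : T ∈ distTriang C) (L L' : C)
    (e : L'⟦(1 : ℤ)⟧ ≅ L)
    (hinj : Function.Injective (fun x : T.obj₂ ⟶ L => T.mor₁ ≫ x))
    (hsurj : Function.Surjective (fun x : T.obj₂ ⟶ L' => T.mor₁ ≫ x)) (x : T.obj₃ ⟶ L) :
    x = 0 := by
  have h1 : T.mor₂ ≫ x = 0 := by
    apply hinj
    show T.mor₁ ≫ T.mor₂ ≫ x = T.mor₁ ≫ 0
    rw [← Category.assoc, comp_distTriang_mor_zero₁₂ _ hT, zero_comp, comp_zero]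
  obtain ⟨y, hy⟩ := Triangle.yoneda_exact₃ T hT x h1
  obtain ⟨y₀, hy₀⟩ := (shiftFunctor C (1 : ℤ)).map_surjective (y ≫ e.inv)
  obtain ⟨y₁, hy₁⟩ := hsurj y₀
  have hy₁' : T.mor₁ ≫ y₁ = y₀ := hy₁
  have h2 : y = T.mor₁⟦(1 : ℤ)⟧' ≫ y₁⟦(1 : ℤ)⟧' ≫ e.hom := by
    rw [← Category.assoc, ← Functor.map_comp, hy₁', hy₀, Category.assoc, e.inv_hom_id,
      Category.comp_id]
  rw [hy, h2, ← Category.assoc, comp_distTriang_mor_zero₃₁ _ hT, zero_comp]

end Abstract

variable {A : Type u} [CommRing A]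

lemma isZero_Q_obj_of_exactAt (L : DRing.Cx A) (h : ∀ i, L.ExactAt i) : IsZero (Q.obj L) := by
  haveI : L.IsLE 0 := by
    rw [CochainComplex.isLE_iff]
    intro i _
    exact h i
  haveI : L.IsGE 1 := by
    rw [CochainComplex.isGE_iff]
    intro i _
    exact h i
  exact DerivedCategory.TStructure.t.isZero (Q.obj L) 0 1 (by omega)

/-- (P0) `RHom(G, W) = 0` if `Hom(G, W[n]) = 0` for all `n` -/
theorem isZero_RHomCx_of_hom_eq_zero (G : DRing.Cx A) [DRing.HasRHomCx G] (W : Dual.D A)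
    (h : ∀ (n : ℤ) (f : Q.obj G ⟶ W⟦n⟧), f = 0) : IsZero ((DRing.RHomCx G).obj W) := by
  obtain ⟨J, hJ, ⟨eJ'⟩⟩ := Groth.Agent.H6.QCoprod.exists_model W
  haveI := hJ
  let eJ : W ≅ Q.obj J := eJ'.symm
  refine IsZero.of_iso ?_ (θ G eJ)
  apply isZero_Q_obj_of_exactAt
  intro n
  rw [Groth.Agent.H46.RHomCxDC.exactAt_homCx_iff]
  intro z hz
  refine exists_coboundary_of_hom_eq_zero G J n (fun f => ?_) z hz
  have h0 := h n (f ≫ (shiftFunctor (Dual.D A) n).map eJ.inv)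
  rw [← cancel_mono ((shiftFunctor (Dual.D A) n).map eJ.inv), h0, zero_comp]

/-- (P1) `RHom(G, -)` inverts maps whose cone `W` satisfies `Hom(G, W[n]) = 0` for all `n` -/
theorem isIso_RHomCx_map (G : DRing.Cx A) [DRing.HasRHomCx G] {N N' W : Dual.D A} (u : N ⟶ N')
    (q : N' ⟶ W) (hT : DT u q) (h : ∀ (n : ℤ) (f : Q.obj G ⟶ W⟦n⟧), f = 0) :
    IsIso ((DRing.RHomCx G).map u) := by
  obtain ⟨r, hr⟩ := DT_map G u q hT
  exact (Triangle.isZero₃_iff_isIso₁ _ hr).1 (isZero_RHomCx_of_hom_eq_zero G W h)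

/-- chain level form of (P2) -/
theorem nonempty_iso_Q_homCx (K G J : DRing.Cx A) [J.IsKInjective] (ε' : Q.obj G ⟶ Q.obj K)
    (hb : ∀ n : ℤ, Function.Bijective (fun x : Q.obj K ⟶ (Q.obj J)⟦n⟧ => ε' ≫ x)) :
    Nonempty (Q.obj (DRing.homCx K J) ≅ Q.obj (DRing.homCx G J)) := by
  obtain ⟨G', s, hs, g, hfac⟩ := DerivedCategory.right_fac ε'
  haveI := hs
  -- `s^*` is a quasi-isomorphism
  have hTs := DerivedCategory.mappingCone_triangle_distinguished s
  have hzs : IsZero (Q.obj (CochainComplex.mappingCone s)) :=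
    (Triangle.isZero₃_iff_isIso₁ _ hTs).2 hs
  have hqs : QuasiIso (homCxPre s J) :=
    quasiIso_homCxPre s J (fun n z hz =>
      exists_coboundary_of_hom_eq_zero _ J n (fun f => hzs.eq_of_src f 0) z hz)
  -- `g^*` is a quasi-isomorphism
  have hTg := DerivedCategory.mappingCone_triangle_distinguished g
  have hg : Q.map g = Q.map s ≫ ε' := by
    rw [hfac, ← Category.assoc, IsIso.hom_inv_id, Category.id_comp]
  have hbg : ∀ n : ℤ, Function.Bijective (fun x : Q.obj K ⟶ (Q.obj J)⟦n⟧ => Q.map g ≫ x) := by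
    intro n
    constructor
    · intro x x' hxx'
      apply (hb n).1
      show ε' ≫ x = ε' ≫ x'
      rw [← cancel_epi (Q.map s), ← Category.assoc, ← Category.assoc, ← hg]
      exact hxx'
    · intro y
      obtain ⟨x, hx⟩ := (hb n).2 (inv (Q.map s) ≫ y)
      refine ⟨x, ?_⟩
      show Q.map g ≫ x = y
      have hx' : ε' ≫ x = inv (Q.map s) ≫ y := hx
      rw [hg, Category.assoc, hx', ← Category.assoc, IsIso.hom_inv_id, Category.id_comp]
  have hzg : ∀ (n : ℤ) (f : Q.obj (CochainComplex.mappingCone g) ⟶ (Q.obj J)⟦n⟧), f = 0 := by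
    intro n f
    exact hom_obj₃_eq_zero _ hTg ((Q.obj J)⟦n⟧) ((Q.obj J)⟦n - 1⟧)
      ((shiftFunctorAdd' (Dual.D A) (n - 1) 1 n (by omega)).app (Q.obj J)).symm
      (hbg n).1 (hbg (n - 1)).2 f
  have hqg : QuasiIso (homCxPre g J) :=
    quasiIso_homCxPre g J (fun n z hz =>
      exists_coboundary_of_hom_eq_zero _ J n (hzg n) z hz)
  haveI : IsIso (Q.map (homCxPre s J)) := (isIso_Q_map_iff_quasiIso _ _).2 hqs
  haveI : IsIso (Q.map (homCxPre g J)) := (isIso_Q_map_iff_quasiIso _ _).2 hqg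
  exact ⟨asIso (Q.map (homCxPre g J)) ≪≫ (asIso (Q.map (homCxPre s J))).symm⟩

/-- (P2) `RHom(K, M) ≅ RHom(G, M)` when restriction along `ε' : G ⟶ K` is bijective on
`Hom(-, M[n])` for all `n` -/
theorem nonempty_iso_RHomCx (K G : DRing.Cx A) [DRing.HasRHomCx K] [DRing.HasRHomCx G]
    (ε' : Q.obj G ⟶ Q.obj K) (M : Dual.D A)
    (hb : ∀ n : ℤ, Function.Bijective (fun x : Q.obj K ⟶ M⟦n⟧ => ε' ≫ x)) :
    Nonempty ((DRing.RHomCx K).obj M ≅ (DRing.RHomCx G).obj M) := by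
  obtain ⟨J, hJ, ⟨eJ'⟩⟩ := Groth.Agent.H6.QCoprod.exists_model M
  haveI := hJ
  let eJ : M ≅ Q.obj J := eJ'.symm
  have hb' : ∀ n : ℤ, Function.Bijective (fun x : Q.obj K ⟶ (Q.obj J)⟦n⟧ => ε' ≫ x) := by
    intro n
    let j : M⟦n⟧ ≅ (Q.obj J)⟦n⟧ := (shiftFunctor (Dual.D A) n).mapIso eJ
    constructor
    · intro x x' hxx'
      have hxx'' : ε' ≫ x = ε' ≫ x' := hxx'
      have : x ≫ j.inv = x' ≫ j.inv := by
        apply (hb n).1
        show ε' ≫ x ≫ j.inv = ε' ≫ x' ≫ j.inv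
        rw [← Category.assoc, ← Category.assoc, hxx'']
      exact (cancel_mono j.inv).1 this
    · intro y
      obtain ⟨x, hx⟩ := (hb n).2 (y ≫ j.inv)
      have hx' : ε' ≫ x = y ≫ j.inv := hx
      refine ⟨x ≫ j.hom, ?_⟩
      show ε' ≫ x ≫ j.hom = y
      rw [← Category.assoc, hx', Category.assoc, j.inv_hom_id, Category.comp_id]
  obtain ⟨c⟩ := nonempty_iso_Q_homCx K G J ε' hb'
  exact ⟨θ K eJ ≪≫ c ≪≫ (θ G eJ).symm⟩

end Groth.Agent.H46.LDC
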