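import Mathlib
import Groth.Agent.H46.BD1
import Groth.Agent.H46.BDFree
import Groth.Agent.H46.BDBase
import Groth.Agent.H89.BD_TWO
import Groth.Agent.H29.BD_MODE
import Groth.Agent.H29.BD_MODM
import Groth.Agent.H19.BD_IND
import Groth.Agent.H11.BD_LIN
import Groth.Agent.H46.LDCb
import Groth.Agent.H12.FinExt
import Groth.Agent.S12537

/-!
# Biduality for unbounded complexes with finite cohomology (helper46, S1819)
-/

set_option autoImplicit false
set_option linter.style.haveILetI false
universe u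
open CategoryTheory CategoryTheory.Limits HomologicalComplex CochainComplex
open CochainComplex.HomComplex
attribute [local instance] HasDerivedCategory.standard
open Groth.Agent.H33.TensorHom Groth.Agent.H33.Bidual

namespace Groth.Agent.H46.BD

open DerivedCategory

variable {A : Type u} [CommRing A]

/-- biduality `K ⟶ Hom•(Hom•(K, J), J)` is a quasi-isomorphism for every complex `K` with finite
cohomology, when `J` is a bounded complex of injectives representing a dualizing complex. -/
theorem quasiIso_bidual [IsNoetherianRing A] (J : DRing.Cx A) [J.IsKInjective]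
    (hJ : ∀ q, Injective (J.X q)) (a b : ℤ) (hab : ∀ q : ℤ, q < a ∨ b < q → IsZero (J.X q))
    (hext0 : ∀ i : ℤ, i ≠ 0 → ∀ f : Q.obj J ⟶ (Q.obj J)⟦i⟧, f = 0)
    (hend : Function.Bijective (fun a : A => a • 𝟙 (Q.obj J)))
    (X : DRing.Cx A) (hfin : ∀ i : ℤ, Module.Finite A (X.homology i)) :
    QuasiIso (bidual X J) := by
  have hA := fun t => Groth.Agent.H46.BDBase.quasiIso_bidual_single_ring J t hext0 hend
  have hTwo : ∀ S : ShortComplex (DRing.Cx A), S.ShortExact → QuasiIso (bidual S.X₁ J) →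
      QuasiIso (bidual S.X₃ J) → QuasiIso (bidual S.X₂ J) := fun S hS h1 h3 =>
    Groth.Agent.H89.BD_TWO.quasiIso_bidual_X₂ S hS J hJ h1 h3
  have hF := Groth.Agent.H46.BDFree.quasiIso_bidual_single_free J hJ hTwo hA
  have hE := Groth.Agent.H29.BD_MODE.epi_homologyMap_bidual_single J hJ a b hab hF
  have hM := Groth.Agent.H29.BD_MODM.mono_homologyMap_bidual_single J hJ hF hE
  have hsingle : ∀ (N : Type u) [AddCommGroup N] [Module A N] [Module.Finite A N] (t : ℤ),
      QuasiIso (bidual ((HomologicalComplex.single (ModuleCat.{u} A) (ComplexShape.up ℤ) t).obj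
        (ModuleCat.of A N)) J) := by
    intro N _ _ _ t
    rw [quasiIso_iff]
    intro n
    rw [quasiIsoAt_iff_isIso_homologyMap]
    obtain ⟨k, rfl⟩ : ∃ k : ℤ, n = t + k := ⟨n - t, by omega⟩
    haveI := hE k N t
    haveI := hM k N t
    exact isIso_of_mono_of_epi _
  have hbdd : ∀ (k : ℕ) (X : DRing.Cx A) (s : ℤ),
      (∀ p : ℤ, p < s ∨ s + k < p → IsZero (X.X p)) →
      (∀ i : ℤ, Module.Finite A (X.homology i)) → QuasiIso (bidual X J) := fun k X s hX hfin =>
    Groth.Agent.H19.BD_IND.quasiIso_bidual_of_bounded J hJ hsingle k X s hX hfin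
  rw [quasiIso_iff]
  intro n
  exact quasiIsoAt_bidual J hJ a b hab hbdd X hfin n

/-- the homology of `Q.obj X` as an `A`-module -/
noncomputable def homologyQEquiv (X : DRing.Cx A) (i : ℤ) :
    Dual.HD A (Q.obj X) i ≃ₗ[A] X.homology i :=
  ((DerivedCategory.homologyFunctorFactors (ModuleCat.{u} A) i).app X).toLinearEquiv

theorem main (A : Type u) [CommRing A] [IsNoetherianRing A] (ω : Dual.D A)
    (hω : Dual.IsDualizing A ω) (K : DRing.Cx A) [DRing.HasRHomCx K]
    (hK : ∀ i : ℤ, Module.Finite A (Dual.HD A (DRing.toD K) i)) :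
    (∀ i : ℤ, Module.Finite A (Dual.HD A ((DRing.RHomCx K).obj ω) i)) ∧
      ∀ (E : DRing.Cx A) [DRing.HasRHomCx E], Nonempty (DRing.toD E ≅ (DRing.RHomCx K).obj ω) →
        Nonempty ((DRing.RHomCx E).obj ω ≅ DRing.toD K) := by
  obtain ⟨a, b, hab⟩ := hω.finite_injective_dimension
  have hvan : ∀ (F : ModuleCat.{u} A) (i : ℤ), (i < a ∨ max a b < i) →
      ∀ φ : (DerivedCategory.singleFunctor (ModuleCat.{u} A) 0).obj F ⟶
        (CategoryTheory.shiftFunctor (DerivedCategory (ModuleCat.{u} A)) i).obj ω, φ = 0 := by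
    intro F i hi φ
    haveI := hab F i (by
      rcases hi with h | h
      · exact Or.inl h
      · exact Or.inr (lt_of_le_of_lt (le_max_right a b) h))
    exact Subsingleton.elim (α := Dual.inD A F ⟶ ω⟦i⟧) φ 0
  obtain ⟨J, hJinj, hJz, ⟨e⟩⟩ :=
    (Groth.Agent.S12537.result (ModuleCat.{u} A) ω a (max a b) (le_max_left a b)).1 hvan
  haveI : ∀ n, Injective (J.X n) := hJinj
  haveI : J.IsStrictlyGE a := by
    rw [CochainComplex.isStrictlyGE_iff]
    intro i hi
    exact hJz i (Or.inl hi)
  haveI : J.IsKInjective := CochainComplex.isKInjective_of_injective J a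
  -- transport of the dualizing conditions to `Q.obj J`
  have hext0 : ∀ i : ℤ, i ≠ 0 → ∀ f : Q.obj J ⟶ (Q.obj J)⟦i⟧, f = 0 := by
    intro i hi f
    haveI := hω.ext_self_subsingleton i hi
    have h0 : e.inv ≫ f ≫ e.hom⟦i⟧' = 0 := Subsingleton.elim _ _
    have h1 : f ≫ e.hom⟦i⟧' = 0 := (cancel_epi e.inv).1 (h0.trans comp_zero.symm)
    exact (cancel_mono (e.hom⟦i⟧')).1 (h1.trans zero_comp.symm)
  have hend : Function.Bijective (fun a : A => a • 𝟙 (Q.obj J)) := by
    have h1 : (fun a : A => a • 𝟙 (Q.obj J)) =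
        (fun g : ω ⟶ ω => e.hom ≫ g ≫ e.inv) ∘ (fun a : A => a • 𝟙 ω) := by
      funext a
      simp only [Function.comp_apply, Linear.smul_comp, Linear.comp_smul, Category.id_comp,
        Iso.hom_inv_id]
    rw [h1]
    refine Function.Bijective.comp ?_ hω.toEnd_bijective
    exact (Iso.homCongr e.symm e.symm).bijective
  -- finiteness of the cohomology of `K`
  have hKfin : ∀ i : ℤ, Module.Finite A (K.homology i) := fun i => by
    haveI := hK i
    exact Module.Finite.equiv (homologyQEquiv K i)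
  have hqi := quasiIso_bidual J hJinj a (max a b) hJz hext0 hend K hKfin
  let θK : (DRing.RHomCx K).obj ω ≅ Q.obj (DRing.homCx K J) :=
    Groth.Agent.H46.RHomCxTri.θ K e.symm
  refine ⟨fun i => ?_, fun E _ hE => ?_⟩
  · -- finiteness
    obtain ⟨f, hf⟩ := Groth.Agent.H11.BD_LIN.exists_injective_linearMap_homology K J i
    have hJfin : ∀ i : ℤ, Module.Finite A ((homologyFunctor (ModuleCat.{u} A) i).obj (Q.obj J)) := by
      intro i
      haveI := hω.finite_cohomology i
      exact Module.Finite.equiv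
        ((homologyFunctor (ModuleCat.{u} A) i).mapIso e.symm).toLinearEquiv
    haveI : Module.Finite A (Q.obj K ⟶ (Q.obj J)⟦i⟧) :=
      Groth.Agent.H12.FinExt.main (Q.obj K) (Q.obj J) hK hJfin J a (max a b) hJz
        (fun i => (Module.injective_iff_injective_object A (J.X i)).2 (hJinj i)) (Iso.refl _) i
    haveI : IsNoetherian A (Q.obj K ⟶ (Q.obj J)⟦i⟧) :=
      isNoetherian_of_isNoetherianRing_of_finite A _
    haveI : Module.Finite A ((DRing.homCx K J).homology i) := Module.Finite.of_injective f hf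
    haveI : Module.Finite A (Dual.HD A (Q.obj (DRing.homCx K J)) i) :=
      Module.Finite.equiv (homologyQEquiv (DRing.homCx K J) i).symm
    exact Module.Finite.equiv
      ((homologyFunctor (ModuleCat.{u} A) i).mapIso θK.symm).toLinearEquiv
  · obtain ⟨ε⟩ := hE
    let θE : (DRing.RHomCx E).obj ω ≅ Q.obj (DRing.homCx E J) :=
      Groth.Agent.H46.RHomCxTri.θ E e.symm
    let ε' : Q.obj (DRing.homCx K J) ≅ Q.obj E := θK.symm ≪≫ ε.symm
    obtain ⟨c⟩ := Groth.Agent.H46.LDC.nonempty_iso_Q_homCx E (DRing.homCx K J) J ε'.hom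
      (fun n => ⟨fun x y h => (cancel_epi ε'.hom).1 h, fun y => ⟨ε'.inv ≫ y, by simp⟩⟩)
    haveI := hqi
    exact ⟨θE ≪≫ c ≪≫ (asIso (Q.map (bidual K J))).symm⟩

end Groth.Agent.H46.BD
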