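import Groth.Agent.H46.LocD

/-!
# Iterated fibres of localisation maps in `D(A)` (helper46)

`IsFib S X Y p` : `p : Y ⟶ X` is a fibre of the localisation map `X ⟶ X_S`.
`IsCech fs X Y p` : `p : Y ⟶ X` is obtained by iterating this along the list `fs`
(this is the universal property of `X ⊗ Č(fs)` without mentioning the Čech complex).

* `exists_iso_fiber` : fibres are unique up to isomorphism;
* `IsCech.of_iso`, `IsCech.unique`, `IsCech.append`;
* `IsCech.isIso` : if `X_f = 0` for all `f ∈ fs` then `p` is an isomorphism;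
* `IsCech.bijective` : if `T_f = 0` for all `f ∈ fs`, composition with `p` is a bijection
  `Hom(T, Y) ≃ Hom(T, X)`.
-/

set_option autoImplicit false
set_option linter.unusedSectionVars false
universe u
open CategoryTheory CategoryTheory.Limits Pretriangulated DerCA
attribute [local instance] HasDerivedCategory.standard

namespace Groth.Agent.H46.CechTower

open DerivedCategory Groth.Agent.H35.TriChase Groth.Agent.H46.LocD

section General

variable {C : Type*} [Category C] [Preadditive C] [HasZeroObject C] [HasShift C ℤ]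
  [∀ n : ℤ, (shiftFunctor C n).Additive] [Pretriangulated C]

/-- fibres of isomorphic maps are isomorphic -/
lemma exists_iso_fiber {X Y Z X' Y' Z' : C} (p : X ⟶ Y) (q : Y ⟶ Z) (p' : X' ⟶ Y')
    (q' : Y' ⟶ Z') (h : DT p q) (h' : DT p' q') (b : Y ≅ Y') (c : Z ≅ Z')
    (comm : q ≫ c.hom = b.hom ≫ q') : ∃ a : X ≅ X', a.hom ≫ p' = p ≫ b.hom := by
  obtain ⟨r, hT⟩ := h
  obtain ⟨r', hT'⟩ := h'
  obtain ⟨a, ha₁, ha₂⟩ := complete_distinguished_triangle_morphism₁ _ _ hT hT' b.hom c.hom comm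
  let φ : Triangle.mk p q r ⟶ Triangle.mk p' q' r' :=
    { hom₁ := a, hom₂ := b.hom, hom₃ := c.hom, comm₁ := ha₁, comm₂ := comm, comm₃ := ha₂ }
  have hb : IsIso φ.hom₂ := (inferInstance : IsIso b.hom)
  have hc : IsIso φ.hom₃ := (inferInstance : IsIso c.hom)
  have ha : IsIso a := isIso₁_of_isIso₂₃ φ hT hT' hb hc
  exact ⟨@asIso _ _ X X' a ha, ha₁.symm⟩

lemma DT.of_iso_left {X X' Y Z : C} {p : X ⟶ Y} {q : Y ⟶ Z} (h : DT p q) (b : X ≅ X') :
    DT (b.inv ≫ p) q := by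
  obtain ⟨r, hT⟩ := h
  refine ⟨r ≫ b.hom⟦(1 : ℤ)⟧', isomorphic_distinguished _ hT _ ?_⟩
  refine Triangle.isoMk _ _ b.symm (Iso.refl _) (Iso.refl _) ?_ ?_ ?_
  · exact Category.comp_id _
  · exact (Category.comp_id _).trans (Category.id_comp _).symm
  · show (r ≫ b.hom⟦(1 : ℤ)⟧') ≫ b.inv⟦(1 : ℤ)⟧' = 𝟙 _ ≫ r
    rw [Category.assoc, ← Functor.map_comp, b.hom_inv_id, CategoryTheory.Functor.map_id,
      Category.comp_id, Category.id_comp]

lemma DT.of_iso_right {X Y Z Z' : C} {p : X ⟶ Y} {q : Y ⟶ Z} (h : DT p q) (c : Z ≅ Z') :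
    DT p (q ≫ c.hom) := by
  obtain ⟨r, hT⟩ := h
  refine ⟨c.inv ≫ r, isomorphic_distinguished _ hT _ ?_⟩
  refine Triangle.isoMk _ _ (Iso.refl _) (Iso.refl _) c.symm ?_ ?_ ?_
  · exact (Category.comp_id _).trans (Category.id_comp _).symm
  · show (q ≫ c.hom) ≫ c.inv = 𝟙 _ ≫ q
    rw [Category.assoc, c.hom_inv_id, Category.comp_id, Category.id_comp]
  · show (c.inv ≫ r) ≫ (𝟙 X)⟦(1 : ℤ)⟧' = c.inv ≫ r
    rw [CategoryTheory.Functor.map_id, Category.comp_id]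

lemma isIso_of_DT_of_isZero {X Y Z : C} {p : X ⟶ Y} {q : Y ⟶ Z} (h : DT p q) (hZ : IsZero Z) :
    IsIso p := by
  obtain ⟨r, hT⟩ := h
  exact (Triangle.isZero₃_iff_isIso₁ _ hT).1 hZ

/-- composition with the fibre map is bijective on maps from `T` if `T` has no maps to the
cofibre and its desuspension. -/
lemma bijective_of_DT {X Y Z T : C} {p : X ⟶ Y} {q : Y ⟶ Z} (h : DT p q)
    (h0 : ∀ g : T ⟶ Z, g = 0) (h1 : ∀ g : T ⟶ Z⟦(-1 : ℤ)⟧, g = 0) :
    Function.Bijective (fun g : T ⟶ X => g ≫ p) := by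
  obtain ⟨r, hT⟩ := h
  constructor
  · intro g g' hgg'
    have hz : (g - g') ≫ p = 0 := by
      rw [Preadditive.sub_comp]
      exact sub_eq_zero.2 hgg'
    have hT' := inv_rot_of_distTriang _ hT
    obtain ⟨k, hk⟩ := Triangle.coyoneda_exact₂ _ hT' (g - g') hz
    have hk0 : g - g' = 0 := hk.trans (by rw [h1 k]; exact zero_comp)
    exact sub_eq_zero.1 hk0
  · intro y
    obtain ⟨g, hg⟩ := Triangle.coyoneda_exact₂ _ hT y (h0 _)
    exact ⟨g, hg.symm⟩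

end General

variable {A : Type u} [CommRing A]

/-- `p : Y ⟶ X` is a fibre of `X ⟶ X_S`. -/
def IsFib (S : Submonoid A) (X Y : Dual.D A) (p : Y ⟶ X) : Prop := DT p ((ηD S).app X)

/-- `p : Y ⟶ X` is an iterated fibre of the localisation maps at the elements of the list
(the head of the list is the outermost step). -/
def IsCech : List A → ∀ (X Y : Dual.D A), (Y ⟶ X) → Prop
  | [], _, _, p => IsIso p
  | f :: fs, X, Y, p => ∃ (Y₁ : Dual.D A) (p₁ : Y₁ ⟶ X) (p₂ : Y ⟶ Y₁),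
      IsCech fs X Y₁ p₁ ∧ IsFib (Submonoid.powers f) Y₁ Y p₂ ∧ p = p₂ ≫ p₁

lemma IsCech.of_iso : ∀ (fs : List A) {X Y X' Y' : Dual.D A} {p : Y ⟶ X} {p' : Y' ⟶ X'}
    (_ : IsCech fs X Y p) (a : X ≅ X') (b : Y ≅ Y') (_ : b.hom ≫ p' = p ≫ a.hom),
    IsCech fs X' Y' p'
  | [], X, Y, X', Y', p, p', h, a, b, comm => by
    have hp : IsIso p := h
    have : p' = b.inv ≫ p ≫ a.hom := by rw [← comm, Iso.inv_hom_id_assoc]
    show IsIso p'
    rw [this]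
    infer_instance
  | f :: fs, X, Y, X', Y', p, p', h, a, b, comm => by
    obtain ⟨Y₁, p₁, p₂, h₁, h₂, rfl⟩ := h
    refine ⟨Y₁, p₁ ≫ a.hom, b.inv ≫ p₂, ?_, DT.of_iso_left h₂ b, ?_⟩
    · exact IsCech.of_iso fs h₁ a (Iso.refl _) (by simp)
    · rw [← cancel_epi b.hom, comm]
      simp

lemma IsCech.unique : ∀ (fs : List A) {X Y Y' : Dual.D A} {p : Y ⟶ X} {p' : Y' ⟶ X}
    (_ : IsCech fs X Y p) (_ : IsCech fs X Y' p'), ∃ e : Y ≅ Y', e.hom ≫ p' = p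
  | [], X, Y, Y', p, p', h, h' => by
    have hp : IsIso p := h
    have hp' : IsIso p' := h'
    exact ⟨asIso p ≪≫ (asIso p').symm, by simp⟩
  | f :: fs, X, Y, Y', p, p', h, h' => by
    obtain ⟨Y₁, p₁, p₂, h₁, h₂, rfl⟩ := h
    obtain ⟨Y₁', p₁', p₂', h₁', h₂', rfl⟩ := h'
    obtain ⟨e₁, he₁⟩ := IsCech.unique fs h₁ h₁'
    obtain ⟨a, ha⟩ := exists_iso_fiber p₂ _ p₂' _ h₂ h₂' e₁
      ((Lf (Submonoid.powers f)).mapIso e₁) ((ηD (Submonoid.powers f)).naturality e₁.hom).symm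
    refine ⟨a, ?_⟩
    rw [← Category.assoc, ha, Category.assoc, he₁]

lemma IsCech.append (fs : List A) : ∀ (gs : List A) {X Y₁ Y : Dual.D A} {p₁ : Y₁ ⟶ X}
    {p₂ : Y ⟶ Y₁} (_ : IsCech fs X Y₁ p₁) (_ : IsCech gs Y₁ Y p₂),
    IsCech (gs ++ fs) X Y (p₂ ≫ p₁)
  | [], X, Y₁, Y, p₁, p₂, h₁, h₂ => by
    have hp : IsIso p₂ := h₂
    exact IsCech.of_iso fs h₁ (Iso.refl _) (asIso p₂).symm (by simp)
  | g :: gs, X, Y₁, Y, p₁, p₂, h₁, h₂ => by
    obtain ⟨Z, q₁, q₂, hq₁, hq₂, rfl⟩ := h₂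
    exact ⟨Z, q₁ ≫ p₁, q₂, IsCech.append fs gs h₁ hq₁, hq₂, (Category.assoc _ _ _)⟩

lemma IsCech.isIso : ∀ (fs : List A) {X Y : Dual.D A} {p : Y ⟶ X} (_ : IsCech fs X Y p)
    (_ : ∀ f ∈ fs, IsZero ((Lf (Submonoid.powers f)).obj X)), IsIso p
  | [], X, Y, p, h, _ => h
  | f :: fs, X, Y, p, h, hX => by
    obtain ⟨Y₁, p₁, p₂, h₁, h₂, rfl⟩ := h
    have hp₁ : IsIso p₁ := IsCech.isIso fs h₁ (fun g hg => hX g (List.mem_cons_of_mem _ hg))
    have hz : IsZero ((Lf (Submonoid.powers f)).obj Y₁) :=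
      IsZero.of_iso (hX f List.mem_cons_self) ((Lf (Submonoid.powers f)).mapIso (asIso p₁))
    have hp₂ : IsIso p₂ := isIso_of_DT_of_isZero h₂ hz
    infer_instance

lemma isZero_Lf_shift (S : Submonoid A) {T : Dual.D A} (hT : IsZero ((Lf S).obj T)) (n : ℤ) :
    IsZero ((Lf S).obj (T⟦n⟧)) :=
  IsZero.of_iso ((shiftFunctor (Dual.D A) n).map_isZero hT) (((Lf S).commShiftIso n).app T)

lemma hom_Lf_shift_neg_one_eq_zero (S : Submonoid A) {T Z : Dual.D A}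
    (hT : IsZero ((Lf S).obj T)) (g : T ⟶ ((Lf S).obj Z)⟦(-1 : ℤ)⟧) : g = 0 := by
  let e : (((Lf S).obj Z)⟦(-1 : ℤ)⟧)⟦(1 : ℤ)⟧ ≅ (Lf S).obj Z :=
    (shiftFunctorCompIsoId (Dual.D A) (-1 : ℤ) 1 (by norm_num)).app _
  apply (shiftFunctor (Dual.D A) (1 : ℤ)).map_injective
  have h0 : g⟦(1 : ℤ)⟧' ≫ e.hom = 0 := hom_Lf_eq_zero S (isZero_Lf_shift S hT 1) _
  rw [Functor.map_zero, ← cancel_mono e.hom, h0, zero_comp]

lemma IsCech.bijective : ∀ (fs : List A) {X Y : Dual.D A} {p : Y ⟶ X} (_ : IsCech fs X Y p)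
    (T : Dual.D A) (_ : ∀ f ∈ fs, IsZero ((Lf (Submonoid.powers f)).obj T)),
    Function.Bijective (fun g : T ⟶ Y => g ≫ p)
  | [], X, Y, p, h, T, _ => by
    have hp : IsIso p := h
    constructor
    · intro g g' hgg'
      exact (cancel_mono p).1 hgg'
    · intro y
      exact ⟨y ≫ inv p, by simp⟩
  | f :: fs, X, Y, p, h, T, hT => by
    obtain ⟨Y₁, p₁, p₂, h₁, h₂, rfl⟩ := h
    have b₁ := IsCech.bijective fs h₁ T (fun g hg => hT g (List.mem_cons_of_mem _ hg))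
    have hTf := hT f List.mem_cons_self
    have b₂ : Function.Bijective (fun g : T ⟶ Y => g ≫ p₂) :=
      bijective_of_DT h₂ (fun g => hom_Lf_eq_zero _ hTf g)
        (fun g => hom_Lf_shift_neg_one_eq_zero _ hTf g)
    have : (fun g : T ⟶ Y => g ≫ p₂ ≫ p₁) = (fun g : T ⟶ Y₁ => g ≫ p₁) ∘ (fun g : T ⟶ Y => g ≫ p₂) := by
      funext g
      simp
    rw [this]
    exact b₁.comp b₂

end Groth.Agent.H46.CechTower
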