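import Mathlib

/-!
# Chains of linear maps: composites and rank inequalities (helper46)
-/

namespace Groth.Agent.H46.Chain

open Module

variable {k : Type*} [Field k] {V : ℕ → Type*} [∀ j, AddCommGroup (V j)] [∀ j, Module k (V j)]
variable (f : ∀ j, V j →ₗ[k] V (j + 1))

/-- `flow f i j : V i → V j` is the composite `f (j-1) ∘ ⋯ ∘ f i` for `i ≤ j` and `0` for `j < i`. -/
noncomputable def flow (i : ℕ) : (j : ℕ) → V i →ₗ[k] V j
  | 0 => if h : i = 0 then by subst h; exact LinearMap.id else 0
  | j + 1 => if h : i = j + 1 then by subst h; exact LinearMap.id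
      else if i ≤ j then (f j).comp (flow i j) else 0

theorem flow_self (i : ℕ) : flow f i i = LinearMap.id := by
  cases i <;> simp [flow]

theorem flow_succ {i j : ℕ} (h : i ≤ j) : flow f i (j + 1) = (f j).comp (flow f i j) := by
  have h1 : i ≠ j + 1 := by omega
  rw [flow, dif_neg h1, if_pos h]

theorem flow_of_lt {i j : ℕ} (h : j < i) : flow f i j = 0 := by
  cases j with
  | zero => rw [flow, dif_neg (by omega)]
  | succ j => rw [flow, dif_neg (by omega), if_neg (by omega)]

theorem flow_succ_left {i j : ℕ} (h : i < j) : (flow f (i + 1) j).comp (f i) = flow f i j := by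
  induction j, h using Nat.le_induction with
  | base => rw [flow_self, flow_succ f le_rfl, flow_self]; rfl
  | succ j hj ih =>
    rw [flow_succ f hj, flow_succ f (by omega : i ≤ j), LinearMap.comp_assoc, ih]

theorem flow_comp {i j l : ℕ} (hij : i ≤ j) (hjl : j ≤ l) :
    (flow f j l).comp (flow f i j) = flow f i l := by
  induction l, hjl using Nat.le_induction with
  | base => rw [flow_self]; rfl
  | succ l hl ih =>
    rw [flow_succ f hl, flow_succ f (hij.trans hl), LinearMap.comp_assoc, ih]

theorem flow_apply_succ {i j : ℕ} (h : i ≤ j) (u : V i) :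
    flow f i (j + 1) u = f j (flow f i j u) := by
  rw [flow_succ f h]; rfl

theorem flow_succ_left_apply {i j : ℕ} (h : i < j) (u : V i) :
    flow f (i + 1) j (f i u) = flow f i j u := by
  rw [← flow_succ_left f h]; rfl

theorem flow_comp_apply {i j l : ℕ} (hij : i ≤ j) (hjl : j ≤ l) (u : V i) :
    flow f j l (flow f i j u) = flow f i l u := by
  rw [← flow_comp f hij hjl]; rfl

/-- The rank of the composite `V i → V j`. -/
noncomputable def rk (i j : ℕ) : ℕ := finrank k (LinearMap.range (flow f i j))

variable [∀ j, FiniteDimensional k (V j)]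

theorem rk_self (i : ℕ) : rk f i i = finrank k (V i) := by
  rw [rk, flow_self, LinearMap.range_id, finrank_top]

theorem rk_le_succ_left {i j : ℕ} (h : i < j) : rk f i j ≤ rk f (i + 1) j := by
  rw [rk, rk, ← flow_succ_left f h]
  exact Submodule.finrank_mono (LinearMap.range_comp_le_range _ _)

theorem rk_succ_le {i j : ℕ} (h : i ≤ j) : rk f i (j + 1) ≤ rk f i j := by
  rw [rk, rk, flow_succ f h, LinearMap.range_comp]
  exact Submodule.finrank_map_le _ _

omit [∀ j, FiniteDimensional k (V j)] in
/-- For `U' ≤ U`, the drop of dimension under `φ` is monotone. -/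
theorem finrank_map_add_le {E F : Type*} [AddCommGroup E] [Module k E] [FiniteDimensional k E]
    [AddCommGroup F] [Module k F] (φ : E →ₗ[k] F) {U' U : Submodule k E} (h : U' ≤ U) :
    finrank k (U.map φ) + finrank k U' ≤ finrank k U + finrank k (U'.map φ) := by
  have key : ∀ U : Submodule k E, finrank k (U.map φ) +
      finrank k (LinearMap.ker (φ.domRestrict U)) = finrank k U := by
    intro U
    have := LinearMap.finrank_range_add_finrank_ker (φ.domRestrict U)
    rwa [LinearMap.range_domRestrict] at this
  have hinj : finrank k (LinearMap.ker (φ.domRestrict U')) ≤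
      finrank k (LinearMap.ker (φ.domRestrict U)) := by
    let g : LinearMap.ker (φ.domRestrict U') →ₗ[k] LinearMap.ker (φ.domRestrict U) :=
      { toFun := fun x => ⟨Submodule.inclusion h x.1, by
          have := x.2
          rw [LinearMap.mem_ker] at this ⊢
          exact this⟩
        map_add' := fun x y => rfl
        map_smul' := fun c x => rfl }
    apply LinearMap.finrank_le_finrank_of_injective (f := g)
    intro x y hxy
    have := congrArg (fun z => (z.1 : E)) hxy
    exact Subtype.ext (Subtype.ext this)
  have h1 := key U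
  have h2 := key U'
  omega

theorem rk_four {i j : ℕ} (h1 : 1 ≤ i) (h : i ≤ j) :
    rk f i (j + 1) + rk f (i - 1) j ≤ rk f i j + rk f (i - 1) (j + 1) := by
  obtain ⟨i, rfl⟩ : ∃ i', i = i' + 1 := ⟨i - 1, by omega⟩
  simp only [Nat.add_sub_cancel]
  rw [rk, rk, rk, rk, flow_succ f h, flow_succ f (by omega : i ≤ j), LinearMap.range_comp,
    LinearMap.range_comp]
  apply finrank_map_add_le
  rw [← flow_succ_left f (by omega : i < j)]
  exact LinearMap.range_comp_le_range _ _

end Groth.Agent.H46.Chain
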