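import Mathlib
import Groth.Agent.H46.ChainFlow

/-!
# Interval decomposition of a chain of linear maps (helper46)
-/

namespace Groth.Agent.H46.Chain

open Module

variable {k : Type*} [Field k] {V : ℕ → Type*} [∀ j, AddCommGroup (V j)] [∀ j, Module k (V j)]
variable (f : ∀ j, V j →ₗ[k] V (j + 1))

/-- An interval decomposition of the sub-chain `W` (in the window `j ≤ r`). -/
structure Decomp (r : ℕ) (W : ∀ j, Submodule k (V j)) where
  I : Type
  [fin : Fintype I]
  lo : I → ℕ
  hi : I → ℕ
  e : I → ∀ j, V j
  lo_le_hi : ∀ x, lo x ≤ hi x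
  hi_le : ∀ x, hi x ≤ r
  mem : ∀ x j, j ≤ r → e x j ∈ W j
  dead : ∀ x j, ¬(lo x ≤ j ∧ j ≤ hi x) → e x j = 0
  step : ∀ x j, lo x ≤ j → j < hi x → f j (e x j) = e x (j + 1)
  last : ∀ x, hi x < r → f (hi x) (e x (hi x)) = 0
  indep : ∀ j, j ≤ r → ∀ c : I → k, (∀ x, ¬(lo x ≤ j ∧ j ≤ hi x) → c x = 0) →
    ∑ x, c x • e x j = 0 → ∀ x, c x = 0
  spans : ∀ j, j ≤ r → ∀ u ∈ W j, ∃ c : I → k, (∀ x, ¬(lo x ≤ j ∧ j ≤ hi x) → c x = 0) ∧
    ∑ x, c x • e x j = u

attribute [instance] Decomp.fin

variable [∀ j, FiniteDimensional k (V j)]

theorem exists_decomp (r : ℕ) : ∀ (n : ℕ) (W : ∀ j, Submodule k (V j)),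
    (∀ j, j < r → ∀ u ∈ W j, f j u ∈ W (j + 1)) →
    ∑ j ∈ Finset.range (r + 1), finrank k (W j) = n → Nonempty (Decomp f r W) := by
  classical
  intro n
  induction n using Nat.strong_induction_on with
  | _ n IH =>
  intro W hW hn
  by_cases hall : ∀ j, j ≤ r → W j = ⊥
  · refine ⟨{ I := Empty, lo := fun _ => 0, hi := fun _ => 0, e := fun _ _ => 0,
              lo_le_hi := fun x => x.elim, hi_le := fun x => x.elim, mem := fun x => x.elim,
              dead := fun x => x.elim, step := fun x => x.elim, last := fun x => x.elim,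
              indep := fun _ _ _ _ _ x => x.elim, spans := ?_ }⟩
    intro j hj u hu
    rw [hall j hj, Submodule.mem_bot] at hu
    exact ⟨fun x => x.elim, fun x => x.elim, by simp [hu]⟩
  · have hex : ∃ j, j ≤ r ∧ W j ≠ ⊥ := by
      push Not at hall; exact hall
    set a := Nat.find hex with ha_def
    have har : a ≤ r := (Nat.find_spec hex).1
    have haW : W a ≠ ⊥ := (Nat.find_spec hex).2
    have hlt : ∀ j, j < a → W j = ⊥ := by
      intro j hj
      by_contra hne
      exact Nat.find_min hex hj ⟨by omega, hne⟩
    obtain ⟨v, hvW, hv0⟩ := (Submodule.ne_bot_iff _).1 haW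
    -- the orbit of `v`
    set vv : ∀ j, V j := fun j => flow f a j v with hvv
    have hvvW : ∀ j, j ≤ r → vv j ∈ W j := by
      intro j hj
      by_cases haj : a ≤ j
      · induction j, haj using Nat.le_induction with
        | base => simp only [hvv, flow_self]; exact hvW
        | succ j haj ih =>
          have := hW j (by omega) _ (ih (by omega))
          simp only [hvv] at this ⊢
          rwa [flow_apply_succ f haj]
      · simp only [hvv, flow_of_lt f (by omega : j < a)]
        exact zero_mem _
    have hvva : vv a ≠ 0 := by simp only [hvv, flow_self]; exact hv0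
    set b := Nat.findGreatest (fun j => vv j ≠ 0) r with hb_def
    have hbr : b ≤ r := Nat.findGreatest_le r
    have hab : a ≤ b := Nat.le_findGreatest har hvva
    have hvvb : vv b ≠ 0 := Nat.findGreatest_spec (P := fun j => vv j ≠ 0) har hvva
    have hafter : ∀ j, b < j → j ≤ r → vv j = 0 := by
      intro j hj hjr
      have := Nat.findGreatest_is_greatest (P := fun j => vv j ≠ 0) hj hjr
      simpa using this
    -- the functional
    obtain ⟨lam0, hlam0⟩ : ∃ φ : Module.Dual k (V b), φ (vv b) ≠ 0 := by
      by_contra hno
      push Not at hno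
      exact hvvb ((Module.forall_dual_apply_eq_zero_iff k (vv b)).1 hno)
    set lam : V b →ₗ[k] k := (lam0 (vv b))⁻¹ • lam0 with hlam
    have hlam1 : lam (vv b) = 1 := by
      simp only [hlam, LinearMap.smul_apply, smul_eq_mul]
      exact inv_mul_cancel₀ hlam0
    set mu : ∀ j, V j →ₗ[k] k := fun j => lam.comp (flow f j b) with hmu
    have hmu_vv : ∀ j, a ≤ j → j ≤ b → mu j (vv j) = 1 := by
      intro j h1 h2
      simp only [hmu, hvv, LinearMap.comp_apply]
      rw [flow_comp_apply f h1 h2]
      exact hlam1
    have hmu_step : ∀ j, j < b → ∀ u, mu (j + 1) (f j u) = mu j u := by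
      intro j hj u
      simp only [hmu, LinearMap.comp_apply]
      rw [flow_succ_left_apply f hj]
    have hmu_zero : ∀ j, b < j → mu j = 0 := by
      intro j hj
      simp only [hmu, flow_of_lt f hj, LinearMap.comp_zero]
    -- the complement sub-chain
    set W' : ∀ j, Submodule k (V j) := fun j => W j ⊓ LinearMap.ker (mu j) with hW'
    have hW'W : ∀ j, W' j ≤ W j := fun j => inf_le_left
    have hW'sub : ∀ j, j < r → ∀ u ∈ W' j, f j u ∈ W' (j + 1) := by
      intro j hj u hu
      refine ⟨hW j hj u hu.1, LinearMap.mem_ker.2 ?_⟩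
      by_cases hjb : j < b
      · rw [hmu_step j hjb]; exact hu.2
      · rw [hmu_zero (j + 1) (by omega)]; rfl
    have hlt' : W' a < W a := by
      refine lt_of_le_of_ne (hW'W a) ?_
      intro heq
      have : v ∈ W' a := heq ▸ hvW
      have h2 := LinearMap.mem_ker.1 this.2
      have h3 := hmu_vv a le_rfl hab
      simp only [hvv, flow_self, LinearMap.id_apply] at h3
      rw [h2] at h3
      exact zero_ne_one h3
    have hsum : ∑ j ∈ Finset.range (r + 1), finrank k (W' j) < n := by
      rw [← hn]
      apply Finset.sum_lt_sum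
      · intro j _
        exact Submodule.finrank_mono (hW'W j)
      · exact ⟨a, Finset.mem_range.2 (by omega), Submodule.finrank_lt_finrank_of_lt hlt'⟩
    obtain ⟨D'⟩ := IH _ hsum W' hW'sub rfl
    have hker : ∀ x j, j ≤ r → mu j (D'.e x j) = 0 := fun x j hj =>
      LinearMap.mem_ker.1 (D'.mem x j hj).2
    obtain ⟨e0, he0_le, he0_gt⟩ : ∃ e0 : ∀ j, V j,
        (∀ j, j ≤ b → e0 j = vv j) ∧ (∀ j, b < j → e0 j = 0) :=
      ⟨fun j => if j ≤ b then vv j else 0, fun j h => if_pos h, fun j h => if_neg (by omega)⟩
    refine ⟨{ I := Option D'.I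
              lo := fun x => x.elim a D'.lo
              hi := fun x => x.elim b D'.hi
              e := fun x => x.elim e0 D'.e
              lo_le_hi := ?_, hi_le := ?_, mem := ?_, dead := ?_, step := ?_, last := ?_,
              indep := ?_, spans := ?_ }⟩
    · rintro (_ | x)
      · exact hab
      · exact D'.lo_le_hi x
    · rintro (_ | x)
      · exact hbr
      · exact D'.hi_le x
    · rintro (_ | x) j hj
      · simp only [Option.elim]
        by_cases h : j ≤ b
        · rw [he0_le j h]; exact hvvW j hj
        · rw [he0_gt j (by omega)]; exact zero_mem _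
      · exact hW'W j (D'.mem x j hj)
    · rintro (_ | x) j hj
      · simp only [Option.elim] at hj ⊢
        by_cases h : j ≤ b
        · rw [he0_le j h]
          simp only [hvv]
          rw [flow_of_lt f (by omega : j < a)]; rfl
        · exact he0_gt j (by omega)
      · exact D'.dead x j hj
    · rintro (_ | x) j h1 h2
      · simp only [Option.elim] at h1 h2 ⊢
        rw [he0_le j (by omega), he0_le (j + 1) (by omega)]
        simp only [hvv]
        rw [flow_apply_succ f h1]
      · exact D'.step x j h1 h2
    · rintro (_ | x) h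
      · simp only [Option.elim] at h ⊢
        rw [he0_le b le_rfl]
        have := hafter (b + 1) (by omega) (by omega)
        simp only [hvv] at this ⊢
        exact (flow_apply_succ f hab v).symm.trans this
      · exact D'.last x h
    · intro j hj c hc hsum0
      rw [Fintype.sum_option] at hsum0
      have hc0 : c none = 0 := by
        by_cases hjab : a ≤ j ∧ j ≤ b
        · have h1 := congrArg (mu j) hsum0
          simp only [Option.elim, map_add, map_smul, map_sum, map_zero, smul_eq_mul] at h1
          rw [he0_le j hjab.2, hmu_vv j hjab.1 hjab.2] at h1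
          have h2 : ∑ x, c (some x) * mu j (D'.e x j) = 0 :=
            Finset.sum_eq_zero fun x _ => by rw [hker x j hj, mul_zero]
          rw [h2] at h1
          simpa using h1
        · exact hc none hjab
      rw [hc0, zero_smul, zero_add] at hsum0
      have := D'.indep j hj (fun x => c (some x)) (fun x hx => hc (some x) hx) hsum0
      rintro (_ | x)
      · exact hc0
      · exact this x
    · intro j hj u hu
      by_cases hjab : a ≤ j ∧ j ≤ b
      · have hu' : u - mu j u • vv j ∈ W' j := by
          refine ⟨sub_mem hu (Submodule.smul_mem _ _ (hvvW j hj)), LinearMap.mem_ker.2 ?_⟩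
          rw [map_sub, map_smul, hmu_vv j hjab.1 hjab.2]
          simp
        obtain ⟨c', hc', hs'⟩ := D'.spans j hj _ hu'
        refine ⟨fun x => x.elim (mu j u) c', ?_, ?_⟩
        · rintro (_ | x) hx
          · exact absurd hjab hx
          · exact hc' x hx
        · rw [Fintype.sum_option]
          simp only [Option.elim]
          rw [he0_le j hjab.2, hs']
          abel
      · have hu' : u ∈ W' j := by
          refine ⟨hu, LinearMap.mem_ker.2 ?_⟩
          by_cases h1 : j < a
          · have := hlt j h1
            rw [this, Submodule.mem_bot] at hu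
            rw [hu, map_zero]
          · rw [hmu_zero j (by omega)]; rfl
        obtain ⟨c', hc', hs'⟩ := D'.spans j hj _ hu'
        refine ⟨fun x => x.elim 0 c', ?_, ?_⟩
        · rintro (_ | x) hx
          · rfl
          · exact hc' x hx
        · rw [Fintype.sum_option]
          simp only [Option.elim]
          rw [zero_smul, zero_add, hs']

end Groth.Agent.H46.Chain
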