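import Mathlib
import Groth.Agent.H46.ChainDecomp

/-!
# Counting intervals in a decomposition of a chain (helper46)
-/

namespace Groth.Agent.H46.Chain

open Module

variable {k : Type*} [Field k] {V : ℕ → Type*} [∀ j, AddCommGroup (V j)] [∀ j, Module k (V j)]
variable {f : ∀ j, V j →ₗ[k] V (j + 1)} {r : ℕ} {W : ∀ j, Submodule k (V j)} (D : Decomp f r W)

namespace Decomp

theorem flow_e (x : D.I) {i j : ℕ} (h1 : D.lo x ≤ i) (h2 : i ≤ j) (h3 : j ≤ D.hi x) :
    flow f i j (D.e x i) = D.e x j := by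
  induction j, h2 using Nat.le_induction with
  | base => rw [flow_self]; rfl
  | succ j hj ih =>
    rw [flow_apply_succ f hj, ih (by omega), D.step x j (by omega) (by omega)]

theorem flow_e_dead (x : D.I) {i j : ℕ} (h1 : D.lo x ≤ i) (h2 : i ≤ D.hi x) (h3 : D.hi x < j)
    (h4 : j ≤ r) : flow f i j (D.e x i) = 0 := by
  rw [← flow_comp_apply f (by omega : i ≤ D.hi x + 1) (by omega : D.hi x + 1 ≤ j),
    flow_apply_succ f h2, D.flow_e x h1 h2 le_rfl, D.last x (by omega), map_zero]

theorem linearIndepOn (j : ℕ) (hj : j ≤ r) :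
    LinearIndepOn k (fun x => D.e x j) {x | D.lo x ≤ j ∧ j ≤ D.hi x} := by
  rw [linearIndepOn_iff]
  intro l hl h0
  have key := D.indep j hj (fun x => l x) (fun x hx => ?_) ?_
  · ext x; exact key x
  · by_contra hne
    exact hx (hl (Finsupp.mem_support_iff.2 hne))
  · rw [Finsupp.linearCombination_apply, Finsupp.sum_fintype] at h0
    · exact h0
    · intro i; simp

theorem le_span (j : ℕ) (hj : j ≤ r) :
    W j ≤ Submodule.span k ((fun x => D.e x j) '' {x | D.lo x ≤ j ∧ j ≤ D.hi x}) := by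
  intro u hu
  obtain ⟨c, hc, rfl⟩ := D.spans j hj u hu
  refine Submodule.sum_mem _ fun x _ => ?_
  by_cases hx : D.lo x ≤ j ∧ j ≤ D.hi x
  · exact Submodule.smul_mem _ _ (Submodule.subset_span ⟨x, hx, rfl⟩)
  · rw [hc x hx, zero_smul]; exact zero_mem _

theorem map_flow {i j : ℕ} (hij : i ≤ j) (hj : j ≤ r) :
    (W i).map (flow f i j) =
      Submodule.span k ((fun x => D.e x j) '' {x | D.lo x ≤ i ∧ j ≤ D.hi x}) := by
  apply le_antisymm
  · rintro _ ⟨u, hu, rfl⟩
    obtain ⟨c, hc, rfl⟩ := D.spans i (by omega) u hu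
    rw [map_sum]
    refine Submodule.sum_mem _ fun x _ => ?_
    rw [map_smul]
    by_cases hx : D.lo x ≤ i ∧ i ≤ D.hi x
    · by_cases hx2 : j ≤ D.hi x
      · rw [D.flow_e x hx.1 hij hx2]
        exact Submodule.smul_mem _ _ (Submodule.subset_span ⟨x, ⟨hx.1, hx2⟩, rfl⟩)
      · rw [D.flow_e_dead x hx.1 hx.2 (by omega) hj, smul_zero]; exact zero_mem _
    · rw [hc x hx, zero_smul]; exact zero_mem _
  · rw [Submodule.span_le]
    rintro _ ⟨x, hx, rfl⟩
    exact ⟨D.e x i, D.mem x i (by omega), D.flow_e x hx.1 hij hx.2⟩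

open Classical in
/-- Number of intervals containing `[i, j]`. -/
noncomputable def N (i j : ℕ) : ℕ := (Finset.univ.filter fun x => D.lo x ≤ i ∧ j ≤ D.hi x).card

open Classical in
/-- Number of intervals equal to `[p, q]`. -/
noncomputable def mult (p q : ℕ) : ℕ := (Finset.univ.filter fun x => D.lo x = p ∧ D.hi x = q).card

theorem finrank_map_flow {i j : ℕ} (hij : i ≤ j) (hj : j ≤ r) :
    finrank k ((W i).map (flow f i j)) = D.N i j := by
  classical
  rw [D.map_flow hij hj, Set.image_eq_range]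
  have hli : LinearIndependent k
      (fun x : {x | D.lo x ≤ i ∧ j ≤ D.hi x} => D.e x.1 j) :=
    (D.linearIndepOn j hj).mono (fun x hx => ⟨by have := hx.1; omega, hx.2⟩)
  rw [finrank_span_eq_card hli, N, ← Fintype.card_subtype]
  rfl

theorem rk_eq (hWi : ∀ i, 1 ≤ i → W i = ⊤) {i j : ℕ} (hi : 1 ≤ i) (hij : i ≤ j) (hj : j ≤ r) :
    rk f i j = D.N i j := by
  rw [← D.finrank_map_flow hij hj, hWi i hi, Submodule.map_top, rk]

theorem e_ne_zero (x : D.I) : D.e x (D.lo x) ≠ 0 := by
  classical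
  intro h0
  have := D.indep (D.lo x) ((D.lo_le_hi x).trans (D.hi_le x)) (Pi.single x 1) ?_ ?_ x
  · simp at this
  · intro y hy
    by_cases hxy : y = x
    · subst hxy; exact absurd ⟨le_rfl, D.lo_le_hi y⟩ hy
    · simp [hxy]
  · rw [Finset.sum_eq_single x]
    · simp [h0]
    · intro y _ hy; simp [hy]
    · intro h; exact absurd (Finset.mem_univ x) h

theorem lo_pos (h0 : W 0 = ⊥) (x : D.I) : 1 ≤ D.lo x := by
  by_contra hlt
  have hz : D.lo x = 0 := by omega
  have := D.mem x 0 (Nat.zero_le r)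
  rw [h0, Submodule.mem_bot] at this
  apply D.e_ne_zero x
  rw [hz]; exact this

theorem N_zero_left (h0 : W 0 = ⊥) (j : ℕ) : D.N 0 j = 0 := by
  classical
  rw [N, Finset.card_eq_zero, Finset.filter_eq_empty_iff]
  intro x _ hx
  have := D.lo_pos h0 x
  omega

theorem N_of_gt {i j : ℕ} (hj : r < j) : D.N i j = 0 := by
  classical
  rw [N, Finset.card_eq_zero, Finset.filter_eq_empty_iff]
  intro x _ hx
  have := D.hi_le x
  omega

theorem mult_add (h0 : W 0 = ⊥) {p : ℕ} (hp : 1 ≤ p) (q : ℕ) :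
    D.mult p q + D.N (p - 1) q + D.N p (q + 1) = D.N p q + D.N (p - 1) (q + 1) := by
  classical
  simp only [mult, N, Finset.card_filter]
  rw [← Finset.sum_add_distrib, ← Finset.sum_add_distrib, ← Finset.sum_add_distrib]
  refine Finset.sum_congr rfl fun x _ => ?_
  have := D.lo_pos h0 x
  split_ifs <;> omega

theorem mult_eq_zero (h0 : W 0 = ⊥) {p q : ℕ} (h : p = 0 ∨ q < p ∨ r < q) : D.mult p q = 0 := by
  classical
  rw [mult, Finset.card_eq_zero, Finset.filter_eq_empty_iff]
  intro x _ hx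
  have h1 := D.lo_pos h0 x
  have h2 := D.hi_le x
  have h3 := D.lo_le_hi x
  omega

end Decomp

/-- Two finite families with equal fibre cardinalities are matched by a bijection. -/
theorem exists_equiv_of_card_fiber {α β γ : Type*} [Fintype α] [Fintype β] [DecidableEq γ]
    (t : α → γ) (t' : β → γ)
    (h : ∀ c, Fintype.card {x // t x = c} = Fintype.card {y // t' y = c}) :
    ∃ σ : α ≃ β, ∀ x, t' (σ x) = t x := by
  let σ : α ≃ β := (Equiv.sigmaFiberEquiv t).symm.trans
    ((Equiv.sigmaCongrRight fun c => Fintype.equivOfCardEq (h c)).trans (Equiv.sigmaFiberEquiv t'))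
  refine ⟨σ, fun x => ?_⟩
  exact ((Fintype.equivOfCardEq (h (t x))) ⟨x, rfl⟩).2

/-- Two decompositions with the same counting function are matched by a bijection of index
sets preserving the intervals. -/
theorem Decomp.exists_equiv {V' : ℕ → Type*} [∀ j, AddCommGroup (V' j)] [∀ j, Module k (V' j)]
    {f' : ∀ j, V' j →ₗ[k] V' (j + 1)} {W' : ∀ j, Submodule k (V' j)}
    (D' : Decomp f' r W') (h0 : W 0 = ⊥) (h0' : W' 0 = ⊥)
    (hN : ∀ i j, 1 ≤ i → i ≤ j → j ≤ r → D.N i j = D'.N i j) :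
    ∃ σ : D.I ≃ D'.I, ∀ x, D'.lo (σ x) = D.lo x ∧ D'.hi (σ x) = D.hi x := by
  classical
  have hN' : ∀ i j, i ≤ j → D.N i j = D'.N i j := by
    intro i j hij
    rcases Nat.eq_zero_or_pos i with rfl | hi
    · rw [D.N_zero_left h0, D'.N_zero_left h0']
    · by_cases hj : j ≤ r
      · exact hN i j hi hij hj
      · rw [D.N_of_gt (by omega), D'.N_of_gt (by omega)]
  have hmult : ∀ p q, D.mult p q = D'.mult p q := by
    intro p q
    by_cases h : p = 0 ∨ q < p ∨ r < q
    · rw [D.mult_eq_zero h0 h, D'.mult_eq_zero h0' h]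
    · push Not at h
      have hp : 1 ≤ p := by omega
      have e1 := D.mult_add h0 hp q
      have e2 := D'.mult_add h0' hp q
      rw [hN' (p - 1) q (by omega), hN' p (q + 1) (by omega), hN' p q h.2.1,
        hN' (p - 1) (q + 1) (by omega)] at e1
      omega
  obtain ⟨σ, hσ⟩ := exists_equiv_of_card_fiber (fun x => (D.lo x, D.hi x))
    (fun y => (D'.lo y, D'.hi y)) (fun c => by
      have := hmult c.1 c.2
      simp only [Decomp.mult] at this
      rw [Fintype.card_subtype, Fintype.card_subtype]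
      convert this using 2
      · ext x; simp [Prod.ext_iff]
      · ext x; simp [Prod.ext_iff])
  refine ⟨σ, fun x => ?_⟩
  have := hσ x
  simp only [Prod.mk.injEq] at this
  exact this

end Groth.Agent.H46.Chain
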