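import Mathlib
import Groth.Prelude.Def_W4c1btstackcountsChain
import Groth.Agent.H46.ChainCount

/-!
# Chains of matrices: orbits and rank arrays, parts 1–3 (helper46)
-/

namespace Groth.Agent.H46.Chain

open Module W4c1btstackcounts

universe u

variable {k : Type u} [Field k] {d : ℕ → ℕ}

/-- The chain of linear maps attached to a chain of matrices. -/
noncomputable def FF (f : (i : ℕ) → Matrix (Fin (d (i + 1))) (Fin (d i)) k) :
    ∀ j, (Fin (d j) → k) →ₗ[k] (Fin (d (j + 1)) → k) := fun j => Matrix.toLin' (f j)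

theorem iterImage_eq (f : (i : ℕ) → Matrix (Fin (d (i + 1))) (Fin (d i)) k) (i n : ℕ) :
    iterImage f i n = LinearMap.range (flow (FF f) i (i + n)) := by
  induction n with
  | zero =>
    show (⊤ : Submodule k (Fin (d i) → k)) = LinearMap.range (flow (FF f) i i)
    rw [flow_self, LinearMap.range_id]
  | succ n ih =>
    show (iterImage f i n).map (Matrix.toLin' (f (i + n))) =
      LinearMap.range (flow (FF f) i ((i + n) + 1))
    rw [flow_succ _ (Nat.le_add_right i n), LinearMap.range_comp, ih]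
    rfl

theorem finrank_iterImage (f : (i : ℕ) → Matrix (Fin (d (i + 1))) (Fin (d i)) k) (i : ℕ) :
    ∀ (n j : ℕ), i + n = j → finrank k (iterImage f i n) = rk (FF f) i j := by
  rintro n _ rfl
  rw [iterImage_eq]; rfl

theorem rankArray_eq (f : (i : ℕ) → Matrix (Fin (d (i + 1))) (Fin (d i)) k) {i j : ℕ}
    (h : i ≤ j) : rankArray f i j = rk (FF f) i j := by
  rw [rankArray, if_pos h]
  exact finrank_iterImage f i (j - i) j (by omega)

/-! ### Part 1 -/

theorem iterImage_conj (g : (j : ℕ) → Matrix.GeneralLinearGroup (Fin (d j)) k)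
    (f : (i : ℕ) → Matrix (Fin (d (i + 1))) (Fin (d i)) k) (i n : ℕ) :
    iterImage (conj g f) i n =
      (iterImage f i n).map (Matrix.toLin' ((g (i + n) : Matrix.GeneralLinearGroup _ k) :
        Matrix (Fin (d (i + n))) (Fin (d (i + n))) k)) := by
  induction n with
  | zero =>
    show (⊤ : Submodule k (Fin (d i) → k)) = (⊤ : Submodule k (Fin (d i) → k)).map
      (Matrix.toLin' ((g i : Matrix.GeneralLinearGroup _ k) : Matrix (Fin (d i)) (Fin (d i)) k))
    rw [Submodule.map_top, eq_comm, LinearMap.range_eq_top]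
    intro y
    refine ⟨Matrix.toLin' (((g i)⁻¹ : Matrix.GeneralLinearGroup _ k) :
      Matrix (Fin (d i)) (Fin (d i)) k) y, ?_⟩
    rw [← LinearMap.comp_apply, ← Matrix.toLin'_mul, Units.mul_inv, Matrix.toLin'_one]
    rfl
  | succ n ih =>
    show (iterImage (conj g f) i n).map (Matrix.toLin' (conj g f (i + n))) =
      ((iterImage f i n).map (Matrix.toLin' (f (i + n)))).map
        (Matrix.toLin' ((g (i + n + 1) : Matrix.GeneralLinearGroup _ k) :
          Matrix (Fin (d (i + n + 1))) (Fin (d (i + n + 1))) k))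
    rw [ih, ← Submodule.map_comp, ← Submodule.map_comp, ← Matrix.toLin'_mul, ← Matrix.toLin'_mul]
    congr 2
    rw [conj, Matrix.mul_assoc, Units.inv_mul, Matrix.mul_one]

theorem finrank_map_gl {n : ℕ} (g : Matrix.GeneralLinearGroup (Fin n) k)
    (U : Submodule k (Fin n → k)) :
    finrank k (U.map (Matrix.toLin' (g : Matrix (Fin n) (Fin n) k))) = finrank k U := by
  apply le_antisymm (Submodule.finrank_map_le _ _)
  have : U = (U.map (Matrix.toLin' (g : Matrix (Fin n) (Fin n) k))).map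
      (Matrix.toLin' ((g⁻¹ : Matrix.GeneralLinearGroup _ k) : Matrix (Fin n) (Fin n) k)) := by
    rw [← Submodule.map_comp, ← Matrix.toLin'_mul, Units.inv_mul, Matrix.toLin'_one,
      Submodule.map_id]
  conv_lhs => rw [this]
  exact Submodule.finrank_map_le _ _

theorem part1 (g : (j : ℕ) → Matrix.GeneralLinearGroup (Fin (d j)) k)
    (f : (i : ℕ) → Matrix (Fin (d (i + 1))) (Fin (d i)) k) (i j : ℕ) :
    rankArray (conj g f) i j = rankArray f i j := by
  unfold rankArray
  split_ifs with h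
  · rw [iterImage_conj, finrank_map_gl]
  · rfl

/-! ### Part 2 -/

theorem part2 (r : ℕ) (f : (i : ℕ) → Matrix (Fin (d (i + 1))) (Fin (d i)) k) :
    IsRankArray d r (rankArray f) := by
  refine ⟨?_, ?_, ?_, ?_⟩
  · intro j _ _
    rw [rankArray_eq f le_rfl, rk_self, Module.finrank_fin_fun]
  · intro i j _ hij _
    rw [rankArray_eq f hij.le, rankArray_eq f (by omega : i + 1 ≤ j)]
    exact rk_le_succ_left _ hij
  · intro i j _ hij _
    rw [rankArray_eq f hij, rankArray_eq f (by omega : i ≤ j + 1)]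
    exact rk_succ_le _ hij
  · intro i j hi hij _
    rw [rankArray_eq f hij, rankArray_eq f (by omega : i ≤ j + 1),
      rankArray_eq f (by omega : i - 1 ≤ j), rankArray_eq f (by omega : i - 1 ≤ j + 1)]
    exact rk_four _ (by omega) hij

/-! ### Part 3 -/

/-- The window sub-chain: everything in degrees `≥ 1`, nothing in degree `0`. -/
def WW (d : ℕ → ℕ) (k : Type u) [Field k] : ∀ j, Submodule k (Fin (d j) → k) :=
  fun j => if j = 0 then ⊥ else ⊤

theorem WW_zero : WW d k 0 = ⊥ := if_pos rfl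

theorem WW_pos {j : ℕ} (hj : 1 ≤ j) : WW d k j = ⊤ := if_neg (by omega)

theorem exists_decomp_FF (r : ℕ) (f : (i : ℕ) → Matrix (Fin (d (i + 1))) (Fin (d i)) k) :
    Nonempty (Decomp (FF f) r (WW d k)) := by
  refine exists_decomp (FF f) r _ (WW d k) ?_ rfl
  intro j _ u _
  rw [WW_pos (by omega)]
  exact Submodule.mem_top

/-- The basis of `k^{d j}` given by a decomposition. -/
noncomputable def Decomp.basisAt {r : ℕ} {f : (i : ℕ) → Matrix (Fin (d (i + 1))) (Fin (d i)) k}
    (D : Decomp (FF f) r (WW d k)) {j : ℕ} (h1 : 1 ≤ j) (hj : j ≤ r) :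
    Basis {x : D.I | D.lo x ≤ j ∧ j ≤ D.hi x} k (Fin (d j) → k) :=
  Basis.mk (v := fun x : {x : D.I | D.lo x ≤ j ∧ j ≤ D.hi x} => D.e x.1 j)
    (D.linearIndepOn j hj) (by
      have := D.le_span j hj
      rw [WW_pos h1, Set.image_eq_range] at this
      exact this)

theorem Decomp.basisAt_apply {r : ℕ} {f : (i : ℕ) → Matrix (Fin (d (i + 1))) (Fin (d i)) k}
    (D : Decomp (FF f) r (WW d k)) {j : ℕ} (h1 : 1 ≤ j) (hj : j ≤ r)
    (x : {x : D.I | D.lo x ≤ j ∧ j ≤ D.hi x}) : D.basisAt h1 hj x = D.e x.1 j := by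
  unfold Decomp.basisAt
  exact congrFun (Basis.coe_mk _ _) x

/-- A linear automorphism of `k^n` as an element of `GL_n`. -/
noncomputable def glOf {n : ℕ} (θ : (Fin n → k) ≃ₗ[k] (Fin n → k)) :
    Matrix.GeneralLinearGroup (Fin n) k :=
  ⟨LinearMap.toMatrix' θ.toLinearMap, LinearMap.toMatrix' θ.symm.toLinearMap,
    by rw [← LinearMap.toMatrix'_comp]; simp,
    by rw [← LinearMap.toMatrix'_comp]; simp⟩

theorem toLin'_glOf {n : ℕ} (θ : (Fin n → k) ≃ₗ[k] (Fin n → k)) :
    Matrix.toLin' ((glOf θ : Matrix.GeneralLinearGroup (Fin n) k) : Matrix (Fin n) (Fin n) k) =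
      θ.toLinearMap := by
  show Matrix.toLin' (LinearMap.toMatrix' θ.toLinearMap) = _
  rw [Matrix.toLin'_toMatrix']

theorem part3 (r : ℕ) (f f' : (i : ℕ) → Matrix (Fin (d (i + 1))) (Fin (d i)) k)
    (h : ∀ i j : ℕ, 1 ≤ i → i ≤ j → j ≤ r → rankArray f i j = rankArray f' i j) :
    ∃ g : (j : ℕ) → Matrix.GeneralLinearGroup (Fin (d j)) k,
      ∀ i : ℕ, 1 ≤ i → i + 1 ≤ r → conj g f i = f' i := by
  classical
  obtain ⟨D⟩ := exists_decomp_FF r f
  obtain ⟨D'⟩ := exists_decomp_FF r f'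
  have hN : ∀ i j, 1 ≤ i → i ≤ j → j ≤ r → D.N i j = D'.N i j := by
    intro i j hi hij hj
    rw [← D.rk_eq (fun i hi => WW_pos hi) hi hij hj, ← D'.rk_eq (fun i hi => WW_pos hi) hi hij hj,
      ← rankArray_eq f hij, ← rankArray_eq f' hij]
    exact h i j hi hij hj
  obtain ⟨σ, hσ⟩ := D.exists_equiv D' WW_zero WW_zero hN
  -- the equivalences of index sets
  let σj : ∀ j, {x : D.I | D.lo x ≤ j ∧ j ≤ D.hi x} ≃ {y : D'.I | D'.lo y ≤ j ∧ j ≤ D'.hi y} :=
    fun j => Equiv.subtypeEquiv σ (fun x => by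
      show D.lo x ≤ j ∧ j ≤ D.hi x ↔ D'.lo (σ x) ≤ j ∧ j ≤ D'.hi (σ x)
      rw [(hσ x).1, (hσ x).2])
  let θ : ∀ j, (Fin (d j) → k) ≃ₗ[k] (Fin (d j) → k) := fun j =>
    if hj : 1 ≤ j ∧ j ≤ r then (D.basisAt hj.1 hj.2).equiv (D'.basisAt hj.1 hj.2) (σj j)
    else LinearEquiv.refl k _
  refine ⟨fun j => glOf (θ j), fun i hi hir => ?_⟩
  have key : (glOf (θ (i + 1))).val * f i = f' i * (glOf (θ i)).val := by
    apply Matrix.toLin'.injective
    rw [Matrix.toLin'_mul, Matrix.toLin'_mul, toLin'_glOf, toLin'_glOf]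
    have hθi : θ i = (D.basisAt hi (by omega)).equiv (D'.basisAt hi (by omega)) (σj i) :=
      dif_pos ⟨hi, by omega⟩
    have hθi1 : θ (i + 1) = (D.basisAt (by omega) hir).equiv (D'.basisAt (by omega) hir)
        (σj (i + 1)) := dif_pos ⟨by omega, hir⟩
    rw [hθi, hθi1]
    apply (D.basisAt hi (by omega : i ≤ r)).ext
    intro x
    simp only [LinearMap.comp_apply, LinearEquiv.coe_coe, Basis.equiv_apply]
    rw [D.basisAt_apply, D'.basisAt_apply]
    obtain ⟨x, hx1, hx2⟩ := x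
    show (D.basisAt _ hir).equiv (D'.basisAt _ hir) (σj (i + 1)) (FF f i (D.e x i)) =
      FF f' i (D'.e (σ x) i)
    by_cases hlt : i < D.hi x
    · rw [D.step x i hx1 hlt, D'.step (σ x) i (by rw [(hσ x).1]; exact hx1)
        (by rw [(hσ x).2]; exact hlt)]
      have : D.e x (i + 1) = D.basisAt (by omega) hir ⟨x, ⟨by omega, by omega⟩⟩ := by
        rw [D.basisAt_apply]
      rw [this, Basis.equiv_apply, D'.basisAt_apply]
      rfl
    · have hxi : D.hi x = i := by omega
      have h1 := D.last x (by omega)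
      rw [hxi] at h1
      have h2 := D'.last (σ x) (by rw [(hσ x).2]; omega)
      rw [(hσ x).2, hxi] at h2
      rw [h1, h2, map_zero]
  show (glOf (θ (i + 1))).val * f i * ((glOf (θ i))⁻¹).val = f' i
  rw [key, Matrix.mul_assoc, Units.mul_inv, Matrix.mul_one]

end Groth.Agent.H46.Chain
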