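import Mathlib
import Groth.Prelude.Def_W4c1btstackcountsChain

/-!
# Staircase chains realising a given rank array (helper46)
-/

namespace Groth.Agent.H46.Chain

open Module W4c1btstackcounts

universe u

variable {k : Type u} [Field k]

/-- Vectors supported on the first `c` coordinates. -/
def ini (k : Type u) [Field k] (n c : ℕ) : Submodule k (Fin n → k) where
  carrier := {u | ∀ t : Fin n, c ≤ t.val → u t = 0}
  add_mem' := fun {u v} hu hv t ht => by rw [Pi.add_apply, hu t ht, hv t ht, add_zero]
  zero_mem' := fun t _ => rfl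
  smul_mem' := fun a u hu t ht => by rw [Pi.smul_apply, hu t ht, smul_zero]

theorem mem_ini {n c : ℕ} {u : Fin n → k} : u ∈ ini k n c ↔ ∀ t : Fin n, c ≤ t.val → u t = 0 :=
  Iff.rfl

theorem single_mem_ini {n c : ℕ} (t : Fin n) (ht : t.val < c) :
    (Pi.single t 1 : Fin n → k) ∈ ini k n c := by
  intro t' ht'
  have : t' ≠ t := by
    intro h; rw [h] at ht'; omega
  exact Pi.single_eq_of_ne this 1

theorem ini_self (n : ℕ) : ini k n n = ⊤ := by
  rw [eq_top_iff]
  intro u _ t ht
  exact absurd t.2 (by omega)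

theorem ini_eq_span (n c : ℕ) : ini k n c =
    Submodule.span k (Set.range fun t : {t : Fin n // t.val < c} =>
      (Pi.single t.1 1 : Fin n → k)) := by
  apply le_antisymm
  · intro u hu
    rw [pi_eq_sum_univ' u]
    refine Submodule.sum_mem _ fun t _ => ?_
    by_cases ht : t.val < c
    · exact Submodule.smul_mem _ _ (Submodule.subset_span ⟨⟨t, ht⟩, rfl⟩)
    · rw [hu t (by omega), zero_smul]; exact zero_mem _
  · rw [Submodule.span_le]
    rintro _ ⟨t, rfl⟩
    exact single_mem_ini t.1 t.2

theorem finrank_ini {n c : ℕ} (h : c ≤ n) : finrank k (ini k n c) = c := by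
  rw [ini_eq_span]
  have hli : LinearIndependent k (fun t : {t : Fin n // t.val < c} =>
      (Pi.single t.1 1 : Fin n → k)) := by
    have := (Pi.basisFun k (Fin n)).linearIndependent.comp
      (fun t : {t : Fin n // t.val < c} => t.1) Subtype.val_injective
    convert this using 1
    ext t : 1
    simp [Pi.basisFun_apply]
  rw [finrank_span_eq_card hli]
  have e : Fin c ≃ {t : Fin n // t.val < c} :=
    { toFun := fun x => ⟨⟨x.1, lt_of_lt_of_le x.2 h⟩, x.2⟩
      invFun := fun t => ⟨t.1.1, t.2⟩
      left_inv := fun x => rfl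
      right_inv := fun t => rfl }
  rw [← Fintype.card_congr e, Fintype.card_fin]

/-- Locate `t` in a staircase `0 = h 0 ≤ h 1 ≤ ⋯`. -/
theorem exists_group (h : ℕ → ℕ) (h0 : h 0 = 0) {t i : ℕ} (ht : t < h i) :
    ∃ p, 1 ≤ p ∧ p ≤ i ∧ h (p - 1) ≤ t ∧ t < h p := by
  classical
  have hex : ∃ p, t < h p := ⟨i, ht⟩
  refine ⟨Nat.find hex, ?_, Nat.find_min' hex ht, ?_, Nat.find_spec hex⟩
  · by_contra hlt
    have : Nat.find hex = 0 := by omega
    have h1 := Nat.find_spec hex
    rw [this, h0] at h1
    omega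
  · by_contra hlt
    have hp : 1 ≤ Nat.find hex := by
      by_contra hlt
      have : Nat.find hex = 0 := by omega
      have h1 := Nat.find_spec hex
      rw [this, h0] at h1
      omega
    exact Nat.find_min hex (by omega : Nat.find hex - 1 < Nat.find hex) (by omega)

theorem group_unique (h : ℕ → ℕ) (hm : Monotone h) {t p p' : ℕ} (hp : 1 ≤ p) (hp' : 1 ≤ p')
    (h1 : h (p - 1) ≤ t) (h2 : t < h p) (h1' : h (p' - 1) ≤ t) (h2' : t < h p') : p = p' := by
  by_contra hne
  rcases Nat.lt_or_gt_of_ne hne with hlt | hlt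
  · have := hm (by omega : p ≤ p' - 1)
    omega
  · have := hm (by omega : p' ≤ p - 1)
    omega

variable {d : ℕ → ℕ}

/-- The staircase relation between coordinates of level `j` and level `j + 1`. -/
def Rel (A : ℕ → ℕ → ℕ) (j t t' : ℕ) : Prop :=
  ∃ p, 1 ≤ p ∧ A (p - 1) j ≤ t ∧ t < A p j ∧ A (p - 1) (j + 1) ≤ t' ∧ t' < A p (j + 1) ∧
    t - A (p - 1) j = t' - A (p - 1) (j + 1)

open Classical in
/-- The staircase chain. -/
noncomputable def stair (k : Type u) [Field k] (d : ℕ → ℕ) (A : ℕ → ℕ → ℕ) :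
    (j : ℕ) → Matrix (Fin (d (j + 1))) (Fin (d j)) k :=
  fun j t' t => if Rel A j t.val t'.val then 1 else 0

theorem stair_step (A : ℕ → ℕ → ℕ) {i j : ℕ} (hij : i ≤ j)
    (h0 : A 0 j = 0) (h0' : A 0 (j + 1) = 0)
    (hm : Monotone fun p => A p j) (hm' : Monotone fun p => A p (j + 1))
    (hb : ∀ p, A p j ≤ d j)
    (hd : ∀ p, 1 ≤ p → p ≤ j → A p (j + 1) + A (p - 1) j ≤ A p j + A (p - 1) (j + 1)) :
    (ini k (d j) (A i j)).map (Matrix.toLin' (stair k d A j)) =
      ini k (d (j + 1)) (A i (j + 1)) := by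
  classical
  apply le_antisymm
  · rintro _ ⟨u, hu, rfl⟩
    intro t' ht'
    rw [Matrix.toLin'_apply, Matrix.mulVec, dotProduct]
    refine Finset.sum_eq_zero fun t _ => ?_
    by_cases ht : A i j ≤ t.val
    · rw [hu t ht, mul_zero]
    · have hnot : ¬ Rel A j t.val t'.val := by
        rintro ⟨p, hp, h1, h2, h3, h4, h5⟩
        have hpi : p ≤ i := by
          by_contra hlt
          have := hm (by omega : i ≤ p - 1)
          simp only at this
          omega
        have := hm' hpi
        simp only at this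
        omega
      simp only [stair, if_neg hnot, zero_mul]
  · intro u' hu'
    rw [pi_eq_sum_univ' u']
    refine Submodule.sum_mem _ fun t' _ => ?_
    by_cases ht' : t'.val < A i (j + 1)
    · apply Submodule.smul_mem
      obtain ⟨p, hp, hpi, h1, h2⟩ := exists_group (fun p => A p (j + 1)) h0' ht'
      have hdp := hd p hp (by omega)
      have hmp : A (p - 1) j ≤ A p j := hm (by omega : p - 1 ≤ p)
      have hmp' : A (p - 1) (j + 1) ≤ A p (j + 1) := hm' (by omega : p - 1 ≤ p)
      have htlt : A (p - 1) j + (t'.val - A (p - 1) (j + 1)) < A p j := by omega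
      have htd : A (p - 1) j + (t'.val - A (p - 1) (j + 1)) < d j :=
        lt_of_lt_of_le htlt (hb p)
      set t : Fin (d j) := ⟨A (p - 1) j + (t'.val - A (p - 1) (j + 1)), htd⟩ with ht_def
      have htval : t.val = A (p - 1) j + (t'.val - A (p - 1) (j + 1)) := rfl
      refine ⟨Pi.single t 1, single_mem_ini t ?_, ?_⟩
      · have : A p j ≤ A i j := hm hpi
        omega
      · rw [Matrix.toLin'_apply, Matrix.mulVec_single_one]
        ext t''
        show stair k d A j t'' t = (Pi.single t' 1 : Fin (d (j + 1)) → k) t''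
        by_cases hrel : Rel A j t.val t''.val
        · obtain ⟨p'', hp'', g1, g2, g3, g4, g5⟩ := hrel
          have hpp : p'' = p :=
            group_unique (fun p => A p j) hm hp'' hp g1 g2 (by show A (p - 1) j ≤ t.val; omega)
              (by show t.val < A p j; omega)
          subst hpp
          have : t'' = t' := Fin.ext (by omega)
          rw [this, Pi.single_eq_same]
          have hr : Rel A j t.val t'.val :=
            ⟨p'', hp, by omega, by omega, h1, h2, by omega⟩
          simp only [stair, if_pos hr]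
        · have hne : t'' ≠ t' := by
            intro heq
            apply hrel
            rw [heq]
            exact ⟨p, hp, by omega, by omega, h1, h2, by omega⟩
          rw [Pi.single_eq_of_ne hne]
          simp only [stair, if_neg hrel]
    · rw [hu' t' (by omega), zero_smul]; exact zero_mem _

/-- The normalised array. -/
def norm (d : ℕ → ℕ) (a : ℕ → ℕ → ℕ) (p j : ℕ) : ℕ :=
  if p = 0 then 0 else if j ≤ p then d j else a p j

theorem norm_zero (a : ℕ → ℕ → ℕ) (j : ℕ) : norm d a 0 j = 0 := if_pos rfl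

theorem norm_of_le (a : ℕ → ℕ → ℕ) {p j : ℕ} (hp : 1 ≤ p) (h : j ≤ p) : norm d a p j = d j := by
  rw [norm, if_neg (by omega), if_pos h]

theorem norm_of_lt (a : ℕ → ℕ → ℕ) {p j : ℕ} (hp : 1 ≤ p) (h : p < j) : norm d a p j = a p j := by
  rw [norm, if_neg (by omega), if_neg (by omega)]

theorem norm_eq (a : ℕ → ℕ → ℕ) {r : ℕ} (ha : IsRankArray d r a) {p j : ℕ} (hp : 1 ≤ p)
    (h : p ≤ j) (hj : j ≤ r) : norm d a p j = a p j := by
  rcases Nat.lt_or_ge p j with hlt | hge
  · exact norm_of_lt a hp hlt
  · have : p = j := by omega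
    subst this
    rw [norm_of_le a hp le_rfl, ha.1 p hp hj]

theorem norm_mono (a : ℕ → ℕ → ℕ) {r : ℕ} (ha : IsRankArray d r a) {j : ℕ} (h1 : 1 ≤ j)
    (hj : j ≤ r) : Monotone fun p => norm d a p j := by
  apply monotone_nat_of_le_succ
  intro p
  show norm d a p j ≤ norm d a (p + 1) j
  rcases Nat.eq_zero_or_pos p with rfl | hp
  · rw [norm_zero]; exact Nat.zero_le _
  · rcases Nat.lt_or_ge p j with hlt | hge
    · rw [norm_of_lt a hp hlt, norm_eq a ha (by omega) (by omega) hj]
      exact ha.2.1 p j hp hlt hj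
    · rw [norm_of_le a hp hge, norm_of_le a (by omega) (by omega)]

theorem norm_le (a : ℕ → ℕ → ℕ) {r : ℕ} (ha : IsRankArray d r a) {j : ℕ} (h1 : 1 ≤ j)
    (hj : j ≤ r) (p : ℕ) : norm d a p j ≤ d j := by
  have := norm_mono a ha h1 hj (by omega : p ≤ p + j)
  simp only at this
  rwa [norm_of_le a (p := p + j) (j := j) (by omega) (by omega)] at this

theorem norm_four (a : ℕ → ℕ → ℕ) {r : ℕ} (ha : IsRankArray d r a) {j : ℕ} (h1 : 1 ≤ j)
    (hj : j < r) (p : ℕ) (hp : 1 ≤ p) (hpj : p ≤ j) :
    norm d a p (j + 1) + norm d a (p - 1) j ≤ norm d a p j + norm d a (p - 1) (j + 1) := by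
  rcases Nat.lt_or_ge 1 p with hp2 | hp1
  · rw [norm_eq a ha hp (by omega) (by omega), norm_eq a ha (by omega) (by omega) (by omega),
      norm_eq a ha hp hpj (by omega), norm_eq a ha (by omega) (by omega) (by omega)]
    exact ha.2.2.2 p j hp2 hpj hj
  · have : p = 1 := by omega
    subst this
    simp only [Nat.sub_self, norm_zero, add_zero]
    rw [norm_eq a ha le_rfl (by omega) (by omega), norm_eq a ha le_rfl hpj (by omega)]
    exact ha.2.2.1 1 j le_rfl hpj hj

theorem iterImage_stair (a : ℕ → ℕ → ℕ) {r : ℕ} (ha : IsRankArray d r a) {i : ℕ} (hi : 1 ≤ i) :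
    ∀ n, i + n ≤ r → iterImage (stair k d (norm d a)) i n =
      ini k (d (i + n)) (norm d a i (i + n)) := by
  intro n
  induction n with
  | zero =>
    intro hr
    show (⊤ : Submodule k (Fin (d i) → k)) = ini k (d i) (norm d a i i)
    rw [norm_of_le a hi le_rfl, ini_self]
  | succ n ih =>
    intro hr
    show (iterImage (stair k d (norm d a)) i n).map
      (Matrix.toLin' (stair k d (norm d a) (i + n))) =
        ini k (d (i + n + 1)) (norm d a i (i + n + 1))
    rw [ih (by omega)]
    exact stair_step (norm d a) (Nat.le_add_right i n) (norm_zero a _) (norm_zero a _)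
      (norm_mono a ha (by omega) (by omega)) (norm_mono a ha (by omega) (by omega))
      (norm_le a ha (by omega) (by omega))
      (norm_four a ha (by omega) (by omega))

theorem part4 (r : ℕ) (a : ℕ → ℕ → ℕ) (ha : IsRankArray d r a) :
    ∃ f : (i : ℕ) → Matrix (Fin (d (i + 1))) (Fin (d i)) k,
      ∀ i j : ℕ, 1 ≤ i → i ≤ j → j ≤ r → rankArray f i j = a i j := by
  refine ⟨stair k d (norm d a), fun i j hi hij hj => ?_⟩
  rw [rankArray, if_pos hij, iterImage_stair a ha hi (j - i) (by omega)]
  have hij' : i + (j - i) = j := by omega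
  rw [hij', finrank_ini (norm_le a ha (by omega) hj i), norm_eq a ha hi hij hj]

end Groth.Agent.H46.Chain
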