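import Mathlib
import Groth.Agent.H48.AdicExact

/-!
# Completion of `X ⊗ N` for `N` flat over a Noetherian ring (helper46)

`A` Noetherian, `I` an ideal, `N` a flat `A`-module, `N^ = AdicCompletion I N`.

* `compl_exact` : `X ↦ (X ⊗ N)^` is exact on finite modules (Artin–Rees);
* `tau X : X ⊗ N^ → (X ⊗ N)^`, natural, bijective for finite `X` (`tau_bijective`);
* `flat_adicCompletion` : `N^` is flat;
* `lTensor_of_bijective` : `Z ⊗ N → Z ⊗ N^` is bijective when `I Z = 0` (`I` f.g.).
-/

set_option autoImplicit false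
universe u
open TensorProduct

namespace Groth.Agent.H46.ComplTensor

variable {A : Type u} [CommRing A] (I : Ideal A) (N : Type u) [AddCommGroup N] [Module A N]

section Basic

variable {X Y : Type u} [AddCommGroup X] [Module A X] [AddCommGroup Y] [Module A Y]

/-- pure tensors with first factor in `J • ⊤` lie in `J • ⊤`. -/
lemma tmul_mem_smul_top (J : Ideal A) {x : X} (hx : x ∈ (J • ⊤ : Submodule A X)) (n : N) :
    x ⊗ₜ[A] n ∈ (J • ⊤ : Submodule A (X ⊗[A] N)) := by
  refine Submodule.smul_induction_on hx ?_ ?_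
  · intro a ha y _
    rw [← TensorProduct.smul_tmul']
    exact Submodule.smul_mem_smul ha Submodule.mem_top
  · intro y z hy hz
    rw [TensorProduct.add_tmul]
    exact Submodule.add_mem _ hy hz

/-- A linear map sends `J • ⊤` into `J • ⊤`. -/
lemma map_mem_smul_top (J : Ideal A) (f : X →ₗ[A] Y) {x : X}
    (hx : x ∈ (J • ⊤ : Submodule A X)) : f x ∈ (J • ⊤ : Submodule A Y) := by
  refine Submodule.smul_induction_on hx ?_ ?_
  · intro a ha y _
    rw [map_smul]
    exact Submodule.smul_mem_smul ha Submodule.mem_top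
  · intro y z hy hz
    rw [map_add]
    exact Submodule.add_mem _ hy hz

end Basic

section ArtinRees

variable [IsNoetherianRing A] [Module.Flat A N]
variable {X' X : Type u} [AddCommGroup X'] [Module A X'] [AddCommGroup X] [Module A X]
  [Module.Finite A X]

/-- Artin–Rees with shift, after tensoring with a flat module. -/
theorem exists_shift (f : X' →ₗ[A] X) (hf : Function.Injective f) :
    ∃ c : ℕ, ∀ (n : ℕ) (x : X' ⊗[A] N),
      f.rTensor N x ∈ (I ^ (n + c) • ⊤ : Submodule A (X ⊗[A] N)) →
        x ∈ (I ^ n • ⊤ : Submodule A (X' ⊗[A] N)) := by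
  obtain ⟨c, hc⟩ := Ideal.exists_pow_inf_eq_pow_smul I (LinearMap.range f)
  refine ⟨c, fun n x hx => ?_⟩
  -- `S = f⁻¹(I^(n+c) X)`
  set S : Submodule A X' := (I ^ (n + c) • ⊤ : Submodule A X).comap f with hS
  have hSle : S ≤ (I ^ n • ⊤ : Submodule A X') := by
    intro s hs
    have h1 : f s ∈ (I ^ (n + c) • ⊤ ⊓ LinearMap.range f : Submodule A X) :=
      ⟨hs, LinearMap.mem_range_self f s⟩
    rw [hc (n + c) (Nat.le_add_left c n), Nat.add_sub_cancel] at h1
    -- `f s ∈ I^n • (I^c X ∩ range f)`
    have h2 : ∀ y ∈ (I ^ n • (I ^ c • ⊤ ⊓ LinearMap.range f) : Submodule A X),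
        ∃ t ∈ (I ^ n • ⊤ : Submodule A X'), f t = y := by
      intro y hy
      refine Submodule.smul_induction_on hy ?_ ?_
      · rintro a ha y ⟨-, ⟨t, rfl⟩⟩
        exact ⟨a • t, Submodule.smul_mem_smul ha Submodule.mem_top, map_smul f a t⟩
      · rintro y z ⟨t, ht, rfl⟩ ⟨t', ht', rfl⟩
        exact ⟨t + t', Submodule.add_mem _ ht ht', map_add f t t'⟩
    obtain ⟨t, ht, hft⟩ := h2 _ h1
    rwa [← hf hft]
  -- the induced injection `X'/S → X / I^(n+c) X`
  let fbar : (X' ⧸ S) →ₗ[A] (X ⧸ (I ^ (n + c) • ⊤ : Submodule A X)) :=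
    S.mapQ _ f (le_of_eq hS)
  have hfbar : Function.Injective fbar := by
    rw [← LinearMap.ker_eq_bot, Submodule.ker_mapQ]  -- ker = map mkQ (comap f q)
    rw [← hS, Submodule.mkQ_map_self]
  have hfb := Module.Flat.rTensor_preserves_injective_linearMap (M := N) fbar hfbar
  -- chase
  have hsq : (fbar.rTensor N) ((S.mkQ.rTensor N) x) =
      ((I ^ (n + c) • ⊤ : Submodule A X).mkQ.rTensor N) (f.rTensor N x) := by
    rw [← LinearMap.comp_apply, ← LinearMap.comp_apply, ← LinearMap.rTensor_comp,
      ← LinearMap.rTensor_comp]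
    rfl
  have hkill : ∀ z ∈ (I ^ (n + c) • ⊤ : Submodule A (X ⊗[A] N)),
      ((I ^ (n + c) • ⊤ : Submodule A X).mkQ.rTensor N) z = 0 := by
    intro z hz
    refine Submodule.smul_induction_on hz ?_ ?_
    · intro a ha w hw
      clear hw
      induction w using TensorProduct.induction_on with
      | zero => rw [smul_zero, map_zero]
      | tmul x₀ n₀ =>
        rw [TensorProduct.smul_tmul', LinearMap.rTensor_tmul]
        have : (I ^ (n + c) • ⊤ : Submodule A X).mkQ (a • x₀) = 0 := by
          rw [Submodule.mkQ_apply, Submodule.Quotient.mk_eq_zero]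
          exact Submodule.smul_mem_smul ha Submodule.mem_top
        rw [this, TensorProduct.zero_tmul]
      | add w₁ w₂ h₁ h₂ => rw [smul_add, map_add, h₁, h₂, add_zero]
    · intro w₁ w₂ h₁ h₂
      rw [map_add, h₁, h₂, add_zero]
  have h0 : (S.mkQ.rTensor N) x = 0 := by
    apply hfb
    rw [hsq, hkill _ hx, map_zero]
  -- `x ∈ range (S ⊗ N → X' ⊗ N)`
  have hex : Function.Exact (S.subtype.rTensor N) (S.mkQ.rTensor N) :=
    rTensor_exact N (LinearMap.exact_subtype_mkQ S) (Submodule.mkQ_surjective S)
  have hall : ∀ w : S ⊗[A] N, (S.subtype.rTensor N) w ∈ (I ^ n • ⊤ : Submodule A (X' ⊗[A] N)) := by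
    intro w
    induction w using TensorProduct.induction_on with
    | zero => rw [map_zero]; exact Submodule.zero_mem _
    | tmul s n₀ =>
      rw [LinearMap.rTensor_tmul]
      exact tmul_mem_smul_top N _ (hSle s.2) n₀
    | add w₁ w₂ h₁ h₂ =>
      rw [map_add]
      exact Submodule.add_mem _ h₁ h₂
  obtain ⟨w, hw⟩ := (hex x).1 h0
  rw [← hw]
  exact hall w

end ArtinRees

section Tau

variable {X Y : Type u} [AddCommGroup X] [Module A X] [AddCommGroup Y] [Module A Y]

lemma cmap_add_apply (f g : X →ₗ[A] Y) (z : AdicCompletion I X) :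
    AdicCompletion.map I (f + g) z = AdicCompletion.map I f z + AdicCompletion.map I g z := by
  apply AdicCompletion.ext
  intro n
  rw [AdicCompletion.val_add_apply, AdicCompletion.map_val_apply, AdicCompletion.map_val_apply,
    AdicCompletion.map_val_apply]
  obtain ⟨a, ha⟩ := Submodule.Quotient.mk_surjective _ (z.val n)
  rw [← ha, LinearMap.reduceModIdeal_apply, LinearMap.reduceModIdeal_apply,
    LinearMap.reduceModIdeal_apply, LinearMap.add_apply, Submodule.Quotient.mk_add]

lemma cmap_smul_apply (a : A) (f : X →ₗ[A] Y) (z : AdicCompletion I X) :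
    AdicCompletion.map I (a • f) z = a • AdicCompletion.map I f z := by
  apply AdicCompletion.ext
  intro n
  rw [AdicCompletion.val_smul_apply, AdicCompletion.map_val_apply, AdicCompletion.map_val_apply]
  obtain ⟨b, hb⟩ := Submodule.Quotient.mk_surjective _ (z.val n)
  rw [← hb, LinearMap.reduceModIdeal_apply, LinearMap.reduceModIdeal_apply,
    LinearMap.smul_apply, Submodule.Quotient.mk_smul]

lemma cmap_comp_apply {W : Type u} [AddCommGroup W] [Module A W] (f : X →ₗ[A] Y) (g : Y →ₗ[A] W)
    (z : AdicCompletion I X) :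
    AdicCompletion.map I g (AdicCompletion.map I f z) = AdicCompletion.map I (g ∘ₗ f) z := by
  rw [← LinearMap.comp_apply, AdicCompletion.map_comp]

lemma cmap_smul_A (a : A) (f : X →ₗ[A] Y) (z : AdicCompletion I X) :
    AdicCompletion.map I f (a • z) = a • AdicCompletion.map I f z := by
  apply AdicCompletion.ext
  intro n
  rw [AdicCompletion.val_smul_apply, AdicCompletion.map_val_apply, AdicCompletion.map_val_apply,
    AdicCompletion.val_smul_apply]
  obtain ⟨b, hb⟩ := Submodule.Quotient.mk_surjective _ (z.val n)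
  rw [← hb, ← Submodule.Quotient.mk_smul, LinearMap.reduceModIdeal_apply,
    LinearMap.reduceModIdeal_apply, map_smul, Submodule.Quotient.mk_smul]

variable (X) in
/-- the comparison map `X ⊗ N^ → (X ⊗ N)^` -/
noncomputable def tau : X ⊗[A] AdicCompletion I N →ₗ[A] AdicCompletion I (X ⊗[A] N) :=
  TensorProduct.lift
    { toFun := fun x =>
        { toFun := fun z => AdicCompletion.map I (TensorProduct.mk A X N x) z
          map_add' := fun z w => map_add _ z w
          map_smul' := fun a z => cmap_smul_A I a _ z }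
      map_add' := fun x y => by
        apply LinearMap.ext
        intro z
        show AdicCompletion.map I (TensorProduct.mk A X N (x + y)) z = _
        rw [map_add, cmap_add_apply]
        rfl
      map_smul' := fun a x => by
        apply LinearMap.ext
        intro z
        show AdicCompletion.map I (TensorProduct.mk A X N (a • x)) z = _
        rw [map_smul, cmap_smul_apply]
        rfl }

@[simp] lemma tau_tmul (x : X) (z : AdicCompletion I N) :
    tau I N X (x ⊗ₜ[A] z) = AdicCompletion.map I (TensorProduct.mk A X N x) z := rfl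

lemma tau_tmul_of (x : X) (n : N) :
    tau I N X (x ⊗ₜ[A] AdicCompletion.of I N n) = AdicCompletion.of I (X ⊗[A] N) (x ⊗ₜ[A] n) := by
  rw [tau_tmul, AdicCompletion.map_of]
  rfl

/-- `tau ∘ (X ⊗ of) = of`. -/
lemma tau_lTensor_of (w : X ⊗[A] N) :
    tau I N X (LinearMap.lTensor X (AdicCompletion.of I N) w) = AdicCompletion.of I (X ⊗[A] N) w := by
  induction w using TensorProduct.induction_on with
  | zero => rw [map_zero, map_zero, map_zero]
  | tmul x n => rw [LinearMap.lTensor_tmul, tau_tmul_of]
  | add w₁ w₂ h₁ h₂ => rw [map_add, map_add, map_add, h₁, h₂]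

/-- naturality of `tau` -/
lemma tau_nat (g : X →ₗ[A] Y) (w : X ⊗[A] AdicCompletion I N) :
    AdicCompletion.map I (g.rTensor N) (tau I N X w) =
      tau I N Y (g.rTensor (AdicCompletion I N) w) := by
  induction w using TensorProduct.induction_on with
  | zero => rw [map_zero, map_zero, map_zero, map_zero]
  | tmul x z =>
    rw [LinearMap.rTensor_tmul, tau_tmul, tau_tmul, cmap_comp_apply]
    rfl
  | add w₁ w₂ h₁ h₂ => rw [map_add, map_add, map_add, map_add, h₁, h₂]

end Tau

section Exact

variable [IsNoetherianRing A] [Module.Flat A N]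
variable {X' X X'' : Type u} [AddCommGroup X'] [Module A X'] [AddCommGroup X] [Module A X]
  [AddCommGroup X''] [Module A X''] [Module.Finite A X]

/-- `X ↦ (X ⊗ N)^` is exact on finite modules. -/
theorem compl_exact (f : X' →ₗ[A] X) (g : X →ₗ[A] X'') (hf : Function.Injective f)
    (hg : Function.Surjective g) (hfg : Function.Exact f g) :
    Function.Injective (AdicCompletion.map I (f.rTensor N)) ∧
      Function.Exact (AdicCompletion.map I (f.rTensor N)) (AdicCompletion.map I (g.rTensor N)) ∧
      Function.Surjective (AdicCompletion.map I (g.rTensor N)) := by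
  obtain ⟨c, hc⟩ := exists_shift I N f hf
  exact Groth.Agent.H48.adicCompletion_shortExact_of_shift I c (f.rTensor N) (g.rTensor N)
    (LinearMap.rTensor_surjective N hg) (rTensor_exact N hfg hg) hc

end Exact

section Bij

variable {X Y : Type u} [AddCommGroup X] [Module A X] [AddCommGroup Y] [Module A Y]

lemma rT_comp_apply {W Z : Type u} [AddCommGroup W] [Module A W] [AddCommGroup Z] [Module A Z]
    (f : X →ₗ[A] Y) (g : Y →ₗ[A] W) (v : X ⊗[A] Z) :
    g.rTensor Z (f.rTensor Z v) = (g ∘ₗ f).rTensor Z v := by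
  rw [LinearMap.rTensor_comp, LinearMap.comp_apply]

lemma rT_equiv_apply {Z : Type u} [AddCommGroup Z] [Module A Z] (e : X ≃ₗ[A] Y) (v : Y ⊗[A] Z) :
    e.toLinearMap.rTensor Z (e.symm.toLinearMap.rTensor Z v) = v := by
  rw [rT_comp_apply, LinearEquiv.comp_symm, LinearMap.rTensor_id, LinearMap.id_apply]

lemma cm_equiv_apply (e : X ≃ₗ[A] Y) (y : AdicCompletion I (Y ⊗[A] N)) :
    AdicCompletion.map I (e.toLinearMap.rTensor N)
      (AdicCompletion.map I (e.symm.toLinearMap.rTensor N) y) = y := by
  rw [cmap_comp_apply, ← LinearMap.rTensor_comp, LinearEquiv.comp_symm, LinearMap.rTensor_id,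
    AdicCompletion.map_id, LinearMap.id_apply]

lemma rT_equiv_apply' {Z : Type u} [AddCommGroup Z] [Module A Z] (e : X ≃ₗ[A] Y) (v : X ⊗[A] Z) :
    e.symm.toLinearMap.rTensor Z (e.toLinearMap.rTensor Z v) = v := by
  rw [rT_comp_apply, LinearEquiv.symm_comp, LinearMap.rTensor_id, LinearMap.id_apply]

lemma cm_equiv_apply' (e : X ≃ₗ[A] Y) (y : AdicCompletion I (X ⊗[A] N)) :
    AdicCompletion.map I (e.symm.toLinearMap.rTensor N)
      (AdicCompletion.map I (e.toLinearMap.rTensor N) y) = y := by
  rw [cmap_comp_apply, ← LinearMap.rTensor_comp, LinearEquiv.symm_comp, LinearMap.rTensor_id,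
    AdicCompletion.map_id, LinearMap.id_apply]

lemma tau_bijective_of_equiv (e : X ≃ₗ[A] Y) (h : Function.Bijective (tau I N X)) :
    Function.Bijective (tau I N Y) := by
  have key : ∀ v, tau I N Y v = AdicCompletion.map I (e.toLinearMap.rTensor N)
      (tau I N X (e.symm.toLinearMap.rTensor _ v)) := by
    intro v
    rw [tau_nat, rT_equiv_apply]
  constructor
  · intro v₁ v₂ h12
    rw [key, key] at h12
    have h3 := congrArg (AdicCompletion.map I (e.symm.toLinearMap.rTensor N)) h12
    rw [cm_equiv_apply', cm_equiv_apply'] at h3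
    have h4 := h.1 h3
    have h5 := congrArg (e.toLinearMap.rTensor (AdicCompletion I N)) h4
    rwa [rT_equiv_apply, rT_equiv_apply] at h5
  · intro y
    obtain ⟨w, hw⟩ := h.2 (AdicCompletion.map I (e.symm.toLinearMap.rTensor N) y)
    refine ⟨e.toLinearMap.rTensor _ w, ?_⟩
    rw [← tau_nat, hw, cm_equiv_apply]

lemma tau_surjective_of_surjective (p : Y →ₗ[A] X) (hp : Function.Surjective p)
    (h : Function.Surjective (tau I N Y)) : Function.Surjective (tau I N X) := by
  intro y
  obtain ⟨y', rfl⟩ := AdicCompletion.map_surjective I (LinearMap.rTensor_surjective N hp) y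
  obtain ⟨w, rfl⟩ := h y'
  exact ⟨p.rTensor _ w, (tau_nat I N p w).symm⟩

lemma tau_bijective_prod (hX : Function.Bijective (tau I N X))
    (hY : Function.Bijective (tau I N Y)) : Function.Bijective (tau I N (X × Y)) := by
  have hid : LinearMap.inl A X Y ∘ₗ LinearMap.fst A X Y + LinearMap.inr A X Y ∘ₗ LinearMap.snd A X Y
      = LinearMap.id := by
    apply LinearMap.ext
    rintro ⟨x, y⟩
    simp
  constructor
  · rw [injective_iff_map_eq_zero]
    intro z hz
    have h1 : (LinearMap.fst A X Y).rTensor _ z = 0 := by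
      apply hX.1
      rw [← tau_nat, hz, map_zero, map_zero]
    have h2 : (LinearMap.snd A X Y).rTensor _ z = 0 := by
      apply hY.1
      rw [← tau_nat, hz, map_zero, map_zero]
    have h3 : z = (LinearMap.inl A X Y).rTensor _ ((LinearMap.fst A X Y).rTensor _ z) +
        (LinearMap.inr A X Y).rTensor _ ((LinearMap.snd A X Y).rTensor _ z) := by
      rw [rT_comp_apply, rT_comp_apply, ← LinearMap.add_apply, ← LinearMap.rTensor_add, hid,
        LinearMap.rTensor_id, LinearMap.id_apply]
    rw [h3, h1, h2, map_zero, map_zero, add_zero]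
  · intro y
    have h3 : y = AdicCompletion.map I ((LinearMap.inl A X Y).rTensor N)
          (AdicCompletion.map I ((LinearMap.fst A X Y).rTensor N) y) +
        AdicCompletion.map I ((LinearMap.inr A X Y).rTensor N)
          (AdicCompletion.map I ((LinearMap.snd A X Y).rTensor N) y) := by
      rw [cmap_comp_apply, cmap_comp_apply, ← cmap_add_apply, ← LinearMap.rTensor_comp,
        ← LinearMap.rTensor_comp, ← LinearMap.rTensor_add, hid, LinearMap.rTensor_id,
        AdicCompletion.map_id, LinearMap.id_apply]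
    obtain ⟨a, ha⟩ := hX.2 (AdicCompletion.map I ((LinearMap.fst A X Y).rTensor N) y)
    obtain ⟨b, hb⟩ := hY.2 (AdicCompletion.map I ((LinearMap.snd A X Y).rTensor N) y)
    refine ⟨(LinearMap.inl A X Y).rTensor _ a + (LinearMap.inr A X Y).rTensor _ b, ?_⟩
    rw [map_add, ← tau_nat, ← tau_nat, ha, hb, ← h3]

lemma tau_self_eq (w : A ⊗[A] AdicCompletion I N) :
    tau I N A w = AdicCompletion.map I (TensorProduct.lid A N).symm.toLinearMap
      (TensorProduct.lid A (AdicCompletion I N) w) := by
  induction w using TensorProduct.induction_on with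
  | zero => rw [map_zero, map_zero, map_zero]
  | tmul a z =>
    rw [tau_tmul, TensorProduct.lid_tmul, cmap_smul_A, ← cmap_smul_apply]
    congr 2
    apply LinearMap.ext
    intro n
    show a ⊗ₜ[A] n = a • ((TensorProduct.lid A N).symm n)
    rw [TensorProduct.lid_symm_apply, TensorProduct.smul_tmul', smul_eq_mul, mul_one]
  | add w₁ w₂ h₁ h₂ => rw [map_add, map_add, map_add, h₁, h₂]

lemma tau_bijective_self : Function.Bijective (tau I N A) := by
  have h1 : (tau I N A : A ⊗[A] AdicCompletion I N → AdicCompletion I (A ⊗[A] N)) =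
      (AdicCompletion.congr I (TensorProduct.lid A N).symm) ∘
        (TensorProduct.lid A (AdicCompletion I N)) := by
    funext w
    rw [tau_self_eq]
    rfl
  rw [h1]
  exact (AdicCompletion.congr I (TensorProduct.lid A N).symm).bijective.comp
    (TensorProduct.lid A (AdicCompletion I N)).bijective

lemma tau_bijective_of_subsingleton [Subsingleton X] : Function.Bijective (tau I N X) := by
  have h1 : ∀ w : X ⊗[A] AdicCompletion I N, w = 0 := by
    intro w
    induction w using TensorProduct.induction_on with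
    | zero => rfl
    | tmul x z => rw [Subsingleton.elim x 0, TensorProduct.zero_tmul]
    | add w₁ w₂ h₁ h₂ => rw [h₁, h₂, add_zero]
  have h2 : ∀ w : X ⊗[A] N, w = 0 := by
    intro w
    induction w using TensorProduct.induction_on with
    | zero => rfl
    | tmul x z => rw [Subsingleton.elim x 0, TensorProduct.zero_tmul]
    | add w₁ w₂ h₁ h₂ => rw [h₁, h₂, add_zero]
  have h3 : ∀ y : AdicCompletion I (X ⊗[A] N), y = 0 := by
    intro y
    apply AdicCompletion.ext
    intro n
    obtain ⟨a, ha⟩ := Submodule.Quotient.mk_surjective _ (y.val n)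
    rw [← ha, h2 a, AdicCompletion.val_zero_apply]
    rfl
  exact ⟨fun a b _ => (h1 a).trans (h1 b).symm, fun y => ⟨0, (h3 _).trans (h3 y).symm⟩⟩

lemma tau_bijective_fin (n : ℕ) : Function.Bijective (tau I N (Fin n → A)) := by
  induction n with
  | zero => exact tau_bijective_of_subsingleton I N
  | succ n ih =>
    exact tau_bijective_of_equiv I N (Fin.consLinearEquiv A (fun _ : Fin (n + 1) => A))
      (tau_bijective_prod I N (tau_bijective_self I N) ih)

/-- `X ⊗ N^ ≅ (X ⊗ N)^` for finite `X` over Noetherian `A`, `N` flat. -/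
theorem tau_bijective [IsNoetherianRing A] [Module.Flat A N] [Module.Finite A X] :
    Function.Bijective (tau I N X) := by
  obtain ⟨n, p, hp⟩ := Module.Finite.exists_fin' A X
  obtain ⟨m, q, hq⟩ := Module.Finite.exists_fin' A (LinearMap.ker p)
  have hK : Function.Surjective (tau I N (LinearMap.ker p)) :=
    tau_surjective_of_surjective I N q hq (tau_bijective_fin I N m).2
  obtain ⟨-, hex, -⟩ := compl_exact I N (LinearMap.ker p).subtype p
    (Submodule.injective_subtype _) hp (LinearMap.exact_subtype_ker_map p)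
  refine ⟨?_, tau_surjective_of_surjective I N p hp (tau_bijective_fin I N n).2⟩
  rw [injective_iff_map_eq_zero]
  intro z hz
  obtain ⟨w, rfl⟩ := LinearMap.rTensor_surjective (AdicCompletion I N) hp z
  rw [← tau_nat] at hz
  obtain ⟨v, hv⟩ := (hex _).1 hz
  obtain ⟨u, rfl⟩ := hK v
  rw [tau_nat] at hv
  have hw := (tau_bijective_fin I N n).1 hv
  rw [← hw, rT_comp_apply, LinearMap.comp_ker_subtype, LinearMap.rTensor_zero,
    LinearMap.zero_apply]

end Bij

section Flat

variable [IsNoetherianRing A] [Module.Flat A N]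

/-- The completion of a flat module over a Noetherian ring is flat. -/
theorem flat_adicCompletion : Module.Flat A (AdicCompletion I N) := by
  rw [Module.Flat.iff_rTensor_injective']
  intro J
  obtain ⟨hinj, -, -⟩ := compl_exact I N (Submodule.subtype J) (Submodule.mkQ J)
    (Submodule.injective_subtype _) (Submodule.mkQ_surjective _) (LinearMap.exact_subtype_mkQ J)
  rw [injective_iff_map_eq_zero]
  intro z hz
  have h1 : tau I N J z = 0 := by
    apply hinj
    rw [tau_nat, hz, map_zero, map_zero]
  exact (injective_iff_map_eq_zero _).1 (tau_bijective I N (X := J)).1 z h1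

end Flat

section ModI

variable {I N}

lemma tmul_eq_zero_of_mem {Z W : Type u} [AddCommGroup Z] [Module A Z] [AddCommGroup W]
    [Module A W] (hZ : ∀ a ∈ I, ∀ z : Z, a • z = 0) (z : Z) {w : W}
    (hw : w ∈ (I • ⊤ : Submodule A W)) : z ⊗ₜ[A] w = 0 := by
  refine Submodule.smul_induction_on hw ?_ ?_
  · intro a ha w' _
    rw [TensorProduct.tmul_smul, TensorProduct.smul_tmul', hZ a ha z, TensorProduct.zero_tmul]
  · intro w₁ w₂ h₁ h₂
    rw [TensorProduct.tmul_add, h₁, h₂, add_zero]

/-- `Z ⊗ N → Z ⊗ N^` is bijective when `I Z = 0` and `I` is finitely generated. -/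
theorem lTensor_of_bijective (hI : I.FG) (Z : Type u) [AddCommGroup Z] [Module A Z]
    (hZ : ∀ a ∈ I, ∀ z : Z, a • z = 0) :
    Function.Bijective (LinearMap.lTensor Z (AdicCompletion.of I N)) := by
  have hker : (I • ⊤ : Submodule A (AdicCompletion I N)) =
      LinearMap.ker (AdicCompletion.eval I N 1) := by
    have := AdicCompletion.pow_smul_top_eq_ker_eval (I := I) (M := N) (n := 1) hI
    have h' : (I • ⊤ : Submodule A (AdicCompletion I N)) = I ^ 1 • ⊤ := by rw [pow_one]
    exact h'.trans this
  constructor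
  · rw [injective_iff_map_eq_zero]
    intro w hw
    set S : Submodule A N := (I ^ 1 • ⊤ : Submodule A N) with hS
    have h1 : LinearMap.lTensor Z S.mkQ w = 0 := by
      have h2 : LinearMap.lTensor Z S.mkQ w = LinearMap.lTensor Z (AdicCompletion.eval I N 1)
          (LinearMap.lTensor Z (AdicCompletion.of I N) w) := by
        rw [← LinearMap.comp_apply, ← LinearMap.lTensor_comp]
        congr 2
      rw [h2, hw, map_zero]
    have hex : Function.Exact (LinearMap.lTensor Z S.subtype) (LinearMap.lTensor Z S.mkQ) :=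
      lTensor_exact Z (LinearMap.exact_subtype_mkQ S) (Submodule.mkQ_surjective S)
    obtain ⟨v, rfl⟩ := (hex w).1 h1
    have hall : ∀ v : Z ⊗[A] S, LinearMap.lTensor Z S.subtype v = 0 := by
      intro v
      induction v using TensorProduct.induction_on with
      | zero => rw [map_zero]
      | tmul z s =>
        rw [LinearMap.lTensor_tmul]
        refine tmul_eq_zero_of_mem hZ z ?_
        have hle : S ≤ (I • ⊤ : Submodule A N) := le_of_eq (hS.trans (by rw [pow_one]))
        exact hle s.2
      | add v₁ v₂ h₁ h₂ => rw [map_add, h₁, h₂, add_zero]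
    exact hall v
  · intro v
    induction v using TensorProduct.induction_on with
    | zero => exact ⟨0, map_zero _⟩
    | tmul z y =>
      obtain ⟨n, hn⟩ := Submodule.mkQ_surjective _ (AdicCompletion.eval I N 1 y)
      have hmem : y - AdicCompletion.of I N n ∈ (I • ⊤ : Submodule A (AdicCompletion I N)) := by
        rw [hker, LinearMap.mem_ker, map_sub, AdicCompletion.eval_of, hn, sub_self]
      refine ⟨z ⊗ₜ[A] n, ?_⟩
      rw [LinearMap.lTensor_tmul]
      have h0 := tmul_eq_zero_of_mem hZ z hmem
      rw [TensorProduct.tmul_sub, sub_eq_zero] at h0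
      exact h0.symm
    | add v₁ v₂ h₁ h₂ =>
      obtain ⟨a, ha⟩ := h₁
      obtain ⟨b, hb⟩ := h₂
      exact ⟨a + b, by rw [map_add, ha, hb]⟩

end ModI

end Groth.Agent.H46.ComplTensor
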