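import Mathlib
import Groth.Agent.H46.ComplTensor

/-!
# `A/I ⊗ (X ⊗ N) → A/I ⊗ (X ⊗ N^)` is an isomorphism (categorical form) (helper46)
-/

set_option autoImplicit false
universe u
open CategoryTheory MonoidalCategory TensorProduct

namespace Groth.Agent.H46.ComplTensorCat

variable {A : Type u} [CommRing A] (I : Ideal A) (N : Type u) [AddCommGroup N] [Module A N]

/-- the morphism `N → N^` in `ModuleCat A` -/
noncomputable abbrev cN : ModuleCat.of A N ⟶ ModuleCat.of A (AdicCompletion I N) :=
  ModuleCat.ofHom (AdicCompletion.of I N)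

theorem isIso_ext_whisker (hI : I.FG) (X : ModuleCat.{u} A) :
    IsIso ((ModuleCat.extendScalars.{u, u, u} (Ideal.Quotient.mk I)).map (X ◁ cN I N)) := by
  rw [ConcreteCategory.isIso_iff_bijective]
  let S' : ModuleCat.{u} A :=
    (ModuleCat.restrictScalars (Ideal.Quotient.mk I)).obj (ModuleCat.of (A ⧸ I) (A ⧸ I))
  let c : N →ₗ[A] AdicCompletion I N := AdicCompletion.of I N
  have hfun : ∀ w : S' ⊗[A] (X ⊗[A] N),
      ((ModuleCat.extendScalars.{u, u, u} (Ideal.Quotient.mk I)).map (X ◁ cN I N)) w =
        LinearMap.lTensor S' (LinearMap.lTensor X c) w := by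
    intro w
    induction w using TensorProduct.induction_on with
    | zero =>
      rw [map_zero]
      exact map_zero ((ModuleCat.extendScalars.{u, u, u} (Ideal.Quotient.mk I)).map (X ◁ cN I N)).hom
    | tmul s m => rfl
    | add w₁ w₂ h₁ h₂ =>
      rw [map_add, ← h₁, ← h₂]
      exact map_add ((ModuleCat.extendScalars.{u, u, u} (Ideal.Quotient.mk I)).map (X ◁ cN I N)).hom
        w₁ w₂
  have hZ : ∀ a ∈ I, ∀ z : S' ⊗[A] X, a • z = 0 := by
    intro a ha z
    induction z using TensorProduct.induction_on with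
    | zero => rw [smul_zero]
    | tmul s x =>
      rw [TensorProduct.smul_tmul']
      have : (a • s : S') = 0 := by
        have hs : (a • s : S') = ((Ideal.Quotient.mk I a) • (show A ⧸ I from s) : A ⧸ I) := rfl
        rw [hs, Ideal.Quotient.eq_zero_iff_mem.2 ha, zero_smul]
        rfl
      rw [this, TensorProduct.zero_tmul]
    | add z₁ z₂ h₁ h₂ => rw [smul_add, h₁, h₂, add_zero]
  have hb := Groth.Agent.H46.ComplTensor.lTensor_of_bijective (I := I) (N := N) hI (S' ⊗[A] X) hZ
  have heq : LinearMap.lTensor S' (LinearMap.lTensor X c) =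
      (TensorProduct.assoc A S' X (AdicCompletion I N)).toLinearMap ∘ₗ
        LinearMap.lTensor (S' ⊗[A] X) c ∘ₗ (TensorProduct.assoc A S' X N).symm.toLinearMap := by
    rw [LinearMap.lTensor_tensor]
    apply LinearMap.ext
    intro w
    simp
  have hbij : Function.Bijective (LinearMap.lTensor S' (LinearMap.lTensor X c)) := by
    rw [heq]
    exact (TensorProduct.assoc A S' X (AdicCompletion I N)).bijective.comp
      (hb.comp (TensorProduct.assoc A S' X N).symm.bijective)
  refine ⟨fun w₁ w₂ h => hbij.1 ((hfun w₁).symm.trans (h.trans (hfun w₂))), fun y => ?_⟩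
  obtain ⟨w, hw⟩ := hbij.2 y
  exact ⟨w, (hfun w).trans hw⟩

end Groth.Agent.H46.ComplTensorCat
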