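import Groth.Agent.S0580
import Groth.Agent.H79.CIPres
import Groth.Agent.S0564
import Groth.Agent.S11185
import Groth.Agent.S1772
import Groth.Agent.H5.KInj.DerivedAdj

/-!
# A complete Noetherian local ring has a dualizing complex (helper46)

Also: existence of a right adjoint of restriction of scalars `D(B) ⥤ D(A)` for any ring map.
-/

set_option autoImplicit false
set_option linter.style.haveILetI false
universe u
open CategoryTheory CategoryTheory.Limits DerivedCategory

namespace Groth.Agent.H46.CompleteDual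

attribute [local instance] HasDerivedCategory.standard

/-- restriction of scalars on derived categories has a right adjoint -/
theorem exists_rightAdjoint_restrictD {A B : Type u} [CommRing A] [CommRing B] (φ : A →+* B) :
    ∃ R : Dual.D A ⥤ Dual.D B, Nonempty (DRing.restrictD φ ⊣ R) := by
  let Gc : ModuleCat.{u} A ⥤ ModuleCat.{u} B := ModuleCat.coextendScalars.{u, u, u} φ
  let adjM : ModuleCat.restrictScalars.{u} φ ⊣ Gc := ModuleCat.restrictCoextendScalarsAdj.{u, u, u} φ
  haveI : Gc.Additive := adjM.right_adjoint_additive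
  let X : CochainComplex (ModuleCat.{u} A) ℤ ⥤ Dual.D B :=
    Gc.mapHomologicalComplex (ComplexShape.up ℤ) ⋙ Q
  have hX := H5.KInjDer.inverts_map_Q (A := ModuleCat.{u} B) Gc
  haveI := (H5.KInjDer.derives X hX).hasPointwiseRightDerivedFunctor
  let RG := X.totalRightDerived Q (H5.KInjDer.Wq (ModuleCat.{u} A))
  let α : X ⟶ Q ⋙ RG := X.totalRightDerivedUnit Q (H5.KInjDer.Wq (ModuleCat.{u} A))
  obtain ⟨adjD, -⟩ := H5.KInjDer.exists_derivedAdj adjM RG α
  exact ⟨RG, ⟨adjD⟩⟩

/-- a complete Noetherian local ring has a dualizing complex -/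
theorem main (A : Type u) [CommRing A] [IsLocalRing A] [IsNoetherianRing A]
    [IsAdicComplete (IsLocalRing.maximalIdeal A) A] : ∃ ω : Dual.D A, Dual.IsDualizing A ω := by
  obtain ⟨Λ, hΛ, n, f, hΛ', hf⟩ := Groth.Agent.S0580.result A
    (IsLocalRing.maximalIdeal A).fg_of_isNoetherianRing
  haveI hP : IsRegularLocalRing (MvPowerSeries (Fin n) Λ) :=
    Groth.Agent.H79.CIPres.isRegularLocalRing_of_field_or_cohen Λ hΛ' n
  have hreg : ∀ p : PrimeSpectrum (MvPowerSeries (Fin n) Λ),
      IsRegularLocalRing (Localization.AtPrime p.asIdeal) := fun p =>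
    Groth.Agent.S0564.result (MvPowerSeries (Fin n) Λ) p.asIdeal
  have hdim : ringKrullDim (MvPowerSeries (Fin n) Λ) < ⊤ := by
    rw [← IsRegularLocalRing.spanFinrank_maximalIdeal]
    have h : (((IsLocalRing.maximalIdeal (MvPowerSeries (Fin n) Λ)).spanFinrank : ℕ∞) :
        WithBot ℕ∞) < ((⊤ : ℕ∞) : WithBot ℕ∞) :=
      WithBot.coe_lt_coe.2 (ENat.natCast_lt_top _)
    exact h
  have hdual := Groth.Agent.S11185.result (MvPowerSeries (Fin n) Λ) hreg hdim
  letI : Algebra (MvPowerSeries (Fin n) Λ) A := f.toAlgebra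
  haveI : Module.Finite (MvPowerSeries (Fin n) Λ) A :=
    Module.Finite.of_surjective (Algebra.linearMap (MvPowerSeries (Fin n) Λ) A) hf
  obtain ⟨R, ⟨adj⟩⟩ := exists_rightAdjoint_restrictD (algebraMap (MvPowerSeries (Fin n) Λ) A)
  exact ⟨_, Groth.Agent.S1772.result (MvPowerSeries (Fin n) Λ) A R adj _ hdual⟩

end Groth.Agent.H46.CompleteDual
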