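import Mathlib
import Groth.Prelude.Def_CycDet

set_option autoImplicit false
set_option linter.style.haveILetI false
set_option linter.unusedSectionVars false

universe u v

namespace Groth.Agent.H46.CD

open CycDet IsLocalRing

variable {R : Type u} [CommRing R] [IsLocalRing R] {M : Type v} [AddCommGroup M] [Module R M]

/-- The class of an admissible tuple in `DetOfLen`. -/
noncomputable def cls {l : ℕ} (e : Adm R M l) : DetOfLen R M l :=
  Submodule.Quotient.mk (sym R M e)

theorem cls_eq_zero {l : ℕ} (e : Adm R M l) (a : Fin l) (h : e.1 a ∈ spanBefore R M e.1 a) :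
    cls e = 0 := by
  unfold cls
  rw [Submodule.Quotient.mk_eq_zero]
  apply Submodule.subset_span
  exact Or.inl (Or.inl ⟨e, a, h, rfl⟩)

theorem cls_eq_smul {l : ℕ} (e e' : Adm R M l) (a : Fin l) (c : Rˣ)
    (h1 : ∀ j, j ≠ a → e.1 j = e'.1 j)
    (h2 : e.1 a - (c : R) • e'.1 a ∈ spanBefore R M e.1 a) :
    cls e = IsLocalRing.residue R (c : R) • cls e' := by
  unfold cls
  rw [← Submodule.Quotient.mk_smul, ← sub_eq_zero, ← Submodule.Quotient.mk_sub,
    Submodule.Quotient.mk_eq_zero]
  apply Submodule.subset_span
  exact Or.inl (Or.inr ⟨e, e', a, c, h1, h2, rfl⟩)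

theorem cls_eq_neg {l : ℕ} (e e' : Adm R M l) (a b : Fin l) (hab : (b : ℕ) + 1 = (a : ℕ))
    (h1 : ∀ r ∈ maximalIdeal R, r • e.1 a ∈ spanBefore R M e.1 b)
    (h2 : e'.1 = e.1 ∘ Equiv.swap a b) :
    cls e = - cls e' := by
  unfold cls
  rw [eq_neg_iff_add_eq_zero, ← Submodule.Quotient.mk_add, Submodule.Quotient.mk_eq_zero]
  apply Submodule.subset_span
  exact Or.inr ⟨e, e', a, b, hab, h1, h2, rfl⟩

/-! ### `spanBefore` lemmas -/

theorem spanBefore_mono {l : ℕ} (e : Fin l → M) {i i' : ℕ} (h : i ≤ i') :
    spanBefore R M e i ≤ spanBefore R M e i' := by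
  unfold spanBefore
  apply Submodule.span_mono
  apply Set.image_mono
  intro j hj
  exact lt_of_lt_of_le hj h

theorem mem_spanBefore {l : ℕ} (e : Fin l → M) {i : ℕ} (j : Fin l) (h : (j : ℕ) < i) :
    e j ∈ spanBefore R M e i :=
  Submodule.subset_span ⟨j, h, rfl⟩

theorem spanBefore_le {l : ℕ} (e : Fin l → M) {i : ℕ} {N : Submodule R M}
    (h : ∀ j : Fin l, (j : ℕ) < i → e j ∈ N) : spanBefore R M e i ≤ N := by
  unfold spanBefore
  rw [Submodule.span_le]
  rintro _ ⟨j, hj, rfl⟩
  exact h j hj

theorem spanBefore_congr {l : ℕ} {e e' : Fin l → M} {i : ℕ}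
    (h : ∀ j : Fin l, (j : ℕ) < i → e j = e' j) :
    spanBefore R M e i = spanBefore R M e' i := by
  apply le_antisymm
  · apply spanBefore_le
    intro j hj
    rw [h j hj]
    exact mem_spanBefore e' j hj
  · apply spanBefore_le
    intro j hj
    rw [← h j hj]
    exact mem_spanBefore e j hj

theorem spanBefore_succ {l : ℕ} (e : Fin l → M) (k : Fin l) :
    spanBefore R M e ((k : ℕ) + 1) = spanBefore R M e k ⊔ Submodule.span R {e k} := by
  apply le_antisymm
  · apply spanBefore_le
    intro j hj
    rcases Nat.lt_succ_iff_lt_or_eq.mp hj with h | h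
    · exact Submodule.mem_sup_left (mem_spanBefore e j h)
    · have : j = k := Fin.ext h
      rw [this]
      exact Submodule.mem_sup_right (Submodule.mem_span_singleton_self _)
  · apply sup_le
    · exact spanBefore_mono e (Nat.le_succ _)
    · rw [Submodule.span_le]
      rintro _ rfl
      exact mem_spanBefore e k (Nat.lt_succ_self _)

theorem spanBefore_eq_range {l : ℕ} (e : Fin l → M) :
    spanBefore R M e l = Submodule.span R (Set.range e) := by
  unfold spanBefore
  congr 1
  ext x
  constructor
  · rintro ⟨j, -, rfl⟩; exact ⟨j, rfl⟩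
  · rintro ⟨j, rfl⟩; exact ⟨j, j.2, rfl⟩

/-- Exchange: replacing entry `k` by `x = c • f k + y` does not change any `spanBefore`. -/
theorem spanBefore_update {l : ℕ} (f : Fin l → M) (k : Fin l) (x y : M) (c : Rˣ)
    (hy : y ∈ spanBefore R M f k) (hx : x = (c : R) • f k + y) (i : ℕ) :
    spanBefore R M (Function.update f k x) i = spanBefore R M f i := by
  have hk' : spanBefore R M (Function.update f k x) k = spanBefore R M f k := by
    apply spanBefore_congr
    intro j hj
    have : j ≠ k := fun h => by rw [h] at hj; omega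
    exact Function.update_of_ne this _ _
  by_cases hik : i ≤ k
  · apply spanBefore_congr
    intro j hj
    have : j ≠ k := fun h => by rw [h] at hj; omega
    exact Function.update_of_ne this _ _
  · rw [not_le] at hik
    apply le_antisymm
    · apply spanBefore_le
      intro j hj
      by_cases hjk : j = k
      · rw [hjk, Function.update_self, hx]
        exact Submodule.add_mem _ (Submodule.smul_mem _ _ (mem_spanBefore f k hik))
          (spanBefore_mono f hik.le hy)
      · rw [Function.update_of_ne hjk]; exact mem_spanBefore f j hj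
    · apply spanBefore_le
      intro j hj
      by_cases hjk : j = k
      · have hfk : f k = ((c⁻¹ : Rˣ) : R) • (x - y) := by
          rw [hx, add_sub_cancel_right, smul_smul, Units.inv_mul, one_smul]
        rw [hjk, hfk]
        apply Submodule.smul_mem
        apply Submodule.sub_mem
        · have := mem_spanBefore (R := R) (Function.update f k x) k hik
          rwa [Function.update_self] at this
        · rw [← hk'] at hy
          exact spanBefore_mono _ hik.le hy
      · have := mem_spanBefore (R := R) (Function.update f k x) j hj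
        rwa [Function.update_of_ne hjk] at this

theorem spanBefore_swap_of_le {l : ℕ} (g : Fin l → M) (a b : Fin l) (hab : (b : ℕ) + 1 = a)
    {i : ℕ} (hi : i ≤ b) :
    spanBefore R M (g ∘ Equiv.swap a b) i = spanBefore R M g i := by
  apply spanBefore_congr
  intro j hj
  have h1 : j ≠ a := fun h => by rw [h] at hj; omega
  have h2 : j ≠ b := fun h => by rw [h] at hj; omega
  simp [Function.comp, Equiv.swap_apply_of_ne_of_ne h1 h2]

theorem spanBefore_swap_of_gt {l : ℕ} (g : Fin l → M) (a b : Fin l) (hab : (b : ℕ) + 1 = a)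
    {i : ℕ} (hi : (a : ℕ) < i) :
    spanBefore R M (g ∘ Equiv.swap a b) i = spanBefore R M g i := by
  have key : ∀ j : Fin l, (j : ℕ) < i → ((Equiv.swap a b j : Fin l) : ℕ) < i := by
    intro j hj
    by_cases h1 : j = a
    · rw [h1, Equiv.swap_apply_left]; omega
    by_cases h2 : j = b
    · rw [h2, Equiv.swap_apply_right]; omega
    rw [Equiv.swap_apply_of_ne_of_ne h1 h2]; exact hj
  apply le_antisymm
  · apply spanBefore_le
    intro j hj
    exact mem_spanBefore g _ (key j hj)
  · apply spanBefore_le
    intro j hj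
    have := mem_spanBefore (R := R) (g ∘ Equiv.swap a b) (Equiv.swap a b j) (key j hj)
    simpa using this

theorem spanBefore_swap_at {l : ℕ} (g : Fin l → M) (a b : Fin l) (hab : (b : ℕ) + 1 = a) :
    spanBefore R M (g ∘ Equiv.swap a b) a = spanBefore R M g b ⊔ Submodule.span R {g a} := by
  rw [← hab, spanBefore_succ, spanBefore_swap_of_le g a b hab le_rfl]
  simp [Equiv.swap_apply_right]

/-- A tuple is good when no entry lies in the span of the earlier ones. -/
def Good {l : ℕ} (e : Fin l → M) : Prop := ∀ i : Fin l, e i ∉ spanBefore R M e i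

theorem exchange_step {l : ℕ} (f : Adm R M l) (hgood : Good (R := R) f.1) (k : Fin l) (x : M)
    (hxm : ∀ r ∈ maximalIdeal R, r • x ∈ spanBefore R M f.1 k)
    (hx1 : x ∈ spanBefore R M f.1 ((k : ℕ) + 1)) (hx2 : x ∉ spanBefore R M f.1 k) :
    ∃ (f' : Adm R M l) (c : ResidueField R), f'.1 = Function.update f.1 k x ∧
      Good (R := R) f'.1 ∧ (∀ i, spanBefore R M f'.1 i = spanBefore R M f.1 i) ∧
      cls f' = c • cls f ∧ c ≠ 0 := by
  rw [spanBefore_succ, Submodule.mem_sup] at hx1
  obtain ⟨y, hy, z, hz, hyz⟩ := hx1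
  obtain ⟨c, rfl⟩ := Submodule.mem_span_singleton.mp hz
  have hcu : IsUnit c := by
    by_contra hnu
    have hcm : c ∈ maximalIdeal R := (IsLocalRing.mem_maximalIdeal c).mpr hnu
    apply hx2
    rw [← hyz]
    exact Submodule.add_mem _ hy (f.2 k c hcm)
  obtain ⟨cu, rfl⟩ := hcu
  have hx : x = (cu : R) • f.1 k + y := by rw [← hyz, add_comm]
  have hsp := spanBefore_update (R := R) f.1 k x y cu hy hx
  have hadm : IsAdmissible R M (Function.update f.1 k x) := by
    intro i r hr
    rw [hsp]
    by_cases hik : i = k
    · rw [hik, Function.update_self]; exact hxm r hr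
    · rw [Function.update_of_ne hik]; exact f.2 i r hr
  refine ⟨⟨_, hadm⟩, IsLocalRing.residue R (cu : R), rfl, ?_, hsp, ?_, ?_⟩
  · intro i
    show Function.update f.1 k x i ∉ spanBefore R M (Function.update f.1 k x) i
    rw [hsp]
    by_cases hik : i = k
    · rw [hik, Function.update_self]; exact hx2
    · rw [Function.update_of_ne hik]; exact hgood i
  · apply cls_eq_smul _ _ k cu
    · intro j hj
      exact Function.update_of_ne hj _ _
    · show Function.update f.1 k x k - (cu : R) • f.1 k ∈
        spanBefore R M (Function.update f.1 k x) k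
      rw [hsp, Function.update_self, hx, add_sub_cancel_left]
      exact hy
  · intro h0
    have : (cu : R) ∈ maximalIdeal R := (IsLocalRing.residue_eq_zero_iff _).mp h0
    exact (IsLocalRing.mem_maximalIdeal _).mp this cu.isUnit

theorem swap_step {l : ℕ} (g : Adm R M l) (hgood : Good (R := R) g.1) (a b : Fin l)
    (hab : (b : ℕ) + 1 = a)
    (hxm : ∀ r ∈ maximalIdeal R, r • g.1 a ∈ spanBefore R M g.1 b) :
    ∃ g' : Adm R M l, g'.1 = g.1 ∘ Equiv.swap a b ∧ Good (R := R) g'.1 ∧
      cls g = - cls g' ∧ spanBefore R M g'.1 l = spanBefore R M g.1 l := by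
  have hne : a ≠ b := fun h => by rw [h] at hab; omega
  have hadm : IsAdmissible R M (g.1 ∘ Equiv.swap a b) := by
    intro i r hr
    by_cases hia : i = a
    · rw [hia, spanBefore_swap_at g.1 a b hab]
      apply Submodule.mem_sup_left
      simp only [Function.comp, Equiv.swap_apply_left]
      exact g.2 b r hr
    by_cases hib : i = b
    · rw [hib, spanBefore_swap_of_le g.1 a b hab le_rfl]
      simp only [Function.comp, Equiv.swap_apply_right]
      exact hxm r hr
    have hi : (i : ℕ) < b ∨ (a : ℕ) < i := by
      have h1 : (i : ℕ) ≠ a := fun h => hia (Fin.ext h)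
      have h2 : (i : ℕ) ≠ b := fun h => hib (Fin.ext h)
      omega
    simp only [Function.comp, Equiv.swap_apply_of_ne_of_ne hia hib]
    rcases hi with hi | hi
    · rw [spanBefore_swap_of_le g.1 a b hab hi.le]; exact g.2 i r hr
    · rw [spanBefore_swap_of_gt g.1 a b hab hi]; exact g.2 i r hr
  refine ⟨⟨_, hadm⟩, rfl, ?_, ?_, ?_⟩
  · intro i
    show (g.1 ∘ Equiv.swap a b) i ∉ spanBefore R M (g.1 ∘ Equiv.swap a b) i
    by_cases hia : i = a
    · rw [hia, spanBefore_swap_at g.1 a b hab]
      simp only [Function.comp, Equiv.swap_apply_left]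
      intro hmem
      rw [Submodule.mem_sup] at hmem
      obtain ⟨y', hy', z, hz, hyz⟩ := hmem
      obtain ⟨d, rfl⟩ := Submodule.mem_span_singleton.mp hz
      by_cases hd : d ∈ maximalIdeal R
      · apply hgood b
        rw [← hyz]
        exact Submodule.add_mem _ hy' (hxm d hd)
      · have hdu : IsUnit d := by
          by_contra hnu
          exact hd ((IsLocalRing.mem_maximalIdeal d).mpr hnu)
        obtain ⟨du, rfl⟩ := hdu
        apply hgood a
        have hga : g.1 a = ((du⁻¹ : Rˣ) : R) • (g.1 b - y') := by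
          rw [← hyz, add_sub_cancel_left, smul_smul, Units.inv_mul, one_smul]
        rw [hga, ← hab]
        apply Submodule.smul_mem
        apply Submodule.sub_mem
        · exact mem_spanBefore g.1 b (Nat.lt_succ_self _)
        · exact spanBefore_mono g.1 (Nat.le_succ _) hy'
    by_cases hib : i = b
    · rw [hib, spanBefore_swap_of_le g.1 a b hab le_rfl]
      simp only [Function.comp, Equiv.swap_apply_right]
      intro hmem
      apply hgood a
      exact spanBefore_mono g.1 (by omega) hmem
    have hi : (i : ℕ) < b ∨ (a : ℕ) < i := by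
      have h1 : (i : ℕ) ≠ a := fun h => hia (Fin.ext h)
      have h2 : (i : ℕ) ≠ b := fun h => hib (Fin.ext h)
      omega
    simp only [Function.comp, Equiv.swap_apply_of_ne_of_ne hia hib]
    rcases hi with hi | hi
    · rw [spanBefore_swap_of_le g.1 a b hab hi.le]; exact hgood i
    · rw [spanBefore_swap_of_gt g.1 a b hab hi]; exact hgood i
  · exact cls_eq_neg g ⟨_, hadm⟩ a b hab hxm rfl
  · exact spanBefore_swap_of_gt g.1 a b hab a.2

/-- Main claim: every class is a multiple of the class of a good generating tuple. -/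
theorem cls_eq_smul_of_good {l : ℕ} :
    ∀ (n j : ℕ), j + n = l → ∀ (f e : Adm R M l), Good (R := R) f.1 →
      spanBefore R M f.1 l = ⊤ → (∀ i : Fin l, (i : ℕ) < j → e.1 i = f.1 i) →
      ∃ r : ResidueField R, cls e = r • cls f := by
  intro n
  induction n with
  | zero =>
    intro j hj f e _ _ hpre
    refine ⟨1, ?_⟩
    have : e = f := Subtype.ext (funext fun i => hpre i (by omega))
    rw [this, one_smul]
  | succ n ih =>
    intro j hj f e hgood hgen hpre
    by_cases hegood : Good (R := R) e.1
    swap
    · unfold Good at hegood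
      rw [not_forall] at hegood
      obtain ⟨a, ha⟩ := hegood
      rw [not_not] at ha
      exact ⟨0, by rw [cls_eq_zero e a ha, zero_smul]⟩
    have hjl : j < l := by omega
    obtain ⟨jj, hjj⟩ : ∃ jj : Fin l, (jj : ℕ) = j := ⟨⟨j, hjl⟩, rfl⟩
    obtain ⟨x, hx⟩ : ∃ x : M, x = e.1 jj := ⟨_, rfl⟩
    have hxm : ∀ r ∈ maximalIdeal R, r • x ∈ spanBefore R M e.1 j := by
      intro r hr; rw [hx, ← hjj]; exact e.2 jj r hr
    have hxe : x ∉ spanBefore R M e.1 j := by
      rw [hx, ← hjj]; exact hegood jj
    have inner : ∀ k : ℕ, j ≤ k → ∀ _ : k < l, ∀ f : Adm R M l, Good (R := R) f.1 →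
        spanBefore R M f.1 l = ⊤ → (∀ i : Fin l, (i : ℕ) < j → e.1 i = f.1 i) →
        x ∈ spanBefore R M f.1 (k + 1) → ∃ r : ResidueField R, cls e = r • cls f := by
      intro k hjk
      induction k, hjk using Nat.le_induction with
      | base =>
        intro hk f hgood hgen hpre hxk
        have hspj : spanBefore R M e.1 j = spanBefore R M f.1 j := spanBefore_congr hpre
        have hx2 : x ∉ spanBefore R M f.1 (jj : ℕ) := by rw [hjj, ← hspj]; exact hxe
        have hxm' : ∀ r ∈ maximalIdeal R, r • x ∈ spanBefore R M f.1 (jj : ℕ) := by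
          intro r hr; rw [hjj, ← hspj]; exact hxm r hr
        have hxk' : x ∈ spanBefore R M f.1 ((jj : ℕ) + 1) := by rw [hjj]; exact hxk
        obtain ⟨f', c, hf', hg', hsp', hcls, -⟩ := exchange_step f hgood jj x hxm' hxk' hx2
        have hpre' : ∀ i : Fin l, (i : ℕ) < j + 1 → e.1 i = f'.1 i := by
          intro i hi
          rw [hf']
          by_cases hij : i = jj
          · rw [hij, Function.update_self, hx]
          · rw [Function.update_of_ne hij]
            apply hpre
            have : (i : ℕ) ≠ j := fun h => hij (Fin.ext (by rw [h, hjj]))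
            omega
        obtain ⟨r, hr⟩ := ih (j + 1) (by omega) f' e hg' (by rw [hsp', hgen]) hpre'
        exact ⟨r * c, by rw [hr, hcls, smul_smul]⟩
      | succ k hjk ihk =>
        intro hk f hgood hgen hpre hxk
        by_cases hx2 : x ∈ spanBefore R M f.1 (k + 1)
        · exact ihk (by omega) f hgood hgen hpre hx2
        · obtain ⟨a, ha⟩ : ∃ a : Fin l, (a : ℕ) = k + 1 := ⟨⟨k + 1, hk⟩, rfl⟩
          obtain ⟨b, hb⟩ : ∃ b : Fin l, (b : ℕ) = k := ⟨⟨k, by omega⟩, rfl⟩
          have hab : (b : ℕ) + 1 = a := by rw [ha, hb]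
          have hspj : spanBefore R M e.1 j = spanBefore R M f.1 j := spanBefore_congr hpre
          have hxm' : ∀ r ∈ maximalIdeal R, r • x ∈ spanBefore R M f.1 (a : ℕ) := by
            intro r hr
            apply spanBefore_mono f.1 (show j ≤ (a : ℕ) by omega)
            rw [← hspj]; exact hxm r hr
          have hxk' : x ∈ spanBefore R M f.1 ((a : ℕ) + 1) := by rw [ha]; exact hxk
          have hx2' : x ∉ spanBefore R M f.1 (a : ℕ) := by rw [ha]; exact hx2
          obtain ⟨f', c, hf', hg', hsp', hcls, -⟩ := exchange_step f hgood a x hxm' hxk' hx2'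
          have hfa : f'.1 a = x := by rw [hf', Function.update_self]
          have hxm'' : ∀ r ∈ maximalIdeal R, r • f'.1 a ∈ spanBefore R M f'.1 b := by
            intro r hr
            rw [hfa, hsp']
            apply spanBefore_mono f.1 (show j ≤ (b : ℕ) by omega)
            rw [← hspj]; exact hxm r hr
          obtain ⟨f'', hf'', hg'', hcls2, hsp''⟩ := swap_step f' hg' a b hab hxm''
          have hpre'' : ∀ i : Fin l, (i : ℕ) < j → e.1 i = f''.1 i := by
            intro i hi
            have h1 : i ≠ a := fun h => by rw [h] at hi; omega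
            have h2 : i ≠ b := fun h => by rw [h] at hi; omega
            rw [hf'', Function.comp, Equiv.swap_apply_of_ne_of_ne h1 h2, hf',
              Function.update_of_ne h1]
            exact hpre i hi
          have hxk'' : x ∈ spanBefore R M f''.1 (k + 1) := by
            have hfb : f''.1 b = x := by
              rw [hf'', Function.comp, Equiv.swap_apply_right, hfa]
            rw [← hfb, ← hb]
            exact mem_spanBefore f''.1 b (Nat.lt_succ_self _)
          obtain ⟨r, hr⟩ := ihk (by omega) f'' hg'' (by rw [hsp'', hsp', hgen]) hpre'' hxk''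
          refine ⟨-(r * c), ?_⟩
          rw [hr, neg_smul, ← smul_smul, ← hcls, hcls2, smul_neg, neg_neg]
    have hxl : x ∈ spanBefore R M f.1 ((l - 1) + 1) := by
      rw [Nat.sub_add_cancel (by omega), hgen]; trivial
    exact inner (l - 1) (by omega) (by omega) f hgood hgen hpre hxl

theorem spanBefore_eq_top_of_good [IsNoetherian R M] [IsArtinian R M] {l : ℕ}
    (hl : Module.length R M = l) (f : Fin l → M) (hgood : Good (R := R) f) :
    spanBefore R M f l = ⊤ := by
  have key : ∀ i : ℕ, i ≤ l → (i : ℕ∞) ≤ Order.height (spanBefore R M f i) := by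
    intro i
    induction i with
    | zero => intro _; exact zero_le
    | succ i ih =>
      intro hi
      have hlt : spanBefore R M f i < spanBefore R M f (i + 1) := by
        refine lt_of_le_of_ne (spanBefore_mono f (Nat.le_succ i)) ?_
        intro heq
        apply hgood ⟨i, hi⟩
        show f ⟨i, hi⟩ ∈ spanBefore R M f i
        rw [heq]
        exact mem_spanBefore f ⟨i, hi⟩ (Nat.lt_succ_self i)
      have h1 := ih (by omega)
      calc ((i + 1 : ℕ) : ℕ∞) = (i : ℕ∞) + 1 := by push_cast; rfl
        _ ≤ Order.height (spanBefore R M f i) + 1 := by gcongr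
        _ ≤ Order.height (spanBefore R M f (i + 1)) := Order.height_add_one_le hlt
  by_contra hne
  have h1 := key l le_rfl
  have h2 : Order.height (spanBefore R M f l) < Order.height (⊤ : Submodule R M) :=
    Submodule.height_strictMono (lt_top_iff_ne_top.mpr hne)
  rw [← Module.length_eq_height, hl] at h2
  exact absurd h1 (not_le.mpr h2)

theorem mk_single {l : ℕ} (e : Adm R M l) (c : ResidueField R) :
    (Submodule.Quotient.mk (Finsupp.single e c : Free R M l) : DetOfLen R M l) = c • cls e := by
  have : (Finsupp.single e c : Free R M l) = c • sym R M e := by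
    simp [sym]
  rw [this, Submodule.Quotient.mk_smul]
  rfl

theorem rank_detOfLen_le_one (hM : IsFiniteLength R M) :
    Module.rank (ResidueField R) (DetOfLen R M (Module.length R M).toNat) ≤ 1 := by
  obtain ⟨hN, hA⟩ := isFiniteLength_iff_isNoetherian_isArtinian.mp hM
  obtain ⟨l, hl⟩ : ∃ l : ℕ, l = (Module.length R M).toNat := ⟨_, rfl⟩
  have hlen : Module.length R M = l := by
    rw [hl]; exact (ENat.natCast_toNat (Module.length_ne_top_iff.mpr hM)).symm
  rw [← hl, rank_le_one_iff]
  by_cases hex : ∃ f : Adm R M l, Good (R := R) f.1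
  · obtain ⟨f, hf⟩ := hex
    have hgen := spanBefore_eq_top_of_good hlen f.1 hf
    refine ⟨cls f, ?_⟩
    intro v
    obtain ⟨w, rfl⟩ := Submodule.Quotient.mk_surjective _ v
    induction w using Finsupp.induction_linear with
    | zero => exact ⟨0, by simp⟩
    | add a b ha hb =>
      obtain ⟨r, hr⟩ := ha
      obtain ⟨s, hs⟩ := hb
      exact ⟨r + s, by rw [add_smul, hr, hs, Submodule.Quotient.mk_add]⟩
    | single e c =>
      obtain ⟨r, hr⟩ := cls_eq_smul_of_good l 0 (by omega) f e hf hgen
        (fun i hi => absurd hi (Nat.not_lt_zero _))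
      exact ⟨c * r, by rw [mk_single, mul_smul, ← hr]⟩
  · refine ⟨0, ?_⟩
    intro v
    refine ⟨0, ?_⟩
    rw [smul_zero]
    obtain ⟨w, rfl⟩ := Submodule.Quotient.mk_surjective _ v
    symm
    induction w using Finsupp.induction_linear with
    | zero => simp
    | add a b ha hb => rw [Submodule.Quotient.mk_add, ha, hb, add_zero]
    | single e c =>
      have hne : ¬ Good (R := R) e.1 := fun h => hex ⟨e, h⟩
      unfold Good at hne
      rw [not_forall] at hne
      obtain ⟨a, ha⟩ := hne
      rw [not_not] at ha
      rw [mk_single, cls_eq_zero e a ha, smul_zero]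

end Groth.Agent.H46.CD
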