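import Mathlib
import Groth.Prelude.Def_CycDet
import Groth.Agent.H46.CycDet

set_option autoImplicit false
set_option linter.style.haveILetI false
set_option linter.unusedSectionVars false

universe u v

namespace Groth.Agent.H46.CD

open CycDet IsLocalRing

variable {R : Type u} [CommRing R] [IsLocalRing R] {M : Type v} [AddCommGroup M] [Module R M]
  [Module (ResidueField R) M] [IsScalarTower R (ResidueField R) M]

theorem alt_update_eq_zero {N : Type*} [AddCommGroup N] [Module (ResidueField R) N] {l : ℕ}
    (g : M [⋀^Fin l]→ₗ[ResidueField R] N) (w : Fin l → M) (a : Fin l) (y : M)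
    (hy : y ∈ spanBefore R M w a) : g (Function.update w a y) = 0 := by
  apply AlternatingMap.map_linearDependent
  intro hli
  have h1 : y ∈ Submodule.span (ResidueField R) (w '' {j : Fin l | (j : ℕ) < a}) :=
    Submodule.span_le_restrictScalars R (ResidueField R) _ hy
  have h2 : (Function.update w a y) '' {j : Fin l | (j : ℕ) < a} =
      w '' {j : Fin l | (j : ℕ) < a} := by
    apply Set.image_congr
    intro j hj
    have : j ≠ a := fun h => by rw [h] at hj; exact lt_irrefl (a : ℕ) hj
    exact Function.update_of_ne this _ _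
  have h3 := hli.notMem_span_image (s := {j : Fin l | (j : ℕ) < a}) (x := a)
    (fun h => lt_irrefl (a : ℕ) h)
  rw [h2, Function.update_self] at h3
  exact h3 h1

/-- Over a module killed by the maximal ideal every tuple is admissible. -/
theorem isAdmissible_of_residue {l : ℕ} (v : Fin l → M) : IsAdmissible R M v := by
  intro i r hr
  have h0 : IsLocalRing.residue R r = 0 := (IsLocalRing.residue_eq_zero_iff r).mpr hr
  have : r • v i = 0 := by
    rw [← IsScalarTower.algebraMap_smul (ResidueField R) r (v i),
      IsLocalRing.ResidueField.algebraMap_eq, h0, zero_smul]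
  rw [this]
  exact Submodule.zero_mem _

/-- The linear map from the free module on admissible tuples induced by an alternating map. -/
noncomputable def freeMap {N : Type*} [AddCommGroup N] [Module (ResidueField R) N] {l : ℕ}
    (g : M [⋀^Fin l]→ₗ[ResidueField R] N) : Free R M l →ₗ[ResidueField R] N :=
  Finsupp.lift N (ResidueField R) (Adm R M l) (fun e => g e.1)

theorem freeMap_sym {N : Type*} [AddCommGroup N] [Module (ResidueField R) N] {l : ℕ}
    (g : M [⋀^Fin l]→ₗ[ResidueField R] N) (e : Adm R M l) : freeMap g (sym R M e) = g e.1 := by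
  simp [freeMap, sym]

theorem relSet_le_ker {N : Type*} [AddCommGroup N] [Module (ResidueField R) N] {l : ℕ}
    (g : M [⋀^Fin l]→ₗ[ResidueField R] N) :
    Submodule.span (ResidueField R) (relSet R M l) ≤ LinearMap.ker (freeMap g) := by
  rw [Submodule.span_le]
  rintro x ((⟨e, a, ha, rfl⟩ | ⟨e, e', a, c, h1, h2, rfl⟩) | ⟨e, e', a, b, hab, h1, h2, rfl⟩)
  · -- (a)
    rw [SetLike.mem_coe, LinearMap.mem_ker, freeMap_sym]
    have := alt_update_eq_zero g e.1 a (e.1 a) ha
    rwa [Function.update_eq_self] at this
  · -- (b)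
    rw [SetLike.mem_coe, LinearMap.mem_ker, map_sub, map_smul, freeMap_sym, freeMap_sym,
      sub_eq_zero]
    obtain ⟨y, hy⟩ : ∃ y : M, y = e.1 a - (c : R) • e'.1 a := ⟨_, rfl⟩
    have hsp : spanBefore R M e.1 a = spanBefore R M e'.1 a := by
      apply spanBefore_congr
      intro j hj
      apply h1
      intro h
      rw [h] at hj
      exact lt_irrefl (a : ℕ) hj
    have hy' : y ∈ spanBefore R M e'.1 a := by rw [← hsp, hy]; exact h2
    have he : e.1 = Function.update e'.1 a (IsLocalRing.residue R (c : R) • e'.1 a + y) := by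
      funext j
      by_cases hj : j = a
      · rw [hj, Function.update_self, hy, ← IsLocalRing.ResidueField.algebraMap_eq,
          IsScalarTower.algebraMap_smul]
        abel
      · rw [Function.update_of_ne hj]; exact h1 j hj
    rw [he, AlternatingMap.map_update_add, AlternatingMap.map_update_smul,
      Function.update_eq_self, alt_update_eq_zero g e'.1 a y hy', add_zero]
  · -- (c)
    rw [SetLike.mem_coe, LinearMap.mem_ker, map_add, freeMap_sym, freeMap_sym, h2]
    have hne : a ≠ b := fun h => by rw [h] at hab; omega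
    rw [AlternatingMap.map_swap g e.1 hne, add_neg_cancel]

theorem exists_det_equiv_aux [Module.Finite (ResidueField R) M] (l : ℕ)
    (hl : Module.finrank (ResidueField R) M = l)
    (hrank : Module.rank (ResidueField R) (DetOfLen R M l) ≤ 1) :
    ∃ Φ : DetOfLen R M l ≃ₗ[ResidueField R] (⋀[ResidueField R]^l M),
      ∀ e : Adm R M l, Φ (cls e) = exteriorPower.ιMulti (ResidueField R) l e.1 := by
  obtain ⟨g, hg⟩ : ∃ g : M [⋀^Fin l]→ₗ[ResidueField R] (⋀[ResidueField R]^l M),
    g = exteriorPower.ιMulti (ResidueField R) l := ⟨_, rfl⟩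
  obtain ⟨Φ₁, hΦdef⟩ : ∃ Φ₁ : DetOfLen R M l →ₗ[ResidueField R] (⋀[ResidueField R]^l M),
    Φ₁ = Submodule.liftQ _ (freeMap g) (relSet_le_ker g) := ⟨_, rfl⟩
  have hΦ₁ : ∀ e : Adm R M l, Φ₁ (cls e) = g e.1 := by
    intro e
    rw [hΦdef]
    unfold cls
    rw [Submodule.liftQ_apply, freeMap_sym]
  have hsurj : Function.Surjective Φ₁ := by
    rw [← LinearMap.range_eq_top, eq_top_iff, ← exteriorPower.ιMulti_span (ResidueField R) l M,
      Submodule.span_le]
    rintro _ ⟨v, rfl⟩
    obtain ⟨e, he⟩ : ∃ e : Adm R M l, e.1 = v := ⟨⟨v, isAdmissible_of_residue v⟩, rfl⟩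
    exact ⟨cls e, by rw [hΦ₁, hg, he]⟩
  have hfr : Module.finrank (ResidueField R) (⋀[ResidueField R]^l M) = 1 := by
    rw [exteriorPower.finrank_eq, hl, Nat.choose_self]
  haveI : Nontrivial (⋀[ResidueField R]^l M) :=
    Module.nontrivial_of_finrank_pos (R := ResidueField R) (by rw [hfr]; exact Nat.one_pos)
  have hinj : Function.Injective Φ₁ := by
    rw [rank_le_one_iff] at hrank
    obtain ⟨v₀, hv₀⟩ := hrank
    have hne : Φ₁ v₀ ≠ 0 := by
      intro h0
      obtain ⟨w, hw⟩ := exists_ne (0 : ⋀[ResidueField R]^l M)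
      obtain ⟨x, rfl⟩ := hsurj w
      obtain ⟨r, rfl⟩ := hv₀ x
      apply hw
      rw [map_smul, h0, smul_zero]
    rw [← LinearMap.ker_eq_bot, LinearMap.ker_eq_bot']
    intro x hx
    obtain ⟨r, rfl⟩ := hv₀ x
    rw [map_smul, smul_eq_zero] at hx
    rcases hx with hr | hx
    · rw [hr, zero_smul]
    · exact absurd hx hne
  refine ⟨LinearEquiv.ofBijective Φ₁ ⟨hinj, hsurj⟩, ?_⟩
  intro e
  show Φ₁ (cls e) = _
  rw [hΦ₁, hg]

theorem exists_det_equiv [Module.Finite (ResidueField R) M] :
    ∃ Φ : DetOfLen R M (Module.length R M).toNat ≃ₗ[ResidueField R]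
        (⋀[ResidueField R]^((Module.length R M).toNat) M),
      ∀ e : Adm R M (Module.length R M).toNat,
        Φ (cls e) = exteriorPower.ιMulti (ResidueField R) (Module.length R M).toNat e.1 := by
  have hlenκ : Module.length R M = Module.length (ResidueField R) M :=
    Module.length_eq_of_surjective IsLocalRing.residue_surjective
  have hfin : Module.length (ResidueField R) M = Module.finrank (ResidueField R) M :=
    Module.length_eq_finrank _ _
  have hM : IsFiniteLength R M :=
    Module.length_ne_top_iff.mp (by rw [hlenκ, hfin]; exact ENat.natCast_ne_top _)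
  have hl : Module.finrank (ResidueField R) M = (Module.length R M).toNat := by
    rw [hlenκ, hfin, ENat.toNat_natCast]
  exact exists_det_equiv_aux _ hl (rank_detOfLen_le_one hM)

end Groth.Agent.H46.CD
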