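import Mathlib
import Groth.Prelude.Def_CycDet
import Groth.Agent.H46.CycDet

set_option autoImplicit false
set_option linter.style.haveILetI false
set_option linter.unusedSectionVars false

universe u v

namespace Groth.Agent.H46.CD

open CycDet IsLocalRing

variable {R : Type u} [CommRing R] [IsLocalRing R] {M : Type v} [AddCommGroup M] [Module R M]

/-! ### Functionals on `DetOfLen` from functions on admissible tuples -/

theorem exists_functional {l : ℕ} (D : Adm R M l → ResidueField R)
    (ha : ∀ (e : Adm R M l) (a : Fin l), e.1 a ∈ spanBefore R M e.1 a → D e = 0)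
    (hb : ∀ (e e' : Adm R M l) (a : Fin l) (c : Rˣ), (∀ j, j ≠ a → e.1 j = e'.1 j) →
      e.1 a - (c : R) • e'.1 a ∈ spanBefore R M e.1 a → D e = residue R (c : R) * D e')
    (hc : ∀ (e e' : Adm R M l) (a b : Fin l), (b : ℕ) + 1 = (a : ℕ) →
      (∀ r ∈ maximalIdeal R, r • e.1 a ∈ spanBefore R M e.1 b) →
      e'.1 = e.1 ∘ Equiv.swap a b → D e + D e' = 0) :
    ∃ lam : DetOfLen R M l →ₗ[ResidueField R] ResidueField R, ∀ e, lam (cls e) = D e := by
  obtain ⟨F, hFdef⟩ : ∃ F : Free R M l →ₗ[ResidueField R] ResidueField R,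
      F = Finsupp.lift (ResidueField R) (ResidueField R) (Adm R M l) D := ⟨_, rfl⟩
  have hF : ∀ e, F (sym R M e) = D e := by
    intro e; rw [hFdef]; simp [sym]
  have hker : Submodule.span (ResidueField R) (relSet R M l) ≤ LinearMap.ker F := by
    rw [Submodule.span_le]
    rintro x ((⟨e, a, ha', rfl⟩ | ⟨e, e', a, c, h1, h2, rfl⟩) | ⟨e, e', a, b, hab, h1, h2, rfl⟩)
    · rw [SetLike.mem_coe, LinearMap.mem_ker, hF]; exact ha e a ha'
    · rw [SetLike.mem_coe, LinearMap.mem_ker, map_sub, map_smul, hF, hF, smul_eq_mul,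
        sub_eq_zero]
      exact hb e e' a c h1 h2
    · rw [SetLike.mem_coe, LinearMap.mem_ker, map_add, hF, hF]; exact hc e e' a b hab h1 h2
  refine ⟨Submodule.liftQ _ F hker, fun e => ?_⟩
  show Submodule.liftQ _ F hker (Submodule.Quotient.mk (sym R M e)) = D e
  rw [Submodule.liftQ_apply, hF]

/-! ### Index lemmas -/

theorem val_succAbove {l : ℕ} (i : Fin (l + 1)) (j : Fin l) :
    ((i.succAbove j : Fin (l + 1)) : ℕ) = if (j : ℕ) < i then (j : ℕ) else j + 1 := by
  by_cases h : (j : ℕ) < i
  · rw [if_pos h, Fin.succAbove_of_castSucc_lt _ _ (by rw [Fin.lt_def]; simpa using h)]; rfl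
  · rw [if_neg h, Fin.succAbove_of_le_castSucc _ _ (by rw [Fin.le_def]; simpa using not_lt.mp h)]
    rfl

theorem succAbove_lt_iff {l : ℕ} (i : Fin (l + 1)) (j j' : Fin l) :
    ((i.succAbove j : Fin (l + 1)) : ℕ) < ((i.succAbove j' : Fin (l + 1)) : ℕ) ↔
      (j : ℕ) < j' := by
  rw [val_succAbove, val_succAbove]
  split_ifs <;> omega

theorem swap_val {n : ℕ} (a b k : Fin n) :
    ((Equiv.swap a b k : Fin n) : ℕ) = if k = a then (b : ℕ) else if k = b then (a : ℕ) else k := by
  rw [Equiv.swap_apply_def]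
  split_ifs <;> rfl

/-! ### Removing an entry and projecting -/

section Rem

variable {Q : Type v} [AddCommGroup Q] [Module R Q] (π : M →ₗ[R] Q)

/-- Remove the `i`-th entry and project to `Q`. -/
def remT {l : ℕ} (e : Fin (l + 1) → M) (i : Fin (l + 1)) : Fin l → Q :=
  fun j => π (e (i.succAbove j))

theorem spanBefore_remT' {l : ℕ} (e : Fin (l + 1) → M) (i : Fin (l + 1))
    (hi : π (e i) ∈ (spanBefore R M e i).map π) (n m : ℕ)
    (h : ∀ j : Fin l, (j : ℕ) < n ↔ ((i.succAbove j : Fin (l + 1)) : ℕ) < m) :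
    spanBefore R Q (remT π e i) n = (spanBefore R M e m).map π := by
  apply le_antisymm
  · apply spanBefore_le
    intro j hj
    exact Submodule.mem_map_of_mem (mem_spanBefore e _ ((h j).mp hj))
  · have claim : ∀ k : Fin (l + 1), k ≠ i → (k : ℕ) < m →
        π (e k) ∈ spanBefore R Q (remT π e i) n := by
      intro k hk hkm
      obtain ⟨j, rfl⟩ := Fin.exists_succAbove_eq hk
      exact mem_spanBefore (remT π e i) j ((h j).mpr hkm)
    rw [Submodule.map_le_iff_le_comap]
    apply spanBefore_le
    intro k hk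
    rw [Submodule.mem_comap]
    by_cases hki : k = i
    · rw [hki]
      have hle : (spanBefore R M e i).map π ≤ spanBefore R Q (remT π e i) n := by
        rw [Submodule.map_le_iff_le_comap]
        apply spanBefore_le
        intro k' hk'
        rw [Submodule.mem_comap]
        apply claim k' (fun h' => by rw [h'] at hk'; omega)
        rw [hki] at hk; omega
      exact hle hi
    · exact claim k hki hk

theorem spanBefore_remT {l : ℕ} (e : Fin (l + 1) → M) (i : Fin (l + 1))
    (hi : π (e i) ∈ (spanBefore R M e i).map π) (j : Fin l) :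
    spanBefore R Q (remT π e i) j =
      (spanBefore R M e ((i.succAbove j : Fin (l + 1)) : ℕ)).map π :=
  spanBefore_remT' π e i hi _ _ (fun j' => (succAbove_lt_iff i j' j).symm)

theorem spanBefore_remT_top {l : ℕ} (e : Fin (l + 1) → M) (i : Fin (l + 1))
    (hi : π (e i) ∈ (spanBefore R M e i).map π) :
    spanBefore R Q (remT π e i) l = (spanBefore R M e (l + 1)).map π :=
  spanBefore_remT' π e i hi _ _ (fun j => ⟨fun _ => (i.succAbove j).2, fun _ => j.2⟩)

theorem isAdmissible_remT {l : ℕ} (e : Fin (l + 1) → M) (he : IsAdmissible R M e)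
    (i : Fin (l + 1)) (hi : π (e i) ∈ (spanBefore R M e i).map π) :
    IsAdmissible R Q (remT π e i) := by
  intro j r hr
  rw [spanBefore_remT π e i hi j]
  show r • π (e (i.succAbove j)) ∈ _
  rw [← map_smul]
  exact Submodule.mem_map_of_mem (he _ r hr)

/-! ### Valid decompositions of the socle element -/

/-- `x = u • e i + y` with `y` in the span before `i` and `x` not in it. -/
def Valid (x : M) {l : ℕ} (e : Fin (l + 1) → M) (i : Fin (l + 1)) (u : R) (y : M) : Prop :=
  y ∈ spanBefore R M e i ∧ x = u • e i + y ∧ x ∉ spanBefore R M e i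

theorem Valid.isUnit {x : M} {l : ℕ} {e : Fin (l + 1) → M} (he : IsAdmissible R M e)
    {i : Fin (l + 1)} {u : R} {y : M} (hv : Valid x e i u y) : IsUnit u := by
  by_contra hnu
  have hum : u ∈ maximalIdeal R := (IsLocalRing.mem_maximalIdeal u).mpr hnu
  apply hv.2.2
  rw [hv.2.1]
  exact Submodule.add_mem _ (he i u hum) hv.1

theorem Valid.map_mem {x : M} (hx : π x = 0) {l : ℕ} {e : Fin (l + 1) → M}
    (he : IsAdmissible R M e)
    {i : Fin (l + 1)} {u : R} {y : M} (hv : Valid x e i u y) :
    π (e i) ∈ (spanBefore R M e i).map π := by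
  obtain ⟨uu, rfl⟩ := hv.isUnit he
  have h1 : π (e i) = π ((-((uu⁻¹ : Rˣ) : R)) • y) := by
    have h2 : (uu : R) • π (e i) + π y = 0 := by
      rw [← map_smul, ← map_add, ← hv.2.1, hx]
    have h3 : (uu : R) • π (e i) = -π y := eq_neg_of_add_eq_zero_left h2
    rw [map_smul, neg_smul, ← smul_neg, ← h3, smul_smul, Units.inv_mul, one_smul]
  rw [h1]
  exact Submodule.mem_map_of_mem (Submodule.smul_mem _ _ hv.1)

theorem Valid.mem_succ {x : M} {l : ℕ} {e : Fin (l + 1) → M}
    {i : Fin (l + 1)} {u : R} {y : M} (hv : Valid x e i u y) :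
    x ∈ spanBefore R M e ((i : ℕ) + 1) := by
  rw [hv.2.1]
  exact Submodule.add_mem _ (Submodule.smul_mem _ _ (mem_spanBefore e i (Nat.lt_succ_self _)))
    (spanBefore_mono e (Nat.le_succ _) hv.1)

theorem Valid.mem_top {x : M} {l : ℕ} {e : Fin (l + 1) → M}
    {i : Fin (l + 1)} {u : R} {y : M} (hv : Valid x e i u y) :
    x ∈ spanBefore R M e (l + 1) :=
  spanBefore_mono e (by have := i.2; omega) hv.mem_succ

theorem Valid.unique {x : M} {l : ℕ} {e : Fin (l + 1) → M} (he : IsAdmissible R M e)
    {i i' : Fin (l + 1)} {u u' : R} {y y' : M} (hv : Valid x e i u y)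
    (hv' : Valid x e i' u' y') : i = i' ∧ residue R u = residue R u' := by
  have hii : i = i' := by
    apply Fin.ext
    by_contra hne
    rcases Nat.lt_or_gt_of_ne hne with h | h
    · exact hv'.2.2 (spanBefore_mono e (by omega) hv.mem_succ)
    · exact hv.2.2 (spanBefore_mono e (by omega) hv'.mem_succ)
  subst hii
  refine ⟨rfl, ?_⟩
  by_contra hne
  have hunit : IsUnit (u - u') := by
    by_contra hnu
    have hm : u - u' ∈ maximalIdeal R := (IsLocalRing.mem_maximalIdeal _).mpr hnu
    apply hne
    have := (IsLocalRing.residue_eq_zero_iff _).mpr hm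
    rwa [map_sub, sub_eq_zero] at this
  obtain ⟨w, hw⟩ := hunit
  have h1 : (u - u') • e i = y' - y := by
    have := hv.2.1.symm.trans hv'.2.1
    rw [sub_smul]
    rw [sub_eq_sub_iff_add_eq_add, this]
    abel
  have h2 : e i ∈ spanBefore R M e i := by
    have h3 : e i = ((w⁻¹ : Rˣ) : R) • (y' - y) := by
      rw [← h1, ← hw, smul_smul, Units.inv_mul, one_smul]
    rw [h3]
    exact Submodule.smul_mem _ _ (Submodule.sub_mem _ hv'.1 hv.1)
  apply hv.2.2
  rw [hv.2.1]
  exact Submodule.add_mem _ (Submodule.smul_mem _ _ h2) hv.1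

theorem spanBefore_zero {l : ℕ} (e : Fin l → M) : spanBefore R M e 0 = ⊥ := by
  rw [eq_bot_iff]
  apply spanBefore_le
  intro j hj
  exact absurd hj (Nat.not_lt_zero _)

theorem exists_valid {x : M} (hx0 : x ≠ 0) {l : ℕ} {e : Fin (l + 1) → M}
    (hx : x ∈ spanBefore R M e (l + 1)) :
    ∃ (i : Fin (l + 1)) (u : R) (y : M), Valid x e i u y := by
  classical
  have hex : ∃ k, x ∈ spanBefore R M e k := ⟨_, hx⟩
  obtain ⟨k, hk⟩ : ∃ k, k = Nat.find hex := ⟨_, rfl⟩
  have hk1 : x ∈ spanBefore R M e k := hk ▸ Nat.find_spec hex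
  have hk2 : ∀ k' < k, x ∉ spanBefore R M e k' := fun k' hk' => Nat.find_min hex (hk ▸ hk')
  have hkle : k ≤ l + 1 := hk ▸ Nat.find_min' hex hx
  have hk0 : k ≠ 0 := by
    intro h0
    rw [h0, spanBefore_zero, Submodule.mem_bot] at hk1
    exact hx0 hk1
  obtain ⟨k', rfl⟩ : ∃ k', k = k' + 1 := ⟨k - 1, by omega⟩
  have hk'l : k' < l + 1 := by omega
  have := spanBefore_succ (R := R) e ⟨k', hk'l⟩
  simp only at this
  rw [this, Submodule.mem_sup] at hk1
  obtain ⟨y, hy, z, hz, hyz⟩ := hk1
  obtain ⟨u, rfl⟩ := Submodule.mem_span_singleton.mp hz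
  exact ⟨⟨k', hk'l⟩, u, y, hy, by rw [← hyz, add_comm], hk2 k' (Nat.lt_succ_self _)⟩

end Rem

/-! ### The functional `Lam` on plain tuples and the function `Dfun` -/

section Dfun

variable {Q : Type v} [AddCommGroup Q] [Module R Q] (π : M →ₗ[R] Q)
variable {l : ℕ} (lamQ : DetOfLen R Q l →ₗ[ResidueField R] ResidueField R)

open Classical in
/-- The functional `lamQ` on plain tuples (zero on non-admissible ones). -/
noncomputable def Lam (t : Fin l → Q) : ResidueField R :=
  if h : IsAdmissible R Q t then lamQ (cls ⟨t, h⟩) else 0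

theorem Lam_eq (t : Fin l → Q) (h : IsAdmissible R Q t) : Lam lamQ t = lamQ (cls ⟨t, h⟩) :=
  dif_pos h

theorem Lam_zero (t : Fin l → Q) (h : IsAdmissible R Q t) (a : Fin l)
    (ha : t a ∈ spanBefore R Q t a) : Lam lamQ t = 0 := by
  rw [Lam_eq lamQ t h, cls_eq_zero ⟨t, h⟩ a ha, map_zero]

theorem Lam_smul (t t' : Fin l → Q) (h : IsAdmissible R Q t) (h' : IsAdmissible R Q t')
    (a : Fin l) (c : Rˣ) (h1 : ∀ j, j ≠ a → t j = t' j)
    (h2 : t a - (c : R) • t' a ∈ spanBefore R Q t a) :
    Lam lamQ t = residue R (c : R) * Lam lamQ t' := by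
  rw [Lam_eq lamQ t h, Lam_eq lamQ t' h', cls_eq_smul ⟨t, h⟩ ⟨t', h'⟩ a c h1 h2, map_smul,
    smul_eq_mul]

theorem Lam_swap (t t' : Fin l → Q) (h : IsAdmissible R Q t) (h' : IsAdmissible R Q t')
    (a b : Fin l) (hab : (b : ℕ) + 1 = a)
    (h1 : ∀ r ∈ maximalIdeal R, r • t a ∈ spanBefore R Q t b) (h2 : t' = t ∘ Equiv.swap a b) :
    Lam lamQ t + Lam lamQ t' = 0 := by
  rw [Lam_eq lamQ t h, Lam_eq lamQ t' h', cls_eq_neg ⟨t, h⟩ ⟨t', h'⟩ a b hab h1 h2, map_neg,
    neg_add_cancel]

open Classical in
/-- The candidate functional on tuples of `M` obtained by removing the entry where the socle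
element `x` enters the flag. -/
noncomputable def Dfun (x : M) (e : Fin (l + 1) → M) : ResidueField R :=
  if h : ∃ (i : Fin (l + 1)) (u : R) (y : M), Valid x e i u y then
    (-1) ^ ((h.choose : Fin (l + 1)) : ℕ) * (residue R h.choose_spec.choose)⁻¹ *
      Lam lamQ (remT π e h.choose)
  else 0

theorem Dfun_spec (x : M) (e : Fin (l + 1) → M) (he : IsAdmissible R M e)
    {i : Fin (l + 1)} {u : R} {y : M} (hv : Valid x e i u y) :
    Dfun π lamQ x e = (-1) ^ (i : ℕ) * (residue R u)⁻¹ * Lam lamQ (remT π e i) := by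
  have h : ∃ (i : Fin (l + 1)) (u : R) (y : M), Valid x e i u y := ⟨i, u, y, hv⟩
  have key : ∀ (i' : Fin (l + 1)) (u' : R) (y' : M), Valid x e i' u' y' →
      (-1) ^ (i' : ℕ) * (residue R u')⁻¹ * Lam lamQ (remT π e i') =
        (-1) ^ (i : ℕ) * (residue R u)⁻¹ * Lam lamQ (remT π e i) := by
    intro i' u' y' hv'
    obtain ⟨h1, h2⟩ := Valid.unique he hv' hv
    rw [h1, h2]
  unfold Dfun
  rw [dif_pos h]
  exact key _ _ _ h.choose_spec.choose_spec.choose_spec

theorem Dfun_zero (x : M) (e : Fin (l + 1) → M) (h : x ∉ spanBefore R M e (l + 1)) :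
    Dfun π lamQ x e = 0 := by
  unfold Dfun
  rw [dif_neg]
  rintro ⟨i, u, y, hv⟩
  exact h hv.mem_top

theorem Dfun_a {x : M} (hx0 : x ≠ 0) (hπ : π x = 0) (e : Fin (l + 1) → M)
    (he : IsAdmissible R M e) (a : Fin (l + 1)) (ha : e a ∈ spanBefore R M e a) :
    Dfun π lamQ x e = 0 := by
  by_cases hx : x ∈ spanBefore R M e (l + 1)
  · obtain ⟨i, u, y, hv⟩ := exists_valid hx0 hx
    rw [Dfun_spec π lamQ x e he hv]
    have hai : a ≠ i := by
      rintro rfl
      apply hv.2.2; rw [hv.2.1]
      exact Submodule.add_mem _ (Submodule.smul_mem _ _ ha) hv.1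
    obtain ⟨a', rfl⟩ := Fin.exists_succAbove_eq hai
    have hmap := hv.map_mem π hπ he
    have hadm := isAdmissible_remT π e he i hmap
    rw [Lam_zero lamQ _ hadm a' ?_, mul_zero]
    rw [spanBefore_remT π e i hmap a']
    exact Submodule.mem_map_of_mem ha
  · exact Dfun_zero π lamQ x e hx

theorem Dfun_b {x : M} (hx0 : x ≠ 0) (hπ : π x = 0) (e e' : Fin (l + 1) → M)
    (he : IsAdmissible R M e) (he' : IsAdmissible R M e') (a : Fin (l + 1)) (c : Rˣ)
    (h1 : ∀ j, j ≠ a → e j = e' j) (h2 : e a - (c : R) • e' a ∈ spanBefore R M e a) :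
    Dfun π lamQ x e = residue R (c : R) * Dfun π lamQ x e' := by
  have hspa : spanBefore R M e a = spanBefore R M e' a := by
    apply spanBefore_congr
    intro j hj
    exact h1 j (fun h => by rw [h] at hj; exact lt_irrefl _ hj)
  have hupd : Function.update e' a (e a) = e := by
    funext j
    by_cases hj : j = a
    · rw [hj, Function.update_self]
    · rw [Function.update_of_ne hj, h1 j hj]
  have hsp : ∀ k, spanBefore R M e k = spanBefore R M e' k := by
    intro k
    have := spanBefore_update (R := R) e' a (e a) (e a - (c : R) • e' a) c (hspa ▸ h2)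
      (by abel) k
    rw [hupd] at this
    exact this
  have hc0 : residue R (c : R) ≠ 0 := by
    intro h0
    have : (c : R) ∈ maximalIdeal R := (IsLocalRing.residue_eq_zero_iff _).mp h0
    exact (IsLocalRing.mem_maximalIdeal _).mp this c.isUnit
  by_cases hx : x ∈ spanBefore R M e (l + 1)
  · obtain ⟨i, u, y, hv⟩ := exists_valid hx0 hx
    by_cases hai : a = i
    · subst hai
      have hv' : Valid x e' a (u * c) (u • (e a - (c : R) • e' a) + y) := by
        refine ⟨?_, ?_, ?_⟩
        · rw [← hsp]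
          exact Submodule.add_mem _ (Submodule.smul_mem _ _ h2) hv.1
        · rw [hv.2.1, smul_sub, mul_smul]; abel
        · rw [← hsp]; exact hv.2.2
      have hrem : remT π e a = remT π e' a := by
        funext j
        show π (e (a.succAbove j)) = π (e' (a.succAbove j))
        rw [h1 _ (Fin.succAbove_ne a j)]
      rw [Dfun_spec π lamQ x e he hv, Dfun_spec π lamQ x e' he' hv', map_mul, hrem, mul_inv]
      have := mul_inv_cancel₀ hc0
      linear_combination (-(-1) ^ (a : ℕ) * (residue R u)⁻¹ * Lam lamQ (remT π e' a)) * this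
    · have hia : i ≠ a := fun h => hai h.symm
      obtain ⟨a', rfl⟩ := Fin.exists_succAbove_eq hai
      have hv' : Valid x e' i u y := by
        refine ⟨?_, ?_, ?_⟩
        · rw [← hsp]; exact hv.1
        · rw [← h1 i hia]; exact hv.2.1
        · rw [← hsp]; exact hv.2.2
      have hmap := hv.map_mem π hπ he
      have hmap' := hv'.map_mem π hπ he'
      have hadm := isAdmissible_remT π e he i hmap
      have hadm' := isAdmissible_remT π e' he' i hmap'
      have hL := Lam_smul lamQ (remT π e i) (remT π e' i) hadm hadm' a' c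
        (fun j hj => by
          show π (e (i.succAbove j)) = π (e' (i.succAbove j))
          rw [h1 _ (fun h => hj (Fin.succAbove_right_injective h))])
        (by
          rw [spanBefore_remT π e i hmap a']
          show π (e (i.succAbove a')) - (c : R) • π (e' (i.succAbove a')) ∈ _
          rw [← map_smul, ← map_sub]
          exact Submodule.mem_map_of_mem h2)
      rw [Dfun_spec π lamQ x e he hv, Dfun_spec π lamQ x e' he' hv', hL]
      ring
  · have hx' : x ∉ spanBefore R M e' (l + 1) := by rw [← hsp]; exact hx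
    rw [Dfun_zero π lamQ x e hx, Dfun_zero π lamQ x e' hx', mul_zero]

end Dfun

theorem swap_succAbove_left {n : ℕ} (a b : Fin (n + 1)) (hab : (b : ℕ) + 1 = a) (j : Fin n) :
    Equiv.swap a b (a.succAbove j) = b.succAbove j := by
  apply Fin.ext
  rw [swap_val]
  have h1 : a.succAbove j ≠ a := Fin.succAbove_ne _ _
  rw [if_neg h1]
  by_cases h2 : a.succAbove j = b
  · rw [if_pos h2]
    have := congrArg Fin.val h2
    rw [val_succAbove] at this
    rw [val_succAbove]
    split_ifs at this ⊢ <;> omega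
  · rw [if_neg h2]
    have : ((a.succAbove j : Fin (n + 1)) : ℕ) ≠ b := fun h => h2 (Fin.ext h)
    rw [val_succAbove] at this ⊢
    rw [val_succAbove]
    split_ifs at this ⊢ <;> omega

theorem swap_succAbove_right {n : ℕ} (a b : Fin (n + 1)) (hab : (b : ℕ) + 1 = a) (j : Fin n) :
    Equiv.swap a b (b.succAbove j) = a.succAbove j := by
  apply Fin.ext
  rw [swap_val]
  have h1 : b.succAbove j ≠ b := Fin.succAbove_ne _ _
  by_cases h2 : b.succAbove j = a
  · rw [if_pos h2]
    have := congrArg Fin.val h2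
    rw [val_succAbove] at this
    rw [val_succAbove]
    split_ifs at this ⊢ <;> omega
  · rw [if_neg h2, if_neg h1]
    have : ((b.succAbove j : Fin (n + 1)) : ℕ) ≠ a := fun h => h2 (Fin.ext h)
    rw [val_succAbove] at this ⊢
    rw [val_succAbove]
    split_ifs at this ⊢ <;> omega

section DfunC

variable {Q : Type v} [AddCommGroup Q] [Module R Q] (π : M →ₗ[R] Q)
variable {l : ℕ} (lamQ : DetOfLen R Q l →ₗ[ResidueField R] ResidueField R)

theorem Dfun_c {x : M} (hx0 : x ≠ 0) (hπ : π x = 0) (e : Fin (l + 1) → M)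
    (he : IsAdmissible R M e) (a b : Fin (l + 1)) (hab : (b : ℕ) + 1 = a)
    (he' : IsAdmissible R M (e ∘ Equiv.swap a b))
    (hm : ∀ r ∈ maximalIdeal R, r • e a ∈ spanBefore R M e b) :
    Dfun π lamQ x e + Dfun π lamQ x (e ∘ Equiv.swap a b) = 0 := by
  have hne : a ≠ b := fun h => by rw [h] at hab; omega
  have he'a : (e ∘ Equiv.swap a b) a = e b := by simp
  have he'b : (e ∘ Equiv.swap a b) b = e a := by simp
  have hFa : spanBefore R M e a = spanBefore R M e b ⊔ Submodule.span R {e b} := by
    rw [← hab, spanBefore_succ]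
  have hF'a : spanBefore R M (e ∘ Equiv.swap a b) a =
      spanBefore R M e b ⊔ Submodule.span R {e a} := spanBefore_swap_at e a b hab
  have hF'b : spanBefore R M (e ∘ Equiv.swap a b) b = spanBefore R M e b :=
    spanBefore_swap_of_le e a b hab le_rfl
  have hFba : spanBefore R M e b ≤ spanBefore R M e a := spanBefore_mono e (by omega)
  by_cases hx : x ∈ spanBefore R M e (l + 1)
  swap
  · have hx' : x ∉ spanBefore R M (e ∘ Equiv.swap a b) (l + 1) := by
      rw [spanBefore_swap_of_gt e a b hab a.2]; exact hx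
    rw [Dfun_zero π lamQ x e hx, Dfun_zero π lamQ x _ hx', add_zero]
  obtain ⟨i, u, y, hv⟩ := exists_valid hx0 hx
  by_cases hib : i = b
  · rw [hib] at hv
    by_cases hxa : x ∈ spanBefore R M e b ⊔ Submodule.span R {e a}
    · -- both vanish
      obtain ⟨y', hy', z, hz, hyz⟩ := Submodule.mem_sup.mp hxa
      obtain ⟨u', rfl⟩ := Submodule.mem_span_singleton.mp hz
      have hv'b : Valid x (e ∘ Equiv.swap a b) b u' y' := by
        refine ⟨?_, ?_, ?_⟩
        · rw [hF'b]; exact hy'
        · rw [he'b, ← hyz, add_comm]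
        · rw [hF'b]; exact hv.2.2
      obtain ⟨j₀, hj₀⟩ := Fin.exists_succAbove_eq hne
      have hmap := hv.map_mem π hπ he
      have hmap' := hv'b.map_mem π hπ he'
      have hadm := isAdmissible_remT π e he b hmap
      have hadm' := isAdmissible_remT π _ he' b hmap'
      have hD : Dfun π lamQ x e = 0 := by
        rw [Dfun_spec π lamQ x e he hv, Lam_zero lamQ _ hadm j₀ ?_, mul_zero]
        rw [spanBefore_remT π e b hmap j₀]
        show π (e (b.succAbove j₀)) ∈ _
        rw [hj₀]
        have : π (e a) ∈ (spanBefore R M e b).map π := by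
          rw [he'b, hF'b] at hmap'; exact hmap'
        exact Submodule.map_mono hFba this
      have hD' : Dfun π lamQ x (e ∘ Equiv.swap a b) = 0 := by
        rw [Dfun_spec π lamQ x _ he' hv'b, Lam_zero lamQ _ hadm' j₀ ?_, mul_zero]
        rw [spanBefore_remT π _ b hmap' j₀]
        show π ((e ∘ Equiv.swap a b) (b.succAbove j₀)) ∈ _
        rw [hj₀, he'a, hF'a]
        exact Submodule.map_mono le_sup_left hmap
      rw [hD, hD', add_zero]
    · have hv'a : Valid x (e ∘ Equiv.swap a b) a u y := by
        refine ⟨?_, ?_, ?_⟩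
        · rw [hF'a]; exact Submodule.mem_sup_left hv.1
        · rw [he'a]; exact hv.2.1
        · rw [hF'a]; exact hxa
      have hrem : remT π (e ∘ Equiv.swap a b) a = remT π e b := by
        funext j
        show π (e (Equiv.swap a b (a.succAbove j))) = π (e (b.succAbove j))
        rw [swap_succAbove_left a b hab j]
      rw [Dfun_spec π lamQ x e he hv, Dfun_spec π lamQ x _ he' hv'a, hrem, ← hab, pow_succ]
      ring
  by_cases hia : i = a
  · rw [hia] at hv
    have hxb : x ∉ spanBefore R M e b := fun h => hv.2.2 (hFba h)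
    by_cases hxa : x ∈ spanBefore R M e b ⊔ Submodule.span R {e a}
    · obtain ⟨y', hy', z, hz, hyz⟩ := Submodule.mem_sup.mp hxa
      obtain ⟨u', rfl⟩ := Submodule.mem_span_singleton.mp hz
      have hv'b : Valid x (e ∘ Equiv.swap a b) b u' y' :=
        ⟨by rw [hF'b]; exact hy', by rw [he'b, ← hyz, add_comm], by rw [hF'b]; exact hxb⟩
      have hv2 : Valid x e a u' y' := ⟨hFba hy', by rw [← hyz, add_comm], hv.2.2⟩
      have hres := (Valid.unique he hv hv2).2
      have hrem : remT π (e ∘ Equiv.swap a b) b = remT π e a := by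
        funext j
        show π (e (Equiv.swap a b (b.succAbove j))) = π (e (a.succAbove j))
        rw [swap_succAbove_right a b hab j]
      rw [Dfun_spec π lamQ x e he hv, Dfun_spec π lamQ x _ he' hv'b, hrem, hres, ← hab, pow_succ]
      ring
    · have hy := hv.1
      rw [hFa] at hy
      obtain ⟨f, hf, z, hz, hfz⟩ := Submodule.mem_sup.mp hy
      obtain ⟨t, rfl⟩ := Submodule.mem_span_singleton.mp hz
      have hv'a : Valid x (e ∘ Equiv.swap a b) a t (u • e a + f) := by
        refine ⟨?_, ?_, ?_⟩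
        · rw [hF'a]
          exact Submodule.add_mem _ (Submodule.mem_sup_right (Submodule.smul_mem _ _
            (Submodule.mem_span_singleton_self _))) (Submodule.mem_sup_left hf)
        · rw [he'a, hv.2.1, ← hfz]; abel
        · rw [hF'a]; exact hxa
      obtain ⟨uu, rfl⟩ := hv.isUnit he
      obtain ⟨tt, rfl⟩ := hv'a.isUnit he'
      obtain ⟨b', hb'⟩ := Fin.exists_succAbove_eq (Ne.symm hne)
      have hmap := hv.map_mem π hπ he
      have hmap' := hv'a.map_mem π hπ he'
      have hadm := isAdmissible_remT π e he a hmap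
      have hadm' := isAdmissible_remT π _ he' a hmap'
      have hx0' : (uu : R) • π (e a) + ((tt : R) • π (e b) + π f) = 0 := by
        rw [← map_smul, ← map_smul, ← map_add, ← map_add, ← hπ, hv.2.1, ← hfz]
        congr 1; abel
      have hkey : π (e a) - ((-(uu⁻¹ * tt) : Rˣ) : R) • π (e b) =
          π ((-((uu⁻¹ : Rˣ) : R)) • f) := by
        have h3 := congrArg (fun w => ((uu⁻¹ : Rˣ) : R) • w) hx0'
        simp only [smul_add, smul_smul, Units.inv_mul, one_smul, smul_zero] at h3
        rw [map_smul, neg_smul, Units.val_neg, neg_smul, sub_neg_eq_add, Units.val_mul,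
          eq_neg_iff_add_eq_zero, add_assoc]
        exact h3
      have hL := Lam_smul lamQ (remT π (e ∘ Equiv.swap a b) a) (remT π e a) hadm' hadm b'
        (-(uu⁻¹ * tt))
        (fun j hj => by
          show π (e (Equiv.swap a b (a.succAbove j))) = π (e (a.succAbove j))
          rw [Equiv.swap_apply_of_ne_of_ne (Fin.succAbove_ne a j)
            (fun h => hj (Fin.succAbove_right_injective (h.trans hb'.symm)))])
        (by
          rw [spanBefore_remT π _ a hmap' b', hb', hF'b]
          show π (e (Equiv.swap a b (a.succAbove b'))) -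
            ((-(uu⁻¹ * tt) : Rˣ) : R) • π (e (a.succAbove b')) ∈ _
          rw [hb', Equiv.swap_apply_right, hkey]
          exact Submodule.mem_map_of_mem (Submodule.smul_mem _ _ hf))
      have ht0 : residue R (tt : R) ≠ 0 := by
        intro h0
        have : (tt : R) ∈ maximalIdeal R := (IsLocalRing.residue_eq_zero_iff _).mp h0
        exact (IsLocalRing.mem_maximalIdeal _).mp this tt.isUnit
      have hres : residue R ((-(uu⁻¹ * tt) : Rˣ) : R) =
          -((residue R (uu : R))⁻¹ * residue R (tt : R)) := by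
        rw [Units.val_neg, Units.val_mul, map_neg, map_mul, map_units_inv]
      rw [Dfun_spec π lamQ x e he hv, Dfun_spec π lamQ x _ he' hv'a, hL, hres]
      have := inv_mul_cancel₀ ht0
      linear_combination (-((-1) ^ (a : ℕ) * (residue R (uu : R))⁻¹ *
        Lam lamQ (remT π e a))) * this
  · have hi' : (e ∘ Equiv.swap a b) i = e i := by
      show e (Equiv.swap a b i) = e i
      rw [Equiv.swap_apply_of_ne_of_ne hia hib]
    have hspi : spanBefore R M (e ∘ Equiv.swap a b) i = spanBefore R M e i := by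
      by_cases h : (i : ℕ) ≤ b
      · exact spanBefore_swap_of_le e a b hab h
      · apply spanBefore_swap_of_gt e a b hab
        have : (i : ℕ) ≠ a := fun h' => hia (Fin.ext h')
        omega
    have hv' : Valid x (e ∘ Equiv.swap a b) i u y :=
      ⟨by rw [hspi]; exact hv.1, by rw [hi']; exact hv.2.1, by rw [hspi]; exact hv.2.2⟩
    obtain ⟨a', ha'⟩ := Fin.exists_succAbove_eq (Ne.symm hia)
    obtain ⟨b', hb'⟩ := Fin.exists_succAbove_eq (Ne.symm hib)
    have hab' : (b' : ℕ) + 1 = a' := by
      have h1 := congrArg Fin.val ha'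
      have h2 := congrArg Fin.val hb'
      rw [val_succAbove] at h1 h2
      have h3 : (i : ℕ) ≠ a := fun h' => hia (Fin.ext h')
      have h4 : (i : ℕ) ≠ b := fun h' => hib (Fin.ext h')
      split_ifs at h1 h2 <;> omega
    have hmap := hv.map_mem π hπ he
    have hmap' := hv'.map_mem π hπ he'
    have hadm := isAdmissible_remT π e he i hmap
    have hadm' := isAdmissible_remT π _ he' i hmap'
    have hremswap : remT π (e ∘ Equiv.swap a b) i = remT π e i ∘ Equiv.swap a' b' := by
      funext j
      show π (e (Equiv.swap a b (i.succAbove j))) = π (e (i.succAbove (Equiv.swap a' b' j)))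
      rw [← ha', ← hb', Function.Injective.swap_apply Fin.succAbove_right_injective]
    have hL := Lam_swap lamQ (remT π e i) (remT π (e ∘ Equiv.swap a b) i) hadm hadm' a' b' hab'
      ?_ hremswap
    · rw [Dfun_spec π lamQ x e he hv, Dfun_spec π lamQ x _ he' hv', ← mul_add, hL, mul_zero]
    · intro r hr
      rw [spanBefore_remT π e i hmap b', hb']
      show r • π (e (i.succAbove a')) ∈ _
      rw [ha', ← map_smul]
      exact Submodule.mem_map_of_mem (hm r hr)

end DfunC

/-! ### A socle element and the induction -/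

theorem exists_socle [IsArtinian R M] [Nontrivial M] :
    ∃ x : M, x ≠ 0 ∧ (∀ r ∈ maximalIdeal R, r • x = 0) ∧
      IsSimpleModule R (Submodule.span R {x}) := by
  haveI : IsAtomic (Submodule R M) := isAtomic_of_orderBot_wellFounded_lt IsWellFounded.wf
  obtain ⟨S, hS, -⟩ := (eq_bot_or_exists_atom_le (⊤ : Submodule R M)).resolve_left top_ne_bot
  obtain ⟨x, hxS, hx0⟩ := Submodule.exists_mem_ne_zero_of_ne_bot hS.1
  have hspan : Submodule.span R {x} = S := by
    refine (hS.le_iff_eq ?_).mp ?_
    · intro h; apply hx0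
      have := Submodule.mem_span_singleton_self (R := R) x
      rw [h] at this; exact (Submodule.mem_bot R).mp this
    · rw [Submodule.span_le]; rintro _ rfl; exact hxS
  have hatom : IsAtom (Submodule.span R {x}) := hspan ▸ hS
  refine ⟨x, hx0, ?_, isSimpleModule_iff_isAtom.mpr hatom⟩
  intro r hr
  by_contra hrx
  have h1 : Submodule.span R {r • x} = Submodule.span R {x} := by
    refine (hatom.le_iff_eq ?_).mp ?_
    · intro h; apply hrx
      have := Submodule.mem_span_singleton_self (R := R) (r • x)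
      rw [h] at this; exact (Submodule.mem_bot R).mp this
    · rw [Submodule.span_le]; rintro _ rfl
      exact Submodule.smul_mem _ _ (Submodule.mem_span_singleton_self x)
  have h2 : x ∈ Submodule.span R {r • x} := h1 ▸ Submodule.mem_span_singleton_self x
  obtain ⟨s, hs⟩ := Submodule.mem_span_singleton.mp h2
  have hunit : IsUnit (1 - s * r) := by
    apply IsLocalRing.isUnit_one_sub_self_of_mem_nonunits
    exact (IsLocalRing.mem_maximalIdeal _).mp (Ideal.mul_mem_left _ _ hr)
  obtain ⟨w, hw⟩ := hunit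
  have h3 : (1 - s * r) • x = 0 := by
    rw [sub_smul, one_smul, mul_smul, hs, sub_self]
  apply hx0
  have : x = ((w⁻¹ : Rˣ) : R) • ((w : R) • x) := by rw [smul_smul, Units.inv_mul, one_smul]
  rw [this, hw, h3, smul_zero]

theorem exists_functional_ne_zero : ∀ (l : ℕ) (M : Type v) [AddCommGroup M] [Module R M],
    Module.length R M = l → ∃ lam : DetOfLen R M l →ₗ[ResidueField R] ResidueField R,
      ∀ e : Adm R M l, Submodule.span R (Set.range e.1) = ⊤ → lam (cls e) ≠ 0 := by
  intro l
  induction l with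
  | zero =>
    intro M _ _ _
    obtain ⟨lam, hlam⟩ := exists_functional (R := R) (M := M) (l := 0) (fun _ => 1)
      (fun e a => a.elim0) (fun e e' a => a.elim0) (fun e e' a => a.elim0)
    exact ⟨lam, fun e _ => by rw [hlam]; exact one_ne_zero⟩
  | succ l ih =>
    intro M _ _ hlen
    have hfl : IsFiniteLength R M :=
      Module.length_ne_top_iff.mp (by rw [hlen]; exact ENat.coe_ne_top _)
    obtain ⟨hN, hA⟩ := isFiniteLength_iff_isNoetherian_isArtinian.mp hfl
    haveI : Nontrivial M := by
      by_contra hnt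
      rw [not_nontrivial_iff_subsingleton] at hnt
      have h0 : Module.length R M = 0 := Module.length_eq_zero
      rw [hlen] at h0
      exact absurd h0 (by simp)
    obtain ⟨x, hx0, hxm, hsimple⟩ := exists_socle (R := R) (M := M)
    obtain ⟨S, hSdef⟩ : ∃ S : Submodule R M, S = Submodule.span R {x} := ⟨_, rfl⟩
    have hlenQ : Module.length R (M ⧸ S) = l := by
      have h1 := Module.length_eq_add_of_exact S.subtype S.mkQ (Submodule.subtype_injective _)
        (Submodule.mkQ_surjective _) (LinearMap.exact_subtype_mkQ S)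
      have h2 : Module.length R S = 1 := by
        rw [hSdef]; exact Module.length_eq_one_iff.mpr hsimple
      rw [hlen, h2] at h1
      have hne : Module.length R (M ⧸ S) ≠ ⊤ := by
        intro htop
        rw [htop, add_top] at h1
        exact ENat.coe_ne_top _ h1
      obtain ⟨n, hn⟩ := ENat.ne_top_iff_exists.mp hne
      rw [← hn] at h1 ⊢
      have : l + 1 = 1 + n := by exact_mod_cast h1
      have : n = l := by omega
      rw [this]
    obtain ⟨lamQ, hlamQ⟩ := ih (M ⧸ S) hlenQ
    have hπx : S.mkQ x = 0 := by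
      rw [Submodule.mkQ_apply, Submodule.Quotient.mk_eq_zero, hSdef]
      exact Submodule.mem_span_singleton_self x
    obtain ⟨lam, hlam⟩ := exists_functional (R := R) (M := M) (l := l + 1)
      (fun e => Dfun S.mkQ lamQ x e.1)
      (fun e a ha => Dfun_a S.mkQ lamQ hx0 hπx e.1 e.2 a ha)
      (fun e e' a c h1 h2 => Dfun_b S.mkQ lamQ hx0 hπx e.1 e'.1 e.2 e'.2 a c h1 h2)
      (fun e e' a b hab h1 h2 => by
        have := Dfun_c S.mkQ lamQ hx0 hπx e.1 e.2 a b hab (h2 ▸ e'.2) h1
        rw [← h2] at this; exact this)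
    refine ⟨lam, fun e he => ?_⟩
    rw [hlam]
    have hx : x ∈ spanBefore R M e.1 (l + 1) := by
      rw [spanBefore_eq_range, he]; trivial
    obtain ⟨i, u, y, hv⟩ := exists_valid hx0 hx
    show Dfun S.mkQ lamQ x e.1 ≠ 0
    rw [Dfun_spec S.mkQ lamQ x e.1 e.2 hv]
    have hmap := hv.map_mem S.mkQ hπx e.2
    have hadm := isAdmissible_remT S.mkQ e.1 e.2 i hmap
    have hgen : Submodule.span R (Set.range (remT S.mkQ e.1 i)) = ⊤ := by
      rw [← spanBefore_eq_range, spanBefore_remT_top S.mkQ e.1 i hmap, spanBefore_eq_range, he,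
        Submodule.map_top, Submodule.range_mkQ]
    rw [Lam_eq lamQ _ hadm]
    have hne := hlamQ ⟨_, hadm⟩ hgen
    have hu : residue R u ≠ 0 := by
      obtain ⟨uu, rfl⟩ := hv.isUnit e.2
      intro h0
      have : (uu : R) ∈ maximalIdeal R := (IsLocalRing.residue_eq_zero_iff _).mp h0
      exact (IsLocalRing.mem_maximalIdeal _).mp this uu.isUnit
    exact mul_ne_zero (mul_ne_zero (pow_ne_zero _ (neg_ne_zero.mpr one_ne_zero))
      (inv_ne_zero hu)) hne

end Groth.Agent.H46.CD
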