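import Mathlib
import Groth.Prelude.Def_CycDet
import Groth.Agent.H46.CycDet
import Groth.Agent.H46.CycDetNZ

set_option autoImplicit false
set_option linter.style.haveILetI false
set_option linter.unusedSectionVars false

universe u v

namespace Groth.Agent.H46.CD

open CycDet IsLocalRing

variable {R : Type u} [CommRing R] [IsLocalRing R]

section General

variable {M : Type v} [AddCommGroup M] [Module R M]

theorem exists_linear {N : Type*} [AddCommGroup N] [Module (ResidueField R) N] {l : ℕ}
    (D : Adm R M l → N)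
    (ha : ∀ (e : Adm R M l) (a : Fin l), e.1 a ∈ spanBefore R M e.1 a → D e = 0)
    (hb : ∀ (e e' : Adm R M l) (a : Fin l) (c : Rˣ), (∀ j, j ≠ a → e.1 j = e'.1 j) →
      e.1 a - (c : R) • e'.1 a ∈ spanBefore R M e.1 a → D e = residue R (c : R) • D e')
    (hc : ∀ (e e' : Adm R M l) (a b : Fin l), (b : ℕ) + 1 = (a : ℕ) →
      (∀ r ∈ maximalIdeal R, r • e.1 a ∈ spanBefore R M e.1 b) →
      e'.1 = e.1 ∘ Equiv.swap a b → D e + D e' = 0) :
    ∃ φ : DetOfLen R M l →ₗ[ResidueField R] N, ∀ e, φ (cls e) = D e := by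
  obtain ⟨F, hFdef⟩ : ∃ F : Free R M l →ₗ[ResidueField R] N,
      F = Finsupp.lift N (ResidueField R) (Adm R M l) D := ⟨_, rfl⟩
  have hF : ∀ e, F (sym R M e) = D e := by
    intro e; rw [hFdef]; simp [sym]
  have hker : Submodule.span (ResidueField R) (relSet R M l) ≤ LinearMap.ker F := by
    rw [Submodule.span_le]
    rintro x ((⟨e, a, ha', rfl⟩ | ⟨e, e', a, c, h1, h2, rfl⟩) | ⟨e, e', a, b, hab, h1, h2, rfl⟩)
    · rw [SetLike.mem_coe, LinearMap.mem_ker, hF]; exact ha e a ha'
    · rw [SetLike.mem_coe, LinearMap.mem_ker, map_sub, map_smul, hF, hF, sub_eq_zero]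
      exact hb e e' a c h1 h2
    · rw [SetLike.mem_coe, LinearMap.mem_ker, map_add, hF, hF]; exact hc e e' a b hab h1 h2
  refine ⟨Submodule.liftQ _ F hker, fun e => ?_⟩
  show Submodule.liftQ _ F hker (Submodule.Quotient.mk (sym R M e)) = D e
  rw [Submodule.liftQ_apply, hF]

theorem spanBefore_eq_of_sub_mem {l : ℕ} (e e' : Fin l → M)
    (h : ∀ k : Fin l, e k - e' k ∈ spanBefore R M e' k) :
    ∀ n, spanBefore R M e n = spanBefore R M e' n := by
  intro n
  induction n with
  | zero => rw [spanBefore_zero, spanBefore_zero]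
  | succ n ih =>
    by_cases hn : n < l
    · have h1 := spanBefore_succ (R := R) e ⟨n, hn⟩
      have h2 := spanBefore_succ (R := R) e' ⟨n, hn⟩
      simp only at h1 h2
      rw [h1, h2, ih]
      have hd := h ⟨n, hn⟩
      apply le_antisymm
      · apply sup_le le_sup_left
        rw [Submodule.span_le, Set.singleton_subset_iff]
        have : e ⟨n, hn⟩ = (e ⟨n, hn⟩ - e' ⟨n, hn⟩) + e' ⟨n, hn⟩ := by abel
        rw [SetLike.mem_coe, this]
        exact Submodule.add_mem _ (Submodule.mem_sup_left hd)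
          (Submodule.mem_sup_right (Submodule.mem_span_singleton_self _))
      · apply sup_le le_sup_left
        rw [Submodule.span_le, Set.singleton_subset_iff]
        have : e' ⟨n, hn⟩ = e ⟨n, hn⟩ - (e ⟨n, hn⟩ - e' ⟨n, hn⟩) := by abel
        rw [SetLike.mem_coe, this]
        exact Submodule.sub_mem _ (Submodule.mem_sup_right (Submodule.mem_span_singleton_self _))
          (Submodule.mem_sup_left hd)
    · have hst : ∀ (t : Fin l → M), spanBefore R M t (n + 1) = spanBefore R M t n := fun t =>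
        le_antisymm (spanBefore_le t (fun j _ => mem_spanBefore t j (by have := j.2; omega)))
          (spanBefore_mono t (Nat.le_succ n))
      rw [hst, hst, ih]

theorem cls_eq_of_sub_mem {l : ℕ} : ∀ (n : ℕ) (e e' : Adm R M l),
    (∀ k : Fin l, n ≤ (k : ℕ) → e.1 k = e'.1 k) →
    (∀ k : Fin l, e.1 k - e'.1 k ∈ spanBefore R M e'.1 k) → cls e = cls e' := by
  intro n
  induction n with
  | zero =>
    intro e e' h1 _
    have : e = e' := Subtype.ext (funext fun k => h1 k (Nat.zero_le _))
    rw [this]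
  | succ n ih =>
    intro e e' h1 h
    by_cases hn : n < l
    swap
    · exact ih e e' (fun k hk => absurd k.2 (by omega)) h
    obtain ⟨kn, hkn⟩ : ∃ kn : Fin l, kn = ⟨n, hn⟩ := ⟨_, rfl⟩
    have hknv : (kn : ℕ) = n := by rw [hkn]
    have hfl := spanBefore_eq_of_sub_mem (R := R) e.1 e'.1 h
    have hy : e'.1 kn - e.1 kn ∈ spanBefore R M e.1 kn := by
      rw [hfl]
      have := Submodule.neg_mem _ (h kn)
      rwa [neg_sub] at this
    have hsp := spanBefore_update (R := R) e.1 kn (e'.1 kn) (e'.1 kn - e.1 kn) 1 hy (by simp)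
    have hadm'' : IsAdmissible R M (Function.update e.1 kn (e'.1 kn)) := by
      intro i r hr
      rw [hsp]
      by_cases hi : i = kn
      · rw [hi, Function.update_self, hfl]; exact e'.2 kn r hr
      · rw [Function.update_of_ne hi]; exact e.2 i r hr
    have step1 : cls e = cls ⟨_, hadm''⟩ := by
      have := cls_eq_smul e ⟨_, hadm''⟩ kn 1
        (fun j hj => (Function.update_of_ne hj _ _).symm)
        (by
          show e.1 kn - ((1 : Rˣ) : R) • Function.update e.1 kn (e'.1 kn) kn ∈
            spanBefore R M e.1 kn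
          rw [Function.update_self, Units.val_one, one_smul, hfl]
          exact h kn)
      rw [this, Units.val_one, map_one, one_smul]
    have step2 : cls (⟨_, hadm''⟩ : Adm R M l) = cls e' := by
      apply ih
      · intro k hk
        show Function.update e.1 kn (e'.1 kn) k = e'.1 k
        by_cases hkk : k = kn
        · rw [hkk, Function.update_self]
        · rw [Function.update_of_ne hkk]
          apply h1
          have : (k : ℕ) ≠ n := fun h' => hkk (Fin.ext (h'.trans hknv.symm))
          omega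
      · intro k
        show Function.update e.1 kn (e'.1 kn) k - e'.1 k ∈ _
        by_cases hkk : k = kn
        · rw [hkk, Function.update_self, sub_self]; exact Submodule.zero_mem _
        · rw [Function.update_of_ne hkk]; exact h k
    rw [step1, step2]

end General

section Cat

variable {K : Type v} {L : Type v} {M : Type v} [AddCommGroup K] [Module R K]
  [AddCommGroup L] [Module R L] [AddCommGroup M] [Module R M]
  (f : K →ₗ[R] L) (g : L →ₗ[R] M)

/-- `eL` is a concatenation of the image of `eK` and lifts of `eM`. -/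
def IsCat {lK lM : ℕ} (eK : Fin lK → K) (eM : Fin lM → M) (eL : Fin (lK + lM) → L) : Prop :=
  (∀ i, eL (Fin.castAdd lM i) = f (eK i)) ∧ (∀ j, g (eL (Fin.natAdd lK j)) = eM j)

variable {f g}

theorem IsCat.spanBefore_left {lK lM : ℕ} {eK : Fin lK → K} {eM : Fin lM → M}
    {eL : Fin (lK + lM) → L} (h : IsCat f g eK eM eL) (n : ℕ) (hn : n ≤ lK) :
    spanBefore R L eL n = (spanBefore R K eK n).map f := by
  apply le_antisymm
  · apply spanBefore_le
    intro k hk
    have hk' : (k : ℕ) < lK := by omega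
    have : k = Fin.castAdd lM ⟨k, hk'⟩ := Fin.ext rfl
    rw [this, h.1]
    exact Submodule.mem_map_of_mem (mem_spanBefore eK _ hk)
  · rw [Submodule.map_le_iff_le_comap]
    apply spanBefore_le
    intro i hi
    rw [Submodule.mem_comap, ← h.1]
    exact mem_spanBefore eL _ (by rw [Fin.val_castAdd]; exact hi)

theorem IsCat.spanBefore_right {lK lM : ℕ} {eK : Fin lK → K} {eM : Fin lM → M}
    {eL : Fin (lK + lM) → L} (h : IsCat f g eK eM eL)
    (hfg : LinearMap.range f = LinearMap.ker g)
    (hgen : Submodule.span R (Set.range eK) = ⊤) (m : ℕ) :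
    spanBefore R L eL (lK + m) = (spanBefore R M eM m).comap g := by
  apply le_antisymm
  · apply spanBefore_le
    intro k hk
    rw [Submodule.mem_comap]
    induction k using Fin.addCases with
    | left i =>
      rw [h.1]
      have : f (eK i) ∈ LinearMap.ker g := hfg ▸ LinearMap.mem_range_self f _
      rw [LinearMap.mem_ker.mp this]
      exact Submodule.zero_mem _
    | right j =>
      rw [h.2]
      rw [Fin.val_natAdd] at hk
      exact mem_spanBefore eM j (by omega)
  · have hker : LinearMap.ker g ≤ spanBefore R L eL (lK + m) := by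
      rw [← hfg, LinearMap.range_eq_map, ← hgen, Submodule.map_span, Submodule.span_le]
      rintro _ ⟨_, ⟨i, rfl⟩, rfl⟩
      rw [← h.1]
      exact mem_spanBefore eL _ (by rw [Fin.val_castAdd]; have := i.2; omega)
    have himg : spanBefore R M eM m ≤ (spanBefore R L eL (lK + m)).map g := by
      apply spanBefore_le
      intro j hj
      rw [← h.2]
      exact Submodule.mem_map_of_mem (mem_spanBefore eL _ (by rw [Fin.val_natAdd]; omega))
    intro y hy
    rw [Submodule.mem_comap] at hy
    obtain ⟨n, hn, hgn⟩ := himg hy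
    have : y - n ∈ LinearMap.ker g := by rw [LinearMap.mem_ker, map_sub, hgn, sub_self]
    have h2 := Submodule.add_mem _ (hker this) hn
    rwa [sub_add_cancel] at h2

theorem IsCat.isAdmissible {lK lM : ℕ} {eK : Fin lK → K} {eM : Fin lM → M}
    {eL : Fin (lK + lM) → L} (h : IsCat f g eK eM eL)
    (hfg : LinearMap.range f = LinearMap.ker g)
    (hgen : Submodule.span R (Set.range eK) = ⊤)
    (hK : IsAdmissible R K eK) (hM : IsAdmissible R M eM) : IsAdmissible R L eL := by
  intro k r hr
  induction k using Fin.addCases with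
  | left i =>
    rw [Fin.val_castAdd, h.spanBefore_left _ (le_of_lt i.2), h.1, ← map_smul]
    exact Submodule.mem_map_of_mem (hK i r hr)
  | right j =>
    rw [Fin.val_natAdd, h.spanBefore_right hfg hgen, Submodule.mem_comap, map_smul, h.2]
    exact hM j r hr

theorem IsCat.span_eq_top {lK lM : ℕ} {eK : Fin lK → K} {eM : Fin lM → M}
    {eL : Fin (lK + lM) → L} (h : IsCat f g eK eM eL)
    (hfg : LinearMap.range f = LinearMap.ker g)
    (hgen : Submodule.span R (Set.range eK) = ⊤)
    (hgenM : Submodule.span R (Set.range eM) = ⊤) :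
    Submodule.span R (Set.range eL) = ⊤ := by
  rw [← spanBefore_eq_range, h.spanBefore_right hfg hgen, spanBefore_eq_range, hgenM,
    Submodule.comap_top]

variable (f) in
/-- The concatenation with lifts given by a section `s`. -/
def cat (s : M → L) {lK lM : ℕ} (eK : Fin lK → K) (eM : Fin lM → M) : Fin (lK + lM) → L :=
  Fin.addCases (fun i => f (eK i)) (fun j => s (eM j))

theorem cat_left (s : M → L) {lK lM : ℕ} (eK : Fin lK → K) (eM : Fin lM → M) (i : Fin lK) :
    cat f s eK eM (Fin.castAdd lM i) = f (eK i) := Fin.addCases_left _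

theorem cat_right (s : M → L) {lK lM : ℕ} (eK : Fin lK → K) (eM : Fin lM → M) (j : Fin lM) :
    cat f s eK eM (Fin.natAdd lK j) = s (eM j) := Fin.addCases_right _

theorem isCat_cat (s : M → L) (hs : ∀ m, g (s m) = m) {lK lM : ℕ} (eK : Fin lK → K)
    (eM : Fin lM → M) : IsCat f g eK eM (cat f s eK eM) :=
  ⟨fun i => cat_left s eK eM i, fun j => by rw [cat_right, hs]⟩

end Cat

section PsiPhi

variable {K : Type v} {L : Type v} {M : Type v} [AddCommGroup K] [Module R K]
  [AddCommGroup L] [Module R L] [AddCommGroup M] [Module R M]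
  {f : K →ₗ[R] L} {g : L →ₗ[R] M}

theorem cls_eq_of_isCat (hfg : LinearMap.range f = LinearMap.ker g) {lK lM : ℕ}
    (eK : Fin lK → K) (hgen : Submodule.span R (Set.range eK) = ⊤) (eM : Fin lM → M)
    (eL eL' : Adm R L (lK + lM)) (h : IsCat f g eK eM eL.1) (h' : IsCat f g eK eM eL'.1) :
    cls eL = cls eL' := by
  apply cls_eq_of_sub_mem (lK + lM) eL eL' (fun k hk => absurd k.2 (by omega))
  intro k
  induction k using Fin.addCases with
  | left i => rw [h.1, h'.1, sub_self]; exact Submodule.zero_mem _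
  | right j =>
    rw [Fin.val_natAdd, h'.spanBefore_right hfg hgen, Submodule.mem_comap, map_sub, h.2, h'.2,
      sub_self]
    exact Submodule.zero_mem _

theorem exists_psi (hfg : LinearMap.range f = LinearMap.ker g) (hg : Function.Surjective g)
    {lK lM : ℕ} (eK : Adm R K lK) (hgen : Submodule.span R (Set.range eK.1) = ⊤) :
    ∃ ψ : DetOfLen R M lM →ₗ[ResidueField R] DetOfLen R L (lK + lM),
      ∀ (eM : Adm R M lM) (eL : Adm R L (lK + lM)), IsCat f g eK.1 eM.1 eL.1 →
        ψ (cls eM) = cls eL := by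
  obtain ⟨s, hs⟩ : ∃ s : M → L, ∀ m, g (s m) = m :=
    ⟨Function.surjInv hg, Function.surjInv_eq hg⟩
  have hcat : ∀ eM : Adm R M lM, IsCat f g eK.1 eM.1 (cat f s eK.1 eM.1) :=
    fun eM => isCat_cat s hs _ _
  have hadm : ∀ eM : Adm R M lM, IsAdmissible R L (cat f s eK.1 eM.1) :=
    fun eM => (hcat eM).isAdmissible hfg hgen eK.2 eM.2
  suffices key : ∃ ψ : DetOfLen R M lM →ₗ[ResidueField R] DetOfLen R L (lK + lM),
      ∀ eM : Adm R M lM, ψ (cls eM) =
        cls (⟨cat f s eK.1 eM.1, hadm eM⟩ : Adm R L (lK + lM)) by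
    obtain ⟨ψ, hψ⟩ := key
    refine ⟨ψ, fun eM eL h => ?_⟩
    rw [hψ]
    exact cls_eq_of_isCat hfg eK.1 hgen eM.1 _ eL (hcat eM) h
  apply exists_linear (R := R) (M := M) (l := lM)
    (fun eM => cls (⟨cat f s eK.1 eM.1, hadm eM⟩ : Adm R L (lK + lM)))
  · intro eM a ha
    beta_reduce
    apply cls_eq_zero _ (Fin.natAdd lK a)
    show cat f s eK.1 eM.1 (Fin.natAdd lK a) ∈
      spanBefore R L (cat f s eK.1 eM.1) (Fin.natAdd lK a)
    rw [Fin.val_natAdd, (hcat eM).spanBefore_right hfg hgen, Submodule.mem_comap, (hcat eM).2]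
    exact ha
  · intro eM eM' a c h1 h2
    beta_reduce
    apply cls_eq_smul _ _ (Fin.natAdd lK a) c
    · intro k hk
      show cat f s eK.1 eM.1 k = cat f s eK.1 eM'.1 k
      induction k using Fin.addCases with
      | left i => rw [cat_left, cat_left]
      | right j => rw [cat_right, cat_right, h1 j (fun h => hk (by rw [h]))]
    · show cat f s eK.1 eM.1 (Fin.natAdd lK a) - (c : R) • cat f s eK.1 eM'.1 (Fin.natAdd lK a) ∈
        spanBefore R L (cat f s eK.1 eM.1) (Fin.natAdd lK a)
      rw [Fin.val_natAdd, (hcat eM).spanBefore_right hfg hgen, Submodule.mem_comap, map_sub,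
        map_smul, (hcat eM).2, (hcat eM').2]
      exact h2
  · intro eM eM' a b hab h1 h2
    beta_reduce
    rw [← eq_neg_iff_add_eq_zero]
    apply cls_eq_neg _ _ (Fin.natAdd lK a) (Fin.natAdd lK b)
    · rw [Fin.val_natAdd, Fin.val_natAdd]; omega
    · intro r hr
      show r • cat f s eK.1 eM.1 (Fin.natAdd lK a) ∈
        spanBefore R L (cat f s eK.1 eM.1) (Fin.natAdd lK b)
      rw [Fin.val_natAdd, (hcat eM).spanBefore_right hfg hgen, Submodule.mem_comap, map_smul,
        (hcat eM).2]
      exact h1 r hr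
    · show cat f s eK.1 eM'.1 =
        cat f s eK.1 eM.1 ∘ Equiv.swap (Fin.natAdd lK a) (Fin.natAdd lK b)
      funext k
      rw [h2]
      induction k using Fin.addCases with
      | left i =>
        rw [Function.comp_apply, Equiv.swap_apply_of_ne_of_ne, cat_left, cat_left]
        · intro h
          have := congrArg Fin.val h
          rw [Fin.val_castAdd, Fin.val_natAdd] at this
          have := i.2; omega
        · intro h
          have := congrArg Fin.val h
          rw [Fin.val_castAdd, Fin.val_natAdd] at this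
          have := i.2; omega
      | right j =>
        rw [Function.comp_apply, Function.Injective.swap_apply (Fin.natAdd_injective _ _),
          cat_right, cat_right]
        rfl

theorem exists_phi (hfg : LinearMap.range f = LinearMap.ker g) (hg : Function.Surjective g)
    {lK lM : ℕ} (eM : Adm R M lM) :
    ∃ φ : DetOfLen R K lK →ₗ[ResidueField R] DetOfLen R L (lK + lM),
      ∀ (eK : Adm R K lK) (eL : Adm R L (lK + lM)),
        Submodule.span R (Set.range eK.1) = ⊤ → IsCat f g eK.1 eM.1 eL.1 →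
        φ (cls eK) = cls eL := by
  classical
  obtain ⟨s, hs⟩ : ∃ s : M → L, ∀ m, g (s m) = m :=
    ⟨Function.surjInv hg, Function.surjInv_eq hg⟩
  have hcat : ∀ eK : Adm R K lK, IsCat f g eK.1 eM.1 (cat f s eK.1 eM.1) :=
    fun eK => isCat_cat s hs _ _
  have hadm : ∀ eK : Adm R K lK, Submodule.span R (Set.range eK.1) = ⊤ →
      IsAdmissible R L (cat f s eK.1 eM.1) :=
    fun eK h => (hcat eK).isAdmissible hfg h eK.2 eM.2
  suffices key : ∃ φ : DetOfLen R K lK →ₗ[ResidueField R] DetOfLen R L (lK + lM),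
      ∀ eK : Adm R K lK, φ (cls eK) =
        if h : Submodule.span R (Set.range eK.1) = ⊤ then
          cls (⟨cat f s eK.1 eM.1, hadm eK h⟩ : Adm R L (lK + lM)) else 0 by
    obtain ⟨φ, hφ⟩ := key
    refine ⟨φ, fun eK eL hgen h => ?_⟩
    rw [hφ, dif_pos hgen]
    exact cls_eq_of_isCat hfg eK.1 hgen eM.1 _ eL (hcat eK) h
  apply exists_linear (R := R) (M := K) (l := lK)
    (fun eK => if h : Submodule.span R (Set.range eK.1) = ⊤ then
      cls (⟨cat f s eK.1 eM.1, hadm eK h⟩ : Adm R L (lK + lM)) else 0)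
  · intro eK a ha
    beta_reduce
    by_cases hgen : Submodule.span R (Set.range eK.1) = ⊤
    · rw [dif_pos hgen]
      apply cls_eq_zero _ (Fin.castAdd lM a)
      show cat f s eK.1 eM.1 (Fin.castAdd lM a) ∈
        spanBefore R L (cat f s eK.1 eM.1) (Fin.castAdd lM a)
      rw [Fin.val_castAdd, (hcat eK).spanBefore_left _ (le_of_lt a.2), cat_left]
      exact Submodule.mem_map_of_mem ha
    · rw [dif_neg hgen]
  · intro eK eK' a c h1 h2
    beta_reduce
    have hspan : Submodule.span R (Set.range eK.1) = Submodule.span R (Set.range eK'.1) := by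
      have hspa : spanBefore R K eK.1 a = spanBefore R K eK'.1 a := by
        apply spanBefore_congr
        intro j hj
        exact h1 j (fun h => by rw [h] at hj; exact lt_irrefl _ hj)
      have hupd : Function.update eK'.1 a (eK.1 a) = eK.1 := by
        funext j
        by_cases hj : j = a
        · rw [hj, Function.update_self]
        · rw [Function.update_of_ne hj, h1 j hj]
      have := spanBefore_update (R := R) eK'.1 a (eK.1 a) (eK.1 a - (c : R) • eK'.1 a) c
        (hspa ▸ h2) (by abel) lK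
      rw [hupd] at this
      rw [← spanBefore_eq_range, ← spanBefore_eq_range, this]
    by_cases hgen : Submodule.span R (Set.range eK.1) = ⊤
    · have hgen' : Submodule.span R (Set.range eK'.1) = ⊤ := hspan ▸ hgen
      rw [dif_pos hgen, dif_pos hgen']
      apply cls_eq_smul _ _ (Fin.castAdd lM a) c
      · intro k hk
        show cat f s eK.1 eM.1 k = cat f s eK'.1 eM.1 k
        induction k using Fin.addCases with
        | left i => rw [cat_left, cat_left, h1 i (fun h => hk (by rw [h]))]
        | right j => rw [cat_right, cat_right]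
      · show cat f s eK.1 eM.1 (Fin.castAdd lM a) -
          (c : R) • cat f s eK'.1 eM.1 (Fin.castAdd lM a) ∈
          spanBefore R L (cat f s eK.1 eM.1) (Fin.castAdd lM a)
        rw [Fin.val_castAdd, (hcat eK).spanBefore_left _ (le_of_lt a.2), cat_left, cat_left,
          ← map_smul, ← map_sub]
        exact Submodule.mem_map_of_mem h2
    · have hgen' : ¬ Submodule.span R (Set.range eK'.1) = ⊤ := fun h => hgen (hspan.trans h)
      rw [dif_neg hgen, dif_neg hgen', smul_zero]
  · intro eK eK' a b hab h1 h2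
    beta_reduce
    have hspan : Submodule.span R (Set.range eK'.1) = Submodule.span R (Set.range eK.1) := by
      rw [h2, (Equiv.swap a b).surjective.range_comp]
    by_cases hgen : Submodule.span R (Set.range eK.1) = ⊤
    · have hgen' : Submodule.span R (Set.range eK'.1) = ⊤ := hspan.trans hgen
      rw [dif_pos hgen, dif_pos hgen', ← eq_neg_iff_add_eq_zero]
      apply cls_eq_neg _ _ (Fin.castAdd lM a) (Fin.castAdd lM b)
      · rw [Fin.val_castAdd, Fin.val_castAdd]; exact hab
      · intro r hr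
        show r • cat f s eK.1 eM.1 (Fin.castAdd lM a) ∈
          spanBefore R L (cat f s eK.1 eM.1) (Fin.castAdd lM b)
        rw [Fin.val_castAdd, (hcat eK).spanBefore_left _ (le_of_lt b.2), cat_left, ← map_smul]
        exact Submodule.mem_map_of_mem (h1 r hr)
      · show cat f s eK'.1 eM.1 =
          cat f s eK.1 eM.1 ∘ Equiv.swap (Fin.castAdd lM a) (Fin.castAdd lM b)
        funext k
        rw [h2]
        induction k using Fin.addCases with
        | left i =>
          rw [Function.comp_apply, Function.Injective.swap_apply (Fin.castAdd_injective _ _),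
            cat_left, cat_left]
          rfl
        | right j =>
          rw [Function.comp_apply, Equiv.swap_apply_of_ne_of_ne, cat_right, cat_right]
          · intro h
            have := congrArg Fin.val h
            rw [Fin.val_castAdd, Fin.val_natAdd] at this
            have := a.2; omega
          · intro h
            have := congrArg Fin.val h
            rw [Fin.val_castAdd, Fin.val_natAdd] at this
            have := b.2; omega
    · have hgen' : ¬ Submodule.span R (Set.range eK'.1) = ⊤ := fun h => hgen (hspan.symm.trans h)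
      rw [dif_neg hgen, dif_neg hgen', add_zero]

end PsiPhi

section Gen

theorem exists_socle_quot (l : ℕ) (M : Type v) [AddCommGroup M] [Module R M]
    (hlen : Module.length R M = ((l + 1 : ℕ) : ℕ∞)) :
    ∃ x : M, x ≠ 0 ∧ (∀ r ∈ maximalIdeal R, r • x = 0) ∧
      Module.length R (M ⧸ Submodule.span R {x}) = l := by
  have hfl : IsFiniteLength R M :=
    Module.length_ne_top_iff.mp (by rw [hlen]; exact ENat.natCast_ne_top _)
  obtain ⟨hN, hA⟩ := isFiniteLength_iff_isNoetherian_isArtinian.mp hfl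
  haveI : Nontrivial M := by
    by_contra hnt
    rw [not_nontrivial_iff_subsingleton] at hnt
    have h0 : Module.length R M = 0 := Module.length_eq_zero
    rw [hlen] at h0
    exact absurd h0 (by simp)
  obtain ⟨x, hx0, hxm, hsimple⟩ := exists_socle (R := R) (M := M)
  refine ⟨x, hx0, hxm, ?_⟩
  obtain ⟨S, hSdef⟩ : ∃ S : Submodule R M, S = Submodule.span R {x} := ⟨_, rfl⟩
  rw [← hSdef]
  have h1 := Module.length_eq_add_of_exact S.subtype S.mkQ (Submodule.subtype_injective _)
    (Submodule.mkQ_surjective _) (LinearMap.exact_subtype_mkQ S)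
  have h2 : Module.length R S = 1 := by
    rw [hSdef]; exact Module.length_eq_one_iff.mpr hsimple
  rw [hlen, h2] at h1
  have hne : Module.length R (M ⧸ S) ≠ ⊤ := by
    intro htop
    rw [htop, add_top] at h1
    exact ENat.natCast_ne_top _ h1
  obtain ⟨n, hn⟩ := ENat.ne_top_iff_exists.mp hne
  rw [← hn] at h1 ⊢
  have : l + 1 = 1 + n := by exact_mod_cast h1
  have : n = l := by omega
  rw [this]

theorem exists_gen : ∀ (l : ℕ) (M : Type v) [AddCommGroup M] [Module R M],
    Module.length R M = l → ∃ e : Adm R M l, Submodule.span R (Set.range e.1) = ⊤ := by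
  intro l
  induction l with
  | zero =>
    intro M _ _ hlen
    haveI : Subsingleton M := Module.length_eq_zero_iff.mp (by exact_mod_cast hlen)
    exact ⟨⟨fun i => i.elim0, fun i => i.elim0⟩, Subsingleton.elim _ _⟩
  | succ l ih =>
    intro M _ _ hlen
    obtain ⟨x, hx0, hxm, hlenQ⟩ := exists_socle_quot l M hlen
    obtain ⟨S, hSdef⟩ : ∃ S : Submodule R M, S = Submodule.span R {x} := ⟨_, rfl⟩
    rw [← hSdef] at hlenQ
    obtain ⟨eQ, heQ⟩ := ih (M ⧸ S) hlenQ
    have hxS : x ∈ S := hSdef ▸ Submodule.mem_span_singleton_self x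
    have hadmS : IsAdmissible R S (fun _ : Fin 1 => (⟨x, hxS⟩ : S)) := by
      intro i r hr
      have : r • (⟨x, hxS⟩ : S) = 0 := Subtype.ext (hxm r hr)
      rw [this]; exact Submodule.zero_mem _
    have hgenS : Submodule.span R (Set.range (fun _ : Fin 1 => (⟨x, hxS⟩ : S))) = ⊤ := by
      rw [Set.range_const, eq_top_iff]
      rintro ⟨y, hy⟩ -
      have hy' := hy
      rw [hSdef] at hy'
      obtain ⟨c, hc⟩ := Submodule.mem_span_singleton.mp hy'
      have : (⟨y, hy⟩ : S) = c • (⟨x, hxS⟩ : S) := Subtype.ext hc.symm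
      rw [this]
      exact Submodule.smul_mem _ _ (Submodule.subset_span rfl)
    obtain ⟨s, hs⟩ : ∃ s : (M ⧸ S) → M, ∀ m, S.mkQ (s m) = m :=
      ⟨Function.surjInv (Submodule.mkQ_surjective S),
        Function.surjInv_eq (Submodule.mkQ_surjective S)⟩
    have hfg : LinearMap.range S.subtype = LinearMap.ker S.mkQ := by
      rw [Submodule.range_subtype, Submodule.ker_mkQ]
    have hcat := isCat_cat (f := S.subtype) (g := S.mkQ) s hs
      (fun _ : Fin 1 => (⟨x, hxS⟩ : S)) eQ.1
    have hadm := hcat.isAdmissible hfg hgenS hadmS eQ.2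
    have hgen := hcat.span_eq_top hfg hgenS heQ
    have h1l : 1 + l = l + 1 := by omega
    generalize cat S.subtype s (fun _ : Fin 1 => (⟨x, hxS⟩ : S)) eQ.1 = eL at hadm hgen
    revert eL
    rw [h1l]
    intro eL hadm hgen
    exact ⟨⟨eL, hadm⟩, hgen⟩

theorem exists_basis_cls {M : Type v} [AddCommGroup M] [Module R M] {l : ℕ}
    (hlen : Module.length R M = l) (e₀ : Adm R M l)
    (hgen : Submodule.span R (Set.range e₀.1) = ⊤) :
    cls e₀ ≠ 0 ∧ ∃ α : DetOfLen R M l →ₗ[ResidueField R] ResidueField R,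
      ∀ v, v = α v • cls e₀ := by
  obtain ⟨lam, hlam⟩ := exists_functional_ne_zero (R := R) l M hlen
  have hne := hlam e₀ hgen
  have hfl : IsFiniteLength R M :=
    Module.length_ne_top_iff.mp (by rw [hlen]; exact ENat.natCast_ne_top _)
  have hrank := rank_detOfLen_le_one (R := R) (M := M) hfl
  have hl : (Module.length R M).toNat = l := by rw [hlen]; exact ENat.toNat_natCast l
  rw [hl] at hrank
  obtain ⟨v₀, hv₀⟩ := rank_le_one_iff.mp hrank
  refine ⟨fun h => hne (by rw [h, map_zero]), (lam (cls e₀))⁻¹ • lam, fun v => ?_⟩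
  obtain ⟨r₀, hr₀⟩ := hv₀ (cls e₀)
  obtain ⟨r, hr⟩ := hv₀ v
  have hr₀ne : r₀ ≠ 0 := by
    rintro rfl
    rw [zero_smul] at hr₀
    exact hne (by rw [← hr₀, map_zero])
  have hv : v = (r * r₀⁻¹) • cls e₀ := by
    rw [← hr₀, smul_smul, mul_assoc, inv_mul_cancel₀ hr₀ne, mul_one, hr]
  have hα : ((lam (cls e₀))⁻¹ • lam) v = r * r₀⁻¹ := by
    rw [LinearMap.smul_apply, smul_eq_mul]
    conv_lhs => rw [hv]
    rw [map_smul, smul_eq_mul, mul_comm, mul_assoc, mul_inv_cancel₀ hne, mul_one]
  rw [hα]
  exact hv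

end Gen

section Main

open TensorProduct

variable {K : Type v} {L : Type v} {M : Type v} [AddCommGroup K] [Module R K]
  [AddCommGroup L] [Module R L] [AddCommGroup M] [Module R M]
  {f : K →ₗ[R] L} {g : L →ₗ[R] M}

theorem main (hf : Function.Injective f) (hg : Function.Surjective g)
    (hfg : LinearMap.range f = LinearMap.ker g) {lK lM : ℕ}
    (hlK : Module.length R K = lK) (hlM : Module.length R M = lM) :
    ∃ γ : (DetOfLen R K lK ⊗[ResidueField R] DetOfLen R M lM) ≃ₗ[ResidueField R]
        DetOfLen R L (lK + lM),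
      ∀ (eK : Adm R K lK) (eM : Adm R M lM) (eL : Adm R L (lK + lM)), cls eK ≠ 0 →
        IsCat f g eK.1 eM.1 eL.1 → γ (cls eK ⊗ₜ cls eM) = cls eL := by
  have hlL : Module.length R L = ((lK + lM : ℕ) : ℕ∞) := by
    rw [Module.length_eq_add_of_exact f g hf hg (LinearMap.exact_iff.mpr hfg.symm), hlK, hlM]
    push_cast; rfl
  have hflK : IsFiniteLength R K :=
    Module.length_ne_top_iff.mp (by rw [hlK]; exact ENat.natCast_ne_top _)
  obtain ⟨hNK, hAK⟩ := isFiniteLength_iff_isNoetherian_isArtinian.mp hflK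
  obtain ⟨eK₀, hgK₀⟩ := exists_gen (R := R) lK K hlK
  obtain ⟨eM₀, hgM₀⟩ := exists_gen (R := R) lM M hlM
  obtain ⟨s, hs⟩ : ∃ s : M → L, ∀ m, g (s m) = m :=
    ⟨Function.surjInv hg, Function.surjInv_eq hg⟩
  have hcat₀ := isCat_cat (f := f) (g := g) s hs eK₀.1 eM₀.1
  have hadm₀ := hcat₀.isAdmissible hfg hgK₀ eK₀.2 eM₀.2
  have hgL₀ := hcat₀.span_eq_top hfg hgK₀ hgM₀
  obtain ⟨eL₀, heL₀⟩ : ∃ eL₀ : Adm R L (lK + lM), eL₀ = ⟨_, hadm₀⟩ := ⟨_, rfl⟩
  have hcat₀' : IsCat f g eK₀.1 eM₀.1 eL₀.1 := by rw [heL₀]; exact hcat₀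
  have hgL₀' : Submodule.span R (Set.range eL₀.1) = ⊤ := by rw [heL₀]; exact hgL₀
  obtain ⟨hneK, αK, hαK⟩ := exists_basis_cls hlK eK₀ hgK₀
  obtain ⟨hneM, αM, hαM⟩ := exists_basis_cls hlM eM₀ hgM₀
  obtain ⟨hneL, αL, hαL⟩ := exists_basis_cls hlL eL₀ hgL₀'
  have hone : ∀ {N : Type (max u v)} [AddCommGroup N] [Module (ResidueField R) N]
      (α : N →ₗ[ResidueField R] ResidueField R) (w : N), w ≠ 0 → (∀ v, v = α v • w) →
      α w = 1 := by
    intro N _ _ α w hw hα
    by_contra hne1
    have h1 := hα w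
    have h2 : (1 - α w) • w = 0 := by rw [sub_smul, one_smul, ← h1, sub_self]
    rcases smul_eq_zero.mp h2 with h3 | h3
    · exact hne1 (sub_eq_zero.mp h3).symm
    · exact hw h3
  have hαK1 := hone αK _ hneK hαK
  have hαM1 := hone αM _ hneM hαM
  have hαL1 := hone αL _ hneL hαL
  obtain ⟨Γ, hΓdef⟩ : ∃ Γ : (DetOfLen R K lK ⊗[ResidueField R] DetOfLen R M lM)
      →ₗ[ResidueField R] DetOfLen R L (lK + lM),
      Γ = (LinearMap.toSpanSingleton (ResidueField R) _ (cls eL₀)) ∘ₗ
        (LinearMap.mul' (ResidueField R) (ResidueField R)) ∘ₗ (TensorProduct.map αK αM) :=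
    ⟨_, rfl⟩
  have hΓ : ∀ v w, Γ (v ⊗ₜ w) = (αK v * αM w) • cls eL₀ := by
    intro v w
    rw [hΓdef]
    simp [LinearMap.toSpanSingleton_apply]
  obtain ⟨Δ, hΔdef⟩ : ∃ Δ : DetOfLen R L (lK + lM) →ₗ[ResidueField R]
      (DetOfLen R K lK ⊗[ResidueField R] DetOfLen R M lM),
      Δ = (LinearMap.toSpanSingleton (ResidueField R) _ (cls eK₀ ⊗ₜ cls eM₀)) ∘ₗ αL := ⟨_, rfl⟩
  have hΔ : ∀ z, Δ z = αL z • (cls eK₀ ⊗ₜ[ResidueField R] cls eM₀) := by
    intro z
    rw [hΔdef]
    simp [LinearMap.toSpanSingleton_apply]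
  have h1 : Γ ∘ₗ Δ = LinearMap.id := by
    apply LinearMap.ext
    intro z
    rw [LinearMap.comp_apply, hΔ, map_smul, hΓ, hαK1, hαM1, mul_one, one_smul,
      LinearMap.id_apply]
    exact (hαL z).symm
  have h2 : Δ ∘ₗ Γ = LinearMap.id := by
    apply TensorProduct.ext'
    intro v w
    rw [LinearMap.comp_apply, hΓ, hΔ, map_smul, hαL1, smul_eq_mul, mul_one,
      LinearMap.id_apply]
    conv_rhs => rw [hαK v, hαM w]
    rw [TensorProduct.smul_tmul_smul]
  refine ⟨LinearEquiv.ofLinear Γ Δ h1 h2, ?_⟩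
  intro eK eM eL hne hcat
  show Γ (cls eK ⊗ₜ cls eM) = cls eL
  rw [hΓ]
  -- eK is good, hence generating
  have hgood : Good (R := R) eK.1 := by
    intro a ha
    exact hne (cls_eq_zero eK a ha)
  have hgK : Submodule.span R (Set.range eK.1) = ⊤ := by
    rw [← spanBefore_eq_range]
    exact spanBefore_eq_top_of_good hlK eK.1 hgood
  obtain ⟨φ, hφ⟩ := exists_phi (R := R) (f := f) (g := g) (lK := lK) hfg hg eM
  obtain ⟨ψ, hψ⟩ := exists_psi (R := R) (f := f) (g := g) (lM := lM) hfg hg eK₀ hgK₀
  have hcat1 := isCat_cat (f := f) (g := g) s hs eK₀.1 eM.1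
  have hadm1 := hcat1.isAdmissible hfg hgK₀ eK₀.2 eM.2
  have e1 : cls eL = φ (cls eK) := (hφ eK eL hgK hcat).symm
  have e2 : φ (cls eK₀) = cls (⟨_, hadm1⟩ : Adm R L (lK + lM)) := hφ eK₀ ⟨_, hadm1⟩ hgK₀ hcat1
  have e3 : ψ (cls eM) = cls (⟨_, hadm1⟩ : Adm R L (lK + lM)) := hψ eM ⟨_, hadm1⟩ hcat1
  have e4 : ψ (cls eM₀) = cls eL₀ := hψ eM₀ eL₀ hcat₀'
  rw [e1]
  conv_rhs => rw [hαK (cls eK)]
  rw [map_smul, e2, ← e3]
  conv_rhs => rw [hαM (cls eM)]
  rw [map_smul, e4, smul_smul]

theorem main' (hf : Function.Injective f) (hg : Function.Surjective g)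
    (hfg : LinearMap.range f = LinearMap.ker g) {lK lM : ℕ}
    (hlK : Module.length R K = lK) (hlM : Module.length R M = lM) (n : ℕ) (hn : lK + lM = n) :
    ∃ γ : (DetOfLen R K lK ⊗[ResidueField R] DetOfLen R M lM) ≃ₗ[ResidueField R]
        DetOfLen R L n,
      ∀ (eK : Adm R K lK) (eM : Adm R M lM) (eL : Adm R L n), cls eK ≠ 0 →
        (∀ i : Fin lK, eL.1 (Fin.cast hn (Fin.castAdd lM i)) = f (eK.1 i)) →
        (∀ j : Fin lM, g (eL.1 (Fin.cast hn (Fin.natAdd lK j))) = eM.1 j) →
        γ (cls eK ⊗ₜ cls eM) = cls eL := by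
  subst hn
  obtain ⟨γ, hγ⟩ := main (R := R) hf hg hfg hlK hlM
  exact ⟨γ, fun eK eM eL hne h1 h2 => hγ eK eM eL hne ⟨by simpa using h1, by simpa using h2⟩⟩

end Main

end Groth.Agent.H46.CD
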