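import Mathlib
import Groth.Agent.H56.RestrictPC

/-!
# Homology of the chain map induced by a natural transformation between exact functors (helper46)

For exact endofunctors `T₁ T₂` of an abelian category and `ν : T₁ ⟶ T₂`, the chain map
`nuCx ν P : T₁(P) ⟶ T₂(P)` induces on `H^n` the map `ν.app (H^n P)` under `H^n(Tᵢ P) ≅ Tᵢ(H^n P)`.
(Two-functor version of `Groth.Agent.H35.ExactUnit`.)
-/

set_option autoImplicit false
universe v w w'
open CategoryTheory CategoryTheory.Limits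
attribute [local instance] HasDerivedCategory.standard

namespace Groth.Agent.H46.ExactNat

section Chain

variable {C : Type*} [Category C] [Abelian C]
  (T₁ T₂ : C ⥤ C) [T₁.Additive] [PreservesFiniteLimits T₁] [PreservesFiniteColimits T₁]
  [T₂.Additive] [PreservesFiniteLimits T₂] [PreservesFiniteColimits T₂]
  (ν : T₁ ⟶ T₂)

lemma homologyMap_nat (S : ShortComplex C) (ψ : S.map T₁ ⟶ S.map T₂)
    (h : ψ = S.mapNatTrans ν) :
    ShortComplex.homologyMap ψ ≫ (S.mapHomologyIso T₂).hom =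
      (S.mapHomologyIso T₁).hom ≫ ν.app S.homology := by
  subst h
  rw [ShortComplex.homologyMap_mapNatTrans, Category.assoc, Category.assoc, Iso.inv_hom_id,
    Category.comp_id]

/-- the chain map induced by `ν` -/
noncomputable def nuCx (P : CochainComplex C ℤ) :
    (T₁.mapHomologicalComplex (ComplexShape.up ℤ)).obj P ⟶
      (T₂.mapHomologicalComplex (ComplexShape.up ℤ)).obj P where
  f i := ν.app (P.X i)
  comm' i j _ := by
    have := ν.naturality (P.d i j)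
    show ν.app (P.X i) ≫ T₂.map (P.d i j) = T₁.map (P.d i j) ≫ ν.app (P.X j)
    exact this.symm

@[simp] lemma nuCx_f (P : CochainComplex C ℤ) (i : ℤ) : (nuCx T₁ T₂ ν P).f i = ν.app (P.X i) := rfl

lemma homologyMap_nuCx (P : CochainComplex C ℤ) (n : ℤ) :
    HomologicalComplex.homologyMap (nuCx T₁ T₂ ν P) n ≫
      ((Groth.Agent.H56.mapHCHomologyIso T₂ n).hom.app P) =
      ((Groth.Agent.H56.mapHCHomologyIso T₁ n).hom.app P) ≫ ν.app (P.homology n) :=
  homologyMap_nat T₁ T₂ ν (P.sc n)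
    ((HomologicalComplex.shortComplexFunctor C (ComplexShape.up ℤ) n).map (nuCx T₁ T₂ ν P)) rfl

end Chain

section Derived

variable {C : Type v} [Category.{w} C] [Abelian C] [HasDerivedCategory.{w'} C]
  (T₁ T₂ : C ⥤ C) [T₁.Additive] [PreservesFiniteLimits T₁] [PreservesFiniteColimits T₁]
  [T₂.Additive] [PreservesFiniteLimits T₂] [PreservesFiniteColimits T₂]
  (ν : T₁ ⟶ T₂)

open DerivedCategory

/-- `H^n(Q (T P)) ≅ T (H^n (Q P))` for an exact functor `T`. -/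
noncomputable def thetaIso (T : C ⥤ C) [T.Additive] [PreservesFiniteLimits T]
    [PreservesFiniteColimits T] (P : CochainComplex C ℤ) (n : ℤ) :
    (homologyFunctor C n).obj (Q.obj ((T.mapHomologicalComplex (ComplexShape.up ℤ)).obj P)) ≅
      T.obj ((homologyFunctor C n).obj (Q.obj P)) :=
  (homologyFunctorFactors C n).app _ ≪≫ (Groth.Agent.H56.mapHCHomologyIso T n).app P ≪≫
    T.mapIso ((homologyFunctorFactors C n).app P).symm

theorem homology_nuCx (P : CochainComplex C ℤ) (n : ℤ) :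
    (homologyFunctor C n).map (Q.map (nuCx T₁ T₂ ν P)) ≫ (thetaIso T₂ P n).hom =
      (thetaIso T₁ P n).hom ≫ ν.app ((homologyFunctor C n).obj (Q.obj P)) := by
  have key : ∀ {X₁ X₂ X₃ X₄ X₅ X₆ X₇ X₈ : C} (a : X₁ ⟶ X₂) (f₂ : X₂ ⟶ X₃) (m₂ : X₃ ⟶ X₄)
      (i₂ : X₄ ⟶ X₅) (f₁ : X₁ ⟶ X₆) (h : X₆ ⟶ X₃) (m₁ : X₆ ⟶ X₇) (u' : X₇ ⟶ X₄)
      (i₁ : X₇ ⟶ X₈) (u : X₈ ⟶ X₅),
      a ≫ f₂ = f₁ ≫ h → h ≫ m₂ = m₁ ≫ u' → i₁ ≫ u = u' ≫ i₂ →
      a ≫ (f₂ ≫ m₂ ≫ i₂) = (f₁ ≫ m₁ ≫ i₁) ≫ u := by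
    intro X₁ X₂ X₃ X₄ X₅ X₆ X₇ X₈ a f₂ m₂ i₂ f₁ h m₁ u' i₁ u e1 e2 e3
    rw [reassoc_of% e1, reassoc_of% e2, Category.assoc, Category.assoc, e3]
  exact key _ _ _ _ _ _ _ _ _ _ (homologyFunctorFactors_hom_naturality (nuCx T₁ T₂ ν P) n)
    (homologyMap_nuCx T₁ T₂ ν P n) (ν.naturality ((homologyFunctorFactors C n).inv.app P))

end Derived

end Groth.Agent.H46.ExactNat
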