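import Mathlib
import Groth.Agent.H35.DerCompCrit
import Groth.Agent.H35.HasLBC
import Groth.Agent.H35.TorAmp
import Groth.Agent.S7048
import Groth.Agent.S7050
import Groth.Agent.H46.ComplTensorCat
import Groth.Agent.H46.ExactNat

/-!
# Derived completion of `M ⊗ N`, `M` finite, `N` flat, `A` Noetherian (helper46)
-/

set_option autoImplicit false
universe u v w w'
attribute [local instance] HasDerivedCategory.standard
open TensorProduct
open CategoryTheory CategoryTheory.Limits MonoidalCategory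
open DRing

namespace Groth.Agent.H46.DCTensor

section General

variable {C : Type v} [Category.{w} C] [Abelian C] [HasDerivedCategory.{w'} C]

open DerivedCategory

lemma isZero_homology_single (X : C) (n : ℤ) (hn : n ≠ 0) :
    IsZero ((homologyFunctor C n).obj ((singleFunctor C 0).obj X)) := by
  rcases lt_or_gt_of_ne hn with h | h
  · exact (DerivedCategory.isGE_iff ((singleFunctor C 0).obj X) 0).1 inferInstance n h
  · exact (DerivedCategory.isLE_iff ((singleFunctor C 0).obj X) 0).1 inferInstance n h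

/-- An object with cohomology concentrated in degree `0` is a single. -/
lemma exists_iso_single_of_concentrated (X : DerivedCategory C) (Y : C)
    (hX : ∀ n : ℤ, n ≠ 0 → IsZero ((homologyFunctor C n).obj X))
    (φ : (homologyFunctor C 0).obj X ≅ Y) : Nonempty (X ≅ (singleFunctor C 0).obj Y) := by
  haveI : X.IsGE 0 := (DerivedCategory.isGE_iff X 0).2 (fun i hi => hX i (ne_of_lt hi))
  haveI : X.IsLE 0 := (DerivedCategory.isLE_iff X 0).2 (fun i hi => hX i (ne_of_gt hi))
  obtain ⟨Y', ⟨e⟩⟩ := DerivedCategory.exists_iso_singleFunctor_obj_of_isGE_of_isLE X 0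
  let ψ : Y' ≅ Y := ((singleFunctorCompHomologyFunctorIso C 0).app Y').symm ≪≫
    (homologyFunctor C 0).mapIso e.symm ≪≫ φ
  exact ⟨e ≪≫ (singleFunctor C 0).mapIso ψ⟩

end General

section Ring

variable {A : Type u} [CommRing A] (I : Ideal A)

lemma isDerivedComplete_of_isZero (K : Dual.D A) (hK : IsZero K) : DRing.IsDerivedComplete I K := by
  intro f _ n
  have h : IsZero (K⟦n⟧) := (shiftFunctor (Dual.D A) n).map_isZero hK
  exact ⟨fun a b => h.eq_of_tgt a b⟩

end Ring

section Main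

variable {A : Type u} [CommRing A] [IsNoetherianRing A] (I : Ideal A)
  (M N : Type u) [AddCommGroup M] [Module A M] [Module.Finite A M]
  [AddCommGroup N] [Module A N] [Module.Flat A N]

open DerivedCategory

/-- tensoring on the right with a module, as an endofunctor of `ModuleCat A` -/
noncomputable abbrev TT (Z : Type u) [AddCommGroup Z] [Module A Z] :
    ModuleCat.{u} A ⥤ ModuleCat.{u} A := tensorRight (ModuleCat.of A Z)

instance (Z : Type u) [AddCommGroup Z] [Module A Z] : PreservesFiniteColimits (TT (A := A) Z) :=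
  preservesFiniteColimits_of_natIso (BraidedCategory.tensorLeftIsoTensorRight (ModuleCat.of A Z))

instance (Z : Type u) [AddCommGroup Z] [Module A Z] [Module.Flat A Z] :
    PreservesFiniteLimits (TT (A := A) Z) :=
  inferInstanceAs (PreservesFiniteLimits (tensorRight (ModuleCat.of A Z)))

/-- the natural transformation `- ⊗ N ⟶ - ⊗ N^` -/
noncomputable abbrev nuT : TT (A := A) N ⟶ TT (A := A) (AdicCompletion I N) :=
  (tensoringRight (ModuleCat.{u} A)).map (Groth.Agent.H46.ComplTensorCat.cN I N)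

lemma nuT_app (X : ModuleCat.{u} A) :
    (nuT I N).app X = X ◁ Groth.Agent.H46.ComplTensorCat.cN I N := rfl

/-- K-flatness of `E ⊗ Z` for `E` bounded above termwise free, `Z` flat. -/
lemma isKFlat_TT (Z : Type u) [AddCommGroup Z] [Module A Z] [Module.Flat A Z] (E : DRing.Cx A)
    (hE : DRing.VanishesAbove E 0) (hfree : ∀ i, Module.Free A (E.X i)) :
    DRing.IsKFlat A (((TT (A := A) Z).mapHomologicalComplex (ComplexShape.up ℤ)).obj E) := by
  refine Groth.Agent.H31.KFlatRing.isKFlat_of_bounded_above_flat _ 0 ?_ ?_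
  · intro i hi
    exact (TT (A := A) Z).map_isZero (hE i hi)
  · intro i
    have := hfree i
    show Module.Flat A ((E.X i) ⊗[A] Z)
    infer_instance

/-- cohomology of `Q (E ⊗ Z)` for a model `E` of `M[0]` -/
lemma isZero_homology_TT (Z : Type u) [AddCommGroup Z] [Module A Z] [Module.Flat A Z]
    (E : DRing.Cx A) (eE : Q.obj E ≅ Dual.inD A M) (n : ℤ) (hn : n ≠ 0) :
    IsZero ((homologyFunctor (ModuleCat.{u} A) n).obj
      (Q.obj (((TT (A := A) Z).mapHomologicalComplex (ComplexShape.up ℤ)).obj E))) := by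
  refine IsZero.of_iso ?_ (Groth.Agent.H46.ExactNat.thetaIso (TT (A := A) Z) E n)
  refine (TT (A := A) Z).map_isZero ?_
  exact IsZero.of_iso (isZero_homology_single (ModuleCat.of A M) n hn)
    ((homologyFunctor (ModuleCat.{u} A) n).mapIso eE)

/-- `H^0 (Q E) ≅ M` -/
noncomputable def zeta (E : DRing.Cx A) (eE : Q.obj E ≅ Dual.inD A M) :
    (homologyFunctor (ModuleCat.{u} A) 0).obj (Q.obj E) ≅ ModuleCat.of A M :=
  (homologyFunctor (ModuleCat.{u} A) 0).mapIso eE ≪≫
    (singleFunctorCompHomologyFunctorIso (ModuleCat.{u} A) 0).app (ModuleCat.of A M)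

/-- `H^0 (Q (E ⊗ Z)) ≅ M ⊗ Z` -/
noncomputable def h0Iso (Z : Type u) [AddCommGroup Z] [Module A Z] [Module.Flat A Z]
    (E : DRing.Cx A) (eE : Q.obj E ≅ Dual.inD A M) :
    (homologyFunctor (ModuleCat.{u} A) 0).obj
      (Q.obj (((TT (A := A) Z).mapHomologicalComplex (ComplexShape.up ℤ)).obj E)) ≅
      ModuleCat.of A (M ⊗[A] Z) :=
  Groth.Agent.H46.ExactNat.thetaIso (TT (A := A) Z) E 0 ≪≫
    (TT (A := A) Z).mapIso (zeta M E eE)

theorem main [DRing.HasDerivedCompletion I] :
    (∀ i : ℤ, i ≠ 0 → Subsingleton (Dual.HD A ((DRing.derivedCompletion I).obj (Dual.inD A (M ⊗[A] N))).obj i)) ∧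
      ∃ e : Dual.HD A ((DRing.derivedCompletion I).obj (Dual.inD A (M ⊗[A] N))).obj 0 ≃ₗ[A]
          AdicCompletion I (M ⊗[A] N),
        ∀ x : M ⊗[A] N,
          e ((((DerivedCategory.singleFunctorCompHomologyFunctorIso (ModuleCat.{u} A) 0).inv.app
                (ModuleCat.of A (M ⊗[A] N))) ≫
              (DerivedCategory.homologyFunctor (ModuleCat.{u} A) 0).map
                (DRing.toDerivedCompletion I (Dual.inD A (M ⊗[A] N)))).hom x) =
            AdicCompletion.of I (M ⊗[A] N) x := by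
  classical
  haveI hLBC := Groth.Agent.H35.HasLBC.hasLBaseChange (Ideal.Quotient.mk I)
  have hI : I.FG := IsNoetherian.noetherian I
  haveI hNhat : Module.Flat A (AdicCompletion I N) :=
    Groth.Agent.H46.ComplTensor.flat_adicCompletion I N
  obtain ⟨E, hE, hEfree, ⟨eE⟩⟩ :=
    Groth.Agent.H35.TorAmp.exists_free_model_of_isLE (Dual.inD A M) 0
  let T₁ := TT (A := A) N
  let T₂ := TT (A := A) (AdicCompletion I N)
  let ν := nuT I N
  let P₁ : DRing.Cx A := (T₁.mapHomologicalComplex (ComplexShape.up ℤ)).obj E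
  let P₂ : DRing.Cx A := (T₂.mapHomologicalComplex (ComplexShape.up ℤ)).obj E
  let u : P₁ ⟶ P₂ := Groth.Agent.H46.ExactNat.nuCx T₁ T₂ ν E
  have hP₁ : DRing.IsKFlat A P₁ := isKFlat_TT N E hE hEfree
  have hP₂ : DRing.IsKFlat A P₂ := isKFlat_TT (AdicCompletion I N) E hE hEfree
  let K : Dual.D A := Dual.inD A (M ⊗[A] N)
  obtain ⟨e₁⟩ : Nonempty (Q.obj P₁ ≅ K) :=
    exists_iso_single_of_concentrated (Q.obj P₁) (ModuleCat.of A (M ⊗[A] N))
      (isZero_homology_TT M N E eE) (h0Iso M N E eE)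
  let K' : Dual.D A := Q.obj P₂
  let η' : K ⟶ K' := e₁.inv ≫ Q.map u
  let τe : (M ⊗[A] AdicCompletion I N) ≃ₗ[A] AdicCompletion I (M ⊗[A] N) :=
    LinearEquiv.ofBijective (Groth.Agent.H46.ComplTensor.tau I N M)
      (Groth.Agent.H46.ComplTensor.tau_bijective I N)
  -- `K'` is derived complete
  have hK' : DRing.IsDerivedComplete I K' := by
    rw [Groth.Agent.S7050.result]
    intro i
    by_cases hi : i = 0
    · subst hi
      have := AdicCompletion.isAdicComplete (I := I) (M := M ⊗[A] N) hI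
      have h48 := Groth.Agent.S7048.result I (AdicCompletion I (M ⊗[A] N))
      exact Groth.Agent.H35.DerCompAdj.isDerivedComplete_of_iso I
        ((DerivedCategory.singleFunctor (ModuleCat.{u} A) 0).mapIso
          (((h0Iso M (AdicCompletion I N) E eE).toLinearEquiv.trans τe).symm.toModuleIso)) h48
    · exact isDerivedComplete_of_isZero I _
        ((DerivedCategory.singleFunctor (ModuleCat.{u} A) 0).map_isZero
          (isZero_homology_TT M (AdicCompletion I N) E eE i hi))
  -- the cone of `η'`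
  let C : DRing.Cx A := CochainComplex.mappingCone u
  have hT₀ := DerivedCategory.mappingCone_triangle_distinguished u
  let Y : Dual.D A := DerivedCategory.Q.obj C
  let q : K' ⟶ Y := DerivedCategory.Q.map (CochainComplex.mappingCone.inr u)
  let δ₀ : Y ⟶ (DerivedCategory.Q.obj P₁)⟦(1 : ℤ)⟧ :=
    (DerivedCategory.Q.mapTriangle.obj (CochainComplex.mappingCone.triangle u)).mor₃
  let δ : Y ⟶ K⟦(1 : ℤ)⟧ := δ₀ ≫ e₁.hom⟦(1 : ℤ)⟧'
  have hT : Pretriangulated.Triangle.mk η' q δ ∈ Pretriangulated.distinguishedTriangles := by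
    refine Pretriangulated.isomorphic_distinguished _ hT₀ _ ?_
    refine Pretriangulated.Triangle.isoMk _ _ e₁.symm (Iso.refl _) (Iso.refl _) ?_ ?_ ?_
    · show (e₁.inv ≫ DerivedCategory.Q.map u) ≫ 𝟙 K' = e₁.inv ≫ DerivedCategory.Q.map u
      rw [Category.comp_id]
    · show q ≫ 𝟙 Y = 𝟙 K' ≫ q
      rw [Category.comp_id, Category.id_comp]
    · show (δ₀ ≫ e₁.hom⟦(1 : ℤ)⟧') ≫ e₁.inv⟦(1 : ℤ)⟧' = 𝟙 Y ≫ δ₀
      rw [Category.assoc, ← Functor.map_comp, e₁.hom_inv_id, CategoryTheory.Functor.map_id,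
        Category.comp_id, Category.id_comp]
  -- the cone dies modulo `I`
  have hY0 : Limits.IsZero ((DRing.LBaseChange (Ideal.Quotient.mk I)).obj Y) := by
    have hCK : DRing.IsKFlat A C :=
      (Groth.Agent.H31.KFlatRing.isKFlat_mappingCone u).1 hP₁ hP₂
    have ia := Groth.Agent.H35.TorIndBC.isIso_aLB_app (Ideal.Quotient.mk I) C hCK
    let g := (DTen.extCx (Ideal.Quotient.mk I)).map u
    have hg : IsIso g := by
      have : ∀ j : ℤ, IsIso (g.f j) := fun j =>
        Groth.Agent.H46.ComplTensorCat.isIso_ext_whisker I N hI (E.X j)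
      exact HomologicalComplex.Hom.isIso_of_components g
    have hTg := DerivedCategory.mappingCone_triangle_distinguished g
    have hz : Limits.IsZero (DerivedCategory.Q.obj (CochainComplex.mappingCone g)) :=
      Pretriangulated.Triangle.isZero₃_of_isIso₁ _ hTg
        (inferInstanceAs (IsIso (DerivedCategory.Q.map g)))
    exact hz.of_iso (asIso ((Groth.Agent.H35.TorIndBC.aLB (Ideal.Quotient.mk I)).app C) ≪≫
      DerivedCategory.Q.mapIso (CochainComplex.mappingCone.mapHomologicalComplexIso u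
        (ModuleCat.extendScalars.{u, u, u} (Ideal.Quotient.mk I))))
  obtain ⟨c, hc⟩ := Groth.Agent.H35.DerCompCrit.exists_iso_of_LO I η' q δ hT hK'
    (Groth.Agent.H35.DerCompCrit.LO_of_LBaseChange I hI Y hY0)
  -- conclusion
  refine ⟨fun i hi => ?_, ?_⟩
  · have hz : IsZero ((homologyFunctor (ModuleCat.{u} A) i).obj
        ((DRing.derivedCompletion I).obj K).obj) :=
      IsZero.of_iso (isZero_homology_TT M (AdicCompletion I N) E eE i hi)
        ((homologyFunctor (ModuleCat.{u} A) i).mapIso c)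
    exact ModuleCat.subsingleton_of_isZero hz
  · let hF := homologyFunctor (ModuleCat.{u} A) 0
    let β' : hF.obj ((DRing.derivedCompletion I).obj K).obj ≅
        ModuleCat.of A (M ⊗[A] AdicCompletion I N) :=
      hF.mapIso c ≪≫ h0Iso M (AdicCompletion I N) E eE
    let γ' : hF.obj K ≅ ModuleCat.of A (M ⊗[A] N) := hF.mapIso e₁.symm ≪≫ h0Iso M N E eE
    have key : ∀ {X₁ X₂ X₃ X₄ X₅ X₆ X₇ X₈ X₉ : ModuleCat.{u} A} (a : X₁ ⟶ X₂) (b : X₂ ⟶ X₃)
        (t₂ : X₃ ⟶ X₄) (z₂ : X₄ ⟶ X₅) (x : X₁ ⟶ X₆) (y : X₆ ⟶ X₃) (t₁ : X₆ ⟶ X₇) (n : X₇ ⟶ X₄)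
        (z₁ : X₇ ⟶ X₈) (n' : X₈ ⟶ X₅),
        a ≫ b = x ≫ y → y ≫ t₂ = t₁ ≫ n → z₁ ≫ n' = n ≫ z₂ →
        a ≫ (b ≫ t₂ ≫ z₂) = (x ≫ t₁ ≫ z₁) ≫ n' := by
      intro X₁ X₂ X₃ X₄ X₅ X₆ X₇ X₈ X₉ a b t₂ z₂ x y t₁ n z₁ n' e1 e2 e3
      rw [reassoc_of% e1, reassoc_of% e2, Category.assoc, Category.assoc, e3]
    have sq : hF.map (DRing.toDerivedCompletion I K) ≫ β'.hom =
        γ'.hom ≫ ν.app (ModuleCat.of A M) := by
      have e1 : hF.map (DRing.toDerivedCompletion I K) ≫ hF.map c.hom =
          hF.map e₁.inv ≫ hF.map (Q.map u) := by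
        rw [← Functor.map_comp, hc, Functor.map_comp]
      exact key (X₉ := ModuleCat.of A M) _ _ _ _ _ _ _ _ _ _ e1
        (Groth.Agent.H46.ExactNat.homology_nuCx T₁ T₂ ν E 0)
        (ν.naturality (zeta M E eE).hom)
    have sqx : ∀ y : hF.obj K, β'.hom.hom ((hF.map (DRing.toDerivedCompletion I K)).hom y) =
        LinearMap.lTensor M (AdicCompletion.of I N) (γ'.hom.hom y) := by
      intro y
      have := congrArg (fun f => f.hom y) sq
      simp only [ModuleCat.hom_comp, LinearMap.comp_apply] at this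
      exact this
    let j₀ : hF.obj K ≅ ModuleCat.of A (M ⊗[A] N) :=
      (DerivedCategory.singleFunctorCompHomologyFunctorIso (ModuleCat.{u} A) 0).app
        (ModuleCat.of A (M ⊗[A] N))
    let α : (M ⊗[A] N) ≃ₗ[A] (M ⊗[A] N) := j₀.symm.toLinearEquiv.trans γ'.toLinearEquiv
    let αc : AdicCompletion I (M ⊗[A] N) ≃ₗ[A] AdicCompletion I (M ⊗[A] N) :=
      (AdicCompletion.congr I α).restrictScalars A
    refine ⟨β'.toLinearEquiv.trans (τe.trans αc.symm), fun x => ?_⟩
    show αc.symm (τe (β'.hom.hom ((hF.map (DRing.toDerivedCompletion I K)).hom (j₀.inv.hom x)))) = _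
    rw [LinearEquiv.symm_apply_eq, sqx]
    show Groth.Agent.H46.ComplTensor.tau I N M
        (LinearMap.lTensor M (AdicCompletion.of I N) (α x)) =
      AdicCompletion.map I α.toLinearMap (AdicCompletion.of I (M ⊗[A] N) x)
    rw [Groth.Agent.H46.ComplTensor.tau_lTensor_of, AdicCompletion.map_of]
    rfl

end Main

end Groth.Agent.H46.DCTensor
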