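import Groth.Agent.H46.MonBasis
import Groth.Agent.H75.SymPow

/-!
# Differential smoothness: projectivity of the principal parts (helper46)

Symmetric powers of projective modules are projective; for a differentially smooth algebra the
graded pieces `I^n/I^(n+1)` and the principal parts `P^n` are projective, and the inclusions
`I^n/I^(n+1) → P^n` are split.
-/

namespace Groth.Agent.H46.DSBase

open Groth.Agent.H46.SymGr Groth.Agent.H46.DiffQR
open scoped TensorProduct

universe u

section symproj

/-- symmetric powers of projective modules are projective -/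
theorem projective_sym {B : Type u} [CommRing B] {M : Type u} [AddCommGroup M] [Module B M]
    [hM : Module.Projective B M] (ι : Type u) [Fintype ι] :
    Module.Projective B (SymmetricPower B ι M) := by
  obtain ⟨s, hs⟩ := Module.projective_def'.1 hM
  let i : SymmetricPower B ι M →ₗ[B] SymmetricPower B ι (M →₀ B) :=
    Groth.Agent.H75.SymPow.map s
  let π : SymmetricPower B ι (M →₀ B) →ₗ[B] SymmetricPower B ι M :=
    Groth.Agent.H75.SymPow.map (Finsupp.linearCombination B (id : M → M))
  have h1 : ∀ t, π (i t) = t := by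
    intro t
    have h2 : π ∘ₗ i = LinearMap.id := by
      apply Groth.Agent.H75.SymPow.hom_ext
      intro x
      show π (i (SymmetricPower.tprod B x)) = SymmetricPower.tprod B x
      rw [Groth.Agent.H75.SymPow.map_tprod, Groth.Agent.H75.SymPow.map_tprod]
      congr 1
      funext j
      exact LinearMap.congr_fun hs (x j)
    exact LinearMap.congr_fun h2 t
  refine Module.Projective.of_split (M := MvPolynomial M B)
    (Groth.Agent.H75.SymPow.sigma ∘ₗ i) (π ∘ₗ Groth.Agent.H75.SymPow.retr) ?_
  ext t
  show π (Groth.Agent.H75.SymPow.retr (Groth.Agent.H75.SymPow.sigma (i t))) = t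
  rw [Groth.Agent.H75.SymPow.retr_sigma, h1]

end symproj

section split

variable {B : Type*} [CommRing B] {G P P'' : Type*} [AddCommGroup G] [Module B G]
  [AddCommGroup P] [Module B P] [AddCommGroup P''] [Module B P'']

/-- a short exact sequence with projective cokernel splits -/
theorem exists_retraction [Module.Projective B P''] (i : G →ₗ[B] P) (q : P →ₗ[B] P'')
    (hi : Function.Injective i) (hq : Function.Surjective q)
    (hex : LinearMap.range i = LinearMap.ker q) :
    ∃ (r : P →ₗ[B] G) (s : P'' →ₗ[B] P), (∀ g, r (i g) = g) ∧ (∀ y, q (s y) = y) ∧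
      ∀ x, i (r x) + s (q x) = x := by
  obtain ⟨s, hs⟩ := Module.projective_lifting_property q LinearMap.id hq
  have hs' : ∀ y, q (s y) = y := fun y => LinearMap.congr_fun hs y
  have hmem : ∀ x, x - s (q x) ∈ LinearMap.range i := by
    intro x
    rw [hex, LinearMap.mem_ker, map_sub, hs', sub_self]
  choose r0 hr0 using hmem
  have hadd : ∀ x y, r0 (x + y) = r0 x + r0 y := by
    intro x y
    apply hi
    rw [map_add, hr0, hr0, hr0, map_add, map_add]
    abel
  have hsmul : ∀ (c : B) x, r0 (c • x) = c • r0 x := by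
    intro c x
    apply hi
    rw [map_smul, hr0, hr0, map_smul, map_smul, smul_sub]
  let r : P →ₗ[B] G :=
    { toFun := r0
      map_add' := hadd
      map_smul' := hsmul }
  refine ⟨r, s, ?_, hs', ?_⟩
  · intro g
    apply hi
    show i (r0 (i g)) = i g
    rw [hr0]
    have h1 : q (i g) = 0 := by
      have : i g ∈ LinearMap.ker q := by rw [← hex]; exact ⟨g, rfl⟩
      exact this
    rw [h1, map_zero, sub_zero]
  · intro x
    show i (r0 x) + s (q x) = x
    rw [hr0]
    abel

theorem projective_of_exact [Module.Projective B G] [Module.Projective B P'']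
    (i : G →ₗ[B] P) (q : P →ₗ[B] P'')
    (hi : Function.Injective i) (hq : Function.Surjective q)
    (hex : LinearMap.range i = LinearMap.ker q) : Module.Projective B P := by
  obtain ⟨r, s, -, -, h3⟩ := exists_retraction i q hi hq hex
  refine Module.Projective.of_split (M := G × P'') (r.prod q) (i.coprod s) ?_
  ext x
  show i (r x) + s (q x) = x
  exact h3 x

end split

section pp

variable (A B : Type u) [CommRing A] [CommRing B] [Algebra A B]

/-- the transition map `P^(n+1) → P^n` as a `B`-linear map -/
noncomputable def qB (n : ℕ) :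
    ((B ⊗[A] B) ⧸ (KaehlerDifferential.ideal A B) ^ (n + 1 + 1)) →ₗ[B]
      ((B ⊗[A] B) ⧸ (KaehlerDifferential.ideal A B) ^ (n + 1)) :=
  (Submodule.mapQ ((KaehlerDifferential.ideal A B) ^ (n + 1 + 1))
    ((KaehlerDifferential.ideal A B) ^ (n + 1)) LinearMap.id
    (fun x hx => Ideal.pow_le_pow_right (Nat.le_succ _) hx)).restrictScalars B

theorem qB_mk (n : ℕ) (x : B ⊗[A] B) :
    qB A B n (Submodule.Quotient.mk x) = Submodule.Quotient.mk x := rfl

theorem qB_surjective (n : ℕ) : Function.Surjective (qB A B n) := by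
  intro y
  obtain ⟨x, rfl⟩ := Submodule.Quotient.mk_surjective _ y
  exact ⟨Submodule.Quotient.mk x, rfl⟩

theorem valI_mk (n : ℕ) (x : B ⊗[A] B) (hx : x ∈ KaehlerDifferential.ideal A B ^ n) :
    valI A B n (Submodule.Quotient.mk ⟨x, hx⟩) = Submodule.Quotient.mk x := rfl

theorem range_valI (n : ℕ) :
    LinearMap.range (valI A B (n + 1)) = LinearMap.ker (qB A B n) := by
  ext y
  constructor
  · rintro ⟨g, rfl⟩
    obtain ⟨⟨x, hx⟩, rfl⟩ := Submodule.Quotient.mk_surjective _ g
    rw [LinearMap.mem_ker]
    show qB A B n (Submodule.Quotient.mk x) = 0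
    rw [qB_mk, Submodule.Quotient.mk_eq_zero]
    exact hx
  · intro hy
    obtain ⟨x, rfl⟩ := Submodule.Quotient.mk_surjective _ y
    rw [LinearMap.mem_ker, qB_mk, Submodule.Quotient.mk_eq_zero] at hy
    exact ⟨Submodule.Quotient.mk ⟨x, hy⟩, rfl⟩

variable {A B}

theorem projective_grI (hB : PP16.IsDiffSmooth A B) (n : ℕ) :
    Module.Projective B (PP16.grI A B n) := by
  have := hB.1
  obtain ⟨φ, -, hφ2⟩ := hB.2 (ULift.{u} (Fin n))
  have hc : Fintype.card (ULift.{u} (Fin n)) = n := by simp
  have : Module.Projective B (SymmetricPower B (ULift.{u} (Fin n)) Ω[B⁄A]) :=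
    projective_sym (ULift.{u} (Fin n))
  have h1 : Module.Projective B (PP16.grI A B (Fintype.card (ULift.{u} (Fin n)))) :=
    Module.Projective.of_equiv (LinearEquiv.ofBijective φ hφ2)
  exact hc ▸ h1

theorem projective_P0 : Module.Projective B
    ((B ⊗[A] B) ⧸ (KaehlerDifferential.ideal A B) ^ (0 + 1)) := by
  let i : ((B ⊗[A] B) ⧸ (KaehlerDifferential.ideal A B) ^ (0 + 1)) →ₗ[B] B :=
    (Ideal.Quotient.liftₐ ((KaehlerDifferential.ideal A B) ^ (0 + 1))
      (Algebra.TensorProduct.lmul'' A (S := B)) (by
      intro x hx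
      rw [zero_add, pow_one] at hx
      exact hx)).toLinearMap
  let s : B →ₗ[B] ((B ⊗[A] B) ⧸ (KaehlerDifferential.ideal A B) ^ (0 + 1)) :=
    LinearMap.toSpanSingleton B _ (Submodule.Quotient.mk 1)
  refine Module.Projective.of_split (M := B) i s ?_
  refine LinearMap.ext fun y => ?_
  obtain ⟨x, rfl⟩ := Submodule.Quotient.mk_surjective _ y
  show (Algebra.TensorProduct.lmul' A x : B) • (Submodule.Quotient.mk (1 : B ⊗[A] B) :
    (B ⊗[A] B) ⧸ (KaehlerDifferential.ideal A B) ^ (0 + 1)) = Submodule.Quotient.mk x
  rw [← Submodule.Quotient.mk_smul, Submodule.Quotient.eq, zero_add, pow_one]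
  show Algebra.TensorProduct.lmul' A _ = 0
  rw [map_sub, Algebra.smul_def, mul_one, Algebra.TensorProduct.algebraMap_apply,
    Algebra.TensorProduct.lmul'_apply_tmul]
  simp

theorem projective_P (hB : PP16.IsDiffSmooth A B) (n : ℕ) : Module.Projective B
    ((B ⊗[A] B) ⧸ (KaehlerDifferential.ideal A B) ^ (n + 1)) := by
  induction n with
  | zero => exact projective_P0
  | succ n ih =>
    have := ih
    have := projective_grI hB (n + 1)
    exact projective_of_exact (valI A B (n + 1)) (qB A B n) (valI_injective A B _)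
      (qB_surjective A B n) (range_valI A B n)

/-- the inclusion `I^n/I^(n+1) → P^n` is split -/
theorem exists_retraction_valI (hB : PP16.IsDiffSmooth A B) (n : ℕ) :
    ∃ r : ((B ⊗[A] B) ⧸ (KaehlerDifferential.ideal A B) ^ (n + 1)) →ₗ[B] PP16.grI A B n,
      ∀ g, r (valI A B n g) = g := by
  cases n with
  | zero =>
    -- `I^0/I^1 → R/I^1` is bijective
    have hsurj : Function.Surjective (valI A B 0) := by
      intro y
      obtain ⟨x, rfl⟩ := Submodule.Quotient.mk_surjective _ y
      exact ⟨Submodule.Quotient.mk ⟨x, by simp⟩, rfl⟩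
    let e := LinearEquiv.ofBijective (valI A B 0) ⟨valI_injective A B 0, hsurj⟩
    exact ⟨e.symm.toLinearMap, fun g => e.symm_apply_apply g⟩
  | succ n =>
    have := projective_P hB n
    obtain ⟨r, s, h1, -, -⟩ := exists_retraction (valI A B (n + 1)) (qB A B n)
      (valI_injective A B _) (qB_surjective A B n) (range_valI A B n)
    exact ⟨r, h1⟩

end pp

end Groth.Agent.H46.DSBase
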