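import Groth.Agent.H46.DSBase1
import Groth.Agent.S3806

/-!
# Base change of differential smoothness (helper46)
-/

namespace Groth.Agent.H46.DSBase

open Groth.Agent.H46.SymGr Groth.Agent.H46.DiffQR
open scoped TensorProduct

universe u

section general

/-- the symmetric tensors of families from a spanning set span the symmetric power -/
theorem span_tprod_of_span {R : Type u} [CommRing R] {M : Type*} [AddCommGroup M] [Module R M]
    (S : Set M) (hS : Submodule.span R S = ⊤) (ι : Type u) [Fintype ι] :
    Submodule.span R {t | ∃ w : ι → M, (∀ j, w j ∈ S) ∧ t = SymmetricPower.tprod R w} = ⊤ := by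
  set N := Submodule.span R {t | ∃ w : ι → M, (∀ j, w j ∈ S) ∧ t = SymmetricPower.tprod R w}
    with hN
  have h1 : N.mkQ.compMultilinearMap (SymmetricPower.tprod R (ι := ι) (M := M)) = 0 := by
    apply multilinear_ext_of_span S hS
    intro x hx
    show N.mkQ (SymmetricPower.tprod R x) = 0
    rw [Submodule.mkQ_apply, Submodule.Quotient.mk_eq_zero]
    exact Submodule.subset_span ⟨x, hx, rfl⟩
  rw [eq_top_iff, ← SymmetricPower.span_tprod_eq_top, Submodule.span_le]
  rintro _ ⟨w, rfl⟩
  have h2 : N.mkQ (SymmetricPower.tprod R w) = 0 := congrArg (fun f => f w) h1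
  rw [Submodule.mkQ_apply, Submodule.Quotient.mk_eq_zero] at h2
  exact h2

theorem baseChange_injective_of_retraction {R : Type*} [CommRing R] (S : Type*) [CommRing S]
    [Algebra R S] {M N : Type*} [AddCommGroup M] [Module R M] [AddCommGroup N] [Module R N]
    (f : M →ₗ[R] N) (r : N →ₗ[R] M) (h : ∀ m, r (f m) = m) :
    Function.Injective (f.baseChange S) := by
  have h1 : (r.baseChange S) ∘ₗ (f.baseChange S) = LinearMap.id := by
    rw [← LinearMap.baseChange_comp]
    have : r ∘ₗ f = LinearMap.id := LinearMap.ext h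
    rw [this, LinearMap.baseChange_id]
  exact Function.LeftInverse.injective (g := r.baseChange S) (fun x => LinearMap.congr_fun h1 x)

/-- linear maps out of `Sym(Ω)` are determined on symmetric products of exact differentials -/
theorem sym_hom_ext_D (A B : Type u) [CommRing A] [CommRing B] [Algebra A B] (ι : Type u)
    [Fintype ι] {N : Type*} [AddCommGroup N] [Module B N]
    (f g : SymmetricPower B ι Ω[B⁄A] →ₗ[B] N)
    (h : ∀ b : ι → B, f (SymmetricPower.tprod B (fun i => KaehlerDifferential.D A B (b i))) =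
      g (SymmetricPower.tprod B (fun i => KaehlerDifferential.D A B (b i)))) : f = g := by
  have h1 : f.compMultilinearMap (SymmetricPower.tprod B) =
      g.compMultilinearMap (SymmetricPower.tprod B) := by
    apply multilinear_ext_of_span (Set.range (KaehlerDifferential.D A B))
      (KaehlerDifferential.span_range_derivation A B)
    intro x hx
    choose b hb using hx
    have hx' : x = fun i => KaehlerDifferential.D A B (b i) := funext fun i => (hb i).symm
    rw [hx']
    exact h b
  apply LinearMap.ext_on (SymmetricPower.span_tprod_eq_top B ι Ω[B⁄A])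
  rintro _ ⟨w, rfl⟩
  exact congrArg (fun f => f w) h1

end general

section symstructure

variable (B A' B' : Type u) [CommRing B] [CommRing A'] [CommRing B'] [Algebra A' B'] [Algebra B B']

/-- `Sym[B'] ι Ω'` as a `B`-module -/
@[reducible] noncomputable def symModule (ι : Type u) :
    Module B (SymmetricPower B' ι Ω[B'⁄A']) := Module.compHom _ (algebraMap B B')

attribute [local instance] symModule

theorem symTower (ι : Type u) : IsScalarTower B B' (SymmetricPower B' ι Ω[B'⁄A']) :=
  ⟨fun b c x => by
    show (b • c) • x = algebraMap B B' b • (c • x)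
    rw [Algebra.smul_def, mul_smul]⟩

end symstructure

attribute [local instance] symModule symTower

section basechange

variable (A B A' B' : Type u) [CommRing A] [CommRing B] [Algebra A B]
    [CommRing A'] [CommRing B'] [Algebra A' B'] [Algebra A A'] [Algebra B B'] [Algebra A B']
    [IsScalarTower A A' B'] [IsScalarTower A B B']

/-- the map `Sym[B] ι Ω → Sym[B'] ι Ω'` -/
noncomputable def T (ι : Type u) :
    SymmetricPower B ι Ω[B⁄A] →ₗ[B] SymmetricPower B' ι Ω[B'⁄A'] :=
  symLift (((SymmetricPower.tprod B' (ι := ι) (M := Ω[B'⁄A'])).restrictScalars B).compLinearMap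
    (fun _ => KaehlerDifferential.map A A' B B'))
    (fun e x => by
      show SymmetricPower.tprod B' (fun i => KaehlerDifferential.map A A' B B' (x (e i))) =
        SymmetricPower.tprod B' (fun i => KaehlerDifferential.map A A' B B' (x i))
      exact SymmetricPower.tprod_equiv e (fun i => KaehlerDifferential.map A A' B B' (x i)))

theorem T_tprod (ι : Type u) (w : ι → Ω[B⁄A]) :
    T A B A' B' ι (SymmetricPower.tprod B w) =
      SymmetricPower.tprod B' (fun j => KaehlerDifferential.map A A' B B' (w j)) := by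
  unfold T
  rw [symLift_tprod]
  rfl

theorem T_tprod_D (ι : Type u) (b : ι → B) :
    T A B A' B' ι (SymmetricPower.tprod B (fun j => KaehlerDifferential.D A B (b j))) =
      SymmetricPower.tprod B' (fun j => KaehlerDifferential.D A' B' (algebraMap B B' (b j))) := by
  rw [T_tprod]
  congr 1
  funext j
  exact KaehlerDifferential.map_D A A' B B' (b j)

/-- the base-changed map `B' ⊗ Sym[B] ι Ω → Sym[B'] ι Ω'` -/
noncomputable def Tt (ι : Type u) :
    B' ⊗[B] SymmetricPower B ι Ω[B⁄A] →ₗ[B'] SymmetricPower B' ι Ω[B'⁄A'] :=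
  LinearMap.liftBaseChange B' (T A B A' B' ι)

theorem Tt_tmul (ι : Type u) (c : B') (t : SymmetricPower B ι Ω[B⁄A]) :
    Tt A B A' B' ι (c ⊗ₜ[B] t) = c • T A B A' B' ι t := by
  unfold Tt
  rw [LinearMap.liftBaseChange_tmul]

theorem span_D_algebraMap [Algebra.IsPushout A B A' B'] :
    Submodule.span B' (Set.range fun b : B => KaehlerDifferential.D A' B' (algebraMap B B' b)) =
      ⊤ := by
  rw [eq_top_iff, ← KaehlerDifferential.span_range_derivation A' B', Submodule.span_le]
  rintro _ ⟨x, rfl⟩
  have hbc : IsBaseChange A' (IsScalarTower.toAlgHom A B B').toLinearMap :=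
    (Algebra.IsPushout.symm (inferInstanceAs (Algebra.IsPushout A B A' B'))).out
  refine hbc.inductionOn x (fun x => KaehlerDifferential.D A' B' x ∈
    Submodule.span B' (Set.range fun b : B => KaehlerDifferential.D A' B' (algebraMap B B' b)))
    ?_ ?_ ?_ ?_
  · rw [map_zero]; exact zero_mem _
  · intro b
    exact Submodule.subset_span ⟨b, rfl⟩
  · intro s n hn
    rw [Derivation.map_smul, ← algebraMap_smul B' s]
    exact Submodule.smul_mem _ _ hn
  · intro n₁ n₂ h1 h2
    rw [map_add]
    exact add_mem h1 h2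

theorem Tt_surjective [Algebra.IsPushout A B A' B'] (ι : Type u) [Fintype ι] : Function.Surjective (Tt A B A' B' ι) := by
  rw [← LinearMap.range_eq_top, eq_top_iff,
    ← span_tprod_of_span _ (span_D_algebraMap A B A' B') ι, Submodule.span_le]
  rintro _ ⟨w, hw, rfl⟩
  choose b hb using hw
  have hw' : w = fun j => KaehlerDifferential.D A' B' (algebraMap B B' (b j)) :=
    funext fun j => (hb j).symm
  refine ⟨(1 : B') ⊗ₜ[B] SymmetricPower.tprod B (fun j => KaehlerDifferential.D A B (b j)), ?_⟩
  rw [Tt_tmul, one_smul, T_tprod_D, hw']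

section main

attribute [local instance] PP16.mapAlgebra PP16.isScalarTower_mapAlgebra

variable [Algebra.IsPushout A B A' B']

/-- `B' ⊗ P^n ≃ P'^n` (from S3806) -/
noncomputable def Psi (n : ℕ) : B' ⊗[B] (PP16.P n A B) ≃ₗ[B'] PP16.P n A' B' :=
  ((Groth.Agent.S3806.result n A B A' B').symm).out.equiv

theorem Psi_tmul (n : ℕ) (c : B') (x : B ⊗[A] B) :
    Psi A B A' B' n (c ⊗ₜ[B] (Ideal.Quotient.mk _ x : PP16.P n A B)) =
      c • (Ideal.Quotient.mk _ (PP16.tensorMap A B A' B' x) : PP16.P n A' B') := by
  unfold Psi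
  rw [IsBaseChange.equiv_tmul]
  rfl

/-- first composite -/
noncomputable def C1 (ι : Type u) [Fintype ι] :
    B' ⊗[B] SymmetricPower B ι Ω[B⁄A] →ₗ[B'] PP16.P (Fintype.card ι) A' B' :=
  (Psi A B A' B' (Fintype.card ι)).toLinearMap ∘ₗ
    ((valI A B (Fintype.card ι)).baseChange B') ∘ₗ ((phi A B ι).baseChange B')

/-- second composite -/
noncomputable def C2 (ι : Type u) [Fintype ι] :
    B' ⊗[B] SymmetricPower B ι Ω[B⁄A] →ₗ[B'] PP16.P (Fintype.card ι) A' B' :=
  (valI A' B' (Fintype.card ι)) ∘ₗ (phi A' B' ι) ∘ₗ (Tt A B A' B' ι)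

theorem C1_one_tmul (ι : Type u) [Fintype ι] (b : ι → B) :
    C1 A B A' B' ι ((1 : B') ⊗ₜ[B]
      SymmetricPower.tprod B (fun j => KaehlerDifferential.D A B (b j))) =
    Ideal.Quotient.mk _ (∏ j, ((1 : B') ⊗ₜ[A'] algebraMap B B' (b j) -
      algebraMap B B' (b j) ⊗ₜ[A'] (1 : B'))) := by
  unfold C1
  rw [LinearMap.comp_apply, LinearMap.comp_apply, LinearMap.baseChange_tmul,
    LinearMap.baseChange_tmul, phi_tprod_D]
  show Psi A B A' B' (Fintype.card ι) ((1 : B') ⊗ₜ[B] (Ideal.Quotient.mk _
    (∏ j, ((1 : B) ⊗ₜ[A] b j - b j ⊗ₜ[A] (1 : B))) : PP16.P (Fintype.card ι) A B)) = _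
  rw [Psi_tmul, one_smul, map_prod]
  congr 1
  refine Finset.prod_congr rfl fun j _ => ?_
  rw [map_sub, PP16.tensorMap_tmul, PP16.tensorMap_tmul, map_one]

theorem C2_one_tmul (ι : Type u) [Fintype ι] (b : ι → B) :
    C2 A B A' B' ι ((1 : B') ⊗ₜ[B]
      SymmetricPower.tprod B (fun j => KaehlerDifferential.D A B (b j))) =
    Ideal.Quotient.mk _ (∏ j, ((1 : B') ⊗ₜ[A'] algebraMap B B' (b j) -
      algebraMap B B' (b j) ⊗ₜ[A'] (1 : B'))) := by
  unfold C2
  rw [LinearMap.comp_apply, LinearMap.comp_apply, Tt_tmul, one_smul, T_tprod_D, phi_tprod_D]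
  rfl

theorem C1_eq_C2 (ι : Type u) [Fintype ι] : C1 A B A' B' ι = C2 A B A' B' ι := by
  have h1 : ((C1 A B A' B' ι).restrictScalars B) ∘ₗ
      (TensorProduct.mk B B' (SymmetricPower B ι Ω[B⁄A]) 1) =
      ((C2 A B A' B' ι).restrictScalars B) ∘ₗ
      (TensorProduct.mk B B' (SymmetricPower B ι Ω[B⁄A]) 1) := by
    apply sym_hom_ext_D
    intro b
    show C1 A B A' B' ι ((1 : B') ⊗ₜ[B]
        SymmetricPower.tprod B (fun j => KaehlerDifferential.D A B (b j))) =
      C2 A B A' B' ι ((1 : B') ⊗ₜ[B]
        SymmetricPower.tprod B (fun j => KaehlerDifferential.D A B (b j)))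
    rw [C1_one_tmul, C2_one_tmul]
  refine LinearMap.ext fun x => ?_
  induction x using TensorProduct.induction_on with
  | zero => rw [map_zero, map_zero]
  | tmul c t =>
    have h2 : c ⊗ₜ[B] t = c • ((1 : B') ⊗ₜ[B] t) := by
      rw [TensorProduct.smul_tmul', smul_eq_mul, mul_one]
    rw [h2, map_smul, map_smul]
    congr 1
    exact LinearMap.congr_fun h1 t
  | add x y hx hy => rw [map_add, map_add, hx, hy]

theorem C1_injective (hB : PP16.IsDiffSmooth A B) (ι : Type u) [Fintype ι] :
    Function.Injective (C1 A B A' B' ι) := by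
  obtain ⟨φ, hφ1, hφ2⟩ := hB.2 ι
  have hφ : φ = phi A B ι := eq_phi_of_pinned A B ι φ hφ1
  rw [hφ] at hφ2
  let e := LinearEquiv.ofBijective (phi A B ι) hφ2
  have h1 : Function.Injective ((phi A B ι).baseChange B') :=
    baseChange_injective_of_retraction B' (phi A B ι) e.symm.toLinearMap
      (fun m => e.symm_apply_apply m)
  obtain ⟨r, hr⟩ := exists_retraction_valI hB (Fintype.card ι)
  have h2 : Function.Injective ((valI A B (Fintype.card ι)).baseChange B') :=
    baseChange_injective_of_retraction B' (valI A B (Fintype.card ι)) r hr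
  unfold C1
  exact ((Psi A B A' B' (Fintype.card ι)).injective.comp h2).comp h1

/-- **S3821**: differential smoothness is stable under base change. -/
theorem isDiffSmooth_baseChange (hB : PP16.IsDiffSmooth A B) : PP16.IsDiffSmooth A' B' := by
  constructor
  · have := hB.1
    have : Algebra.IsPushout A A' B B' :=
      Algebra.IsPushout.symm (inferInstanceAs (Algebra.IsPushout A B A' B'))
    exact Module.Projective.of_equiv (KaehlerDifferential.tensorKaehlerEquiv A A' B B')
  · intro ι _
    refine ⟨phi A' B' ι, phi_tprod_D A' B' ι, ?_, phi_surjective A' B' ι⟩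
    refine (injective_iff_map_eq_zero _).2 (fun t' ht' => ?_)
    obtain ⟨x, rfl⟩ := Tt_surjective A B A' B' ι t'
    have h1 : C2 A B A' B' ι x = 0 := by
      show valI A' B' (Fintype.card ι) (phi A' B' ι (Tt A B A' B' ι x)) = 0
      rw [ht', map_zero]
    rw [← C1_eq_C2] at h1
    have h2 : x = 0 := C1_injective A B A' B' hB ι (by rw [h1, map_zero])
    rw [h2, map_zero]

end main

end basechange

end Groth.Agent.H46.DSBase
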