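import Mathlib
import Groth.Agent.H46.Kaplansky

set_option autoImplicit false
set_option linter.unusedSectionVars false
set_option linter.unusedVariables false
set_option linter.style.haveILetI false

namespace Groth.Agent.H46.Kap

open Submodule

universe u v w

section Dev3

variable {R : Type u} [CommRing R] {M : Type v} [AddCommGroup M] [Module R M]

theorem cg_of_surjective {A : Type w} {B : Type*} [AddCommGroup A] [Module R A] [AddCommGroup B]
    [Module R B] (f : A →ₗ[R] B) (hf : Function.Surjective f)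
    (h : ∃ s : Set A, s.Countable ∧ span R s = ⊤) :
    ∃ s : Set B, s.Countable ∧ span R s = ⊤ := by
  obtain ⟨s, hs, hspan⟩ := h
  refine ⟨f '' s, hs.image f, ?_⟩
  rw [← Submodule.map_span, hspan, Submodule.map_top, LinearMap.range_eq_top.mpr hf]

variable {S : Type w} [LinearOrder S] [WellFoundedLT S] (Mf : S → Submodule R M)
  (hmono : Monotone Mf)
  (hlim : ∀ s : S, Order.IsSuccPrelimit s → Mf s = ⨆ t : {t : S // t < s}, Mf t.1)
  (hsup : (⨆ s, Mf s) = ⊤)
  (C : S → S → Submodule R M) (hC1 : ∀ s t, s ⋖ t → Mf s ⊓ C s t = ⊥)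
  (hC2 : ∀ s t, s ⋖ t → Mf s ⊔ C s t = Mf t)

include hmono hlim hsup hC1 hC2 in
theorem devissage_internal [DecidableEq {p : S × S // p.1 ⋖ p.2}] :
    DirectSum.IsInternal (fun p : {p : S × S // p.1 ⋖ p.2} => C p.1.1 p.1.2) := by
  classical
  have hinj : Function.Injective (fun p : {p : S × S // p.1 ⋖ p.2} => p.1.1) := by
    intro p q h
    have h' : p.1.1 = q.1.1 := h
    have h2 : p.1.2 = q.1.2 := by
      have hq := q.2
      rw [← h'] at hq
      exact p.2.unique_right hq
    exact Subtype.ext (Prod.ext h' h2)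
  letI : LinearOrder {p : S × S // p.1 ⋖ p.2} :=
    LinearOrder.lift' (fun p : {p : S × S // p.1 ⋖ p.2} => p.1.1) hinj
  have hind : iSupIndep (fun p : {p : S × S // p.1 ⋖ p.2} => C p.1.1 p.1.2) := by
    apply iSupIndep_of_linearOrder _ (fun p : {p : S × S // p.1 ⋖ p.2} => Mf p.1.1)
    · intro p q hqp
      have hqp' : q.1.1 < p.1.1 := hqp
      have h1 : C q.1.1 q.1.2 ≤ Mf q.1.2 := by rw [← hC2 _ _ q.2]; exact le_sup_right
      have h2 : q.1.2 ≤ p.1.1 := q.2.ge_of_gt hqp'
      exact h1.trans (hmono h2)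
    · intro p
      rw [disjoint_iff, inf_comm]
      exact hC1 _ _ p.2
  have hsupL : (⨆ p : {p : S × S // p.1 ⋖ p.2}, C p.1.1 p.1.2) = ⊤ := by
    rw [eq_top_iff, ← hsup]
    apply iSup_le
    intro t
    induction t using WellFoundedLT.induction with
    | ind t ih =>
      by_cases hpl : Order.IsSuccPrelimit t
      · rw [hlim t hpl]
        exact iSup_le fun t' => ih t'.1 t'.2
      · unfold Order.IsSuccPrelimit at hpl
        push Not at hpl
        obtain ⟨s, hst⟩ := hpl
        rw [← hC2 s t hst]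
        exact sup_le (ih s hst.lt)
          (le_iSup (fun p : {p : S × S // p.1 ⋖ p.2} => C p.1.1 p.1.2) ⟨(s, t), hst⟩)
  exact DirectSum.isInternal_submodule_of_iSupIndep_of_iSup_eq_top hind hsupL

include hmono hC1 hC2 in
theorem devissage_quotEquiv (s t : S) (hst : s ⋖ t) :
    Nonempty (C s t ≃ₗ[R] (↥(Mf t) ⧸ Submodule.comap (Mf t).subtype (Mf s))) := by
  have hle : C s t ≤ Mf t := by rw [← hC2 _ _ hst]; exact le_sup_right
  have hle' : Mf s ≤ Mf t := hmono hst.le
  have hcompl : IsCompl (Submodule.comap (Mf t).subtype (Mf s))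
      (Submodule.comap (Mf t).subtype (C s t)) := by
    constructor
    · rw [disjoint_iff, ← Submodule.comap_inf, hC1 _ _ hst, Submodule.comap_bot,
        LinearMap.ker_eq_bot.mpr (Submodule.injective_subtype _)]
    · rw [codisjoint_iff]
      apply Submodule.map_injective_of_injective (Submodule.injective_subtype (Mf t))
      rw [Submodule.map_sup, Submodule.map_comap_subtype, Submodule.map_comap_subtype,
        Submodule.map_subtype_top, inf_eq_right.mpr hle', inf_eq_right.mpr hle, hC2 _ _ hst]
  exact ⟨((Submodule.quotientEquivOfIsCompl _ _ hcompl).trans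
    (Submodule.comapSubtypeEquivOfLe hle)).symm⟩

end Dev3

end Groth.Agent.H46.Kap
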