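import Groth.Agent.H46.DSBase2
import Groth.Agent.S0585

/-!
# Faithfully flat descent of differential smoothness (helper46)
-/

namespace Groth.Agent.H46.DSBase

open Groth.Agent.H46.SymGr Groth.Agent.H46.DiffQR
open scoped TensorProduct

universe u

attribute [local instance] symModule symTower

section descent

variable (A B A' B' : Type u) [CommRing A] [CommRing B] [Algebra A B]
    [CommRing A'] [CommRing B'] [Algebra A' B'] [Algebra A A'] [Algebra B B'] [Algebra A B']
    [IsScalarTower A A' B'] [IsScalarTower A B B'] [Algebra.IsPushout A B A' B']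

theorem faithfullyFlat_of_isPushout [Module.FaithfullyFlat A A'] : Module.FaithfullyFlat B B' := by
  have : Algebra.IsPushout A A' B B' :=
    Algebra.IsPushout.symm (inferInstanceAs (Algebra.IsPushout A B A' B'))
  exact (RingHom.faithfullyFlat_algebraMap_iff).1
    (RingHom.FaithfullyFlat.isStableUnderBaseChange A A' B B'
      ((RingHom.faithfullyFlat_algebraMap_iff).2 inferInstance))

/-- the map `T` is injective when `Ω` is projective and `B → B'` is injective -/
theorem T_injective [hproj : Module.Projective B Ω[B⁄A]]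
    (hinj : Function.Injective (algebraMap B B')) (ι : Type u) [Fintype ι] :
    Function.Injective (T A B A' B' ι) := by
  classical
  have hP : Algebra.IsPushout A A' B B' :=
    Algebra.IsPushout.symm (inferInstanceAs (Algebra.IsPushout A B A' B'))
  obtain ⟨s, hs⟩ := Module.projective_def'.1 hproj
  -- the embedding of `Sym[B] ι Ω` into a polynomial ring
  let i : SymmetricPower B ι Ω[B⁄A] →ₗ[B] SymmetricPower B ι (Ω[B⁄A] →₀ B) :=
    Groth.Agent.H75.SymPow.map s
  let π : SymmetricPower B ι (Ω[B⁄A] →₀ B) →ₗ[B] SymmetricPower B ι Ω[B⁄A] :=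
    Groth.Agent.H75.SymPow.map (Finsupp.linearCombination B (id : Ω[B⁄A] → Ω[B⁄A]))
  have h1 : ∀ t, π (i t) = t := by
    intro t
    have h2 : π ∘ₗ i = LinearMap.id := by
      apply Groth.Agent.H75.SymPow.hom_ext
      intro x
      show π (i (SymmetricPower.tprod B x)) = SymmetricPower.tprod B x
      rw [Groth.Agent.H75.SymPow.map_tprod, Groth.Agent.H75.SymPow.map_tprod]
      congr 1
      funext j
      exact LinearMap.congr_fun hs (x j)
    exact LinearMap.congr_fun h2 t
  let Θ : SymmetricPower B ι Ω[B⁄A] →ₗ[B] MvPolynomial Ω[B⁄A] B :=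
    Groth.Agent.H75.SymPow.sigma ∘ₗ i
  have hΘinj : Function.Injective Θ := by
    apply Function.LeftInverse.injective (g := fun p => π (Groth.Agent.H75.SymPow.retr p))
    intro t
    show π (Groth.Agent.H75.SymPow.retr (Groth.Agent.H75.SymPow.sigma (i t))) = t
    rw [Groth.Agent.H75.SymPow.retr_sigma, h1]
  let L : Ω[B⁄A] →ₗ[B] MvPolynomial Ω[B⁄A] B := Groth.Agent.H75.SymPow.linForm ∘ₗ s
  have hΘ : ∀ w : ι → Ω[B⁄A], Θ (SymmetricPower.tprod B w) = ∏ j, L (w j) := by
    intro w
    show Groth.Agent.H75.SymPow.sigma (i (SymmetricPower.tprod B w)) = _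
    rw [Groth.Agent.H75.SymPow.map_tprod, Groth.Agent.H75.SymPow.sigma_tprod]
    rfl
  let mapB : MvPolynomial Ω[B⁄A] B →ₐ[B] MvPolynomial Ω[B⁄A] B' :=
    MvPolynomial.mapAlgHom (Algebra.ofId B B')
  have hmapB : Function.Injective mapB := by
    intro p q hpq
    exact MvPolynomial.map_injective (algebraMap B B') hinj hpq
  let LB : Ω[B⁄A] →ₗ[B] MvPolynomial Ω[B⁄A] B' := mapB.toLinearMap ∘ₗ L
  let e := KaehlerDifferential.tensorKaehlerEquiv A A' B B'
  let L' : Ω[B'⁄A'] →ₗ[B'] MvPolynomial Ω[B⁄A] B' :=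
    (LinearMap.liftBaseChange B' LB) ∘ₗ e.symm.toLinearMap
  have hL' : ∀ b : B, L' (KaehlerDifferential.D A' B' (algebraMap B B' b)) =
      mapB (L (KaehlerDifferential.D A B b)) := by
    intro b
    have h2 : e.symm (KaehlerDifferential.D A' B' (algebraMap B B' b)) =
        (1 : B') ⊗ₜ[B] KaehlerDifferential.D A B b := by
      rw [LinearEquiv.symm_apply_eq, KaehlerDifferential.tensorKaehlerEquiv_tmul_D, one_smul]
    show LinearMap.liftBaseChange B' LB
      (e.symm (KaehlerDifferential.D A' B' (algebraMap B B' b))) = _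
    rw [h2, LinearMap.liftBaseChange_tmul, one_smul]
    rfl
  let Θ' : SymmetricPower B' ι Ω[B'⁄A'] →ₗ[B'] MvPolynomial Ω[B⁄A] B' :=
    symLift ((MultilinearMap.mkPiAlgebra B' ι (MvPolynomial Ω[B⁄A] B')).compLinearMap
      (fun _ => L')) (by
      intro σ w
      rw [MultilinearMap.compLinearMap_apply, MultilinearMap.compLinearMap_apply,
        MultilinearMap.mkPiAlgebra_apply, MultilinearMap.mkPiAlgebra_apply]
      exact Equiv.prod_comp σ (fun j => L' (w j)))
  have hΘ' : ∀ w : ι → Ω[B'⁄A'], Θ' (SymmetricPower.tprod B' w) = ∏ j, L' (w j) := by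
    intro w
    show symLift _ _ (SymmetricPower.tprod B' w) = _
    rw [symLift_tprod, MultilinearMap.compLinearMap_apply, MultilinearMap.mkPiAlgebra_apply]
  have key : ∀ t, Θ' (T A B A' B' ι t) = mapB (Θ t) := by
    intro t
    have ht : t ∈ Submodule.span B {t | ∃ w : ι → Ω[B⁄A],
        (∀ j, w j ∈ Set.range (KaehlerDifferential.D A B)) ∧ t = SymmetricPower.tprod B w} := by
      rw [span_tprod_of_span _ (KaehlerDifferential.span_range_derivation A B) ι]; trivial
    induction ht using Submodule.span_induction with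
    | mem z hz =>
      obtain ⟨w, hw, rfl⟩ := hz
      choose b hb using hw
      have hw' : w = fun j => KaehlerDifferential.D A B (b j) := funext fun j => (hb j).symm
      rw [hw', T_tprod_D, hΘ', hΘ, map_prod]
      exact Finset.prod_congr rfl fun j _ => hL' (b j)
    | zero => rw [map_zero, map_zero, map_zero, map_zero]
    | add z z' _ _ hz hz' => rw [map_add, map_add, map_add, map_add, hz, hz']
    | smul c z _ hz =>
      have h3 : T A B A' B' ι (c • z) = algebraMap B B' c • T A B A' B' ι z := by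
        rw [map_smul]; rfl
      have h4 : mapB (Θ (c • z)) = algebraMap B B' c • mapB (Θ z) := by
        rw [map_smul, map_smul, algebraMap_smul]
      rw [h3, h4, map_smul, hz]
  refine (injective_iff_map_eq_zero _).2 (fun t ht => ?_)
  apply hΘinj
  apply hmapB
  rw [← key, ht, map_zero, map_zero, map_zero]

attribute [local instance] PP16.mapAlgebra PP16.isScalarTower_mapAlgebra in
/-- **S3822**: faithfully flat descent of differential smoothness. -/
theorem isDiffSmooth_descent [Module.FaithfullyFlat A A']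
    (h : PP16.IsDiffSmooth A' B') (hfin : Module.Finite B' Ω[B'⁄A']) :
    PP16.IsDiffSmooth A B ∧ Module.Finite B Ω[B⁄A] := by
  have hff : Module.FaithfullyFlat B B' := faithfullyFlat_of_isPushout A B A' B'
  have hP : Algebra.IsPushout A A' B B' :=
    Algebra.IsPushout.symm (inferInstanceAs (Algebra.IsPushout A B A' B'))
  let e := KaehlerDifferential.tensorKaehlerEquiv A A' B B'
  have hfin' : Module.Finite B' (B' ⊗[B] Ω[B⁄A]) := Module.Finite.equiv e.symm
  have hprojT : Module.Projective B' (B' ⊗[B] Ω[B⁄A]) := by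
    have := h.1
    exact Module.Projective.of_equiv e.symm
  have hfinB : Module.Finite B Ω[B⁄A] :=
    Module.Finite.of_finite_tensorProduct_of_faithfullyFlat B'
  have hproj : Module.Projective B Ω[B⁄A] := Groth.Agent.S0585.result B B' Ω[B⁄A]
  have hinj : Function.Injective (algebraMap B B') :=
    (RingHom.faithfullyFlat_algebraMap_iff.2 hff).injective
  refine ⟨⟨hproj, ?_⟩, hfinB⟩
  intro ι _
  refine ⟨phi A B ι, phi_tprod_D A B ι, ?_, phi_surjective A B ι⟩
  obtain ⟨φ', hφ1, hφ2⟩ := h.2 ι
  have hφ : φ' = phi A' B' ι := eq_phi_of_pinned A' B' ι φ' hφ1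
  rw [hφ] at hφ2
  refine (injective_iff_map_eq_zero _).2 (fun t ht => ?_)
  have h1 : C1 A B A' B' ι ((1 : B') ⊗ₜ[B] t) = 0 := by
    unfold C1
    rw [LinearMap.comp_apply, LinearMap.comp_apply, LinearMap.baseChange_tmul, ht,
      TensorProduct.tmul_zero, map_zero, map_zero]
  rw [C1_eq_C2] at h1
  have h2 : valI A' B' (Fintype.card ι) (phi A' B' ι (T A B A' B' ι t)) = 0 := by
    have h3 : C2 A B A' B' ι ((1 : B') ⊗ₜ[B] t) =
        valI A' B' (Fintype.card ι) (phi A' B' ι (Tt A B A' B' ι ((1 : B') ⊗ₜ[B] t))) := rfl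
    rw [h3, Tt_tmul, one_smul] at h1
    exact h1
  have h3 : phi A' B' ι (T A B A' B' ι t) = 0 :=
    valI_injective A' B' _ (by rw [h2, map_zero])
  have h4 : T A B A' B' ι t = 0 := hφ2.1 (by rw [h3, map_zero])
  exact T_injective A B A' B' hinj ι (by rw [h4, map_zero])

end descent

end Groth.Agent.H46.DSBase
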