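import Groth.Agent.H46.SymGr

/-!
# Differential smoothness in characteristic zero with free differentials (helper46)
-/

namespace Groth.Agent.H46.SymGr

universe u

open scoped TensorProduct

section permanent

variable {R : Type*} [CommRing R]

theorem permanent_succ_column_zero {n : ℕ} (M : Matrix (Fin (n + 1)) (Fin (n + 1)) R) :
    M.permanent = ∑ i : Fin (n + 1), M i 0 * (M.submatrix i.succAbove Fin.succ).permanent := by
  unfold Matrix.permanent
  rw [← Equiv.sum_comp (Equiv.Perm.decomposeFin (n := n)).symm, Fintype.sum_prod_type]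
  refine Finset.sum_congr rfl fun i _ => ?_
  rw [Finset.mul_sum]
  simp only [Fin.prod_univ_succ, Equiv.Perm.decomposeFin_symm_apply_zero,
    Equiv.Perm.decomposeFin_symm_apply_succ, Matrix.submatrix_apply]
  induction i using Fin.cases with
  | zero =>
    refine Finset.sum_congr rfl fun τ _ => ?_
    simp
  | succ i =>
    conv_rhs => rw [← Equiv.sum_comp (Equiv.mulLeft (Fin.cycleRange i))]
    refine Finset.sum_congr rfl fun τ _ => ?_
    congr 1
    refine Finset.prod_congr rfl fun j _ => ?_
    rw [Equiv.coe_mulLeft, Equiv.Perm.mul_apply, Fin.succAbove_cycleRange]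

theorem permanent_succ_row_zero {n : ℕ} (M : Matrix (Fin (n + 1)) (Fin (n + 1)) R) :
    M.permanent = ∑ k : Fin (n + 1), M 0 k * (M.submatrix Fin.succ k.succAbove).permanent := by
  rw [← Matrix.permanent_transpose, permanent_succ_column_zero]
  refine Finset.sum_congr rfl fun k _ => ?_
  rw [← Matrix.permanent_transpose (M.submatrix Fin.succ k.succAbove)]
  rfl

end permanent

section deriv

variable {A B : Type u} [CommRing A] [CommRing B] [Algebra A B]

/-- `id ⊗ d` -/
noncomputable def pd (d : Derivation A B B) : B ⊗[A] B →ₗ[B] B ⊗[A] B :=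
  TensorProduct.AlgebraTensorModule.map (LinearMap.id : B →ₗ[B] B) d.toLinearMap

theorem pd_tmul (d : Derivation A B B) (s t : B) : pd d (s ⊗ₜ[A] t) = s ⊗ₜ[A] d t := rfl

theorem pd_mul (d : Derivation A B B) (x y : B ⊗[A] B) :
    pd d (x * y) = x * pd d y + pd d x * y := by
  induction x using TensorProduct.induction_on with
  | zero => simp
  | add x₁ x₂ h₁ h₂ => rw [add_mul, map_add, h₁, h₂, map_add]; ring
  | tmul s t =>
    induction y using TensorProduct.induction_on with
    | zero => simp
    | add y₁ y₂ h₁ h₂ => rw [mul_add, map_add, h₁, h₂, map_add]; ring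
    | tmul s' t' =>
      rw [Algebra.TensorProduct.tmul_mul_tmul, pd_tmul, pd_tmul, pd_tmul,
        Algebra.TensorProduct.tmul_mul_tmul, Algebra.TensorProduct.tmul_mul_tmul, d.leibniz,
        TensorProduct.tmul_add, smul_eq_mul, smul_eq_mul, mul_comm t' (d t)]

theorem lmul_pd (d : Derivation A B B) (x : B ⊗[A] B) :
    Algebra.TensorProduct.lmul' A (pd d x) = d.tensorProductTo x := by
  induction x using TensorProduct.induction_on with
  | zero => simp
  | add x y hx hy => rw [map_add, map_add, hx, hy, map_add]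
  | tmul s t =>
    rw [pd_tmul, Algebra.TensorProduct.lmul'_apply_tmul, Derivation.tensorProductTo_tmul,
      smul_eq_mul]

theorem pd_mem_pow (d : Derivation A B B) (k : ℕ) {y : B ⊗[A] B}
    (hy : y ∈ (KaehlerDifferential.ideal A B) ^ (k + 1)) :
    pd d y ∈ (KaehlerDifferential.ideal A B) ^ k := by
  induction k generalizing y with
  | zero => simp
  | succ k ih =>
    rw [pow_succ'] at hy
    refine Submodule.mul_induction_on hy ?_ ?_
    · intro a ha b hb
      rw [pd_mul]
      apply Ideal.add_mem
      · rw [pow_succ']; exact Ideal.mul_mem_mul ha (ih hb)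
      · exact Ideal.mul_mem_left _ _ hb
    · intro x y hx hy; rw [map_add]; exact Ideal.add_mem _ hx hy

theorem pd_prod {ι : Type*} [DecidableEq ι] (d : Derivation A B B) (s : Finset ι)
    (x : ι → B ⊗[A] B) :
    pd d (∏ j ∈ s, x j) = ∑ k ∈ s, pd d (x k) * ∏ j ∈ s.erase k, x j := by
  induction s using Finset.induction_on with
  | empty =>
    simp only [Finset.prod_empty, Finset.sum_empty]
    have := pd_mul d 1 1
    simp only [mul_one, one_mul] at this
    have h2 : pd d (1 : B ⊗[A] B) + pd d 1 = pd d 1 + 0 := by rw [add_zero]; exact this.symm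
    exact add_left_cancel h2
  | insert a s ha ih =>
    rw [Finset.prod_insert ha, pd_mul, ih, Finset.sum_insert ha, Finset.erase_insert ha,
      Finset.mul_sum, add_comm]
    congr 1
    refine Finset.sum_congr rfl fun k hk => ?_
    have hka : a ≠ k := fun h => ha (h ▸ hk)
    rw [Finset.erase_insert_of_ne hka, Finset.prod_insert (fun h => ha (Finset.mem_of_mem_erase h))]
    ring

/-- iterated `id ⊗ d` -/
noncomputable def op : (n : ℕ) → (Fin n → Derivation A B B) → (B ⊗[A] B →ₗ[B] B ⊗[A] B)
  | 0, _ => LinearMap.id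
  | n + 1, l => (op n (Fin.tail l)) ∘ₗ pd (l 0)

theorem op_mem_pow (n : ℕ) (l : Fin n → Derivation A B B) (k : ℕ) {y : B ⊗[A] B}
    (hy : y ∈ (KaehlerDifferential.ideal A B) ^ (n + k)) :
    op n l y ∈ (KaehlerDifferential.ideal A B) ^ k := by
  induction n generalizing y with
  | zero => simpa [op] using hy
  | succ n ih =>
    show op n (Fin.tail l) (pd (l 0) y) ∈ _
    apply ih
    apply pd_mem_pow
    have : n + 1 + k = n + k + 1 := by omega
    rwa [this] at hy

/-- the pairing matrix -/
noncomputable def PM {n : ℕ} (l : Fin n → Derivation A B B)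
    (x : Fin n → ↥(KaehlerDifferential.ideal A B)) : Matrix (Fin n) (Fin n) B :=
  Matrix.of fun j i => (l j).tensorProductTo (x i : B ⊗[A] B)

theorem lmul_op (n : ℕ) : ∀ (l : Fin n → Derivation A B B) (u : B ⊗[A] B)
    (x : Fin n → ↥(KaehlerDifferential.ideal A B)),
    Algebra.TensorProduct.lmul' A (op n l (u * ∏ j, (x j : B ⊗[A] B))) =
      Algebra.TensorProduct.lmul' A u * (PM l x).permanent := by
  induction n with
  | zero =>
    intro l u x
    simp [op, Matrix.permanent_isEmpty]
  | succ n ih =>
    intro l u x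
    show Algebra.TensorProduct.lmul' A (op n (Fin.tail l) (pd (l 0) (u * ∏ j, (x j : B ⊗[A] B)))) = _
    rw [pd_mul, map_add, map_add]
    have h2 : Algebra.TensorProduct.lmul' A
        (op n (Fin.tail l) (pd (l 0) u * ∏ j, (x j : B ⊗[A] B))) = 0 := by
      have hmem : pd (l 0) u * ∏ j, (x j : B ⊗[A] B) ∈
          (KaehlerDifferential.ideal A B) ^ (n + 1) := by
        apply Ideal.mul_mem_left
        have := Ideal.prod_mem_prod (s := Finset.univ) (I := fun _ : Fin (n + 1) =>
          KaehlerDifferential.ideal A B) (x := fun j => (x j : B ⊗[A] B)) (fun j _ => (x j).2)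
        simpa using this
      have := op_mem_pow n (Fin.tail l) 1 hmem
      rw [pow_one] at this
      exact this
    rw [h2, add_zero]
    have h1 : (Finset.univ : Finset (Fin (n + 1))).prod (fun j => (x j : B ⊗[A] B)) =
        ∏ j ∈ Finset.univ, (x j : B ⊗[A] B) := rfl
    rw [pd_prod, Finset.mul_sum, map_sum, map_sum]
    rw [permanent_succ_row_zero, Finset.mul_sum]
    refine Finset.sum_congr rfl fun k _ => ?_
    have h3 : ∏ j ∈ Finset.univ.erase k, (x j : B ⊗[A] B) =
        ∏ j : Fin n, ((x (k.succAbove j) : ↥(KaehlerDifferential.ideal A B)) : B ⊗[A] B) := by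
      have : (Finset.univ.erase k : Finset (Fin (n + 1))) = Finset.univ.image k.succAbove := by
        rw [Fin.image_succAbove_univ]
        ext j; simp
      rw [this, Finset.prod_image (fun a _ b _ h => Fin.succAbove_right_injective h)]
    rw [h3, ← mul_assoc, ih (Fin.tail l) (u * pd (l 0) (x k)) (fun j => x (k.succAbove j)),
      map_mul, lmul_pd]
    have h4 : (PM l x).submatrix Fin.succ k.succAbove =
        PM (Fin.tail l) (fun j => x (k.succAbove j)) := rfl
    rw [h4]
    show _ = _ * ((l 0).tensorProductTo (x k : B ⊗[A] B) * _)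
    ring

end deriv

section main

variable (A B : Type u) [CommRing A] [CommRing B] [Algebra A B]

/-- the functional on `I^n/I^(n+1)` given by `n` derivations -/
noncomputable def Lfun (n : ℕ) (l : Fin n → Derivation A B B) : PP16.grI A B n →ₗ[B] B :=
  Submodule.liftQ _
    ((Algebra.TensorProduct.lmul'' A).toLinearMap ∘ₗ op n l ∘ₗ
      (((KaehlerDifferential.ideal A B) ^ n).restrictScalars B).subtype)
    (by
      intro y hy
      rw [Submodule.mem_comap, Submodule.restrictScalars_mem] at hy
      rw [LinearMap.mem_ker]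
      have h1 : op n l (y : B ⊗[A] B) ∈ (KaehlerDifferential.ideal A B) ^ 1 :=
        op_mem_pow n l 1 hy
      rw [pow_one] at h1
      exact h1)

theorem Lfun_Psi {ι : Type u} [Fintype ι] (l : Fin (Fintype.card ι) → Derivation A B B)
    (x : ι → ↥(KaehlerDifferential.ideal A B)) :
    Lfun A B (Fintype.card ι) l (Psi A B x) =
      (PM l (fun j => x ((Fintype.equivFin ι).symm j))).permanent := by
  unfold Psi Lfun
  rw [Submodule.liftQ_apply]
  show Algebra.TensorProduct.lmul' A (op _ l (∏ i, (x i : B ⊗[A] B))) = _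
  have h1 : ∏ i, (x i : B ⊗[A] B) =
      1 * ∏ j, ((x ((Fintype.equivFin ι).symm j) : ↥(KaehlerDifferential.ideal A B)) :
        B ⊗[A] B) := by
    rw [one_mul]
    exact (Equiv.prod_comp (Fintype.equivFin ι).symm (fun i => (x i : B ⊗[A] B))).symm
  rw [h1, lmul_op, map_one, one_mul]

variable {A B}

/-- the derivation dual to a basis element -/
noncomputable def dDer {Λ : Type*} (ω : Module.Basis Λ B Ω[B⁄A]) (a : Λ) : Derivation A B B :=
  (ω.coord a).compDer (KaehlerDifferential.D A B)

theorem dDer_tensorProductTo {Λ : Type*} (ω : Module.Basis Λ B Ω[B⁄A]) (a : Λ)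
    (x : ↥(KaehlerDifferential.ideal A B)) :
    (dDer ω a).tensorProductTo (x : B ⊗[A] B) = ω.coord a (KaehlerDifferential.fromIdeal A B x) := by
  have h1 : (dDer ω a).liftKaehlerDifferential = ω.coord a := by
    apply Derivation.liftKaehlerDifferential_unique
    rw [Derivation.liftKaehlerDifferential_comp]
    rfl
  rw [← h1]
  rfl

section withbasis

variable {Λ : Type u} (ω : Module.Basis Λ B Ω[B⁄A]) (ι : Type u) [Fintype ι]

/-- symmetric monomials in the basis elements -/
noncomputable def vfam (k : Fin (Fintype.card ι) → Λ) : SymmetricPower B ι Ω[B⁄A] :=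
  SymmetricPower.tprod B (fun i => ω (k (Fintype.equivFin ι i)))

theorem vfam_perm (k : Fin (Fintype.card ι) → Λ) (τ : Equiv.Perm (Fin (Fintype.card ι))) :
    vfam ω ι (fun j => k (τ j)) = vfam ω ι k := by
  unfold vfam
  let σ : Equiv.Perm ι := ((Fintype.equivFin ι).trans τ).trans (Fintype.equivFin ι).symm
  have h := SymmetricPower.tprod_equiv (R := B) σ (fun i => ω (k (Fintype.equivFin ι i)))
  rw [← h]
  congr 1
  funext i
  simp [σ]

theorem span_vfam : Submodule.span B (Set.range (vfam ω ι)) = ⊤ := by
  set Q := Submodule.span B (Set.range (vfam ω ι)) with hQ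
  have hT : (Q.mkQ).compMultilinearMap (SymmetricPower.tprod B (ι := ι) (M := Ω[B⁄A])) = 0 := by
    apply Module.Basis.ext_multilinear (fun _ => ω)
    intro k
    rw [LinearMap.compMultilinearMap_apply, zero_apply, Submodule.mkQ_apply,
      Submodule.Quotient.mk_eq_zero]
    apply Submodule.subset_span
    refine ⟨fun j => k ((Fintype.equivFin ι).symm j), ?_⟩
    unfold vfam
    simp
  rw [eq_top_iff, ← SymmetricPower.span_tprod_eq_top, Submodule.span_le]
  rintro _ ⟨w, rfl⟩
  have := congrArg (fun T => T w) hT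
  simp only [LinearMap.compMultilinearMap_apply, zero_apply, Submodule.mkQ_apply,
    Submodule.Quotient.mk_eq_zero] at this
  exact this

open scoped Classical in
theorem Lfun_phi_vfam (k k' : Fin (Fintype.card ι) → Λ) :
    Lfun A B (Fintype.card ι) (fun j => dDer ω (k' j)) (phi A B ι (vfam ω ι k)) =
      ∑ τ : Equiv.Perm (Fin (Fintype.card ι)), if k = (fun j => k' (τ j)) then 1 else 0 := by
  have hv : vfam ω ι k = SymmetricPower.tprod B (fun i => KaehlerDifferential.fromIdeal A B
      (out A B (ω (k (Fintype.equivFin ι i))))) := by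
    unfold vfam
    congr 1
    funext i
    rw [fromIdeal_out]
  rw [hv, phi_tprod_fromIdeal, Lfun_Psi]
  unfold Matrix.permanent
  refine Finset.sum_congr rfl fun τ _ => ?_
  have hent : ∀ i, PM (fun j => dDer ω (k' j))
      (fun j => out A B (ω (k (Fintype.equivFin ι ((Fintype.equivFin ι).symm j))))) (τ i) i =
      if k i = k' (τ i) then 1 else 0 := by
    intro i
    show (dDer ω (k' (τ i))).tensorProductTo _ = _
    rw [dDer_tensorProductTo, fromIdeal_out, Equiv.apply_symm_apply, Module.Basis.coord_apply,
      Module.Basis.repr_self, Finsupp.single_apply]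
  simp_rw [hent]
  rw [Finset.prod_boole]
  congr 1
  apply propext
  constructor
  · intro h; funext i; exact h i (Finset.mem_univ i)
  · intro h i _; exact congrFun h i

open scoped Classical in
include ω in
theorem injective_phi_of_basis [Algebra ℚ B] : Function.Injective (phi A B ι) := by
  rw [injective_iff_map_eq_zero]
  intro x hx
  set n := Fintype.card ι with hn
  have hxmem : x ∈ Submodule.span B (Set.range (vfam ω ι)) := by
    rw [span_vfam]; trivial
  rw [Finsupp.mem_span_range_iff_exists_finsupp] at hxmem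
  obtain ⟨c, hc⟩ := hxmem
  have hlc : Finsupp.linearCombination B (vfam ω ι) c = x := by
    rw [Finsupp.linearCombination_apply]; exact hc
  -- the key vanishing
  have hkey : ∀ k' : Fin n → Λ, ∑ τ : Equiv.Perm (Fin n), c (fun j => k' (τ j)) = 0 := by
    intro k'
    have h1 : (Lfun A B n (fun j => dDer ω (k' j)) ∘ₗ phi A B ι) x = 0 := by
      rw [LinearMap.comp_apply, hx, map_zero]
    rw [← hlc, Finsupp.apply_linearCombination, Finsupp.linearCombination_apply] at h1
    have h2 : ∀ k, ((Lfun A B n (fun j => dDer ω (k' j)) ∘ₗ phi A B ι) ∘ vfam ω ι) k =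
        ∑ τ : Equiv.Perm (Fin n), if k = (fun j => k' (τ j)) then (1 : B) else 0 := by
      intro k
      exact Lfun_phi_vfam ω ι k k'
    simp_rw [h2] at h1
    unfold Finsupp.sum at h1
    simp_rw [smul_eq_mul, Finset.mul_sum, mul_ite, mul_one, mul_zero] at h1
    rw [Finset.sum_comm] at h1
    rw [← h1]
    refine Finset.sum_congr rfl fun τ _ => ?_
    rw [Finset.sum_ite_eq']
    split_ifs with hmem
    · rfl
    · rw [Finsupp.mem_support_iff, not_not] at hmem
      exact hmem
  -- n! • x = 0
  let E : Equiv.Perm (Fin n) → ((Fin n → Λ) ≃ (Fin n → Λ)) := fun τ =>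
    Equiv.arrowCongr τ (Equiv.refl Λ)
  have hE : ∀ τ, vfam ω ι ∘ (E τ) = vfam ω ι := by
    intro τ
    funext k
    show vfam ω ι (fun j => k (τ.symm j)) = vfam ω ι k
    exact vfam_perm ω ι k τ.symm
  have hx' : ∀ τ, Finsupp.linearCombination B (vfam ω ι) (Finsupp.equivMapDomain (E τ) c) = x := by
    intro τ
    rw [Finsupp.linearCombination_equivMapDomain, hE, hlc]
  have hsum0 : ∑ τ : Equiv.Perm (Fin n), Finsupp.equivMapDomain (E τ) c = 0 := by
    ext k'
    rw [Finsupp.finsetSum_apply, Finsupp.zero_apply]
    simp_rw [Finsupp.equivMapDomain_apply]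
    exact hkey k'
  have hfact : (Nat.factorial n) • x = 0 := by
    have h1 : ∑ τ : Equiv.Perm (Fin n), x = (Nat.factorial n) • x := by
      rw [Finset.sum_const, Finset.card_univ, Fintype.card_perm, Fintype.card_fin]
    rw [← h1]
    calc ∑ τ : Equiv.Perm (Fin n), x
        = ∑ τ : Equiv.Perm (Fin n),
            Finsupp.linearCombination B (vfam ω ι) (Finsupp.equivMapDomain (E τ) c) := by
          refine Finset.sum_congr rfl fun τ _ => (hx' τ).symm
      _ = Finsupp.linearCombination B (vfam ω ι)
            (∑ τ : Equiv.Perm (Fin n), Finsupp.equivMapDomain (E τ) c) := by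
          rw [map_sum]
      _ = 0 := by rw [hsum0, map_zero]
  have hunit : IsUnit ((Nat.factorial n : ℕ) : B) := by
    have h1 : IsUnit ((Nat.factorial n : ℕ) : ℚ) := by
      rw [isUnit_iff_ne_zero]
      exact_mod_cast Nat.factorial_ne_zero n
    have h2 := h1.map (algebraMap ℚ B)
    rwa [map_natCast] at h2
  obtain ⟨uu, huu⟩ := hunit
  have h3 : (uu : B) • x = 0 := by
    rw [huu, Nat.cast_smul_eq_nsmul]
    exact hfact
  calc x = (↑uu⁻¹ : B) • ((uu : B) • x) := by rw [smul_smul, Units.inv_mul, one_smul]
    _ = 0 := by rw [h3, smul_zero]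

end withbasis

theorem isDiffSmooth_of_free_of_rat (A B : Type u) [CommRing A] [CommRing B] [Algebra A B]
    [Algebra ℚ B] (hΩ : Module.Free B (KaehlerDifferential A B)) : PP16.IsDiffSmooth A B := by
  refine ⟨Module.Projective.of_free, fun ι _ => ⟨phi A B ι, phi_tprod_D A B ι, ?_, phi_surjective A B ι⟩⟩
  exact injective_phi_of_basis (Module.Free.chooseBasis B (KaehlerDifferential A B)) ι

end main

end Groth.Agent.H46.SymGr
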