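import Groth.Agent.H46.MonBasis
import Groth.Agent.H14.DiffOpBasis

/-!
# Differential smoothness and divided-power differential operators (helper46)
-/

namespace Groth.Agent.H46.DivPow

open Groth.Agent.H46.SymGr Groth.Agent.H46.DiffQR Groth.Agent.H46.MonBasis
open Groth.Agent.H14 Diff16
open scoped TensorProduct

universe u

section

variable {A B : Type u} [CommRing A] [CommRing B] [Algebra A B]
variable {ι : Type} [Fintype ι] [DecidableEq ι]

section fibre

variable {ι' : Type*} [Fintype ι'] [DecidableEq ι']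

/-- the exponent vector of a family of indices -/
def expo (κ : ι' → ι) : ι → ℕ := fun i => (Finset.univ.filter (fun j => κ j = i)).card

theorem prod_comp_expo {M : Type*} [CommMonoid M] (f : ι → M) (κ : ι' → ι) :
    ∏ j, f (κ j) = ∏ i, f i ^ expo κ i := by
  rw [← Finset.prod_fiberwise Finset.univ κ (fun j => f (κ j))]
  refine Finset.prod_congr rfl fun i _ => ?_
  rw [Finset.prod_congr rfl (fun j hj => by rw [(Finset.mem_filter.1 hj).2] :
    ∀ j ∈ Finset.univ.filter (fun j => κ j = i), f (κ j) = f i), Finset.prod_const]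
  rfl

theorem sum_expo (κ : ι' → ι) : ∑ i, expo κ i = Fintype.card ι' := by
  have h := Finset.card_eq_sum_card_fiberwise (f := κ) (s := Finset.univ) (t := Finset.univ)
    (fun x _ => Finset.mem_univ _)
  rw [Finset.card_univ] at h
  rw [h]
  rfl

theorem exists_perm_of_expo_eq (κ κ' : ι' → ι) (h : expo κ = expo κ') :
    ∃ σ : Equiv.Perm ι', ∀ j, κ' (σ j) = κ j := by
  apply Groth.Agent.H46.Chain.exists_equiv_of_card_fiber κ κ'
  intro c
  have h1 := congrFun h c
  unfold expo at h1
  rw [Fintype.card_subtype, Fintype.card_subtype]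
  exact h1

end fibre

section family

variable (z : ι → B) (Dp : (ι → ℕ) → (B →ₗ[A] B))
  (hDz : ∀ p q : ι → ℕ, Dp p (∏ i, z i ^ q i) =
    ((∏ i, Nat.choose (q i) (p i) : ℕ) : B) * ∏ i, z i ^ (q i - p i))
  (hz : Submodule.span B (Set.range fun i => KaehlerDifferential.D A B (z i)) = ⊤)
  (hD : ∀ p, ∃ k : ℕ, IsDiffOpLE A B B B k (Dp p))

include hDz hz hD in
/-- the linearised operators are dual to the monomials `ζ^p` -/
theorem linearize_zetaPow (p₀ p : ι → ℕ) :
    linearize A B B B (Dp p₀) (zetaPow z p) = if p = p₀ then 1 else 0 := by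
  classical
  set m := max (∑ i, p₀ i) (∑ i, p i) with hm
  letI : Fintype {p : ι → ℕ // ∑ i, p i ≤ m} :=
    Fintype.subtype (degLE ι m) (mem_degLE m)
  have hDm : IsDiffOpLE A B B B m (Dp p₀) :=
    isDiffOpLE_mono (le_max_left _ _) _ (isDiffOpLE_dp z Dp hDz hz hD _ p₀ rfl)
  have hex := eq_sum_dp z Dp hDz hz hD m (Dp p₀) hDm
  have h2 : Dp p₀ = ∑ q : {p : ι → ℕ // ∑ i, p i ≤ m},
      (if q = ⟨p₀, le_max_left _ _⟩ then (1 : B) else 0) • Dp q.1 := by
    rw [Finset.sum_eq_single (⟨p₀, le_max_left _ _⟩ : {p : ι → ℕ // ∑ i, p i ≤ m})]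
    · rw [if_pos rfl, one_smul]
    · intro q _ hq
      rw [if_neg hq, zero_smul]
    · intro h
      exact absurd (Finset.mem_univ _) h
  have h3 : ∑ q : {p : ι → ℕ // ∑ i, p i ≤ m},
      (linearize A B B B (Dp p₀) (zetaPow z q.1) -
        (if q = ⟨p₀, le_max_left _ _⟩ then (1 : B) else 0)) • Dp q.1 = 0 := by
    have h5 : ∀ q : {p : ι → ℕ // ∑ i, p i ≤ m},
        (linearize A B B B (Dp p₀) (zetaPow z q.1) -
          (if q = ⟨p₀, le_max_left _ _⟩ then (1 : B) else 0)) • Dp q.1 =
        linearize A B B B (Dp p₀) (zetaPow z q.1) • Dp q.1 -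
          (if q = ⟨p₀, le_max_left _ _⟩ then (1 : B) else 0) • Dp q.1 := fun q => by
      ext x
      simp only [LinearMap.smul_apply, LinearMap.sub_apply, smul_eq_mul, sub_mul]
    rw [Finset.sum_congr rfl (fun q _ => h5 q), Finset.sum_sub_distrib, ← hex, ← h2, sub_self]
  have h4 := coeff_eq_zero_of_sum_eq_zero z Dp hDz m _ h3 ⟨p, le_max_right _ _⟩
  rw [sub_eq_zero] at h4
  rw [h4]
  by_cases hp : p = p₀
  · subst hp
    rw [if_pos rfl, if_pos rfl]
  · rw [if_neg hp, if_neg]
    intro h
    exact hp (congrArg Subtype.val h)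

include hDz hz hD in
theorem linearize_vanish (p₀ : ι → ℕ) (x : B ⊗[A] B)
    (hx : x ∈ KaehlerDifferential.ideal A B ^ (∑ i, p₀ i + 1)) :
    linearize A B B B (Dp p₀) x = 0 :=
  (isDiffOpLE_iff_linearize _ _).1 (isDiffOpLE_dp z Dp hDz hz hD _ p₀ rfl) x hx

theorem zetaPow_single (i : ι) : (zetaPow z (Pi.single i 1) : B ⊗[A] B) = diagGen (z i) := by
  unfold zetaPow
  rw [Finset.prod_eq_single i]
  · rw [Pi.single_eq_same, pow_one]
  · intro j _ hj
    rw [Pi.single_eq_of_ne hj, pow_zero]
  · intro h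
    exact absurd (Finset.mem_univ i) h

include hDz hz hD in
theorem linearIndependent_D : LinearIndependent B (fun i => KaehlerDifferential.D A B (z i)) := by
  classical
  rw [Fintype.linearIndependent_iff]
  intro g hg j
  have h1 : ∀ i, KaehlerDifferential.D A B (z i) = KaehlerDifferential.fromIdeal A B
      ⟨diagGen (z i), diagGen_mem (z i)⟩ := fun i => rfl
  simp_rw [h1] at hg
  have h2' : KaehlerDifferential.fromIdeal A B
      (∑ i, g i • (⟨diagGen (z i), diagGen_mem (z i)⟩ : ↥(KaehlerDifferential.ideal A B))) = 0 := by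
    rw [map_sum]
    refine Eq.trans ?_ hg
    refine Finset.sum_congr rfl fun i _ => ?_
    exact fromIdeal_smul A B (g i) _
  have h2 : (KaehlerDifferential.ideal A B).toCotangent
      (∑ i, g i • (⟨diagGen (z i), diagGen_mem (z i)⟩ : ↥(KaehlerDifferential.ideal A B))) = 0 :=
    h2'
  rw [Ideal.toCotangent_eq_zero] at h2
  have h3 : ((∑ i, g i • (⟨diagGen (z i), diagGen_mem (z i)⟩ :
      ↥(KaehlerDifferential.ideal A B)) : ↥(KaehlerDifferential.ideal A B)) : B ⊗[A] B) =
      ∑ i, g i • zetaPow z (Pi.single i 1) := by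
    rw [Submodule.coe_sum]
    refine Finset.sum_congr rfl fun i _ => ?_
    rw [zetaPow_single]
    rfl
  rw [h3] at h2
  have h4 := linearize_vanish z Dp hDz hz hD (Pi.single j 1)
    (∑ i, g i • zetaPow z (Pi.single i 1)) (by
      have : ∑ i, (Pi.single j 1 : ι → ℕ) i = 1 := by
        rw [Finset.sum_eq_single j]
        · exact Pi.single_eq_same j 1
        · intro k _ hk; exact Pi.single_eq_of_ne hk 1
        · intro h; exact absurd (Finset.mem_univ j) h
      rw [this]
      exact h2)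
  rw [map_sum] at h4
  simp_rw [linearize_smul, linearize_zetaPow z Dp hDz hz hD] at h4
  rw [Finset.sum_eq_single j] at h4
  · rw [if_pos rfl, smul_eq_mul, mul_one] at h4
    exact h4
  · intro i _ hij
    rw [if_neg, smul_zero]
    intro h
    apply hij
    have h5 := congrFun h i
    rw [Pi.single_eq_same] at h5
    by_contra hne
    rw [Pi.single_eq_of_ne hne] at h5
    exact one_ne_zero h5
  · intro h
    exact absurd (Finset.mem_univ j) h

include hDz hz hD in
theorem phi_injective_of_ops (b : Module.Basis ι B Ω[B⁄A])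
    (hb : ∀ i, b i = KaehlerDifferential.D A B (z i)) (ι' : Type u) [Fintype ι'] :
    Function.Injective (phi A B ι') := by
  classical
  refine (injective_iff_map_eq_zero _).2 (fun t ht => ?_)
  have hspan : t ∈ Submodule.span B (Set.range fun κ : ι' → ι =>
      SymmetricPower.tprod B (fun j => b (κ j))) := by
    rw [span_tprod_basis]; trivial
  obtain ⟨a, ha⟩ := (Submodule.mem_span_range_iff_exists_fun B).1 hspan
  -- the value of `phi t`
  have hX : ∑ κ : ι' → ι, a κ • zetaPow z (expo κ) ∈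
      KaehlerDifferential.ideal A B ^ (Fintype.card ι' + 1) := by
    rw [← MonBasis.Q_eq_zero_iff]
    have h1 : valI A B (Fintype.card ι') (phi A B ι' t) = 0 := by rw [ht, map_zero]
    rw [← ha, map_sum, map_sum] at h1
    rw [map_sum, ← h1]
    refine Finset.sum_congr rfl fun κ _ => ?_
    rw [map_smul, map_smul, map_smul]
    congr 1
    have h3 : (fun j => b (κ j)) = fun j => KaehlerDifferential.D A B (z (κ j)) :=
      funext fun j => hb _
    rw [h3, phi_tprod_D, MonBasis.valI_zetaProd]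
    congr 1
    unfold zetaPow
    exact (prod_comp_expo (fun i => (diagGen (z i) : B ⊗[A] B)) κ).symm
  -- the fibre sums vanish
  have hfib : ∀ κ₀ : ι' → ι, ∑ κ ∈ Finset.univ.filter (fun κ => expo κ = expo κ₀), a κ = 0 := by
    intro κ₀
    have h4 := linearize_vanish z Dp hDz hz hD (expo κ₀) _ (by rw [sum_expo]; exact hX)
    rw [map_sum] at h4
    simp_rw [linearize_smul, linearize_zetaPow z Dp hDz hz hD, smul_eq_mul, mul_ite, mul_one,
      mul_zero] at h4
    rw [← Finset.sum_filter] at h4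
    exact h4
  rw [← ha]
  rw [← Finset.sum_fiberwise_of_maps_to (s := Finset.univ)
    (t := Finset.univ.image (fun κ : ι' → ι => expo κ)) (g := fun κ => expo κ)
    (fun κ _ => Finset.mem_image_of_mem _ (Finset.mem_univ κ))]
  refine Finset.sum_eq_zero fun p hp => ?_
  obtain ⟨κ₀, -, rfl⟩ := Finset.mem_image.1 hp
  have h5 : ∀ κ ∈ Finset.univ.filter (fun κ : ι' → ι => expo κ = expo κ₀),
      a κ • SymmetricPower.tprod B (fun j => b (κ j)) =
      a κ • SymmetricPower.tprod B (fun j => b (κ₀ j)) := by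
    intro κ hκ
    obtain ⟨σ, hσ⟩ := exists_perm_of_expo_eq κ₀ κ (Finset.mem_filter.1 hκ).2.symm
    congr 1
    rw [← SymmetricPower.tprod_equiv σ (fun j => b (κ j))]
    congr 1
    funext j
    rw [hσ]
  rw [Finset.sum_congr rfl h5, ← Finset.sum_smul, hfib κ₀, zero_smul]

include hDz hz hD in
/-- (b) ⇒ (a) -/
theorem isDiffSmooth_of_ops :
    PP16.IsDiffSmooth A B ∧ ∃ b : Module.Basis ι B Ω[B⁄A],
      ∀ i, b i = KaehlerDifferential.D A B (z i) := by
  let b : Module.Basis ι B Ω[B⁄A] :=
    Module.Basis.mk (linearIndependent_D z Dp hDz hz hD) (le_of_eq hz.symm)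
  have hb : ∀ i, b i = KaehlerDifferential.D A B (z i) := fun i => by
    show Module.Basis.mk _ _ i = _
    rw [Module.Basis.mk_apply]
  refine ⟨⟨Module.Projective.of_basis b, fun ι' _ => ⟨phi A B ι', phi_tprod_D A B ι',
    phi_injective_of_ops z Dp hDz hz hD b hb ι', phi_surjective A B ι'⟩⟩, b, hb⟩

end family

section converse

variable (z : ι → B) (hB : PP16.IsDiffSmooth A B)
  (hbz : ∃ b : Module.Basis ι B Ω[B⁄A], ∀ i, b i = KaehlerDifferential.D A B (z i))

/-- the monomial basis of `P^m` -/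
noncomputable def monB (m : ℕ) : Module.Basis {p : ι → ℕ // ∑ i, p i ≤ m} B (PP16.P m A B) :=
  (MonBasis.monomial_basis A B z hB hbz m).choose

theorem monB_apply (m : ℕ) (p : {p : ι → ℕ // ∑ i, p i ≤ m}) :
    monB z hB hbz m p = Ideal.Quotient.mk _ (zetaPow z p.1 : B ⊗[A] B) := by
  have h := (MonBasis.monomial_basis A B z hB hbz m).choose_spec p
  show (MonBasis.monomial_basis A B z hB hbz m).choose p = _
  rw [h]
  unfold zetaPow
  rw [map_prod]
  refine Finset.prod_congr rfl fun i _ => ?_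
  rw [map_pow]
  congr 1

/-- the divided-power operator attached to the multi-index `p` -/
noncomputable def Dop (p : ι → ℕ) : B →ₗ[A] B :=
  ((monB z hB hbz (∑ i, p i)).coord ⟨p, le_rfl⟩).restrictScalars A ∘ₗ
    (PP16.dn (∑ i, p i) A B).toLinearMap

theorem linearize_Dop (p : ι → ℕ) (x : B ⊗[A] B) :
    linearize A B B B (Dop z hB hbz p) x =
      (monB z hB hbz (∑ i, p i)).coord ⟨p, le_rfl⟩ (Ideal.Quotient.mk _ x) := by
  induction x using TensorProduct.induction_on with
  | zero => rw [map_zero, map_zero, map_zero]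
  | tmul c d =>
    rw [linearize_tmul]
    show c • (monB z hB hbz (∑ i, p i)).coord ⟨p, le_rfl⟩ (PP16.dn (∑ i, p i) A B d) = _
    rw [← map_smul]
    congr 1
    show (Ideal.Quotient.mk _ (c • ((1 : B) ⊗ₜ[A] d)) : PP16.P (∑ i, p i) A B) = _
    rw [TensorProduct.smul_tmul', smul_eq_mul, mul_one]
  | add x y hx hy => rw [map_add, map_add, map_add, hx, hy]

theorem isDiffOpLE_Dop (p : ι → ℕ) : IsDiffOpLE A B B B (∑ i, p i) (Dop z hB hbz p) := by
  rw [isDiffOpLE_iff_linearize]
  intro x hx
  rw [linearize_Dop, Ideal.Quotient.eq_zero_iff_mem.2 hx, map_zero]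

theorem linearize_Dop_zetaPow (p s : ι → ℕ) :
    linearize A B B B (Dop z hB hbz p) (zetaPow z s) = if s = p then 1 else 0 := by
  classical
  rw [linearize_Dop]
  by_cases hs : ∑ i, s i ≤ ∑ i, p i
  · rw [← monB_apply z hB hbz (∑ i, p i) ⟨s, hs⟩, Module.Basis.coord_apply,
      Module.Basis.repr_self, Finsupp.single_apply]
    by_cases hsp : s = p
    · subst hsp
      rw [if_pos rfl, if_pos rfl]
    · rw [if_neg hsp, if_neg]
      intro h
      exact hsp (congrArg Subtype.val h)
  · rw [not_le] at hs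
    have h1 : (zetaPow z s : B ⊗[A] B) ∈ KaehlerDifferential.ideal A B ^ (∑ i, p i + 1) :=
      Ideal.pow_le_pow_right hs (zetaPow_mem z s)
    rw [Ideal.Quotient.eq_zero_iff_mem.2 h1, map_zero, if_neg]
    intro h
    rw [h] at hs
    exact lt_irrefl _ hs

theorem Dop_mon (p q : ι → ℕ) :
    Dop z hB hbz p (∏ i, z i ^ q i) =
      ((∏ i, Nat.choose (q i) (p i) : ℕ) : B) * ∏ i, z i ^ (q i - p i) := by
  classical
  have h1 := apply_mon z (Dop z hB hbz p) q
  rw [mon] at h1
  rw [h1]
  simp_rw [linearize_Dop_zetaPow, smul_eq_mul, mul_ite, mul_one, mul_zero]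
  rw [Finset.sum_ite_eq']
  split_ifs with hmem
  · rfl
  · have h2 : ¬ ∀ i, p i ≤ q i := by
      intro h
      apply hmem
      rw [Fintype.mem_piFinset]
      intro i
      rw [Finset.mem_range]
      have := h i
      omega
    have h3 := coef_eq_zero q p h2
    rw [coef] at h3
    rw [h3, Nat.cast_zero, zero_mul]

end converse

/-- **S3816**: differential smoothness with a basis of exact differentials, in terms of
divided-power differential operators. -/
theorem isDiffSmooth_and_basis_iff (z : ι → B)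
    (hz : Submodule.span B (Set.range fun i => KaehlerDifferential.D A B (z i)) = ⊤) :
    (PP16.IsDiffSmooth A B ∧
        ∃ b : Module.Basis ι B Ω[B⁄A], ∀ i, b i = KaehlerDifferential.D A B (z i)) ↔
      ∃ Dp : (ι → ℕ) → (B →ₗ[A] B),
        (∀ p, ∃ k : ℕ, IsDiffOpLE A B B B k (Dp p)) ∧
        ∀ p q : ι → ℕ, Dp p (∏ i, z i ^ q i) =
          ((∏ i, Nat.choose (q i) (p i) : ℕ) : B) * ∏ i, z i ^ (q i - p i) := by
  constructor
  · rintro ⟨hB, hbz⟩
    exact ⟨Dop z hB hbz, fun p => ⟨_, isDiffOpLE_Dop z hB hbz p⟩, Dop_mon z hB hbz⟩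
  · rintro ⟨Dp, hD, hDz⟩
    exact isDiffSmooth_of_ops z Dp hDz hz hD


end

end Groth.Agent.H46.DivPow
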