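import Groth.Agent.H12.DualCM
import Groth.Agent.H12.DualLoc2

/-!
# The local package at every prime of a Noetherian ring with a dualizing complex (helper46)

`general_package`: for `p ∈ Supp M` there are `c : ℤ` (the normalizing shift at `p`),
`e = dim M_p`, `n = depth M_p` such that the degrees `j` with `p ∈ Supp Ext^j(M, ω)` lie in
`[c - e, c - n]`, and both ends occur.  (Generalizes `H12.DualLoc.local_package` from local rings
with a normalized dualizing complex.)
-/

set_option autoImplicit false
set_option linter.unusedSectionVars false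
universe u
open CategoryTheory CategoryTheory.Limits DerivedCategory Pretriangulated
attribute [local instance] HasDerivedCategory.standard

namespace Groth.Agent.H46.DualPkg

open DerivedCategory.TStructure Groth.Agent.H12.DualDepth Groth.Agent.H12.LocHom
  Groth.Agent.H12.DualLoc Groth.Agent.H12.DualCM

variable {A : Type u} [CommRing A] [IsNoetherianRing A] (ω : Dual.D A)

theorem general_package (hω : Dual.IsDualizing A ω)
    (M : Type u) [AddCommGroup M] [Module A M] [Module.Finite A M] (p : PrimeSpectrum A)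
    [hnt : Nontrivial (LocalizedModule p.asIdeal.primeCompl M)] :
    ∃ (c : ℤ) (e n : ℕ),
      Module.supportDim (Localization.AtPrime p.asIdeal)
        (LocalizedModule p.asIdeal.primeCompl M) = (e : WithBot ℕ∞) ∧
      LocCoh.depth (Localization.AtPrime p.asIdeal)
        (LocalizedModule p.asIdeal.primeCompl M) = n ∧
      (∀ j : ℤ, p ∈ Module.support A (Dual.inD A M ⟶ ω⟦j⟧) →
        c - (e : ℤ) ≤ j ∧ j ≤ c - (n : ℤ)) ∧
      p ∈ Module.support A (Dual.inD A M ⟶ ω⟦(c - (n : ℤ))⟧) ∧
      p ∈ Module.support A (Dual.inD A M ⟶ ω⟦(c - (e : ℤ))⟧) := by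
  classical
  haveI : DRing.HasLBaseChange (algebraMap A (Localization p.asIdeal.primeCompl)) :=
    H35.HasLBC.hasLBaseChange _
  have hωB := isDualizing_L p.asIdeal.primeCompl ω hω
  obtain ⟨c, hnW⟩ := exists_normalizing_shift
    (B := Localization.AtPrime p.asIdeal) _ hωB
  have hW := isDualizing_shift _ hωB c
  have hE1 : ∀ k : ℤ, p ∈ Module.support A (Dual.inD A M ⟶ ω⟦k⟧) ↔
      ¬ Van ((DRing.LBaseChange (algebraMap A (Localization p.asIdeal.primeCompl))).obj ω) k
        (ModuleCat.of (Localization.AtPrime p.asIdeal)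
          (LocalizedModule p.asIdeal.primeCompl M)) :=
    fun k => mem_support_hom_iff ω hω M p k
  obtain ⟨e, he⟩ : ∃ e : ℕ, Module.supportDim (Localization.AtPrime p.asIdeal)
      (LocalizedModule p.asIdeal.primeCompl M) = (e : WithBot ℕ∞) :=
    exists_nat_of _ (Module.supportDim_ne_bot_of_nontrivial _ _)
      (lt_of_le_of_lt (Module.supportDim_le_ringKrullDim _ _) ringKrullDim_lt_top)
  have hntH := nontrivial_hom_of_supportDim_eq _ hW hnW
    (LocalizedModule p.asIdeal.primeCompl M) e he
  have hex : ∃ δ : ℕ, ¬ Van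
      (((DRing.LBaseChange (algebraMap A (Localization p.asIdeal.primeCompl))).obj ω)⟦c⟧)
      (-(δ : ℤ)) (ModuleCat.of (Localization.AtPrime p.asIdeal)
        (LocalizedModule p.asIdeal.primeCompl M)) :=
    ⟨e, (not_van_iff_nontrivial _ _ _).2 hntH⟩
  obtain ⟨n, hn1, hn2⟩ : ∃ n : ℕ, (¬ Van
      (((DRing.LBaseChange (algebraMap A (Localization p.asIdeal.primeCompl))).obj ω)⟦c⟧)
      (-(n : ℤ)) (ModuleCat.of (Localization.AtPrime p.asIdeal)
        (LocalizedModule p.asIdeal.primeCompl M))) ∧ ∀ δ : ℕ, δ < n → Van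
      (((DRing.LBaseChange (algebraMap A (Localization p.asIdeal.primeCompl))).obj ω)⟦c⟧)
      (-(δ : ℤ)) (ModuleCat.of (Localization.AtPrime p.asIdeal)
        (LocalizedModule p.asIdeal.primeCompl M)) :=
    ⟨Nat.find hex, Nat.find_spec hex, fun δ hδ => not_not.1 (Nat.find_min hex hδ)⟩
  have hdep : LocCoh.depth (Localization.AtPrime p.asIdeal)
      (LocalizedModule p.asIdeal.primeCompl M) = n :=
    (depth_iff_dualizing _ hW hnW (LocalizedModule p.asIdeal.primeCompl M) n).2
      ⟨fun δ hδ => (van_iff_subsingleton _ _ _).1 (hn2 δ hδ),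
        (not_van_iff_nontrivial _ _ _).1 hn1⟩
  refine ⟨c, e, n, he, hdep, ?_, ?_, ?_⟩
  · intro j hj
    have hnv := (hE1 j).1 hj
    constructor
    · by_contra hlt
      apply hnv
      obtain ⟨x, hx⟩ : ∃ x : ℕ, j - c = -(x : ℤ) := ⟨(-(j - c)).toNat, by omega⟩
      have hxe : e < x := by omega
      have h1 := van_of_supportDim_lt _ hW hnW (LocalizedModule p.asIdeal.primeCompl M) x (by
        rw [he]
        exact natCast_lt_natCast hxe)
      exact (van_shift_iff _ c (-(x : ℤ)) j (by omega) _).1 h1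
    · by_contra hlt
      apply hnv
      by_cases hpos : 0 < j - c
      · have h1 := dualizing_hpos _ hW hnW (LocalizedModule p.asIdeal.primeCompl M)
          (j - c) hpos
        exact (van_shift_iff _ c (j - c) j (by omega) _).1 h1
      · obtain ⟨x, hx⟩ : ∃ x : ℕ, j - c = -(x : ℤ) := ⟨(-(j - c)).toNat, by omega⟩
        have h1 := hn2 x (by omega)
        exact (van_shift_iff _ c (-(x : ℤ)) j (by omega) _).1 h1
  · refine (hE1 _).2 (fun hv => hn1 ?_)
    exact (van_shift_iff _ c (-(n : ℤ)) (c - (n : ℤ)) (by omega) _).2 hv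
  · refine (hE1 _).2 (fun hv => (not_van_iff_nontrivial _ _ _).2 hntH ?_)
    exact (van_shift_iff _ c (-(e : ℤ)) (c - (e : ℤ)) (by omega) _).2 hv

end Groth.Agent.H46.DualPkg
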