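import Groth.Agent.H46.DimFun
import Groth.Agent.H46.DualPkg
import Groth.Agent.H12.DualLoc4
import Groth.Agent.H12.HomSingleRing
import Groth.Agent.H15.SkAt
import Groth.Agent.H29.LocQuot

/-!
# Ordinary dualizing complexes over a local ring (helper46)

* `isNormalized_of_NT`, `package_of_normDeg` : the local package at a prime with the normalizing
  degree `c = n_p` made explicit.
* `coheight_eq` : for a local ring with dualizing complex, `coheight p = n_m - n_p`.
-/

set_option autoImplicit false
set_option linter.unusedSectionVars false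
universe u
open CategoryTheory CategoryTheory.Limits DerivedCategory Pretriangulated
attribute [local instance] HasDerivedCategory.standard

namespace Groth.Agent.H46.DualOrd

open DerivedCategory.TStructure Groth.Agent.H12.DualDepth Groth.Agent.H12.LocHom
  Groth.Agent.H12.DualLoc Groth.Agent.H12.DualCM Groth.Agent.H46.DimFun

section Pkg

variable {A : Type u} [CommRing A] [IsNoetherianRing A] (ω : Dual.D A)

/-- the shift by the normalizing degree at `p` is normalized over `A_p` -/
lemma isNormalized_of_NT (hω : Dual.IsDualizing A ω) (p : Ideal A) [p.IsPrime]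
    [DRing.HasLBaseChange (algebraMap A (Localization p.primeCompl))] (c : ℤ)
    (hc : ∀ i, NT ω p i ↔ i = c) :
    Dual.IsNormalized (Localization.AtPrime p)
      (((DRing.LBaseChange (algebraMap A (Localization p.primeCompl))).obj ω)⟦c⟧) := by
  intro i hi
  refine (van_iff_subsingleton _ i
    (ModuleCat.of (Localization.AtPrime p) (IsLocalRing.ResidueField (Localization.AtPrime p)))).1 ?_
  refine van_of_iso (residueIso (A := Localization.AtPrime p)).symm ?_
  rw [van_shift_iff _ c i (c + i) rfl]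
  by_contra hv
  have h1 := ((NT_iff ω hω p (c + i)).2 hv)
  have h2 := (hc (c + i)).1 h1
  omega

/-- the local package at `p` with the normalizing degree explicit -/
theorem package_of_normDeg (hω : Dual.IsDualizing A ω)
    (M : Type u) [AddCommGroup M] [Module A M] [Module.Finite A M] (p : PrimeSpectrum A)
    [hnt : Nontrivial (LocalizedModule p.asIdeal.primeCompl M)] (c : ℤ)
    (hc : ∀ i, NT ω p.asIdeal i ↔ i = c) :
    ∃ (e n : ℕ),
      Module.supportDim (Localization.AtPrime p.asIdeal)
        (LocalizedModule p.asIdeal.primeCompl M) = (e : WithBot ℕ∞) ∧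
      LocCoh.depth (Localization.AtPrime p.asIdeal)
        (LocalizedModule p.asIdeal.primeCompl M) = n ∧
      (∀ j : ℤ, p ∈ Module.support A (Dual.inD A M ⟶ ω⟦j⟧) →
        c - (e : ℤ) ≤ j ∧ j ≤ c - (n : ℤ)) ∧
      p ∈ Module.support A (Dual.inD A M ⟶ ω⟦(c - (n : ℤ))⟧) ∧
      p ∈ Module.support A (Dual.inD A M ⟶ ω⟦(c - (e : ℤ))⟧) := by
  classical
  haveI : DRing.HasLBaseChange (algebraMap A (Localization p.asIdeal.primeCompl)) :=
    H35.HasLBC.hasLBaseChange _
  have hωB := isDualizing_L p.asIdeal.primeCompl ω hω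
  have hnW := isNormalized_of_NT ω hω p.asIdeal c hc
  have hW := isDualizing_shift _ hωB c
  have hE1 : ∀ k : ℤ, p ∈ Module.support A (Dual.inD A M ⟶ ω⟦k⟧) ↔
      ¬ Van ((DRing.LBaseChange (algebraMap A (Localization p.asIdeal.primeCompl))).obj ω) k
        (ModuleCat.of (Localization.AtPrime p.asIdeal)
          (LocalizedModule p.asIdeal.primeCompl M)) :=
    fun k => mem_support_hom_iff ω hω M p k
  obtain ⟨e, he⟩ : ∃ e : ℕ, Module.supportDim (Localization.AtPrime p.asIdeal)
      (LocalizedModule p.asIdeal.primeCompl M) = (e : WithBot ℕ∞) :=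
    exists_nat_of _ (Module.supportDim_ne_bot_of_nontrivial _ _)
      (lt_of_le_of_lt (Module.supportDim_le_ringKrullDim _ _) ringKrullDim_lt_top)
  have hntH := nontrivial_hom_of_supportDim_eq _ hW hnW
    (LocalizedModule p.asIdeal.primeCompl M) e he
  have hex : ∃ δ : ℕ, ¬ Van
      (((DRing.LBaseChange (algebraMap A (Localization p.asIdeal.primeCompl))).obj ω)⟦c⟧)
      (-(δ : ℤ)) (ModuleCat.of (Localization.AtPrime p.asIdeal)
        (LocalizedModule p.asIdeal.primeCompl M)) :=
    ⟨e, (not_van_iff_nontrivial _ _ _).2 hntH⟩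
  obtain ⟨n, hn1, hn2⟩ : ∃ n : ℕ, (¬ Van
      (((DRing.LBaseChange (algebraMap A (Localization p.asIdeal.primeCompl))).obj ω)⟦c⟧)
      (-(n : ℤ)) (ModuleCat.of (Localization.AtPrime p.asIdeal)
        (LocalizedModule p.asIdeal.primeCompl M))) ∧ ∀ δ : ℕ, δ < n → Van
      (((DRing.LBaseChange (algebraMap A (Localization p.asIdeal.primeCompl))).obj ω)⟦c⟧)
      (-(δ : ℤ)) (ModuleCat.of (Localization.AtPrime p.asIdeal)
        (LocalizedModule p.asIdeal.primeCompl M)) :=
    ⟨Nat.find hex, Nat.find_spec hex, fun δ hδ => not_not.1 (Nat.find_min hex hδ)⟩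
  have hdep : LocCoh.depth (Localization.AtPrime p.asIdeal)
      (LocalizedModule p.asIdeal.primeCompl M) = n :=
    (depth_iff_dualizing _ hW hnW (LocalizedModule p.asIdeal.primeCompl M) n).2
      ⟨fun δ hδ => (van_iff_subsingleton _ _ _).1 (hn2 δ hδ),
        (not_van_iff_nontrivial _ _ _).1 hn1⟩
  refine ⟨e, n, he, hdep, ?_, ?_, ?_⟩
  · intro j hj
    have hnv := (hE1 j).1 hj
    constructor
    · by_contra hlt
      apply hnv
      obtain ⟨x, hx⟩ : ∃ x : ℕ, j - c = -(x : ℤ) := ⟨(-(j - c)).toNat, by omega⟩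
      have hxe : e < x := by omega
      have h1 := van_of_supportDim_lt _ hW hnW (LocalizedModule p.asIdeal.primeCompl M) x (by
        rw [he]
        exact natCast_lt_natCast hxe)
      exact (van_shift_iff _ c (-(x : ℤ)) j (by omega) _).1 h1
    · by_contra hlt
      apply hnv
      by_cases hpos : 0 < j - c
      · have h1 := dualizing_hpos _ hW hnW (LocalizedModule p.asIdeal.primeCompl M)
          (j - c) hpos
        exact (van_shift_iff _ c (j - c) j (by omega) _).1 h1
      · obtain ⟨x, hx⟩ : ∃ x : ℕ, j - c = -(x : ℤ) := ⟨(-(j - c)).toNat, by omega⟩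
        have h1 := hn2 x (by omega)
        exact (van_shift_iff _ c (-(x : ℤ)) j (by omega) _).1 h1
  · refine (hE1 _).2 (fun hv => hn1 ?_)
    exact (van_shift_iff _ c (-(n : ℤ)) (c - (n : ℤ)) (by omega) _).2 hv
  · refine (hE1 _).2 (fun hv => (not_van_iff_nontrivial _ _ _).2 hntH ?_)
    exact (van_shift_iff _ c (-(e : ℤ)) (c - (e : ℤ)) (by omega) _).2 hv

/-- the support of `H^j(ω)` is the support of `Hom(A, ω[j])` -/
lemma support_HD_eq (j : ℤ) :
    Module.support A (Dual.HD A ω j) = Module.support A (Dual.inD A A ⟶ ω⟦j⟧) := by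
  obtain ⟨e⟩ := Groth.Agent.H12.HomSingleRing.nonempty_linearEquiv_Hi ω j
  exact (LinearEquiv.support_eq e).symm

end Pkg


section Dim

variable {A : Type u} [CommRing A] [IsNoetherianRing A]

lemma mono_of_covBy (n : PrimeSpectrum A → ℤ)
    (hn : ∀ p q : PrimeSpectrum A, p ⋖ q → n p = n q - 1) {p q : PrimeSpectrum A} (h : p ≤ q) :
    n p ≤ n q := by
  rcases eq_or_lt_of_le h with rfl | hlt
  · exact le_rfl
  · exact (strictMono_of_covBy n hn p q hlt).le

/-- going down from `q'` to `q` along covers raises the coheight by `n q' - n q` -/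
lemma coheight_ge (n : PrimeSpectrum A → ℤ)
    (hn : ∀ p q : PrimeSpectrum A, p ⋖ q → n p = n q - 1) (q : PrimeSpectrum A) :
    ∀ (q' : PrimeSpectrum A), q ≤ q' → ∀ k : ℕ, n q' - n q = k →
      Order.coheight q' + (k : ℕ∞) ≤ Order.coheight q := by
  have key : ∀ h : ℕ, ∀ q' : PrimeSpectrum A, q'.asIdeal.height.toNat = h → q ≤ q' →
      ∀ k : ℕ, n q' - n q = k → Order.coheight q' + (k : ℕ∞) ≤ Order.coheight q := by
    intro h
    induction h using Nat.strong_induction_on with
    | _ h ih =>
      intro q' hh hqq' k hk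
      rcases eq_or_lt_of_le hqq' with rfl | hlt
      · have : k = 0 := by omega
        subst this
        simp
      · obtain ⟨x, hqx, hxq'⟩ := exists_le_covBy_of_lt hlt
        have h1 := hn x q' hxq'
        haveI := x.isPrime
        haveI := q'.isPrime
        have hx : x.asIdeal.height < q'.asIdeal.height :=
          Ideal.height_strict_mono_of_isPrime hxq'.lt
        have hq : q'.asIdeal.height < ⊤ := Ideal.height_lt_top_of_isPrime
        obtain ⟨mq, hmq⟩ := ENat.ne_top_iff_exists.1 hq.ne
        obtain ⟨mx, hmx⟩ := ENat.ne_top_iff_exists.1 (hx.trans hq).ne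
        have hx' : x.asIdeal.height.toNat < h := by
          rw [← hh, ← hmq, ← hmx, ENat.toNat_natCast, ENat.toNat_natCast]
          rw [← hmq, ← hmx] at hx
          exact_mod_cast hx
        have hmono := mono_of_covBy n hn hqx
        obtain ⟨k', hk'⟩ : ∃ k' : ℕ, n x - n q = k' := ⟨(n x - n q).toNat, by omega⟩
        have h2 := ih _ hx' x rfl hqx k' hk'
        have h3 : Order.coheight q' + 1 ≤ Order.coheight x := Order.coheight_add_one_le hxq'.lt
        have hkk : k = k' + 1 := by omega
        subst hkk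
        calc Order.coheight q' + ((k' + 1 : ℕ) : ℕ∞)
            = (Order.coheight q' + 1) + (k' : ℕ∞) := by push_cast; ring
          _ ≤ Order.coheight x + (k' : ℕ∞) := by gcongr
          _ ≤ Order.coheight q := h2
  intro q' hqq' k hk
  exact key _ q' rfl hqq' k hk

/-- `dim A/p` is the coheight of `p` -/
lemma ringKrullDim_quotient_eq_coheight (p : PrimeSpectrum A) :
    ringKrullDim (A ⧸ p.asIdeal) = ((Order.coheight p : ℕ∞) : WithBot ℕ∞) := by
  rw [ringKrullDim_quotient, Order.coheight_eq_krullDim_Ici]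
  have hset : PrimeSpectrum.zeroLocus (R := A) (p.asIdeal : Set A) = Set.Ici p := by
    ext q
    rw [PrimeSpectrum.mem_zeroLocus, Set.mem_Ici]
    rfl
  rw [hset]

variable [IsLocalRing A]

/-- in a local ring with a dimension function, `coheight p = n_m - n_p` -/
lemma coheight_eq (n : PrimeSpectrum A → ℤ)
    (hn : ∀ p q : PrimeSpectrum A, p ⋖ q → n p = n q - 1) (p : PrimeSpectrum A) (k : ℕ)
    (hk : n (IsLocalRing.closedPoint A) - n p = k) : Order.coheight p = (k : ℕ∞) := by
  have hle : ∀ q : PrimeSpectrum A, q ≤ IsLocalRing.closedPoint A := fun q =>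
    IsLocalRing.le_maximalIdeal q.isPrime.ne_top
  apply le_antisymm
  · refine Order.coheight_le (fun s hs => ?_)
    have h3 := length_le_of_strictMono_int (fun i => n (s i))
      (fun i j hij => strictMono_of_covBy n hn _ _ (s.strictMono hij)) (n p)
      (n (IsLocalRing.closedPoint A)) (fun i => ⟨?_, mono_of_covBy n hn (hle _)⟩)
    · have : s.length ≤ k := by omega
      exact_mod_cast this
    · refine mono_of_covBy n hn ?_
      rw [← hs]
      exact s.head_le i
  · have h1 := coheight_ge n hn p (IsLocalRing.closedPoint A) (hle p) k hk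
    have h2 : Order.coheight (IsLocalRing.closedPoint A) = 0 := by
      rw [Order.coheight_eq_zero]
      intro q hq
      exact hle q
    rw [h2, zero_add] at h1
    exact h1

end Dim


section Main

variable {A : Type u} [CommRing A] [IsNoetherianRing A] [IsLocalRing A] (ω : Dual.D A)

/-- a prime of `A_q` whose contraction lies in the support of `M` lies in the support of `M_q` -/
lemma mem_support_atPrime_of_comap {M : Type u} [AddCommGroup M] [Module A M] (q : Ideal A)
    [q.IsPrime] (P : PrimeSpectrum (Localization.AtPrime q))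
    (hP : (⟨Ideal.comap (algebraMap A (Localization.AtPrime q)) P.asIdeal, inferInstance⟩ :
      PrimeSpectrum A) ∈ Module.support A M) :
    P ∈ Module.support (Localization.AtPrime q) (LocalizedModule q.primeCompl M) := by
  rw [Module.mem_support_iff'] at hP ⊢
  obtain ⟨m, hm⟩ := hP
  refine ⟨LocalizedModule.mk m 1, fun t ht hzero => ?_⟩
  obtain ⟨a, s, rfl⟩ := IsLocalization.exists_mk'_eq q.primeCompl t
  have ha : a ∉ Ideal.comap (algebraMap A (Localization.AtPrime q)) P.asIdeal := by
    intro hmem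
    apply ht
    rw [IsLocalization.mk'_mem_iff]
    exact hmem
  have h1 : algebraMap A (Localization.AtPrime q) a • (LocalizedModule.mk m 1 :
      LocalizedModule q.primeCompl M) = 0 := by
    rw [← IsLocalization.mk'_spec' (Localization.AtPrime q) a s, mul_smul, hzero, smul_zero]
  rw [algebraMap_smul, LocalizedModule.smul'_mk, ← LocalizedModule.zero_mk 1,
    LocalizedModule.mk_eq] at h1
  obtain ⟨u, hu⟩ := h1
  have hu' : (u : A) • a • m = 0 := by
    have h3 : u • a • m = 0 := by simpa using hu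
    exact h3
  have huP : (u : A) ∉ Ideal.comap (algebraMap A (Localization.AtPrime q)) P.asIdeal := by
    intro hmem
    have h2 : Ideal.comap (algebraMap A (Localization.AtPrime q)) P.asIdeal ≤ q := by
      intro x hx
      by_contra hxq
      have hunit : IsUnit (algebraMap A (Localization.AtPrime q) x) :=
        IsLocalization.map_units (Localization.AtPrime q) (⟨x, hxq⟩ : q.primeCompl)
      exact P.isPrime.ne_top (Ideal.eq_top_of_isUnit_mem _ hx hunit)
    exact u.2 (h2 hmem)
  have hua : (u : A) * a ∉ Ideal.comap (algebraMap A (Localization.AtPrime q)) P.asIdeal :=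
    fun hmem => (Ideal.IsPrime.mem_or_mem inferInstance hmem).elim huP ha
  apply hm ((u : A) * a) hua
  rw [mul_smul]
  exact hu'

theorem ordinary (hω : Dual.IsDualizing A ω) (n : ℕ) (hd : ringKrullDim A = n)
    (J : Ideal A) (hJ : 1 ≤ J.height)
    (hoff : ∀ p : PrimeSpectrum A, ¬ J ≤ p.asIdeal → ∀ i : ℤ, i ≠ 0 →
      p ∉ Module.support A (Dual.HD A ω i)) :
    (EGA4.IsEquidim A ∧ Dual.IsNormalized A (ω⟦(n : ℤ)⟧) ∧ LocCoh.HasSk 2 A (Dual.HD A ω 0)) ∧
    (2 ≤ J.height → 2 ≤ LocCoh.idealDepth J (Dual.HD A ω 0)) := by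
  classical
  obtain ⟨δ, h1, h2⟩ := exists_dimFun ω hω
  set N : PrimeSpectrum A → ℤ := fun p => -δ p with hNdef
  have hN : ∀ (p : PrimeSpectrum A) (i : ℤ), NT ω p.asIdeal i ↔ i = N p := h1
  have hcov : ∀ p q : PrimeSpectrum A, p ⋖ q → N p = N q - 1 := fun p q hpq => by
    have := h2 p q hpq
    show -δ p = -δ q - 1
    omega
  obtain ⟨mm, hmm⟩ : ∃ mm : PrimeSpectrum A, mm = IsLocalRing.closedPoint A := ⟨_, rfl⟩
  have hle : ∀ q : PrimeSpectrum A, q ≤ mm := fun q => by
    rw [hmm]
    exact IsLocalRing.le_maximalIdeal q.isPrime.ne_top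
  -- Step 1: minimal primes have normalizing degree 0 and lie in the support of `H^0`
  have hmin : ∀ r : PrimeSpectrum A, r.asIdeal ∈ minimalPrimes A →
      N r = 0 ∧ r ∈ Module.support A (Dual.HD A ω 0) := by
    intro r hr
    haveI : Nontrivial (LocalizedModule r.asIdeal.primeCompl A) := by
      rw [← Module.mem_support_iff, Module.mem_support_iff_of_finite]
      have : Module.annihilator A A = ⊥ :=
        Module.annihilator_eq_bot.mpr
          ((faithfulSMul_iff_algebraMap_injective A A).mpr fun {a₁ a₂} a ↦ a)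
      rw [this]
      exact bot_le
    obtain ⟨e, n', he, -, -, -, hme⟩ := package_of_normDeg ω hω A r (N r) (hN r)
    have he0 : e = 0 := by
      have h3 : Module.supportDim (Localization.AtPrime r.asIdeal)
          (LocalizedModule r.asIdeal.primeCompl A) ≤
          ringKrullDim (Localization.AtPrime r.asIdeal) := Module.supportDim_le_ringKrullDim _ _
      rw [he, IsLocalization.AtPrime.ringKrullDim_eq_height r.asIdeal,
        Ideal.height_eq_zero_iff.2 hr] at h3
      have h4 : ((e : ℕ) : WithBot ℕ∞) ≤ (((0 : ℕ) : ℕ∞) : WithBot ℕ∞) := h3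
      rw [natCast_le_iff'] at h4
      omega
    subst he0
    have hJr : ¬ J ≤ r.asIdeal := by
      intro hJr
      have h3 := Ideal.height_mono hJr
      rw [Ideal.height_eq_zero_iff.2 hr] at h3
      have h4 : (1 : ℕ∞) ≤ 0 := le_trans hJ h3
      simp at h4
    have hmem : r ∈ Module.support A (Dual.HD A ω (N r - ((0 : ℕ) : ℤ))) := by
      rw [support_HD_eq]
      exact hme
    have hN0 : N r = 0 := by
      by_contra hne
      exact hoff r hJr (N r - ((0 : ℕ) : ℤ)) (by omega) hmem
    refine ⟨hN0, ?_⟩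
    rw [hN0] at hmem
    simpa using hmem
  have hexmin : ∀ p : PrimeSpectrum A, ∃ r : PrimeSpectrum A, r.asIdeal ∈ minimalPrimes A ∧
      r ≤ p := by
    intro p
    obtain ⟨r, hr, hrp⟩ := Ideal.exists_minimalPrimes_le (bot_le : (⊥ : Ideal A) ≤ p.asIdeal)
    exact ⟨⟨r, hr.1.1⟩, hr, hrp⟩
  have hNnonneg : ∀ p : PrimeSpectrum A, 0 ≤ N p := by
    intro p
    obtain ⟨r, hr, hrp⟩ := hexmin p
    have := mono_of_covBy N hcov hrp
    rw [(hmin r hr).1] at this
    exact this
  have hNle : ∀ p : PrimeSpectrum A, N p ≤ N mm := fun p => mono_of_covBy N hcov (hle p)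
  -- Step 2: `dim A = N m`
  have hdim : N mm = n := by
    have hco : ∀ p : PrimeSpectrum A, Order.coheight p = ((N mm - N p).toNat : ℕ∞) := fun p =>
      coheight_eq N hcov p _ (by rw [← hmm]; have := hNle p; omega)
    have h3 : ringKrullDim A = (((N mm).toNat : ℕ∞) : WithBot ℕ∞) := by
      unfold ringKrullDim
      rw [Order.krullDim_eq_iSup_coheight]
      apply le_antisymm
      · refine iSup_le (fun p => ?_)
        rw [hco p]
        have h4 : (N mm - N p).toNat ≤ (N mm).toNat := by
          have := hNnonneg p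
          omega
        exact WithBot.coe_le_coe.2 (by exact_mod_cast h4)
      · obtain ⟨r, hr, -⟩ := hexmin mm
        have h4 := le_iSup (fun a : PrimeSpectrum A => ((Order.coheight a : ℕ∞) : WithBot ℕ∞)) r
        rw [hco r, (hmin r hr).1, sub_zero] at h4
        exact h4
    rw [hd] at h3
    have h4 : ((n : ℕ) : WithBot ℕ∞) = ((((N mm).toNat : ℕ) : ℕ∞) : WithBot ℕ∞) := h3
    have h5 : n = (N mm).toNat := natCast_inj' h4
    have := hNnonneg mm
    omega
  -- Step 3: equidimensionality
  have hEq : EGA4.IsEquidim A := by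
    intro r hr
    have h3 := ringKrullDim_quotient_eq_coheight (⟨r, hr.1.1⟩ : PrimeSpectrum A)
    have h4 : Order.coheight (⟨r, hr.1.1⟩ : PrimeSpectrum A) = ((n : ℕ) : ℕ∞) :=
      coheight_eq N hcov _ n (by rw [← hmm, (hmin ⟨r, hr.1.1⟩ hr).1, hdim]; omega)
    rw [h4] at h3
    rw [hd]
    exact h3
  -- Step 4: normalization
  have hnorm : Dual.IsNormalized A (ω⟦(n : ℤ)⟧) := by
    subst hmm
    intro i hi
    refine (van_iff_subsingleton _ i (ModuleCat.of A (IsLocalRing.ResidueField A))).1 ?_
    refine van_of_iso (residueIso (A := A)).symm ?_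
    rw [van_shift_iff _ (n : ℤ) i (n + i) rfl]
    intro φ
    by_contra hφ
    have hNT : NT ω (IsLocalRing.closedPoint A).asIdeal ((n : ℤ) + i) := by
      refine ⟨φ, fun s hs hzero => hφ ?_⟩
      have hunit : IsUnit s := by
        by_contra hns
        exact hs ((IsLocalRing.mem_maximalIdeal s).2 hns)
      obtain ⟨u, rfl⟩ := hunit
      have h3 : (↑u⁻¹ : A) • ((u : A) • φ) = (↑u⁻¹ : A) • 0 := congrArg (fun x => (↑u⁻¹ : A) • x) hzero
      rw [smul_zero, smul_smul, Units.inv_mul, one_smul] at h3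
      exact h3
    have := (hN (IsLocalRing.closedPoint A) _).1 hNT
    omega
  -- Step 5: `(S₂)`
  have hS2 : LocCoh.HasSk 2 A (Dual.HD A ω 0) := by
    have h3 := hasS2_HD_top (ω⟦(n : ℤ)⟧) (isDualizing_shift ω hω n) hnorm n hd
    let e : (homologyFunctor (ModuleCat.{u} A) (-(n : ℤ))).obj (ω⟦(n : ℤ)⟧) ≅
        (homologyFunctor (ModuleCat.{u} A) 0).obj ω :=
      ((homologyFunctor (ModuleCat.{u} A) 0).shiftIso (n : ℤ) (-(n : ℤ)) 0 (by omega)).app ω
    exact Groth.Agent.H15.SkAt.hasSk_congr e.toLinearEquiv 2 h3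
  refine ⟨⟨hEq, hnorm, hS2⟩, ?_⟩
  -- Step 6: depth along `J`
  intro hJ2
  by_contra hlt
  haveI : Module.Finite A (Dual.HD A ω 0) := hω.finite_cohomology 0
  have hIM : J • (⊤ : Submodule A (Dual.HD A ω 0)) ≠ ⊤ := by
    intro htop
    apply hlt
    rw [Groth.Agent.H15.Depth.idealDepth_eq_top_of_smul_top_eq_top htop]
    exact le_top
  obtain ⟨r, hr⟩ : ∃ r : ℕ, LocCoh.idealDepth J (Dual.HD A ω 0) = (r : ℕ∞) := by
    have hne : LocCoh.idealDepth J (Dual.HD A ω 0) ≠ ⊤ := by
      intro h
      apply hlt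
      rw [h]
      exact le_top
    obtain ⟨r, hr⟩ := ENat.ne_top_iff_exists.1 hne
    exact ⟨r, hr.symm⟩
  have hr1 : r ≤ 1 := by
    rw [hr] at hlt
    have : ¬ (2 : ℕ) ≤ r := fun h => hlt (by exact_mod_cast h)
    omega
  obtain ⟨q, hJq, hdq⟩ := Groth.Agent.H29.LocQuot.exists_prime_depth_le J r
    (Dual.HD A ω 0) hIM hr
  -- the support of `H^0(ω)` is everything
  have hsupp : ∀ p : PrimeSpectrum A, p ∈ Module.support A (Dual.HD A ω 0) := by
    intro p
    obtain ⟨r', hr', hrp⟩ := hexmin p
    exact Module.mem_support_mono hrp (hmin r' hr').2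
  have hdimq : Module.supportDim (Localization.AtPrime q.asIdeal)
      (LocalizedModule q.asIdeal.primeCompl (Dual.HD A ω 0)) =
      ringKrullDim (Localization.AtPrime q.asIdeal) := by
    have hs : Module.support (Localization.AtPrime q.asIdeal)
        (LocalizedModule q.asIdeal.primeCompl (Dual.HD A ω 0)) = Set.univ := by
      ext P
      simp only [Set.mem_univ, iff_true]
      exact mem_support_atPrime_of_comap q.asIdeal P (hsupp _)
    unfold Module.supportDim ringKrullDim
    rw [hs]
    exact Order.krullDim_eq_of_orderIso OrderIso.Set.univ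
  have hS := hS2 q.asIdeal
  rw [hdimq, IsLocalization.AtPrime.ringKrullDim_eq_height q.asIdeal] at hS
  have hq2 : (2 : ℕ∞) ≤ q.asIdeal.height := le_trans hJ2 (Ideal.height_mono hJq)
  have h5 : min ((2 : ℕ) : WithBot ℕ∞) ((q.asIdeal.height : ℕ∞) : WithBot ℕ∞) =
      ((2 : ℕ) : WithBot ℕ∞) := by
    apply min_eq_left
    have : (((2 : ℕ) : ℕ∞) : WithBot ℕ∞) ≤ ((q.asIdeal.height : ℕ∞) : WithBot ℕ∞) :=
      WithBot.coe_le_coe.2 (by exact_mod_cast hq2)
    exact this
  rw [h5] at hS
  have h6 : (((2 : ℕ) : ℕ∞) : WithBot ℕ∞) ≤ (((r : ℕ) : ℕ∞) : WithBot ℕ∞) :=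
    le_trans hS (WithBot.coe_le_coe.2 hdq)
  rw [WithBot.coe_le_coe] at h6
  have : (2 : ℕ) ≤ r := by exact_mod_cast h6
  omega

end Main

end Groth.Agent.H46.DualOrd
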