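import Mathlib

/-!
# Exterior powers (over `A`) of a finite free module over a cyclic `A`-module (helper46)

For a cyclic `A`-module `Q` and `i ≥ 1`: `⋀[A]^i (Q^n) ≃ Q^(n choose i)`.
-/

set_option autoImplicit false

namespace Groth.Agent.H46.ExtPowCyclic

universe u

variable {A : Type u} [CommRing A]

section MapEquiv

variable {M N : Type u} [AddCommGroup M] [Module A M] [AddCommGroup N] [Module A N]

/-- functoriality of exterior powers for linear equivalences -/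
noncomputable def mapEquiv (i : ℕ) (e : M ≃ₗ[A] N) : ⋀[A]^i M ≃ₗ[A] ⋀[A]^i N :=
  LinearEquiv.ofLinear (exteriorPower.map i e.toLinearMap) (exteriorPower.map i e.symm.toLinearMap)
    (by
      rw [← exteriorPower.map_comp]
      have : e.toLinearMap ∘ₗ e.symm.toLinearMap = LinearMap.id :=
        LinearMap.ext fun x => e.apply_symm_apply x
      rw [this, exteriorPower.map_id])
    (by
      rw [← exteriorPower.map_comp]
      have : e.symm.toLinearMap ∘ₗ e.toLinearMap = LinearMap.id :=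
        LinearMap.ext fun x => e.symm_apply_apply x
      rw [this, exteriorPower.map_id])

end MapEquiv

section Quot

variable (𝔞 : Ideal A) (n i : ℕ)

/-- the universal alternating map over `A ⧸ 𝔞`, with scalars restricted to `A` -/
noncomputable def ιA : (Fin n → A ⧸ 𝔞) [⋀^Fin i]→ₗ[A] ⋀[A ⧸ 𝔞]^i (Fin n → A ⧸ 𝔞) :=
  { (exteriorPower.ιMulti (A ⧸ 𝔞) i (M := Fin n → A ⧸ 𝔞)).toMultilinearMap.restrictScalars A with
    map_eq_zero_of_eq' := fun v a b h hab =>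
      (exteriorPower.ιMulti (A ⧸ 𝔞) i (M := Fin n → A ⧸ 𝔞)).map_eq_zero_of_eq v h hab }

lemma ιA_apply (m : Fin i → (Fin n → A ⧸ 𝔞)) :
    ιA 𝔞 n i m = exteriorPower.ιMulti (A ⧸ 𝔞) i m := rfl

/-- the comparison map -/
noncomputable def Φ : ⋀[A]^i (Fin n → A ⧸ 𝔞) →ₗ[A] ⋀[A ⧸ 𝔞]^i (Fin n → A ⧸ 𝔞) :=
  exteriorPower.alternatingMapLinearEquiv (ιA 𝔞 n i)

lemma Φ_ιMulti (m : Fin i → (Fin n → A ⧸ 𝔞)) :
    Φ 𝔞 n i (exteriorPower.ιMulti A i m) = exteriorPower.ιMulti (A ⧸ 𝔞) i m := by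
  unfold Φ
  rw [exteriorPower.alternatingMapLinearEquiv_apply_ιMulti, ιA_apply]

/-- the standard family -/
noncomputable def vA (s : Set.powersetCard (Fin n) i) : ⋀[A]^i (Fin n → A ⧸ 𝔞) :=
  exteriorPower.ιMulti_family A i (⇑(Pi.basisFun (A ⧸ 𝔞) (Fin n))) s

/-- the standard basis over the quotient -/
noncomputable def bB : Module.Basis (Set.powersetCard (Fin n) i) (A ⧸ 𝔞)
    (⋀[A ⧸ 𝔞]^i (Fin n → A ⧸ 𝔞)) :=
  (Pi.basisFun (A ⧸ 𝔞) (Fin n)).exteriorPower i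

lemma Φ_vA (s : Set.powersetCard (Fin n) i) : Φ 𝔞 n i (vA 𝔞 n i s) = bB 𝔞 n i s := by
  unfold vA bB
  rw [exteriorPower.basis_apply]
  exact Φ_ιMulti 𝔞 n i _

/-- coefficients to the exterior power -/
noncomputable def Ψ₀ : (Set.powersetCard (Fin n) i → A) →ₗ[A] ⋀[A]^i (Fin n → A ⧸ 𝔞) :=
  Fintype.linearCombination A (vA 𝔞 n i)

lemma Ψ₀_surjective : Function.Surjective (Ψ₀ 𝔞 n i) := by
  rw [← LinearMap.range_eq_top]
  unfold Ψ₀
  rw [Fintype.range_linearCombination]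
  apply exteriorPower.ιMulti_family_span_of_span
  -- the standard basis spans over `A`
  rw [eq_top_iff]
  intro w _
  have hw : w = ∑ k, (Quotient.out (w k) : A) • (Pi.basisFun (A ⧸ 𝔞) (Fin n)) k := by
    funext k
    rw [Finset.sum_apply, Finset.sum_eq_single k]
    · rw [Pi.smul_apply, Pi.basisFun_apply, Pi.single_eq_same]
      change w k = Ideal.Quotient.mk 𝔞 (Quotient.out (w k)) * 1
      rw [mul_one]
      exact (Quotient.out_eq (w k)).symm
    · intro b _ hb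
      rw [Pi.smul_apply, Pi.basisFun_apply, Pi.single_eq_of_ne (Ne.symm hb), smul_zero]
    · intro h
      exact absurd (Finset.mem_univ k) h
  rw [hw]
  exact Submodule.sum_mem _ fun k _ => Submodule.smul_mem _ _ (Submodule.subset_span ⟨k, rfl⟩)

lemma smul_ιMulti_eq_zero (hi : 1 ≤ i) {c : A} (hc : c ∈ 𝔞) (m : Fin i → (Fin n → A ⧸ 𝔞)) :
    c • exteriorPower.ιMulti A i m = 0 := by
  have hz : c • m ⟨0, hi⟩ = 0 := by
    funext k
    rw [Pi.smul_apply, Pi.zero_apply]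
    change Ideal.Quotient.mk 𝔞 c * m ⟨0, hi⟩ k = 0
    rw [Ideal.Quotient.eq_zero_iff_mem.2 hc, zero_mul]
  have h1 : exteriorPower.ιMulti A i m =
      exteriorPower.ιMulti A i (Function.update m ⟨0, hi⟩ (m ⟨0, hi⟩)) := by
    rw [Function.update_eq_self]
  rw [h1, ← AlternatingMap.map_update_smul, hz, AlternatingMap.map_update_zero]

lemma ker_Ψ₀ (hi : 1 ≤ i) :
    LinearMap.ker (Ψ₀ 𝔞 n i) = Submodule.pi Set.univ (fun _ => (𝔞 : Submodule A A)) := by
  ext c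
  rw [LinearMap.mem_ker, Submodule.mem_pi]
  constructor
  · intro h s _
    have h2 : Φ 𝔞 n i (Ψ₀ 𝔞 n i c) = 0 := by rw [h, map_zero]
    unfold Ψ₀ at h2
    rw [Fintype.linearCombination_apply, map_sum] at h2
    have h3 : ∑ s, Ideal.Quotient.mk 𝔞 (c s) • bB 𝔞 n i s = 0 := by
      rw [← h2]
      refine Finset.sum_congr rfl fun s _ => ?_
      rw [map_smul, Φ_vA]
      exact (IsScalarTower.algebraMap_smul (A ⧸ 𝔞) (c s) _)
    have h4 := Fintype.linearIndependent_iff.1 (bB 𝔞 n i).linearIndependent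
      (fun s => Ideal.Quotient.mk 𝔞 (c s)) h3 s
    exact Ideal.Quotient.eq_zero_iff_mem.1 h4
  · intro h
    unfold Ψ₀
    rw [Fintype.linearCombination_apply]
    refine Finset.sum_eq_zero fun s _ => ?_
    exact smul_ιMulti_eq_zero 𝔞 n i hi (h s (Set.mem_univ s)) _

theorem extPow_quot (hi : 1 ≤ i) :
    Nonempty (⋀[A]^i (Fin n → A ⧸ 𝔞) ≃ₗ[A] (Fin (n.choose i) → A ⧸ 𝔞)) := by
  classical
  have hcard : Nat.card (Set.powersetCard (Fin n) i) = n.choose i := by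
    rw [Set.powersetCard.card, Nat.card_fin]
  let e : Set.powersetCard (Fin n) i ≃ Fin (n.choose i) := Finite.equivFinOfCardEq hcard
  exact ⟨(LinearMap.quotKerEquivOfSurjective (Ψ₀ 𝔞 n i) (Ψ₀_surjective 𝔞 n i)).symm ≪≫ₗ
    Submodule.quotEquivOfEq _ _ (ker_Ψ₀ 𝔞 n i hi) ≪≫ₗ
    Submodule.quotientPi (fun _ : Set.powersetCard (Fin n) i => (𝔞 : Submodule A A)) ≪≫ₗ
    LinearEquiv.funCongrLeft A (A ⧸ 𝔞) e.symm⟩

end Quot

section Cyclic

variable (Q : Type u) [AddCommGroup Q] [Module A Q]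

/-- cyclic modules -/
def IsCyclic : Prop := ∃ q : Q, ∀ x : Q, ∃ a : A, x = a • q

lemma IsCyclic.of_surjective {Q Q' : Type u} [AddCommGroup Q] [Module A Q] [AddCommGroup Q']
    [Module A Q'] (h : IsCyclic (A := A) Q) (f : Q →ₗ[A] Q') (hf : Function.Surjective f) :
    IsCyclic (A := A) Q' := by
  obtain ⟨q, hq⟩ := h
  refine ⟨f q, fun x' => ?_⟩
  obtain ⟨x, rfl⟩ := hf x'
  obtain ⟨a, rfl⟩ := hq x
  exact ⟨a, map_smul f a q⟩

lemma isCyclic_quot (𝔞 : Ideal A) : IsCyclic (A := A) (A ⧸ 𝔞) := by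
  refine ⟨1, fun x => ?_⟩
  obtain ⟨a, rfl⟩ := Ideal.Quotient.mk_surjective x
  refine ⟨a, ?_⟩
  change Ideal.Quotient.mk 𝔞 a = Ideal.Quotient.mk 𝔞 a * 1
  rw [mul_one]

theorem extPow_cyclic (hQ : IsCyclic (A := A) Q) (n i : ℕ) (hi : 1 ≤ i) :
    Nonempty (⋀[A]^i (Fin n → Q) ≃ₗ[A] (Fin (n.choose i) → Q)) := by
  obtain ⟨q, hq⟩ := hQ
  have hsurj : Function.Surjective (LinearMap.toSpanSingleton A Q q) := by
    intro x
    obtain ⟨a, rfl⟩ := hq x
    exact ⟨a, rfl⟩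
  let e : (A ⧸ LinearMap.ker (LinearMap.toSpanSingleton A Q q)) ≃ₗ[A] Q :=
    LinearMap.quotKerEquivOfSurjective _ hsurj
  obtain ⟨E⟩ := extPow_quot (LinearMap.ker (LinearMap.toSpanSingleton A Q q)) n i hi
  exact ⟨mapEquiv i (LinearEquiv.piCongrRight (fun _ => e.symm)) ≪≫ₗ E ≪≫ₗ
    LinearEquiv.piCongrRight (fun _ => e)⟩

end Cyclic

end Groth.Agent.H46.ExtPowCyclic
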