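import Mathlib
import Groth.Prelude.Def_DRing4

/-!
# Cochains as a product of Hom modules (helper46, S11178)
-/

set_option autoImplicit false
universe u
open CategoryTheory CategoryTheory.Limits
open CochainComplex.HomComplex

namespace Groth.Agent.H46.FICoch
variable {A : Type u} [CommRing A]

/-- (COCH) -/
noncomputable def cochainLinearEquiv (F J : DRing.Cx A) (q : ℤ) :
    Cochain F J q ≃ₗ[A] (∀ p : ℤ, F.X p →ₗ[A] J.X (p + q)) where
  toFun z p := (z.v p (p + q) rfl).hom
  map_add' z z' := by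
    funext p
    rw [Pi.add_apply, Cochain.add_v]
    rfl
  map_smul' a z := by
    funext p
    rw [Pi.smul_apply, RingHom.id_apply, Cochain.smul_v]
    rfl
  invFun φ := Cochain.mk (fun p q' hpq =>
    ModuleCat.ofHom (φ p) ≫ eqToHom (by rw [hpq]))
  left_inv z := by
    refine Cochain.ext _ _ (fun p q' hpq => ?_)
    subst hpq
    rw [Cochain.mk_v]
    simp
  right_inv φ := by
    funext p
    show ((Cochain.mk (fun p q' hpq =>
      ModuleCat.ofHom (φ p) ≫ eqToHom (by rw [hpq]))).v p (p + q) rfl).hom = φ p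
    rw [Cochain.mk_v]
    simp

theorem nonempty_cochain_linearEquiv (F J : DRing.Cx A) (q : ℤ) :
    Nonempty (Cochain F J q ≃ₗ[A] (∀ p : ℤ, F.X p →ₗ[A] J.X (p + q))) :=
  ⟨cochainLinearEquiv F J q⟩

end Groth.Agent.H46.FICoch
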