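import Mathlib
import Groth.Agent.H46.BD2
import Groth.Agent.H51.FI_HFI
import Groth.Agent.H1.FI_PIFLAT
import Groth.Agent.H17.FI_ISH
import Groth.Agent.H46.FICoch

/-!
# Finite Tor dimension versus finite injective dimension of the dual (helper46, S11178)
-/

set_option autoImplicit false
set_option linter.style.haveILetI false
universe u
open CategoryTheory CategoryTheory.Limits HomologicalComplex CochainComplex
open CochainComplex.HomComplex
attribute [local instance] HasDerivedCategory.standard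
open Groth.Agent.H33.TensorHom Groth.Agent.H33.Bidual

namespace Groth.Agent.H46.FI

open DerivedCategory Groth.Agent.H46.BD

variable {A : Type u} [CommRing A]

theorem injective_of_linearEquiv {Q Q' : Type u} [AddCommGroup Q] [Module A Q] [AddCommGroup Q']
    [Module A Q'] (e : Q ≃ₗ[A] Q') [h : Module.Injective A Q] : Module.Injective A Q' := by
  refine ⟨fun X Y _ _ _ _ f hf g => ?_⟩
  obtain ⟨k, hk⟩ := h.out f hf (e.symm.toLinearMap.comp g)
  refine ⟨e.toLinearMap.comp k, fun x => ?_⟩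
  simp [hk x]

theorem vanishesOutside_homCx (F J : DRing.Cx A) (a b a' b' : ℤ)
    (hF : DRing.VanishesOutside F a b) (hJ : DRing.VanishesOutside J a' b') :
    DRing.VanishesOutside (DRing.homCx F J) (a' - b) (b' - a) := by
  intro q hq
  apply isZero_homCx_X
  intro p
  by_cases hp : p < a ∨ b < p
  · exact Or.inl (hF p hp)
  · exact Or.inr (hJ (p + q) (by omega))

theorem termwiseInjective_homCx (F J : DRing.Cx A) (hF : DRing.TermwiseFlat F)
    (hJ : DRing.TermwiseInjective J) : DRing.TermwiseInjective (DRing.homCx F J) := by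
  intro q
  obtain ⟨e⟩ := Groth.Agent.H46.FICoch.nonempty_cochain_linearEquiv F J q
  haveI : ∀ p : ℤ, Module.Injective A (F.X p →ₗ[A] J.X (p + q)) := fun p => by
    haveI := hF p
    haveI := hJ (p + q)
    exact Groth.Agent.H51.FI.injective_linearMap_of_flat _ _
  haveI : Module.Injective A (∀ p : ℤ, F.X p →ₗ[A] J.X (p + q)) := Module.Injective.pi A _
  exact injective_of_linearEquiv e.symm

theorem termwiseFlat_homCx [IsNoetherianRing A] (I J : DRing.Cx A) (a b : ℤ)
    (hI : DRing.VanishesOutside I a b) (hIi : DRing.TermwiseInjective I)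
    (hJ : DRing.TermwiseInjective J) : DRing.TermwiseFlat (DRing.homCx I J) := by
  intro q
  obtain ⟨e⟩ := Groth.Agent.H46.FICoch.nonempty_cochain_linearEquiv I J q
  haveI : Module.Flat A (∀ p : ℤ, I.X p →ₗ[A] J.X (p + q)) := by
    refine Groth.Agent.H1.FI_PIFLAT.flat_pi_of_finite_support _ (Finset.Icc a b) (fun p hp => ?_)
      (fun p => ?_)
    · have hz : IsZero (I.X p) := hI p (by
        rw [Finset.mem_Icc] at hp
        omega)
      haveI := ModuleCat.subsingleton_of_isZero hz
      exact ⟨fun f g => LinearMap.ext fun x => by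
        rw [Subsingleton.elim x 0, map_zero, map_zero]⟩
    · haveI := hIi p
      haveI := hJ (p + q)
      exact Groth.Agent.H17.FI_ISH.flat_linearMap_of_injective _ _
  exact Module.Flat.of_linearEquiv e

theorem main (A : Type u) [CommRing A] [IsNoetherianRing A] (ω : Dual.D A)
    (hω : Dual.IsDualizing A ω) (G : DRing.Cx A) [DRing.HasRHomCx G]
    (hfin : ∀ i : ℤ, Module.Finite A (Dual.HD A (DRing.toD G) i)) :
    DRing.HasFiniteTorDimCx A (DRing.toD G) ↔ DRing.HasFiniteInjDim A ((DRing.RHomCx G).obj ω) := by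
  obtain ⟨a, b, hab⟩ := hω.finite_injective_dimension
  have hvan : ∀ (F : ModuleCat.{u} A) (i : ℤ), (i < a ∨ max a b < i) →
      ∀ φ : (DerivedCategory.singleFunctor (ModuleCat.{u} A) 0).obj F ⟶
        (CategoryTheory.shiftFunctor (DerivedCategory (ModuleCat.{u} A)) i).obj ω, φ = 0 := by
    intro F i hi φ
    haveI := hab F i (by
      rcases hi with h | h
      · exact Or.inl h
      · exact Or.inr (lt_of_le_of_lt (le_max_right a b) h))
    exact Subsingleton.elim (α := Dual.inD A F ⟶ ω⟦i⟧) φ 0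
  obtain ⟨J, hJinj, hJz, ⟨e⟩⟩ :=
    (Groth.Agent.S12537.result (ModuleCat.{u} A) ω a (max a b) (le_max_left a b)).1 hvan
  haveI : ∀ n, Injective (J.X n) := hJinj
  haveI : J.IsStrictlyGE a := by
    rw [CochainComplex.isStrictlyGE_iff]
    intro i hi
    exact hJz i (Or.inl hi)
  haveI : J.IsKInjective := CochainComplex.isKInjective_of_injective J a
  have hJi : DRing.TermwiseInjective J :=
    fun i => (Module.injective_iff_injective_object A (J.X i)).2 (hJinj i)
  have hext0 : ∀ i : ℤ, i ≠ 0 → ∀ f : Q.obj J ⟶ (Q.obj J)⟦i⟧, f = 0 := by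
    intro i hi f
    haveI := hω.ext_self_subsingleton i hi
    have h0 : e.inv ≫ f ≫ e.hom⟦i⟧' = 0 := Subsingleton.elim _ _
    have h1 : f ≫ e.hom⟦i⟧' = 0 := (cancel_epi e.inv).1 (h0.trans comp_zero.symm)
    exact (cancel_mono (e.hom⟦i⟧')).1 (h1.trans zero_comp.symm)
  have hend : Function.Bijective (fun a : A => a • 𝟙 (Q.obj J)) := by
    have h1 : (fun a : A => a • 𝟙 (Q.obj J)) =
        (fun g : ω ⟶ ω => e.hom ≫ g ≫ e.inv) ∘ (fun a : A => a • 𝟙 ω) := by
      funext a
      simp only [Function.comp_apply, Linear.smul_comp, Linear.comp_smul, Category.id_comp,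
        Iso.hom_inv_id]
    rw [h1]
    refine Function.Bijective.comp ?_ hω.toEnd_bijective
    exact (Iso.homCongr e.symm e.symm).bijective
  have hGfin : ∀ i : ℤ, Module.Finite A (G.homology i) := fun i => by
    haveI := hfin i
    exact Module.Finite.equiv (homologyQEquiv G i)
  have hqi := quasiIso_bidual J hJinj a (max a b) hJz hext0 hend G hGfin
  let θG : (DRing.RHomCx G).obj ω ≅ Q.obj (DRing.homCx G J) :=
    Groth.Agent.H46.RHomCxTri.θ G e.symm
  constructor
  · rintro ⟨a₁, b₁, E, hEv, hEf, ⟨eE⟩⟩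
    obtain ⟨c⟩ := Groth.Agent.H46.LDC.nonempty_iso_Q_homCx G E J eE.hom
      (fun n => ⟨fun x y h => (cancel_epi eE.hom).1 h, fun y => ⟨eE.inv ≫ y, by simp⟩⟩)
    exact ⟨a - b₁, max a b - a₁, DRing.homCx E J, vanishesOutside_homCx E J a₁ b₁ a (max a b) hEv hJz,
      termwiseInjective_homCx E J hEf hJi, ⟨c.symm ≪≫ θG.symm⟩⟩
  · rintro ⟨a₁, b₁, I, hIv, hIi, ⟨eI⟩⟩
    let ε' : Q.obj I ≅ Q.obj (DRing.homCx G J) := eI ≪≫ θG
    obtain ⟨c⟩ := Groth.Agent.H46.LDC.nonempty_iso_Q_homCx (DRing.homCx G J) I J ε'.hom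
      (fun n => ⟨fun x y h => (cancel_epi ε'.hom).1 h, fun y => ⟨ε'.inv ≫ y, by simp⟩⟩)
    haveI := hqi
    exact ⟨a - b₁, max a b - a₁, DRing.homCx I J, vanishesOutside_homCx I J a₁ b₁ a (max a b) hIv hJz,
      termwiseFlat_homCx I J a₁ b₁ hIv hIi hJi,
      ⟨c.symm ≪≫ (asIso (Q.map (bidual G J))).symm⟩⟩

end Groth.Agent.H46.FI
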