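import Mathlib
import Groth.Agent.H46.KrullAkizuki

set_option autoImplicit false
set_option linter.style.haveILetI false

universe u

namespace Groth.Agent.H46.FH

theorem dimLEOne_of_loc (A B Ap Bp : Type u) [CommRing A] [IsDomain A] [IsNoetherianRing A]
    [CommRing B] [IsDomain B] [Algebra A B] [FaithfulSMul A B] [Algebra.FiniteType A B]
    [Algebra.IsAlgebraic A B] (p : Ideal A) [p.IsPrime] (hp : p.height = 1)
    [CommRing Ap] [Algebra A Ap] [IsLocalization.AtPrime Ap p]
    [CommRing Bp] [Algebra B Bp] [IsLocalization (Algebra.algebraMapSubmonoid B p.primeCompl) Bp]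
    [Algebra A Bp] [IsScalarTower A B Bp] [Algebra Ap Bp] [IsScalarTower A Ap Bp] :
    Ring.DimensionLEOne Bp := by
  have hinjAB : Function.Injective (algebraMap A B) := FaithfulSMul.algebraMap_injective A B
  have hM : Algebra.algebraMapSubmonoid B p.primeCompl ≤ nonZeroDivisors B := by
    rintro _ ⟨a, ha, rfl⟩
    apply mem_nonZeroDivisors_of_ne_zero
    intro h0
    apply ha
    have : a = 0 := hinjAB (by rw [h0, map_zero])
    rw [this]; exact p.zero_mem
  haveI : IsDomain Ap := IsLocalization.isDomain_of_le_nonZeroDivisors Ap p.primeCompl_le_nonZeroDivisors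
  haveI : IsDomain Bp := IsLocalization.isDomain_of_le_nonZeroDivisors Bp hM
  haveI : IsNoetherianRing Ap := IsLocalization.isNoetherianRing p.primeCompl Ap inferInstance
  haveI : Ring.KrullDimLE 1 Ap := by
    rw [Ring.krullDimLE_iff, IsLocalization.AtPrime.ringKrullDim_eq_height p Ap, hp]; rfl
  have hinjp : Function.Injective (algebraMap Ap Bp) := by
    rw [IsLocalization.algebraMap_eq_map_map_submonoid p.primeCompl B Ap Bp]
    haveI : IsLocalization (p.primeCompl.map (algebraMap A B)) Bp := ‹_›
    exact IsLocalization.map_injective_of_injective _ _ _ hinjAB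
  haveI : FaithfulSMul Ap Bp := (faithfulSMul_iff_algebraMap_injective Ap Bp).mpr hinjp
  haveI : FaithfulSMul Ap (FractionRing Bp) :=
    (faithfulSMul_iff_algebraMap_injective Ap (FractionRing Bp)).mpr (by
      rw [IsScalarTower.algebraMap_eq Ap Bp (FractionRing Bp)]
      exact (IsFractionRing.injective Bp (FractionRing Bp)).comp hinjp)
  letI : Algebra (FractionRing Ap) (FractionRing Bp) := FractionRing.liftAlgebra Ap (FractionRing Bp)
  haveI : IsScalarTower Ap (FractionRing Ap) (FractionRing Bp) :=
    FractionRing.isScalarTower_liftAlgebra Ap (FractionRing Bp)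
  haveI : IsScalarTower A Ap (FractionRing Bp) := inferInstance
  haveI : IsScalarTower A (FractionRing Ap) (FractionRing Bp) :=
    IsScalarTower.to₁₃₄ A Ap (FractionRing Ap) (FractionRing Bp)
  haveI : Algebra.IsAlgebraic B Bp :=
    IsLocalization.isAlgebraic Bp (Algebra.algebraMapSubmonoid B p.primeCompl)
  haveI : Algebra.IsAlgebraic Bp (FractionRing Bp) :=
    IsLocalization.isAlgebraic (FractionRing Bp) (nonZeroDivisors Bp)
  haveI : Algebra.IsAlgebraic A Bp := Algebra.IsAlgebraic.trans A B Bp
  haveI : Algebra.IsAlgebraic A (FractionRing Bp) := Algebra.IsAlgebraic.trans A Bp (FractionRing Bp)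
  have hinjAK : Function.Injective (algebraMap A (FractionRing Ap)) := by
    rw [IsScalarTower.algebraMap_eq A Ap (FractionRing Ap)]
    exact (IsFractionRing.injective Ap (FractionRing Ap)).comp
      (IsLocalization.injective Ap p.primeCompl_le_nonZeroDivisors)
  haveI : Algebra.IsAlgebraic (FractionRing Ap) (FractionRing Bp) :=
    Algebra.IsAlgebraic.extendScalars (R := A) hinjAK
  haveI : Algebra.EssFiniteType B Bp :=
    Algebra.EssFiniteType.of_isLocalization Bp (Algebra.algebraMapSubmonoid B p.primeCompl)
  haveI : Algebra.EssFiniteType Bp (FractionRing Bp) :=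
    Algebra.EssFiniteType.of_isLocalization (FractionRing Bp) (nonZeroDivisors Bp)
  haveI : Algebra.EssFiniteType A Bp := Algebra.EssFiniteType.comp A B Bp
  haveI : Algebra.EssFiniteType A (FractionRing Bp) :=
    Algebra.EssFiniteType.comp A Bp (FractionRing Bp)
  haveI : Algebra.EssFiniteType (FractionRing Ap) (FractionRing Bp) :=
    Algebra.EssFiniteType.of_comp A (FractionRing Ap) (FractionRing Bp)
  haveI : FiniteDimensional (FractionRing Ap) (FractionRing Bp) :=
    Algebra.finite_of_essFiniteType_of_isAlgebraic
  exact Groth.Agent.H46.KA.dimensionLEOne_of_between Ap (FractionRing Ap) (FractionRing Bp) Bp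
    (IsFractionRing.injective Bp (FractionRing Bp))

end Groth.Agent.H46.FH
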