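import Mathlib

set_option autoImplicit false
set_option linter.unusedSectionVars false
set_option linter.unusedVariables false
set_option linter.style.haveILetI false

namespace Groth.Agent.H46.GalTensor

open TensorProduct Pointwise

universe u v w

variable {k : Type u} {S : Type v} {K : Type w} [Field k] [Field S] [Algebra k S] [Field K]
  [Algebra k K]

/-- the action of `Gal(S/k)` on `S ⊗ K` -/
noncomputable abbrev act : MulSemiringAction (S ≃ₐ[k] S) (S ⊗[k] K) :=
  { (inferInstance : DistribMulAction (S ≃ₐ[k] S) (S ⊗[k] K)) with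
    smul_one := fun σ => by
      rw [Algebra.TensorProduct.one_def, TensorProduct.smul_tmul', AlgEquiv.smul_def, map_one]
    smul_mul := fun σ x y => by
      induction x using TensorProduct.induction_on with
      | zero => simp
      | tmul a b =>
        induction y using TensorProduct.induction_on with
        | zero => simp
        | tmul a' b' =>
          simp only [Algebra.TensorProduct.tmul_mul_tmul, TensorProduct.smul_tmul',
            AlgEquiv.smul_def, map_mul]
        | add y y' hy hy' => simp only [mul_add, smul_add, hy, hy']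
      | add x x' hx hx' => simp only [add_mul, smul_add, hx, hx'] }

attribute [local instance] act

theorem smul_tmul_act (σ : S ≃ₐ[k] S) (a : S) (b : K) :
    σ • (a ⊗ₜ[k] b : S ⊗[k] K) = (σ a) ⊗ₜ[k] b := by
  rw [TensorProduct.smul_tmul', AlgEquiv.smul_def]

theorem smul_eq_map (σ : S ≃ₐ[k] S) (x : S ⊗[k] K) :
    σ • x = Algebra.TensorProduct.map (σ : S →ₐ[k] S) (AlgHom.id k K) x := by
  induction x using TensorProduct.induction_on with
  | zero => simp
  | tmul a b => rw [smul_tmul_act]; simp
  | add x y hx hy => simp only [smul_add, map_add, hx, hy]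

theorem stabilizer_isOpen' [IsGalois k S] (x : S ⊗[k] K) :
    IsOpen (MulAction.stabilizer (S ≃ₐ[k] S) x : Set (S ≃ₐ[k] S)) := by
  have : ∃ U : Subgroup (S ≃ₐ[k] S), IsOpen (U : Set (S ≃ₐ[k] S)) ∧
      U ≤ MulAction.stabilizer (S ≃ₐ[k] S) x := by
    induction x using TensorProduct.induction_on with
    | zero =>
      exact ⟨⊤, by rw [Subgroup.coe_top]; exact isOpen_univ,
        fun σ _ => by rw [MulAction.mem_stabilizer_iff, smul_zero]⟩
    | tmul a b =>
      refine ⟨MulAction.stabilizer (S ≃ₐ[k] S) a, stabilizer_isOpen_of_isIntegral a,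
        fun σ hσ => ?_⟩
      rw [MulAction.mem_stabilizer_iff] at hσ ⊢
      rw [smul_tmul_act, ← AlgEquiv.smul_def, hσ]
    | add x y hx hy =>
      obtain ⟨U, hU, hUx⟩ := hx
      obtain ⟨V, hV, hVy⟩ := hy
      refine ⟨U ⊓ V, by rw [Subgroup.coe_inf]; exact hU.inter hV, fun σ hσ => ?_⟩
      rw [MulAction.mem_stabilizer_iff, smul_add,
        MulAction.mem_stabilizer_iff.mp (hUx hσ.1), MulAction.mem_stabilizer_iff.mp (hVy hσ.2)]
  obtain ⟨U, hU, hUx⟩ := this
  exact Subgroup.isOpen_mono hUx hU

theorem continuousSMul_act [IsGalois k S] [TopologicalSpace (S ⊗[k] K)]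
    [DiscreteTopology (S ⊗[k] K)] : ContinuousSMul (S ≃ₐ[k] S) (S ⊗[k] K) := by
  constructor
  rw [continuous_prod_of_discrete_right]
  intro b
  show Continuous fun g : S ≃ₐ[k] S => g • b
  rw [continuous_discrete_rng]
  intro b'
  by_cases h : ∃ g0 : S ≃ₐ[k] S, g0 • b = b'
  · obtain ⟨g0, rfl⟩ := h
    have : (fun g : S ≃ₐ[k] S => g • b) ⁻¹' {g0 • b} =
        g0 • (MulAction.stabilizer (S ≃ₐ[k] S) b : Set (S ≃ₐ[k] S)) := by
      ext g
      simp only [Set.mem_preimage, Set.mem_singleton_iff, Set.mem_smul_set_iff_inv_smul_mem,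
        SetLike.mem_coe, MulAction.mem_stabilizer_iff, smul_eq_mul, mul_smul]
      rw [inv_smul_eq_iff]
    rw [this]
    exact (stabilizer_isOpen' b).smul g0
  · convert isOpen_empty
    ext g
    simp only [Set.mem_preimage, Set.mem_singleton_iff, Set.mem_empty_iff_false, iff_false]
    exact fun hg => h ⟨g, hg⟩

theorem smulCommClass_act :
    letI := Algebra.TensorProduct.rightAlgebra (R := k) (A := S) (B := K)
    SMulCommClass (S ≃ₐ[k] S) K (S ⊗[k] K) := by
  letI := Algebra.TensorProduct.rightAlgebra (R := k) (A := S) (B := K)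
  constructor
  intro σ c x
  rw [Algebra.smul_def, Algebra.smul_def, smul_mul']
  congr 1
  show σ • ((1 : S) ⊗ₜ[k] c) = (1 : S) ⊗ₜ[k] c
  rw [smul_tmul_act, map_one]

theorem isInvariant_act [IsGalois k S] :
    letI := Algebra.TensorProduct.rightAlgebra (R := k) (A := S) (B := K)
    Algebra.IsInvariant K (S ⊗[k] K) (S ≃ₐ[k] S) := by
  letI := Algebra.TensorProduct.rightAlgebra (R := k) (A := S) (B := K)
  classical
  constructor
  intro b hb
  let e := Module.Free.chooseBasis k K
  let bS := Algebra.TensorProduct.basis S e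
  have hrepr : ∀ (σ : S ≃ₐ[k] S) (x : S ⊗[k] K) i,
      bS.repr (σ • x) i = σ (bS.repr x i) := by
    intro σ x i
    induction x using TensorProduct.induction_on with
    | zero => simp
    | tmul a m =>
      rw [smul_tmul_act, Algebra.TensorProduct.basis_repr_tmul,
        Algebra.TensorProduct.basis_repr_tmul]
      simp only [Finsupp.smul_apply, Finsupp.mapRange_apply, smul_eq_mul, map_mul,
        AlgEquiv.commutes]
    | add x y hx hy => simp only [smul_add, map_add, Finsupp.add_apply, hx, hy]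
  have hfix : ∀ i, bS.repr b i ∈ Set.range (algebraMap k S) := fun i =>
    (InfiniteGalois.mem_range_algebraMap_iff_fixed _).mpr fun σ => by rw [← hrepr, hb σ]
  choose c hc using hfix
  refine ⟨∑ i ∈ (bS.repr b).support, c i • e i, ?_⟩
  show (1 : S) ⊗ₜ[k] (∑ i ∈ (bS.repr b).support, c i • e i) = b
  conv_rhs => rw [← bS.linearCombination_repr b, Finsupp.linearCombination_apply, Finsupp.sum]
  rw [TensorProduct.tmul_sum]
  apply Finset.sum_congr rfl
  intro i _
  have h1 : (1 : S) ⊗ₜ[k] (c i • e i) = (algebraMap k S (c i)) ⊗ₜ[k] e i := by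
    rw [TensorProduct.tmul_smul, TensorProduct.smul_tmul', Algebra.algebraMap_eq_smul_one]
  rw [Algebra.TensorProduct.basis_repr_symm_apply', ← hc i, h1]

theorem transitive [IsGalois k S] (P Q : Ideal (S ⊗[k] K)) [P.IsPrime] [Q.IsPrime] :
    ∃ σ : S ≃ₐ[k] S,
      Q = P.comap (Algebra.TensorProduct.map (σ : S →ₐ[k] S) (AlgHom.id k K)) := by
  letI := Algebra.TensorProduct.rightAlgebra (R := k) (A := S) (B := K)
  letI : TopologicalSpace (S ⊗[k] K) := ⊥
  haveI : DiscreteTopology (S ⊗[k] K) := ⟨rfl⟩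
  haveI : ContinuousSMul (S ≃ₐ[k] S) (S ⊗[k] K) := continuousSMul_act
  haveI : SMulCommClass (S ≃ₐ[k] S) K (S ⊗[k] K) := smulCommClass_act
  haveI : Algebra.IsInvariant K (S ⊗[k] K) (S ≃ₐ[k] S) := isInvariant_act
  have hbot : ∀ (I : Ideal (S ⊗[k] K)) [I.IsPrime], I.under K = ⊥ := by
    intro I _
    rcases Ideal.eq_bot_or_top (I.under K) with h | h
    · exact h
    · exact absurd h (Ideal.IsPrime.ne_top inferInstance)
  have hund : P.under K = Q.under K := by rw [hbot P, hbot Q]
  obtain ⟨g, hg⟩ := Algebra.IsInvariant.exists_smul_of_under_eq_of_profinite (A := K)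
    (G := S ≃ₐ[k] S) P Q hund
  refine ⟨g⁻¹, ?_⟩
  rw [hg]
  ext x
  rw [Ideal.mem_pointwise_smul_iff_inv_smul_mem, Ideal.mem_comap, smul_eq_map]

end Groth.Agent.H46.GalTensor
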