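import Groth.Agent.H5.KInj.DerivedAdj
import Groth.Prelude.Def_DRing3
import Groth.Prelude.Def_Wider
import Mathlib.Algebra.Category.ModuleCat.AB

/-!
# `RΓ_I` on K-injective complexes (helper46)

* `gCx I`, `gι I E : Γ_I(E) ⟶ E` (termwise torsion subcomplex and its inclusion);
* `eΓ I E : RΓ_I(Q E) ≅ Q(Γ_I E)` for `E` K-injective;
* `eΓ_inv_ε : (eΓ I E).inv ≫ RgammaIε.app (Q E) = Q(gι I E)`.
-/

set_option autoImplicit false
set_option linter.unusedSectionVars false
universe u
open CategoryTheory CategoryTheory.Limits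
attribute [local instance] HasDerivedCategory.standard

namespace Groth.Agent.H46.GammaKInj

open DerivedCategory Groth.Agent.H5.KInjDer

variable {A : Type u} [CommRing A] (I : Ideal A)

/-- `Γ_I` termwise on complexes. -/
noncomputable abbrev gCx : DRing.Cx A ⥤ DRing.Cx A :=
  (DRing.gammaI I).mapHomologicalComplex (ComplexShape.up ℤ)

/-- the inclusion `Γ_I(E) ⟶ E`. -/
noncomputable def gι (E : DRing.Cx A) : (gCx I).obj E ⟶ E where
  f n := (DRing.gammaIι I).app (E.X n)
  comm' i j _ := ((DRing.gammaIι I).naturality (E.d i j)).symm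

lemma gι_eq (E : DRing.Cx A) :
    (NatTrans.mapHomologicalComplex (DRing.gammaIι I) (ComplexShape.up ℤ)).app E ≫
      (Functor.mapHomologicalComplexIdIso (ModuleCat.{u} A) (ComplexShape.up ℤ)).hom.app E =
      gι I E := by
  ext n : 1
  exact Category.comp_id _

variable [DRing.HasRgammaI I]

/-- the functor iso `quotient ⋙ gammaIKh I ≅ Γ_I.mapHomologicalComplex ⋙ Q` -/
noncomputable def EΓ :
    HomotopyCategory.quotient (ModuleCat.{u} A) (ComplexShape.up ℤ) ⋙ DRing.gammaIKh I ≅
      gCx I ⋙ DerivedCategory.Q :=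
  (Functor.associator _ _ _).symm ≪≫
    Functor.isoWhiskerRight ((DRing.gammaI I).mapHomotopyCategoryFactors (ComplexShape.up ℤ))
      DerivedCategory.Qh ≪≫ Functor.associator _ _ _ ≪≫
    Functor.isoWhiskerLeft _ (DerivedCategory.quotientCompQhIso (ModuleCat.{u} A))

/-- the unit of the derived functor -/
noncomputable abbrev βΓ : DRing.gammaIKh I ⟶ DerivedCategory.Qh ⋙ DRing.RgammaI I :=
  (DRing.gammaIKh I).totalRightDerivedUnit DerivedCategory.Qh
    (HomotopyCategory.quasiIso (ModuleCat.{u} A) (ComplexShape.up ℤ))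

lemma isIso_βΓ (E : DRing.Cx A) [E.IsKInjective] :
    IsIso ((βΓ I).app ((HomotopyCategory.quotient (ModuleCat.{u} A) (ComplexShape.up ℤ)).obj E)) :=
  isIso_app_quotient_of_isKInjective (DRing.gammaIKh I) (DRing.RgammaI I) (βΓ I) E

/-- `RΓ_I(Q E) ≅ Q(Γ_I E)` for `E` K-injective. -/
noncomputable def eΓ (E : DRing.Cx A) [E.IsKInjective] :
    (DRing.RgammaI I).obj (Q.obj E) ≅ Q.obj ((gCx I).obj E) :=
  haveI := isIso_βΓ I E
  (DRing.RgammaI I).mapIso ((DerivedCategory.quotientCompQhIso (ModuleCat.{u} A)).app E).symm ≪≫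
    (asIso ((βΓ I).app
      ((HomotopyCategory.quotient (ModuleCat.{u} A) (ComplexShape.up ℤ)).obj E))).symm ≪≫
    (EΓ I).app E

lemma key (E : DRing.Cx A) :
    (DRing.gammaIτ0 I).app E ≫ (DerivedCategory.quotientCompQhIso (ModuleCat.{u} A)).hom.app E =
      (EΓ I).hom.app E ≫ Q.map (gι I E) := by
  have hqc := (DerivedCategory.quotientCompQhIso (ModuleCat.{u} A)).hom.naturality (gι I E)
  dsimp [DRing.gammaIτ0, EΓ]
  simp only [Category.id_comp, Category.comp_id, Category.assoc]
  congr 1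
  rw [← hqc, ← gι_eq]
  simp only [Functor.comp_map, Functor.map_comp, Category.assoc]

lemma eΓ_inv_ε (E : DRing.Cx A) [E.IsKInjective] :
    (eΓ I E).inv ≫ (DRing.RgammaIε I).app (Q.obj E) = Q.map (gι I E) := by
  haveI := isIso_βΓ I E
  have fac : (βΓ I).app ((HomotopyCategory.quotient _ _).obj E) ≫
      (DRing.RgammaIε I).app (Qh.obj ((HomotopyCategory.quotient _ _).obj E)) =
      (DRing.gammaIτ I ≫ (Functor.rightUnitor _).inv).app
        ((HomotopyCategory.quotient _ _).obj E) :=
    Functor.rightDerived_fac_app (DRing.RgammaI I) (βΓ I)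
      (HomotopyCategory.quasiIso (ModuleCat.{u} A) (ComplexShape.up ℤ)) (𝟭 (Dual.D A))
      (DRing.gammaIτ I ≫ (Functor.rightUnitor _).inv) _
  have nat := (DRing.RgammaIε I).naturality
    ((DerivedCategory.quotientCompQhIso (ModuleCat.{u} A)).hom.app E)
  have hτ : (DRing.gammaIτ I).app ((HomotopyCategory.quotient _ _).obj E) =
      (DRing.gammaIτ0 I).app E := rfl
  have hqc := (DerivedCategory.quotientCompQhIso (ModuleCat.{u} A)).hom.naturality (gι I E)
  simp only [eΓ, Iso.trans_inv, Iso.symm_inv, Functor.mapIso_inv, Iso.app_inv, asIso_hom,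
    Category.assoc, Iso.app_hom]
  have h1 : (βΓ I).app ((HomotopyCategory.quotient _ _).obj E) ≫
      (DRing.RgammaI I).map ((DerivedCategory.quotientCompQhIso (ModuleCat.{u} A)).hom.app E) ≫
        (DRing.RgammaIε I).app (Q.obj E) =
      (DRing.gammaIτ0 I).app E ≫
        (DerivedCategory.quotientCompQhIso (ModuleCat.{u} A)).hom.app E := by
    rw [nat]
    refine (Category.assoc _ _ _).symm.trans ?_
    refine congrArg (fun z => z ≫
      (DerivedCategory.quotientCompQhIso (ModuleCat.{u} A)).hom.app E) (fac.trans ?_)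
    exact Category.comp_id _
  rw [h1, key, ← Category.assoc, Iso.inv_hom_id_app]
  exact Category.id_comp _

end Groth.Agent.H46.GammaKInj
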