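import Groth.Agent.S5168
import Groth.Prelude.Def_DRing3
import Mathlib

/-!
# Injective resolutions of power-torsion modules by power-torsion injectives (helper46)

Over a Noetherian ring `R`, for an ideal `I`, the `I`-power torsion submodule of an injective module
is injective (via the criterion S5168), hence every `I`-power torsion module has an injective
resolution with `I`-power torsion terms.
-/

universe u
open CategoryTheory CategoryTheory.Limits

namespace Groth.Agent.H46.TorsInj

variable {R : Type u} [CommRing R] [IsNoetherianRing R] (I : Ideal R)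

theorem isPowerTorsion_torsionSub (E : Type u) [AddCommGroup E] [Module R E] :
    LocCoh.IsPowerTorsion I (DRing.torsionSub I E) := by
  rintro ⟨m, n, hn⟩
  exact ⟨n, fun a ha => Subtype.ext (hn a ha)⟩

theorem injective_torsionSub (E : Type u) [AddCommGroup E] [Module R E] [hE : Module.Injective R E] :
    Module.Injective R (DRing.torsionSub I E) := by
  rw [Groth.Agent.S5168.result R I _ (isPowerTorsion_torsionSub I E)]
  intro M _ _ _ hk N g
  obtain ⟨k, hk⟩ := hk
  obtain ⟨h, hh⟩ := hE.out N.subtype N.injective_subtype ((DRing.torsionSub I E).subtype ∘ₗ g)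
  have hmem : ∀ x, h x ∈ DRing.torsionSub I E := by
    intro x
    refine ⟨k, fun a ha => ?_⟩
    rw [← map_smul]
    have h1 : a • x ∈ (I ^ k) • (⊤ : Submodule R M) := Submodule.smul_mem_smul ha Submodule.mem_top
    rw [hk] at h1
    rw [(Submodule.mem_bot R).1 h1, map_zero]
  refine ⟨h.codRestrict _ hmem, ?_⟩
  refine LinearMap.ext fun x => Subtype.ext ?_
  exact hh x

/-- `I`-power torsion objects of `ModuleCat R`. -/
structure TObj where
  obj : ModuleCat.{u} R
  tors : LocCoh.IsPowerTorsion I obj

variable {I}

/-- The torsion part of an injective envelope. -/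
noncomputable def TObj.E (N : TObj I) : ModuleCat.{u} R :=
  ModuleCat.of R (DRing.torsionSub I ((Injective.under N.obj : ModuleCat.{u} R) : Type u))

theorem TObj.E_tors (N : TObj I) : LocCoh.IsPowerTorsion I N.E :=
  isPowerTorsion_torsionSub I _

instance (N : TObj I) : Injective N.E := by
  haveI h0 : Injective (ModuleCat.of R ((Injective.under N.obj : ModuleCat.{u} R) : Type u)) :=
    Injective.injective_under N.obj
  haveI : Module.Injective R ((Injective.under N.obj : ModuleCat.{u} R) : Type u) :=
    Module.injective_module_of_injective_object R _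
  haveI := injective_torsionSub I ((Injective.under N.obj : ModuleCat.{u} R) : Type u)
  exact Module.injective_object_of_injective_module R _

noncomputable def TObj.ι (N : TObj I) : N.obj ⟶ N.E :=
  ModuleCat.ofHom ((Injective.ι N.obj).hom.codRestrict (DRing.torsionSub I _) (fun x => by
    obtain ⟨n, hn⟩ := N.tors x
    exact ⟨n, fun a ha => by rw [← map_smul, hn a ha, map_zero]⟩))

instance (N : TObj I) : Mono N.ι := by
  rw [ModuleCat.mono_iff_injective]
  intro x y h
  have h1 : (Injective.ι N.obj).hom x = (Injective.ι N.obj).hom y := congrArg Subtype.val h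
  exact (ModuleCat.mono_iff_injective _).1 inferInstance h1

noncomputable def TObj.next (N : TObj I) : TObj I where
  obj := cokernel N.ι
  tors := by
    intro y
    obtain ⟨x, rfl⟩ := (ModuleCat.epi_iff_surjective (cokernel.π N.ι)).1 inferInstance y
    obtain ⟨n, hn⟩ := N.E_tors x
    exact ⟨n, fun a ha => by rw [← map_smul, hn a ha, map_zero]⟩

noncomputable def TObj.π (N : TObj I) : N.E ⟶ N.next.obj := cokernel.π N.ι

instance (N : TObj I) : Epi N.π := inferInstanceAs (Epi (cokernel.π N.ι))

@[reassoc]
theorem TObj.ι_π (N : TObj I) : N.ι ≫ N.π = 0 := cokernel.condition N.ι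

theorem TObj.exact_ι_π (N : TObj I) : (ShortComplex.mk N.ι N.π N.ι_π).Exact := by
  apply ShortComplex.exact_of_g_is_cokernel
  exact cokernelIsCokernel N.ι

noncomputable def TObj.d (N : TObj I) : N.E ⟶ N.next.E :=
  N.π ≫ N.next.ι

@[reassoc]
theorem TObj.ι_d (N : TObj I) : N.ι ≫ N.d = 0 := by
  rw [TObj.d, TObj.ι_π_assoc, zero_comp]

@[reassoc]
theorem TObj.d_d (N : TObj I) : N.d ≫ N.next.d = 0 := by
  rw [TObj.d, TObj.d, Category.assoc, TObj.ι_π_assoc, zero_comp, comp_zero]

theorem TObj.exact_ι_d (N : TObj I) : (ShortComplex.mk N.ι N.d N.ι_d).Exact := by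
  let α : ShortComplex.mk N.ι N.π N.ι_π ⟶ ShortComplex.mk N.ι N.d N.ι_d :=
    { τ₁ := 𝟙 _
      τ₂ := 𝟙 _
      τ₃ := N.next.ι
      comm₁₂ := by simp
      comm₂₃ := by simp [TObj.d] }
  haveI : Epi α.τ₁ := by dsimp [α]; infer_instance
  haveI : IsIso α.τ₂ := by dsimp [α]; infer_instance
  haveI : Mono α.τ₃ := (inferInstance : Mono N.next.ι)
  rw [← ShortComplex.exact_iff_of_epi_of_isIso_of_mono α]
  exact N.exact_ι_π

theorem TObj.exact_d_d (N : TObj I) : (ShortComplex.mk N.d N.next.d N.d_d).Exact := by
  let β : ShortComplex.mk N.d N.next.d N.d_d ⟶ ShortComplex.mk N.next.ι N.next.d N.next.ι_d :=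
    { τ₁ := N.π
      τ₂ := 𝟙 _
      τ₃ := 𝟙 _
      comm₁₂ := by simp [TObj.d]
      comm₂₃ := by simp }
  haveI : Epi β.τ₁ := (inferInstance : Epi N.π)
  haveI : IsIso β.τ₂ := by dsimp [β]; infer_instance
  haveI : Mono β.τ₃ := by dsimp [β]; infer_instance
  rw [ShortComplex.exact_iff_of_epi_of_isIso_of_mono β]
  exact N.next.exact_ι_d

noncomputable def seq (N : TObj I) : ℕ → TObj I
  | 0 => N
  | k + 1 => (seq N k).next

/-- The torsion injective cocomplex. -/
noncomputable def cocomplex (N : TObj I) : CochainComplex (ModuleCat.{u} R) ℕ :=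
  CochainComplex.of (fun k => (seq N k).E) (fun k => (seq N k).d) (fun k => (seq N k).d_d)

theorem cocomplex_d (N : TObj I) (k : ℕ) : (cocomplex N).d k (k + 1) = (seq N k).d :=
  CochainComplex.of_d (fun k => (seq N k).E) (fun k => (seq N k).d) k

theorem cocomplex_exactAt_succ (N : TObj I) (n : ℕ) : (cocomplex N).ExactAt (n + 1) := by
  rw [HomologicalComplex.exactAt_iff' _ n (n + 1) (n + 1 + 1) (by simp) (by simp)]
  refine (ShortComplex.exact_iff_of_iso ?_).2 (seq N n).exact_d_d
  exact ShortComplex.isoMk (Iso.refl _) (Iso.refl _) (Iso.refl _)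
    (by erw [Category.id_comp, Category.comp_id]; exact (cocomplex_d N n).symm)
    (by erw [Category.id_comp, Category.comp_id]; exact (cocomplex_d N (n + 1)).symm)

noncomputable def resolution (N : TObj I) : InjectiveResolution N.obj where
  cocomplex := cocomplex N
  injective := fun n => by
    show Injective (seq N n).E
    infer_instance
  ι := (CochainComplex.fromSingle₀Equiv _ _).symm ⟨N.ι, by
    rw [cocomplex_d]; exact N.ι_d⟩
  quasiIso := ⟨fun n => by
    cases n
    · rw [CochainComplex.quasiIsoAt₀_iff, ShortComplex.quasiIso_iff_of_zeros]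
      · refine (ShortComplex.exact_and_mono_f_iff_of_iso ?_).2
          ⟨N.exact_ι_d, by dsimp; infer_instance⟩
        exact ShortComplex.isoMk (Iso.refl _) (Iso.refl _) (Iso.refl _)
          (by erw [Category.id_comp]; try rfl)
          (by erw [Category.id_comp]; try rfl)
      all_goals rfl
    · rw [quasiIsoAt_iff_exactAt]
      · apply cocomplex_exactAt_succ
      · apply CochainComplex.exactAt_succ_single_obj⟩

theorem resolution_tors (N : TObj I) (n : ℕ) :
    LocCoh.IsPowerTorsion I ((resolution N).cocomplex.X n) :=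
  (seq N n).E_tors

end Groth.Agent.H46.TorsInj
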