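import Groth.Agent.H46.GammaKInj
import Groth.Agent.H46.CechTower
import Groth.Agent.H46.TorsInj
import Groth.Agent.H58.LCBSeq
import Groth.Agent.S0476

/-!
# `RΓ_I K ⟶ K` is an iterated fibre of localisation maps (helper46)

Over a Noetherian ring, for `I = (f₁, …, f_r)`, the canonical map `RΓ_I K ⟶ K` is an iterated
fibre of the localisation maps at `f_r, …, f₁` (`isCech_Rgamma`).  Chain level input: for a
complex `E` of injective modules and `I = I' + (f)` the sequence
`0 → Γ_I E → Γ_{I'} E → (Γ_{I'} E)_f → 0` is exact.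
-/

set_option autoImplicit false
set_option linter.unusedSectionVars false
universe u
open CategoryTheory CategoryTheory.Limits Pretriangulated DerCA
attribute [local instance] HasDerivedCategory.standard

namespace Groth.Agent.H46.GammaTower

open DerivedCategory Groth.Agent.H35.TriChase Groth.Agent.H46.LocD Groth.Agent.H46.CechTower
  Groth.Agent.H46.GammaKInj

variable {A : Type u} [CommRing A]

lemma torsionSub_anti {I' I : Ideal A} (h : I' ≤ I) (M : Type u) [AddCommGroup M] [Module A M] :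
    DRing.torsionSub I M ≤ DRing.torsionSub I' M := by
  rintro m ⟨n, hn⟩
  exact ⟨n, fun a ha => hn a (Ideal.pow_right_mono h n ha)⟩

lemma mem_torsionSub_sup_iff (I' : Ideal A) (f : A) (M : Type u) [AddCommGroup M] [Module A M]
    (m : M) : m ∈ DRing.torsionSub (I' ⊔ Ideal.span {f}) M ↔
      m ∈ DRing.torsionSub I' M ∧ ∃ k : ℕ, f ^ k • m = 0 := by
  constructor
  · rintro ⟨n, hn⟩
    refine ⟨⟨n, fun a ha => hn a (Ideal.pow_right_mono le_sup_left n ha)⟩, n, hn _ ?_⟩
    exact Ideal.pow_mem_pow (le_sup_right (a := I') (Ideal.mem_span_singleton_self f)) n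
  · rintro ⟨⟨n, hn⟩, k, hk⟩
    refine ⟨n + k, fun a ha => ?_⟩
    have h1 := Ideal.sup_pow_add_le_pow_sup_pow (I := I') (J := Ideal.span {f}) (n := n) (m := k) ha
    rw [Ideal.span_singleton_pow] at h1
    obtain ⟨b, hb, c, hc, rfl⟩ := Submodule.mem_sup.1 h1
    obtain ⟨d, rfl⟩ := Ideal.mem_span_singleton'.1 hc
    rw [add_smul, hn b hb, mul_smul, hk, smul_zero, add_zero]

/-- `Γ_I(M) ⟶ Γ_{I'}(M)` for `I' ≤ I`. -/
noncomputable def gLE {I' I : Ideal A} (h : I' ≤ I) (M : ModuleCat.{u} A) :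
    (DRing.gammaI I).obj M ⟶ (DRing.gammaI I').obj M :=
  ModuleCat.ofHom (Submodule.inclusion (torsionSub_anti h M))

/-- `Γ_I(E) ⟶ Γ_{I'}(E)` for `I' ≤ I`. -/
noncomputable def κ {I' I : Ideal A} (h : I' ≤ I) (E : DRing.Cx A) :
    (gCx I).obj E ⟶ (gCx I').obj E where
  f n := gLE h (E.X n)
  comm' i j _ := by
    ext x
    rfl

lemma κ_gι {I' I : Ideal A} (h : I' ≤ I) (E : DRing.Cx A) : κ h E ≫ gι I' E = gι I E := by
  ext n x
  rfl

section Noeth

variable [IsNoetherianRing A]

lemma exists_smul_pow_eq_iter (N : Type u) [AddCommGroup N] [Module A N] [Module.Injective A N]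
    (b : A) (n : ℕ) (x : N) : ∃ (y : N) (t : ℕ), b ^ (t + n) • y = b ^ t • x := by
  induction n with
  | zero => exact ⟨x, 0, rfl⟩
  | succ n ih =>
    obtain ⟨y₁, t₁, e₁⟩ := ih
    obtain ⟨y₂, t₂, -, e₂⟩ := Groth.Agent.H58.LC.exists_smul_pow_eq N b y₁
    refine ⟨y₂, t₁ + t₂, ?_⟩
    have : b ^ (t₁ + t₂ + (n + 1)) = b ^ (t₁ + n) * b ^ (t₂ + 1) := by
      rw [← pow_add]
      congr 1
      omega
    rw [this, mul_smul, e₂, smul_comm, e₁, ← mul_smul, ← pow_add, add_comm]

lemma mkLinearMap_surjective_of_injective (N : Type u) [AddCommGroup N] [Module A N]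
    [Module.Injective A N] (f : A) :
    Function.Surjective (LocalizedModule.mkLinearMap (Submonoid.powers f) N) := by
  intro z
  induction z using LocalizedModule.induction_on with
  | h x s =>
    obtain ⟨s, n, rfl⟩ := s
    obtain ⟨y, t, hy⟩ := exists_smul_pow_eq_iter N f n x
    refine ⟨y, ?_⟩
    rw [LocalizedModule.mkLinearMap_apply, LocalizedModule.mk_eq]
    refine ⟨⟨f ^ t, t, rfl⟩, ?_⟩
    rw [Submonoid.smul_def, Submonoid.smul_def, Submonoid.smul_def, one_smul]
    show f ^ t • f ^ n • y = f ^ t • x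
    rw [← mul_smul, ← pow_add]
    exact hy

/-- the sequence `0 → Γ_{I'+(f)} E → Γ_{I'} E → (Γ_{I'} E)_f → 0` -/
noncomputable def sesΓ (I' : Ideal A) (f : A) (E : DRing.Cx A) : ShortComplex (DRing.Cx A) :=
  ShortComplex.mk (κ (le_sup_left : I' ≤ I' ⊔ Ideal.span {f}) E)
    (locCxUnit (Submonoid.powers f) ((gCx I').obj E)) (by
      ext n x
      obtain ⟨x, hx⟩ := x
      obtain ⟨-, k, hk⟩ := (mem_torsionSub_sup_iff I' f _ x).1 hx
      show LocalizedModule.mkLinearMap (Submonoid.powers f) _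
        (⟨x, torsionSub_anti le_sup_left _ hx⟩ : DRing.torsionSub I' (E.X n)) = 0
      rw [IsLocalizedModule.eq_zero_iff (Submonoid.powers f)]
      exact ⟨⟨f ^ k, k, rfl⟩, Subtype.ext hk⟩)

lemma sesΓ_shortExact (I' : Ideal A) (f : A) (E : DRing.Cx A)
    (hE : ∀ n, Module.Injective A (E.X n)) : (sesΓ I' f E).ShortExact := by
  rw [HomologicalComplex.shortExact_iff_degreewise_shortExact]
  intro n
  have hmono : Mono ((sesΓ I' f E).map (HomologicalComplex.eval (ModuleCat.{u} A)
      (ComplexShape.up ℤ) n)).f := by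
    rw [ModuleCat.mono_iff_injective]
    rintro ⟨x, hx⟩ ⟨y, hy⟩ hxy
    have : x = y := congrArg Subtype.val hxy
    exact Subtype.ext this
  have hepi : Epi ((sesΓ I' f E).map (HomologicalComplex.eval (ModuleCat.{u} A)
      (ComplexShape.up ℤ) n)).g := by
    rw [ModuleCat.epi_iff_surjective]
    haveI := hE n
    haveI : Module.Injective A (DRing.torsionSub I' (E.X n)) :=
      Groth.Agent.H46.TorsInj.injective_torsionSub I' (E.X n)
    exact mkLinearMap_surjective_of_injective (DRing.torsionSub I' (E.X n)) f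
  have hex : ((sesΓ I' f E).map (HomologicalComplex.eval (ModuleCat.{u} A)
      (ComplexShape.up ℤ) n)).Exact := by
    rw [ShortComplex.moduleCat_exact_iff]
    intro (x : DRing.torsionSub I' (E.X n)) hx
    have hx' : LocalizedModule.mkLinearMap (Submonoid.powers f) _ x = 0 := hx
    rw [IsLocalizedModule.eq_zero_iff (Submonoid.powers f)] at hx'
    obtain ⟨⟨s, k, rfl⟩, hs⟩ := hx'
    have hk : f ^ k • (x : E.X n) = 0 := congrArg Subtype.val hs
    have hmem : (x : E.X n) ∈ DRing.torsionSub (I' ⊔ Ideal.span {f}) (E.X n) :=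
      (mem_torsionSub_sup_iff I' f _ _).2 ⟨x.2, k, hk⟩
    exact ⟨(⟨x.1, hmem⟩ : DRing.torsionSub (I' ⊔ Ideal.span {f}) (E.X n)), Subtype.ext rfl⟩
  exact ShortComplex.ShortExact.mk' hex hmono hepi

lemma span_cons (f : A) (fs : List A) :
    Ideal.span {x | x ∈ f :: fs} = Ideal.span {x | x ∈ fs} ⊔ Ideal.span {f} := by
  rw [← Ideal.span_union]
  congr 1
  ext x
  simp only [List.mem_cons, Set.mem_setOf_eq, Set.mem_union, Set.mem_singleton_iff]
  tauto

lemma isIso_gι_of_eq_bot (I : Ideal A) (hI : I = ⊥) (E : DRing.Cx A) : IsIso (gι I E) := by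
  have hcomp : ∀ n : ℤ, IsIso ((gι I E).f n) := by
    intro n
    rw [ConcreteCategory.isIso_iff_bijective]
    constructor
    · rintro ⟨x, hx⟩ ⟨y, hy⟩ hxy
      exact Subtype.ext hxy
    · intro (x : E.X n)
      refine ⟨(⟨x, 1, fun a ha => ?_⟩ : DRing.torsionSub I (E.X n)), rfl⟩
      rw [pow_one, hI, Ideal.mem_bot] at ha
      rw [ha, zero_smul]
  exact HomologicalComplex.Hom.isIso_of_components _

/-- the tower of torsion subcomplexes of a complex of injectives realises `IsCech`. -/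
theorem isCech_Q : ∀ (fs : List A) (I : Ideal A) (_ : Ideal.span {x | x ∈ fs} = I)
    (E : DRing.Cx A) (_ : ∀ n, Module.Injective A (E.X n)),
    IsCech fs (Q.obj E) (Q.obj ((gCx I).obj E)) (Q.map (gι I E))
  | [], I, hI, E, _ => by
    have hI' : I = ⊥ := by
      rw [← hI]
      simp
    haveI := isIso_gι_of_eq_bot I hI' E
    show IsIso (Q.map (gι I E))
    infer_instance
  | f :: fs, I, hI, E, hE => by
    have hI2 : I = Ideal.span {x | x ∈ fs} ⊔ Ideal.span {f} := by rw [← hI, span_cons]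
    subst hI2
    have hS := sesΓ_shortExact (Ideal.span {x | x ∈ fs}) f E hE
    refine ⟨Q.obj ((gCx (Ideal.span {x | x ∈ fs})).obj E), Q.map (gι _ E),
      Q.map (κ le_sup_left E), isCech_Q fs _ rfl E hE, ?_, ?_⟩
    · show DT (Q.map (κ le_sup_left E)) ((ηD (Submonoid.powers f)).app
        (Q.obj ((gCx (Ideal.span {x | x ∈ fs})).obj E)))
      rw [ηD_app_Q]
      have h0 : DT (Q.map (sesΓ (Ideal.span {x | x ∈ fs}) f E).f)
          (Q.map (sesΓ (Ideal.span {x | x ∈ fs}) f E).g) :=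
        ⟨DerivedCategory.triangleOfSESδ hS, DerivedCategory.triangleOfSES_distinguished hS⟩
      exact DT.of_iso_right h0 ((LfFac (Submonoid.powers f)).app _).symm
    · rw [← Functor.map_comp, κ_gι]

/-- Over a Noetherian ring, `RΓ_I K ⟶ K` is an iterated fibre of localisation maps. -/
theorem isCech_Rgamma (fs : List A) (I : Ideal A) (hI : Ideal.span {x | x ∈ fs} = I)
    [DRing.HasRgammaI I] (K : Dual.D A) :
    IsCech fs K ((DRing.RgammaI I).obj K) ((DRing.RgammaIε I).app K) := by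
  obtain ⟨E, s, hE, hs, -, hinj⟩ := Groth.Agent.S0476.result (Q.objPreimage K)
  haveI := hE
  haveI := hs
  haveI : IsIso (Q.map s) := (DerivedCategory.isIso_Q_map_iff_quasiIso (C := ModuleCat.{u} A) s).2 hs
  let e : K ≅ Q.obj E := (Q.objObjPreimageIso K).symm ≪≫ asIso (Q.map s)
  have h := isCech_Q fs I hI E (fun n =>
    haveI := hinj n
    Module.injective_module_of_injective_object A (E.X n))
  refine IsCech.of_iso fs h e.symm ((eΓ I E).symm ≪≫ (DRing.RgammaI I).mapIso e.symm) ?_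
  have nat := (DRing.RgammaIε I).naturality e.inv
  show ((eΓ I E).inv ≫ (DRing.RgammaI I).map e.inv) ≫ (DRing.RgammaIε I).app K =
    Q.map (gι I E) ≫ e.inv
  rw [Category.assoc, nat, ← Category.assoc, eΓ_inv_ε]
  rfl

end Noeth

end Groth.Agent.H46.GammaTower
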