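import Groth.Agent.H46.HodgeSeries

/-!
# Non-vanishing of the primitive middle Hodge numbers of complete intersections (SGA 7 XI 2.7)
-/

namespace Groth.Agent.H46.PS

open MvPowerSeries Finset

/-- The Hodge series `H = Σ_{∅ ≠ P} ((1+y)(1+z))^(|P|-1) ∏_{i∈P} H_i`. -/
noncomputable def Hser {d : ℕ} (Hs : Fin d → MvPowerSeries (Fin 2) ℤ) : MvPowerSeries (Fin 2) ℤ :=
  ∑ P ∈ (Finset.univ : Finset (Fin d)).powerset with P.Nonempty,
    ((1 + X 0) * (1 + X 1)) ^ (P.card - 1) * ∏ i ∈ P, Hs i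

section main

variable (d : ℕ) (a : Fin d → ℕ) (ha : ∀ i, 1 ≤ a i) (Hs : Fin d → MvPowerSeries (Fin 2) ℤ)
  (hH : ∀ i, (1 - Pser (a i)) * Hs i = Nser (a i))

include hH in
theorem nn_Hser : NN (Hser Hs) := by
  unfold Hser
  refine nn_sum _ _ (fun P _ => nn_mul (nn_pow nn_Q _) (nn_prod _ _ (fun i _ => ?_)))
  exact nn_Hs (a i) (Hs i) (hH i)

include hH in
theorem pos_Hser_iff (w : Fin 2 →₀ ℕ) :
    Pos (Hser Hs) w ↔ ∃ P : Finset (Fin d), P.Nonempty ∧ ∃ w₁ w₂ : Fin 2 →₀ ℕ, w₁ + w₂ = w ∧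
      (w₁ 0 ≤ P.card - 1 ∧ w₁ 1 ≤ P.card - 1) ∧
      ∃ g : Fin d → (Fin 2 →₀ ℕ), ∑ i ∈ P, g i = w₂ ∧ ∀ i ∈ P, Reach (a i) (g i 0) (g i 1) := by
  have hnnH : ∀ i, NN (Hs i) := fun i => nn_Hs (a i) (Hs i) (hH i)
  unfold Hser
  rw [pos_sum_iff _ _ (fun P _ => nn_mul (nn_pow nn_Q _) (nn_prod _ _ (fun i _ => hnnH i)))]
  constructor
  · rintro ⟨P, hP, hpos⟩
    rw [Finset.mem_filter] at hP
    rw [pos_mul_iff (nn_pow nn_Q _) (nn_prod _ _ (fun i _ => hnnH i))] at hpos
    obtain ⟨w₁, w₂, hw, h1, h2⟩ := hpos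
    rw [pos_Qpow_iff] at h1
    rw [pos_prod_iff _ _ (fun i _ => hnnH i)] at h2
    obtain ⟨g, hg, hgp⟩ := h2
    refine ⟨P, hP.2, w₁, w₂, hw, h1, g, hg, fun i hi => ?_⟩
    exact (pos_Hs_iff (a i) (Hs i) (hH i) (g i)).mp (hgp i hi)
  · rintro ⟨P, hP, w₁, w₂, hw, h1, g, hg, hgp⟩
    refine ⟨P, ?_, ?_⟩
    · rw [Finset.mem_filter]
      exact ⟨Finset.mem_powerset.mpr (Finset.subset_univ _), hP⟩
    · rw [pos_mul_iff (nn_pow nn_Q _) (nn_prod _ _ (fun i _ => hnnH i))]
      refine ⟨w₁, w₂, hw, (pos_Qpow_iff _ _).mpr h1, ?_⟩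
      rw [pos_prod_iff _ _ (fun i _ => hnnH i)]
      exact ⟨g, hg, fun i hi => (pos_Hs_iff (a i) (Hs i) (hH i) (g i)).mpr (hgp i hi)⟩

include ha in
/-- Necessity of the inequality. -/
theorem ineq_of_decomp (p q : ℕ) (P : Finset (Fin d)) (hP : P.Nonempty)
    (w₁ w₂ : Fin 2 →₀ ℕ) (hw : w₁ + w₂ = E p q)
    (hbox : w₁ 0 ≤ P.card - 1 ∧ w₁ 1 ≤ P.card - 1)
    (g : Fin d → (Fin 2 →₀ ℕ)) (hg : ∑ i ∈ P, g i = w₂)
    (hgp : ∀ i ∈ P, Reach (a i) (g i 0) (g i 1)) :
    p + q + d < p * Finset.univ.sup a + ∑ i, a i := by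
  classical
  set A := Finset.univ.sup a with hA
  have haA : ∀ i, a i ≤ A := fun i => Finset.le_sup (Finset.mem_univ i)
  have hinv : ∀ i, i ∈ P → 2 ≤ a i ∧ ∃ K, K ≤ g i 0 ∧ g i 0 + g i 1 + 2 ≤ a i + K * a i :=
    fun i hi => reach_inv (hgp i hi)
  have hinv' : ∀ i, i ∈ P → ∃ K, 2 ≤ a i ∧ K ≤ g i 0 ∧ g i 0 + g i 1 + 2 ≤ a i + K * a i := by
    intro i hi
    obtain ⟨h2, K, hK1, hK2⟩ := hinv i hi
    exact ⟨K, h2, hK1, hK2⟩
  choose! K hK using hinv'
  obtain ⟨j, hj⟩ := hP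
  have hApos : 2 ≤ A := le_trans (hK j hj).1 (haA j)
  have hm : 1 ≤ P.card := Finset.card_pos.mpr ⟨j, hj⟩
  -- coordinates
  have h0 := DFunLike.congr_fun hw 0
  have h1 := DFunLike.congr_fun hw 1
  simp only [Finsupp.add_apply, E_zero, E_one] at h0 h1
  have hX : w₂ 0 = ∑ i ∈ P, g i 0 := by rw [← hg, Finsupp.finsetSum_apply]
  have hY : w₂ 1 = ∑ i ∈ P, g i 1 := by rw [← hg, Finsupp.finsetSum_apply]
  -- summing the invariants
  have hsum : ∑ i ∈ P, (g i 0 + g i 1 + 2) ≤ ∑ i ∈ P, (a i + K i * A) := by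
    apply Finset.sum_le_sum
    intro i hi
    have := (hK i hi).2.2
    have h' : K i * a i ≤ K i * A := Nat.mul_le_mul_left _ (haA i)
    omega
  rw [Finset.sum_add_distrib, Finset.sum_add_distrib, Finset.sum_add_distrib, Finset.sum_const,
    smul_eq_mul, ← Finset.sum_mul] at hsum
  have hKX : ∑ i ∈ P, K i ≤ ∑ i ∈ P, g i 0 :=
    Finset.sum_le_sum (fun i hi => (hK i hi).2.1)
  have hKA : (∑ i ∈ P, K i) * A ≤ (∑ i ∈ P, g i 0) * A := Nat.mul_le_mul_right _ hKX
  -- the total sum of the degrees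
  have htot : ∑ i ∈ P, a i + (d - P.card) ≤ ∑ i, a i := by
    rw [← Finset.sum_add_sum_compl P a]
    have hc : (Pᶜ).card = d - P.card := by
      rw [Finset.card_compl, Fintype.card_fin]
    have : (Pᶜ).card • 1 ≤ ∑ i ∈ Pᶜ, a i := Finset.card_nsmul_le_sum _ _ _ (fun i _ => ha i)
    rw [smul_eq_mul, mul_one, hc] at this
    omega
  have hcard : P.card ≤ d := by
    have := Finset.card_le_univ P
    rwa [Fintype.card_fin] at this
  have hpA : p * A = w₁ 0 * A + (∑ i ∈ P, g i 0) * A := by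
    rw [← h0, hX]; ring
  have hαA : w₁ 0 ≤ w₁ 0 * A := Nat.le_mul_of_pos_right _ (by omega)
  omega

include ha in
/-- Sufficiency of the inequality. -/
theorem decomp_of_ineq (p q : ℕ) (hpq : p ≤ q)
    (hineq : p + q + d < p * Finset.univ.sup a + ∑ i, a i) :
    ∃ P : Finset (Fin d), P.Nonempty ∧ ∃ w₁ w₂ : Fin 2 →₀ ℕ, w₁ + w₂ = E p q ∧
      (w₁ 0 ≤ P.card - 1 ∧ w₁ 1 ≤ P.card - 1) ∧
      ∃ g : Fin d → (Fin 2 →₀ ℕ), ∑ i ∈ P, g i = w₂ ∧ ∀ i ∈ P, Reach (a i) (g i 0) (g i 1) := by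
  classical
  set A := Finset.univ.sup a with hA
  have haA : ∀ i, a i ≤ A := fun i => Finset.le_sup (Finset.mem_univ i)
  set P₀ : Finset (Fin d) := Finset.univ.filter (fun i => 2 ≤ a i) with hP₀
  have hmemP : ∀ i, i ∈ P₀ ↔ 2 ≤ a i := fun i => by simp [hP₀]
  -- P₀ is nonempty
  have hne : P₀.Nonempty := by
    by_contra hemp
    rw [Finset.not_nonempty_iff_eq_empty] at hemp
    have hall : ∀ i, a i = 1 := by
      intro i
      have : i ∉ P₀ := by rw [hemp]; exact Finset.notMem_empty _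
      rw [hmemP] at this
      have := ha i
      omega
    have hsum : ∑ i, a i = d := by
      rw [Finset.sum_congr rfl (fun i _ => hall i)]
      simp
    have hA1 : A ≤ 1 := Finset.sup_le (fun i _ => (hall i).le)
    have : p * A ≤ p := by
      calc p * A ≤ p * 1 := Nat.mul_le_mul_left _ hA1
        _ = p := mul_one p
    omega
  obtain ⟨j, hj⟩ := hne
  obtain ⟨i₀, -, hi₀⟩ := Finset.exists_mem_eq_sup Finset.univ ⟨j, Finset.mem_univ j⟩ a
  rw [← hA] at hi₀
  have hA2 : 2 ≤ A := le_trans ((hmemP j).mp hj) (haA j)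
  have hi₀P : i₀ ∈ P₀ := by rw [hmemP, ← hi₀]; exact hA2
  set m := P₀.card with hm
  have hm1 : 1 ≤ m := Finset.card_pos.mpr ⟨j, hj⟩
  set D := ∑ i ∈ P₀, (a i - 2) with hD
  -- the total sum
  have htot : ∑ i, a i + m = D + 2 * m + d := by
    rw [← Finset.sum_add_sum_compl P₀ a]
    have h1 : ∑ i ∈ P₀, a i = D + 2 * m := by
      rw [hD, hm, mul_comm, ← smul_eq_mul, ← Finset.sum_const, ← Finset.sum_add_distrib]
      apply Finset.sum_congr rfl
      intro i hi
      have := (hmemP i).mp hi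
      omega
    have h2 : ∑ i ∈ P₀ᶜ, a i = d - m := by
      rw [Finset.sum_congr rfl (g := fun _ => 1)]
      · rw [Finset.sum_const, smul_eq_mul, mul_one, Finset.card_compl, Fintype.card_fin]
      · intro i hi
        have : i ∉ P₀ := Finset.mem_compl.mp hi
        rw [hmemP] at this
        have := ha i
        omega
    have hcard : m ≤ d := by
      have := Finset.card_le_univ P₀
      rwa [Fintype.card_fin] at this
    omega
  -- choice of T
  have hpA : p * A = p * (A - 1) + p := by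
    have : A = (A - 1) + 1 := by omega
    conv_lhs => rw [this]
    ring
  have hpA1 : p ≤ p * (A - 1) := Nat.le_mul_of_pos_right _ (by omega)
  set T := min q (p * (A - 1)) with hT
  have hT1 : p ≤ T := le_min hpq hpA1
  have hT2 : T ≤ p * (A - 1) := min_le_right _ _
  have hT3 : T ≤ q := min_le_left _ _
  have hr : q - T ≤ D + (m - 1) := by
    rcases le_total q (p * (A - 1)) with h | h
    · have : T = q := min_eq_left h
      omega
    · have : T = p * (A - 1) := min_eq_right h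
      omega
  set β := min (q - T) (m - 1) with hβ
  have hβ1 : β ≤ m - 1 := min_le_right _ _
  have hβ2 : β ≤ q - T := min_le_left _ _
  have hr' : q - T - β ≤ D := by
    rcases le_total (q - T) (m - 1) with h | h
    · have : β = q - T := min_eq_left h
      omega
    · have : β = m - 1 := min_eq_right h
      omega
  obtain ⟨v, hv, hvsum⟩ := distribute P₀ (fun i => a i - 2) (q - T - β) hr'
  refine ⟨P₀, ⟨j, hj⟩, E 0 β, E p (q - β), ?_, ?_, ?_⟩
  · rw [E_add, E_inj]
    constructor <;> omega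
  · simp only [E_zero, E_one]
    exact ⟨Nat.zero_le _, hβ1⟩
  · refine ⟨fun i => if i = i₀ then E p (v i₀ + T) else E 0 (v i), ?_, ?_⟩
    · rw [eq_E (∑ i ∈ P₀, (if i = i₀ then E p (v i₀ + T) else E 0 (v i))), E_inj]
      constructor
      · rw [Finsupp.finsetSum_apply]
        rw [Finset.sum_eq_single i₀]
        · simp
        · intro i _ hi
          simp [hi]
        · intro h
          exact absurd hi₀P h
      · rw [Finsupp.finsetSum_apply]
        have : ∀ i ∈ P₀, (if i = i₀ then E p (v i₀ + T) else E 0 (v i)) 1 =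
            v i + (if i = i₀ then T else 0) := by
          intro i _
          split_ifs with h
          · subst h; simp
          · simp
        rw [Finset.sum_congr rfl this, Finset.sum_add_distrib, hvsum]
        rw [Finset.sum_ite_eq' P₀ i₀ (fun _ => T), if_pos hi₀P]
        omega
    · intro i hi
      have hai := (hmemP i).mp hi
      have hvi : v i ≤ a i - 2 := hv i hi
      by_cases h : i = i₀
      · subst h
        simp only [if_true, E_zero, E_one]
        have := reach_build (b := a i) hai (v i) (by omega) p T hT1 (by rw [← hi₀]; exact hT2)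
        exact this
      · simp only [if_neg h, E_zero, E_one]
        exact Reach.base (by omega)

include ha hH in
/-- **Main theorem** on the support of the Hodge series. -/
theorem hodge_main (p q : ℕ) (hpq : p ≤ q) :
    coeff (Finsupp.single 0 p + Finsupp.single 1 q) (Hser Hs) ≠ 0 ↔
      p + q + d < p * Finset.univ.sup a + ∑ i, a i := by
  have hnn := nn_Hser d a Hs hH
  have h1 : coeff (Finsupp.single 0 p + Finsupp.single 1 q) (Hser Hs) ≠ 0 ↔
      Pos (Hser Hs) (E p q) := by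
    unfold Pos
    have := hnn (E p q)
    unfold E at this ⊢
    constructor
    · intro h; omega
    · intro h; omega
  rw [h1, pos_Hser_iff d a Hs hH]
  constructor
  · rintro ⟨P, hP, w₁, w₂, hw, hbox, g, hg, hgp⟩
    exact ineq_of_decomp d a ha p q P hP w₁ w₂ hw hbox g hg hgp
  · intro h
    exact decomp_of_ineq d a ha p q hpq h

end main

end Groth.Agent.H46.PS
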