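import Groth.Agent.H46.PosSeries

/-!
# The Hodge generating series of complete intersections (SGA 7 XI): supports
-/

namespace Groth.Agent.H46.PS

open MvPowerSeries Finset

/-- The series `P_b = Σ_{u,v ≥ 1, u+v ≤ b} C(b,u+v) y^u z^v`. -/
noncomputable def Pser (b : ℕ) : MvPowerSeries (Fin 2) ℤ :=
  ∑ u ∈ Finset.range (b + 1), ∑ v ∈ Finset.range (b + 1),
    if 1 ≤ u ∧ 1 ≤ v ∧ u + v ≤ b then
      (b.choose (u + v) : MvPowerSeries (Fin 2) ℤ) * X 0 ^ u * X 1 ^ v else 0

/-- The series `N_b = Σ_{u+v+1 ≤ b-1} C(b-1,u+v+1) y^u z^v`. -/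
noncomputable def Nser (b : ℕ) : MvPowerSeries (Fin 2) ℤ :=
  ∑ u ∈ Finset.range b, ∑ v ∈ Finset.range b,
    if u + v + 1 ≤ b - 1 then
      ((b - 1).choose (u + v + 1) : MvPowerSeries (Fin 2) ℤ) * X 0 ^ u * X 1 ^ v else 0

section dsum

variable (s t : Finset ℕ) (c : ℕ → ℕ → Prop) [∀ u v, Decidable (c u v)] (k : ℕ → ℕ → ℕ)

theorem nn_term (u v : ℕ) :
    NN (if c u v then (k u v : MvPowerSeries (Fin 2) ℤ) * X 0 ^ u * X 1 ^ v else 0) := by
  intro w
  split_ifs
  · rw [coeff_term]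
    split_ifs
    · exact Int.natCast_nonneg _
    · exact le_rfl
  · simp

theorem pos_term_iff (u v : ℕ) (w : Fin 2 →₀ ℕ) :
    Pos (if c u v then (k u v : MvPowerSeries (Fin 2) ℤ) * X 0 ^ u * X 1 ^ v else 0) w ↔
      c u v ∧ w = E u v ∧ 0 < k u v := by
  unfold Pos
  split_ifs with h1
  · rw [coeff_term]
    split_ifs with h2
    · simp [h1, h2]
    · simp [h2]
  · simp [h1]

theorem nn_dsum :
    NN (∑ u ∈ s, ∑ v ∈ t,
      if c u v then (k u v : MvPowerSeries (Fin 2) ℤ) * X 0 ^ u * X 1 ^ v else 0) :=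
  nn_sum _ _ (fun u _ => nn_sum _ _ (fun v _ => nn_term c k u v))

theorem pos_dsum_iff (w : Fin 2 →₀ ℕ) :
    Pos (∑ u ∈ s, ∑ v ∈ t,
      if c u v then (k u v : MvPowerSeries (Fin 2) ℤ) * X 0 ^ u * X 1 ^ v else 0) w ↔
      w 0 ∈ s ∧ w 1 ∈ t ∧ c (w 0) (w 1) ∧ 0 < k (w 0) (w 1) := by
  rw [pos_sum_iff _ _ (fun u _ => nn_sum _ _ (fun v _ => nn_term c k u v))]
  constructor
  · rintro ⟨u, hu, h⟩
    rw [pos_sum_iff _ _ (fun v _ => nn_term c k u v)] at h
    obtain ⟨v, hv, h⟩ := h
    rw [pos_term_iff] at h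
    obtain ⟨hc, hw, hk⟩ := h
    subst hw
    simp only [E_zero, E_one]
    exact ⟨hu, hv, hc, hk⟩
  · rintro ⟨hu, hv, hc, hk⟩
    refine ⟨w 0, hu, ?_⟩
    rw [pos_sum_iff _ _ (fun v _ => nn_term c k (w 0) v)]
    refine ⟨w 1, hv, ?_⟩
    rw [pos_term_iff]
    exact ⟨hc, eq_E w, hk⟩

end dsum

theorem nn_Pser (b : ℕ) : NN (Pser b) := nn_dsum _ _ _ _

theorem nn_Nser (b : ℕ) : NN (Nser b) := nn_dsum _ _ _ _

theorem pos_Pser_iff (b : ℕ) (w : Fin 2 →₀ ℕ) :
    Pos (Pser b) w ↔ 1 ≤ w 0 ∧ 1 ≤ w 1 ∧ w 0 + w 1 ≤ b := by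
  unfold Pser
  rw [pos_dsum_iff]
  constructor
  · rintro ⟨-, -, h, -⟩
    exact h
  · rintro ⟨h1, h2, h3⟩
    refine ⟨Finset.mem_range.mpr (by omega), Finset.mem_range.mpr (by omega), ⟨h1, h2, h3⟩,
      Nat.choose_pos h3⟩

theorem pos_Nser_iff (b : ℕ) (w : Fin 2 →₀ ℕ) :
    Pos (Nser b) w ↔ w 0 + w 1 + 2 ≤ b := by
  unfold Nser
  rw [pos_dsum_iff]
  constructor
  · rintro ⟨-, -, h, -⟩
    omega
  · intro h
    refine ⟨Finset.mem_range.mpr (by omega), Finset.mem_range.mpr (by omega), by omega,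
      Nat.choose_pos (by omega)⟩

/-- Exponents reachable from the numerator by repeatedly adding exponents of `P_b`. -/
inductive Reach (b : ℕ) : ℕ → ℕ → Prop
  | base {u v : ℕ} : u + v + 2 ≤ b → Reach b u v
  | step {u v s t : ℕ} : Reach b u v → 1 ≤ s → 1 ≤ t → s + t ≤ b → Reach b (u + s) (v + t)

theorem reach_iff (b u v : ℕ) : Reach b u v ↔ u + v + 2 ≤ b ∨
    ∃ u' v' s t, Reach b u' v' ∧ 1 ≤ s ∧ 1 ≤ t ∧ s + t ≤ b ∧ u = u' + s ∧ v = v' + t := by
  constructor
  · intro h
    cases h with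
    | base h => exact Or.inl h
    | step h hs ht hst => exact Or.inr ⟨_, _, _, _, h, hs, ht, hst, rfl, rfl⟩
  · rintro (h | ⟨u', v', s, t, h, hs, ht, hst, rfl, rfl⟩)
    · exact Reach.base h
    · exact Reach.step h hs ht hst

theorem reach_inv {b u v : ℕ} (h : Reach b u v) :
    2 ≤ b ∧ ∃ K, K ≤ u ∧ u + v + 2 ≤ b + K * b := by
  induction h with
  | base h => exact ⟨by omega, 0, by omega, by omega⟩
  | step h hs ht hst ih =>
    obtain ⟨hb, K, hK, hle⟩ := ih
    refine ⟨hb, K + 1, by omega, ?_⟩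
    have : (K + 1) * b = K * b + b := by ring
    omega

theorem reach_build {b : ℕ} (hb : 2 ≤ b) (v₀ : ℕ) (hv : v₀ + 2 ≤ b) :
    ∀ K T, K ≤ T → T ≤ K * (b - 1) → Reach b K (v₀ + T) := by
  intro K
  induction K with
  | zero =>
    intro T h1 h2
    have : T = 0 := by omega
    subst this
    exact Reach.base (by omega)
  | succ K ih =>
    intro T h1 h2
    have hsucc : (K + 1) * (b - 1) = K * (b - 1) + (b - 1) := by ring
    have hK : K ≤ K * (b - 1) := Nat.le_mul_of_pos_right _ (by omega)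
    by_cases h : T - K ≤ b - 1
    · have hr := ih K le_rfl hK
      have hstep := Reach.step (s := 1) (t := T - K) hr le_rfl (by omega) (by omega)
      have e : v₀ + K + (T - K) = v₀ + T := by omega
      rw [e] at hstep
      exact hstep
    · have hr := ih (T - (b - 1)) (by omega) (by omega)
      have hstep := Reach.step (s := 1) (t := b - 1) hr le_rfl (by omega) (by omega)
      have e : v₀ + (T - (b - 1)) + (b - 1) = v₀ + T := by omega
      rw [e] at hstep
      exact hstep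

/-- Non-negativity and support of the solution of `(1 - P_b) H = N_b`. -/
theorem hs_spec (b : ℕ) (H : MvPowerSeries (Fin 2) ℤ) (hH : (1 - Pser b) * H = Nser b) :
    ∀ n, ∀ w : Fin 2 →₀ ℕ, w 0 + w 1 = n →
      0 ≤ coeff w H ∧ (0 < coeff w H ↔ Reach b (w 0) (w 1)) := by
  classical
  have hrec : H = Nser b + Pser b * H := by rw [← hH]; ring
  intro n
  induction n using Nat.strong_induction_on with
  | _ n ih =>
  intro w hw
  have hcoeff : coeff w H = coeff w (Nser b) +
      ∑ p ∈ antidiagonal w, coeff p.1 (Pser b) * coeff p.2 H := by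
    conv_lhs => rw [hrec]
    rw [map_add, coeff_mul]
  have hlt : ∀ p ∈ antidiagonal w, 0 < coeff p.1 (Pser b) → p.2 0 + p.2 1 < n := by
    intro p hp hpos
    have hsum := Finset.HasAntidiagonal.mem_antidiagonal.mp hp
    have h0 := DFunLike.congr_fun hsum 0
    have h1 := DFunLike.congr_fun hsum 1
    simp only [Finsupp.add_apply] at h0 h1
    have := (pos_Pser_iff b p.1).mp hpos
    omega
  have hterm : ∀ p ∈ antidiagonal w, 0 ≤ coeff p.1 (Pser b) * coeff p.2 H := by
    intro p hp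
    rcases (nn_Pser b p.1).eq_or_lt with h | h
    · rw [← h, zero_mul]
    · exact mul_nonneg h.le (ih _ (hlt p hp h) p.2 rfl).1
  have hN := nn_Nser b w
  have hS := Finset.sum_nonneg hterm
  refine ⟨by rw [hcoeff]; exact add_nonneg hN hS, ?_⟩
  rw [hcoeff, reach_iff]
  constructor
  · intro hpos
    have : 0 < coeff w (Nser b) ∨ 0 < ∑ p ∈ antidiagonal w, coeff p.1 (Pser b) * coeff p.2 H := by
      by_contra hcon
      push Not at hcon
      omega
    rcases this with h | h
    · exact Or.inl ((pos_Nser_iff b w).mp h)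
    · right
      rw [Finset.sum_pos_iff_of_nonneg hterm] at h
      obtain ⟨p, hp, hpp⟩ := h
      have h1 : 0 < coeff p.1 (Pser b) := by
        rcases (nn_Pser b p.1).eq_or_lt with h | h
        · rw [← h, zero_mul] at hpp
          exact absurd hpp (lt_irrefl _)
        · exact h
      have hIH := ih _ (hlt p hp h1) p.2 rfl
      have h2 : 0 < coeff p.2 H := by
        rcases hIH.1.eq_or_lt with h | h
        · rw [← h, mul_zero] at hpp
          exact absurd hpp (lt_irrefl _)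
        · exact h
      have hsum := Finset.HasAntidiagonal.mem_antidiagonal.mp hp
      have h0 := DFunLike.congr_fun hsum 0
      have h1' := DFunLike.congr_fun hsum 1
      simp only [Finsupp.add_apply] at h0 h1'
      have hP := (pos_Pser_iff b p.1).mp h1
      exact ⟨p.2 0, p.2 1, p.1 0, p.1 1, hIH.2.mp h2, hP.1, hP.2.1, hP.2.2, by omega, by omega⟩
  · rintro (h | ⟨u', v', s, t, hr, hs, ht, hst, h0, h1⟩)
    · have := (pos_Nser_iff b w).mpr h
      unfold Pos at this
      omega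
    · have hmem : (E s t, E u' v') ∈ antidiagonal w := by
        rw [Finset.HasAntidiagonal.mem_antidiagonal]
        rw [E_add, eq_E w, E_inj]
        constructor <;> omega
      have hP : 0 < coeff (E s t) (Pser b) := by
        apply (pos_Pser_iff b (E s t)).mpr
        simp only [E_zero, E_one]
        exact ⟨hs, ht, hst⟩
      have hIH := ih (u' + v') (by omega) (E u' v') (by simp)
      have hH' : 0 < coeff (E u' v') H := by
        apply hIH.2.mpr
        simpa using hr
      have hpos : 0 < ∑ p ∈ antidiagonal w, coeff p.1 (Pser b) * coeff p.2 H := by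
        rw [Finset.sum_pos_iff_of_nonneg hterm]
        exact ⟨_, hmem, mul_pos hP hH'⟩
      omega

theorem nn_Hs (b : ℕ) (H : MvPowerSeries (Fin 2) ℤ) (hH : (1 - Pser b) * H = Nser b) : NN H :=
  fun w => (hs_spec b H hH _ w rfl).1

theorem pos_Hs_iff (b : ℕ) (H : MvPowerSeries (Fin 2) ℤ) (hH : (1 - Pser b) * H = Nser b)
    (w : Fin 2 →₀ ℕ) : Pos H w ↔ Reach b (w 0) (w 1) :=
  (hs_spec b H hH _ w rfl).2

/-! ### The box series `((1+y)(1+z))^k` -/

theorem nn_X (s : Fin 2) : NN (X s : MvPowerSeries (Fin 2) ℤ) := by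
  classical
  intro w
  rw [coeff_X]
  split_ifs <;> simp

theorem pos_X_iff (s : Fin 2) (w : Fin 2 →₀ ℕ) :
    Pos (X s : MvPowerSeries (Fin 2) ℤ) w ↔ w = Finsupp.single s 1 := by
  classical
  unfold Pos
  rw [coeff_X]
  split_ifs with h <;> simp [h]

theorem nn_Q : NN ((1 + X 0) * (1 + X 1) : MvPowerSeries (Fin 2) ℤ) :=
  nn_mul (nn_add nn_one (nn_X 0)) (nn_add nn_one (nn_X 1))

theorem pos_Q_iff (w : Fin 2 →₀ ℕ) :
    Pos ((1 + X 0) * (1 + X 1) : MvPowerSeries (Fin 2) ℤ) w ↔ w 0 ≤ 1 ∧ w 1 ≤ 1 := by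
  rw [pos_mul_iff (nn_add nn_one (nn_X 0)) (nn_add nn_one (nn_X 1))]
  constructor
  · rintro ⟨w₁, w₂, rfl, h1, h2⟩
    rw [pos_add_iff nn_one (nn_X 0), pos_one_iff, pos_X_iff] at h1
    rw [pos_add_iff nn_one (nn_X 1), pos_one_iff, pos_X_iff] at h2
    rcases h1 with rfl | rfl <;> rcases h2 with rfl | rfl <;> simp
  · rintro ⟨h0, h1⟩
    refine ⟨E (w 0) 0, E 0 (w 1), ?_, ?_, ?_⟩
    · rw [E_add]
      simpa using (eq_E w).symm
    · rw [pos_add_iff nn_one (nn_X 0), pos_one_iff, pos_X_iff]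
      have : w 0 = 0 ∨ w 0 = 1 := by omega
      rcases this with h | h
      · left; rw [h]; simp [E]
      · right; rw [h]; simp [E]
    · rw [pos_add_iff nn_one (nn_X 1), pos_one_iff, pos_X_iff]
      have : w 1 = 0 ∨ w 1 = 1 := by omega
      rcases this with h | h
      · left; rw [h]; simp [E]
      · right; rw [h]; simp [E]

theorem pos_Qpow_iff (k : ℕ) (w : Fin 2 →₀ ℕ) :
    Pos (((1 + X 0) * (1 + X 1) : MvPowerSeries (Fin 2) ℤ) ^ k) w ↔ w 0 ≤ k ∧ w 1 ≤ k := by
  induction k generalizing w with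
  | zero =>
    rw [pow_zero, pos_one_iff]
    constructor
    · rintro rfl; simp
    · rintro ⟨h0, h1⟩
      rw [eq_E w]
      have e0 : w 0 = 0 := by omega
      have e1 : w 1 = 0 := by omega
      rw [e0, e1]
      simp [E]
  | succ k ih =>
    rw [pow_succ, pos_mul_iff (nn_pow nn_Q k) nn_Q]
    constructor
    · rintro ⟨w₁, w₂, rfl, h1, h2⟩
      rw [ih] at h1
      rw [pos_Q_iff] at h2
      simp only [Finsupp.add_apply]
      omega
    · rintro ⟨h0, h1⟩
      refine ⟨E (min (w 0) k) (min (w 1) k), E (w 0 - min (w 0) k) (w 1 - min (w 1) k), ?_, ?_, ?_⟩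
      · rw [E_add]
        conv_rhs => rw [eq_E w]
        rw [E_inj]
        constructor <;> omega
      · rw [ih]
        simp only [E_zero, E_one]
        omega
      · rw [pos_Q_iff]
        simp only [E_zero, E_one]
        omega

/-- Distribute `r` among capacities. -/
theorem distribute {ι : Type*} (s : Finset ι) (c : ι → ℕ) :
    ∀ r, r ≤ ∑ i ∈ s, c i → ∃ v : ι → ℕ, (∀ i ∈ s, v i ≤ c i) ∧ ∑ i ∈ s, v i = r := by
  classical
  induction s using Finset.induction_on with
  | empty =>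
    intro r hr
    simp at hr
    exact ⟨fun _ => 0, by simp, by simp [hr]⟩
  | insert a s ha ih =>
    intro r hr
    rw [Finset.sum_insert ha] at hr
    obtain ⟨v, hv, hsum⟩ := ih (r - min r (c a)) (by omega)
    refine ⟨Function.update v a (min r (c a)), ?_, ?_⟩
    · intro i hi
      rcases Finset.mem_insert.mp hi with rfl | hi'
      · rw [Function.update_self]; exact min_le_right _ _
      · have hne : i ≠ a := by rintro rfl; exact ha hi'
        rw [Function.update_of_ne hne]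
        exact hv i hi'
    · rw [Finset.sum_insert ha, Function.update_self]
      have : ∑ x ∈ s, Function.update v a (min r (c a)) x = ∑ x ∈ s, v x :=
        Finset.sum_congr rfl (fun i hi => by
          rw [Function.update_of_ne]
          rintro rfl
          exact ha hi)
      rw [this, hsum]
      omega

end Groth.Agent.H46.PS
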