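import Groth.Agent.H12.FinExt
import Groth.Agent.H56.DerCat
import Groth.Prelude.Def_Wider

/-!
# `Hom_{D(A)}(X, E[-i]) ≃ Hom_A(H^i(X), E)` for an injective module `E` (helper46)
-/

set_option autoImplicit false
set_option linter.style.haveILetI false
set_option linter.unusedSectionVars false
universe u v
open CategoryTheory CategoryTheory.Limits Pretriangulated
attribute [local instance] HasDerivedCategory.standard

namespace Groth.Agent.H46.HomInj

open DerivedCategory DerivedCategory.TStructure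

section Abstract

variable {C : Type u} [Category.{v} C] [Preadditive C] [HasZeroObject C] [HasShift C ℤ]
  [∀ n : ℤ, (shiftFunctor C n).Additive] [Pretriangulated C]

lemma bijective_precomp_mor₁ (T : Triangle C) (hT : T ∈ distTriang C) (L : C)
    (h0 : ∀ g : T.obj₃ ⟶ L, g = 0) (h1 : ∀ g : T.obj₃⟦(-1 : ℤ)⟧ ⟶ L, g = 0) :
    Function.Bijective (fun x : T.obj₂ ⟶ L => T.mor₁ ≫ x) := by
  constructor
  · intro x x' hxx'
    have hx : T.mor₁ ≫ (x - x') = 0 := by
      rw [Preadditive.comp_sub]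
      exact sub_eq_zero.2 hxx'
    obtain ⟨y, hy⟩ := Triangle.yoneda_exact₂ T hT _ hx
    rw [h0 y, comp_zero] at hy
    exact sub_eq_zero.1 hy
  · intro x
    have hT' := inv_rot_of_distTriang _ hT
    have hz : T.invRotate.mor₁ ≫ x = 0 := h1 _
    obtain ⟨x', hx'⟩ := Triangle.yoneda_exact₂ _ hT' x hz
    exact ⟨x', hx'.symm⟩

lemma bijective_precomp_mor₂ (T : Triangle C) (hT : T ∈ distTriang C) (L : C)
    (h0 : ∀ g : T.obj₁ ⟶ L, g = 0) (h1 : ∀ g : T.obj₁⟦(1 : ℤ)⟧ ⟶ L, g = 0) :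
    Function.Bijective (fun x : T.obj₃ ⟶ L => T.mor₂ ≫ x) := by
  constructor
  · intro x x' hxx'
    have hx : T.mor₂ ≫ (x - x') = 0 := by
      rw [Preadditive.comp_sub]
      exact sub_eq_zero.2 hxx'
    obtain ⟨y, hy⟩ := Triangle.yoneda_exact₃ T hT _ hx
    rw [h1 y, comp_zero] at hy
    exact sub_eq_zero.1 hy
  · intro y
    obtain ⟨x, hx⟩ := Triangle.yoneda_exact₂ T hT y (h0 _)
    exact ⟨x, hx.symm⟩

end Abstract

variable {A : Type u} [CommRing A]

/-- the complex `E[0]` -/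
noncomputable abbrev sCx (E : ModuleCat.{u} A) : CochainComplex (ModuleCat.{u} A) ℤ :=
  (CochainComplex.singleFunctor (ModuleCat.{u} A) 0).obj E

lemma isZero_sCx_X (E : ModuleCat.{u} A) (j : ℤ) (hj : j < 0 ∨ 0 < j) : IsZero ((sCx E).X j) :=
  HomologicalComplex.isZero_single_obj_X _ _ _ _ (by omega)

lemma injective_sCx_X (E : ModuleCat.{u} A) [Injective E] (j : ℤ) : Injective ((sCx E).X j) := by
  by_cases hj : j = 0
  · subst hj
    exact Injective.of_iso (HomologicalComplex.singleObjXSelf (ComplexShape.up ℤ) 0 E).symm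
      inferInstance
  · have hz : IsZero ((sCx E).X j) := isZero_sCx_X E j (by omega)
    exact Injective.of_iso ((isZero_zero _).iso hz) inferInstance

/-- maps from `D^{≥ m}` to `E[0][k]` vanish for `E` injective and `m + k > 0` -/
lemma hom_eq_zero_of_isGE (E : ModuleCat.{u} A) [Injective E] (K : Dual.D A) (m k : ℤ) (hm : 0 < m + k)
    [K.IsGE m] (f : K ⟶ ((singleFunctor (ModuleCat.{u} A) 0).obj E)⟦k⟧) : f = 0 :=
  Groth.Agent.H12.FinExt.hom_shift_eq_zero_of_isGE (sCx E) 0 0 (isZero_sCx_X E)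
    (injective_sCx_X E) K m k hm _ ((singleFunctorIsoCompQ (ModuleCat.{u} A) 0).app E) f

/-- `Hom_{D(A)}(X, E[-i]) ≃ Hom_A(H^i(X), E)` for an injective module `E` -/
theorem nonempty_linearEquiv (E : Type u) [AddCommGroup E] [Module A E] [Module.Injective A E]
    (X : Dual.D A) (i : ℤ) :
    Nonempty ((X ⟶ (Dual.inD A E)⟦-i⟧) ≃ₗ[A] (Dual.HD A X i →ₗ[A] E)) := by
  haveI : Injective (ModuleCat.of A E) := Module.injective_object_of_injective_module A E
  set L : Dual.D A := (Dual.inD A E)⟦-i⟧ with hL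
  haveI hLGE : L.IsGE i := t.isGE_shift (Dual.inD A E) 0 (-i) i (by omega)
  -- step 1
  set Y : Dual.D A := (t.truncGE i).obj X with hY
  have hT1 := t.triangleLTGE_distinguished i X
  have b1 : Function.Bijective (fun x : Y ⟶ L => (t.truncGEπ i).app X ≫ x) := by
    refine bijective_precomp_mor₂ _ hT1 L (fun g => ?_) (fun g => ?_)
    · haveI : ((t.truncLT i).obj X).IsLE (i - 1) := inferInstance
      exact t.zero g (i - 1) i (by omega)
    · exact t.zero_of_isLE_of_isGE g (i - 2) i (by omega)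
        (t.isLE_shift ((t.triangleLTGE i).obj X).obj₁ (i - 1) 1 (i - 2) (by omega)) hLGE
  -- step 2
  haveI : Y.IsGE i := inferInstance
  set Z : Dual.D A := (t.truncLT (i + 1)).obj Y with hZ
  have hT2 := t.triangleLTGE_distinguished (i + 1) Y
  have b2 : Function.Bijective (fun x : Y ⟶ L => (t.truncLTι (i + 1)).app Y ≫ x) := by
    refine bijective_precomp_mor₁ _ hT2 L (fun g => ?_) (fun g => ?_)
    · haveI : ((t.truncGE (i + 1)).obj Y).IsGE (i + 1) := inferInstance
      exact hom_eq_zero_of_isGE (ModuleCat.of A E) _ (i + 1) (-i) (by omega) g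
    · haveI : ((((t.triangleLTGE (i + 1)).obj Y).obj₃)⟦(-1 : ℤ)⟧).IsGE (i + 2) :=
        t.isGE_shift ((t.triangleLTGE (i + 1)).obj Y).obj₃ (i + 1) (-1) (i + 2) (by omega)
      exact hom_eq_zero_of_isGE (ModuleCat.of A E) _ (i + 2) (-i) (by omega) g
  -- step 3
  haveI : Z.IsLE i := inferInstance
  haveI hi2 : ∀ j : ℤ, j < i + 1 →
      IsIso ((homologyFunctor (ModuleCat.{u} A) j).map ((t.truncLTι (i + 1)).app Y)) :=
    fun j hj => Groth.Agent.H56.isIso_homologyMap_truncLTι Y (i + 1) j hj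
  haveI : Z.IsGE i := by
    rw [isGE_iff]
    intro j hj
    haveI := hi2 j (by omega)
    exact IsZero.of_iso (isZero_of_isGE Y i j hj)
      (asIso ((homologyFunctor (ModuleCat.{u} A) j).map ((t.truncLTι (i + 1)).app Y)))
  obtain ⟨e1⟩ := Groth.Agent.H56.nonempty_iso_single Z i
  haveI := hi2 i (by omega)
  haveI := Groth.Agent.H56.isIso_homologyMap_truncGEπ X i i le_rfl
  let eH : (homologyFunctor (ModuleCat.{u} A) i).obj Z ≅ (homologyFunctor (ModuleCat.{u} A) i).obj X :=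
    asIso ((homologyFunctor (ModuleCat.{u} A) i).map ((t.truncLTι (i + 1)).app Y)) ≪≫
      (asIso ((homologyFunctor (ModuleCat.{u} A) i).map ((t.truncGEπ i).app X))).symm
  let e1' : Z ≅ (singleFunctor (ModuleCat.{u} A) i).obj ((homologyFunctor (ModuleCat.{u} A) i).obj X) :=
    e1 ≪≫ (singleFunctor (ModuleCat.{u} A) i).mapIso eH
  let e2 : L ≅ (singleFunctor (ModuleCat.{u} A) i).obj (ModuleCat.of A E) :=
    ((singleFunctors (ModuleCat.{u} A)).shiftIso (-i) i 0 (by omega)).app (ModuleCat.of A E)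
  let E1 : (Y ⟶ L) ≃ₗ[A] (X ⟶ L) :=
    LinearEquiv.ofBijective (Linear.leftComp A L ((t.truncGEπ i).app X)) b1
  let E2 : (Y ⟶ L) ≃ₗ[A] (Z ⟶ L) :=
    LinearEquiv.ofBijective (Linear.leftComp A L ((t.truncLTι (i + 1)).app Y)) b2
  let E3 : (Z ⟶ L) ≃ₗ[A] ((singleFunctor (ModuleCat.{u} A) i).obj
      ((homologyFunctor (ModuleCat.{u} A) i).obj X) ⟶
      (singleFunctor (ModuleCat.{u} A) i).obj (ModuleCat.of A E)) := Linear.homCongr A e1' e2
  let E4 : ((homologyFunctor (ModuleCat.{u} A) i).obj X ⟶ ModuleCat.of A E) ≃ₗ[A]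
      ((singleFunctor (ModuleCat.{u} A) i).obj
      ((homologyFunctor (ModuleCat.{u} A) i).obj X) ⟶
      (singleFunctor (ModuleCat.{u} A) i).obj (ModuleCat.of A E)) :=
    LinearEquiv.ofBijective ((singleFunctor (ModuleCat.{u} A) i).mapLinearMap A)
      ⟨(singleFunctor (ModuleCat.{u} A) i).map_injective,
        (singleFunctor (ModuleCat.{u} A) i).map_surjective⟩
  exact ⟨E1.symm ≪≫ₗ E2 ≪≫ₗ E3 ≪≫ₗ E4.symm ≪≫ₗ ModuleCat.homLinearEquiv (S := A)⟩

end Groth.Agent.H46.HomInj
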