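import Mathlib
import Groth.Prelude.Def_DDual2
import Groth.Agent.H4.Inv_FF
import Groth.Agent.H48.Inv_CORE
import Groth.Agent.H11.Inv_ISO
import Groth.Agent.H12.DualLoc
import Groth.Agent.H56.RestrictPC

/-! # Twisting a dualizing complex by an invertible module (S11183) -/
set_option autoImplicit false
universe u
open CategoryTheory Limits MonoidalCategory
attribute [local instance] HasDerivedCategory.standard

namespace Groth.Agent.H46.InvTwist

variable (A : Type u) [CommRing A]

/-- `- ⊗ M` on `D(A)` for a flat module `M`. -/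
noncomputable abbrev TM (M : ModuleCat.{u} A) [Module.Flat A M] : Dual.D A ⥤ Dual.D A :=
  (tensorRight M).mapDerivedCategory

/-- (LIFT) for flat `M`, the derived tensor product is the functor induced by the exact functor. -/
noncomputable def liftIso (M : ModuleCat.{u} A) [Module.Flat A M] [DRing.HasLTensor A M] :
    DRing.LTensor A M ≅ TM A M := by
  haveI := Functor.isLeftDerivedFunctor_of_inverts (L := DerivedCategory.Qh)
    (HomotopyCategory.quasiIso (ModuleCat.{u} A) (ComplexShape.up ℤ))
    (tensorRight M).mapDerivedCategory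
    ((tensorRight M).mapDerivedCategoryFactorsh)
  exact Functor.leftDerivedUnique (tensorRight M).mapDerivedCategory (DRing.LTensor A M)
    ((DRing.tensorKh A M).totalLeftDerivedCounit DerivedCategory.Qh _)
    ((tensorRight M).mapDerivedCategoryFactorsh).hom
    (HomotopyCategory.quasiIso (ModuleCat.{u} A) (ComplexShape.up ℤ))

/-- (MOD) -/
noncomputable def modIso {C : Type*} [Category C] [MonoidalCategory C] (M N : C) (e : M ⊗ N ≅ 𝟙_ C) :
    tensorRight M ⋙ tensorRight N ≅ 𝟭 C :=
  (tensorRightTensor M N).symm ≪≫ (tensoringRight C).mapIso e ≪≫ rightUnitorNatIso C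

variable (P : Type u) [AddCommGroup P] [Module A P] [Module.Invertible A P]

/-- `P` as an object of `ModuleCat A`. -/
abbrev PM : ModuleCat.{u} A := ModuleCat.of A P
/-- The dual of `P` as an object of `ModuleCat A`. -/
abbrev PN : ModuleCat.{u} A := ModuleCat.of A (Module.Dual A P)

noncomputable def isoMN : PM A P ⊗ PN A P ≅ 𝟙_ (ModuleCat.{u} A) :=
  ((TensorProduct.comm A P (Module.Dual A P)).trans
    (Module.Invertible.linearEquiv A P)).toModuleIso

noncomputable def isoNM : PN A P ⊗ PM A P ≅ 𝟙_ (ModuleCat.{u} A) :=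
  (Module.Invertible.linearEquiv A P).toModuleIso

theorem main [IsNoetherianRing A] (ω : Dual.D A) (hω : Dual.IsDualizing A ω)
    [DRing.HasLTensor A (ModuleCat.of A P)] (n : ℤ) :
    Dual.IsDualizing A (((DRing.LTensor A (ModuleCat.of A P)).obj ω)⟦n⟧) := by
  obtain ⟨e₁⟩ := Groth.Agent.H4.Inv_FF.FF (tensorRight (PM A P)) (tensorRight (PN A P))
    (modIso _ _ (isoMN A P))
  obtain ⟨e₂⟩ := Groth.Agent.H4.Inv_FF.FF (tensorRight (PN A P)) (tensorRight (PM A P))
    (modIso _ _ (isoNM A P))
  have h1 : Dual.IsDualizing A ((TM A (PM A P)).obj ω) := by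
    refine Groth.Agent.H48.Inv_CORE.CORE A (TM A (PM A P)) (TM A (PN A P)) e₁ e₂ ?_ ?_ ω hω
    · intro M
      exact ⟨(tensorRight (PN A P)).obj M,
        ⟨((tensorRight (PN A P)).mapDerivedCategorySingleFunctor 0).app M⟩⟩
    · intro K i hK
      have e : (DerivedCategory.homologyFunctor (ModuleCat.{u} A) i).obj ((TM A (PM A P)).obj K) ≅
          (tensorRight (PM A P)).obj
            ((DerivedCategory.homologyFunctor (ModuleCat.{u} A) i).obj K) :=
        ((H56.mapDerivedCategoryHomologyIso (tensorRight (PM A P)) i).app K)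
      have : Module.Finite A ((tensorRight (PM A P)).obj
          ((DerivedCategory.homologyFunctor (ModuleCat.{u} A) i).obj K)) := by
        change Module.Finite A (TensorProduct A
          ((DerivedCategory.homologyFunctor (ModuleCat.{u} A) i).obj K) P)
        infer_instance
      exact Module.Finite.equiv e.toLinearEquiv.symm
  exact H12.DualLoc.isDualizing_shift _
    (Groth.Agent.H11.Inv_ISO.ISO A ((liftIso A (PM A P)).app ω).symm h1) n

end Groth.Agent.H46.InvTwist
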