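import Mathlib
import Groth.Prelude.Def_DDual2
import Groth.Agent.H46.InvTwist
import Groth.Agent.H36.Inv2_NEQ
import Groth.Agent.H4.Inv2_FAITH
import Groth.Agent.H37.Inv2_XFUN
import Groth.Agent.H62.Inv2_DB

/-! # Uniqueness of the invertible twist of a dualizing complex (S11187) -/
set_option autoImplicit false
universe u
open CategoryTheory Limits MonoidalCategory
attribute [local instance] HasDerivedCategory.standard

namespace Groth.Agent.H46.InvTwist2

open Groth.Agent.H46.InvTwist Groth.Agent.H36.Inv2_NEQ Groth.Agent.H4.Inv2_FAITH Groth.Agent.H37.Inv2_XFUN Groth.Agent.H62.Inv2_DB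

variable (A : Type u) [CommRing A]
variable (P : Type u) [AddCommGroup P] [Module A P] [Module.Invertible A P]

theorem isDualizing_TM [IsNoetherianRing A] (ω : Dual.D A) (hω : Dual.IsDualizing A ω) :
    Dual.IsDualizing A ((TM A (PM A P)).obj ω) := by
  obtain ⟨e₁⟩ := Groth.Agent.H4.Inv_FF.FF (tensorRight (PM A P)) (tensorRight (PN A P))
    (modIso _ _ (isoMN A P))
  obtain ⟨e₂⟩ := Groth.Agent.H4.Inv_FF.FF (tensorRight (PN A P)) (tensorRight (PM A P))
    (modIso _ _ (isoNM A P))
  refine Groth.Agent.H48.Inv_CORE.CORE A (TM A (PM A P)) (TM A (PN A P)) e₁ e₂ ?_ ?_ ω hω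
  · intro M
    exact ⟨(tensorRight (PN A P)).obj M,
      ⟨((tensorRight (PN A P)).mapDerivedCategorySingleFunctor 0).app M⟩⟩
  · intro K i hK
    have e : (DerivedCategory.homologyFunctor (ModuleCat.{u} A) i).obj ((TM A (PM A P)).obj K) ≅
        (tensorRight (PM A P)).obj
          ((DerivedCategory.homologyFunctor (ModuleCat.{u} A) i).obj K) :=
      ((H56.mapDerivedCategoryHomologyIso (tensorRight (PM A P)) i).app K)
    have : Module.Finite A ((tensorRight (PM A P)).obj
        ((DerivedCategory.homologyFunctor (ModuleCat.{u} A) i).obj K)) := by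
      change Module.Finite A (TensorProduct A
        ((DerivedCategory.homologyFunctor (ModuleCat.{u} A) i).obj K) P)
      infer_instance
    exact Module.Finite.equiv e.toLinearEquiv.symm

theorem supp_iff (K : Dual.D A) (i : ℤ) :
    Subsingleton (Dual.HD A ((TM A (PM A P)).obj K) i) ↔ Subsingleton (Dual.HD A K i) := by
  have e : (DerivedCategory.homologyFunctor (ModuleCat.{u} A) i).obj ((TM A (PM A P)).obj K) ≅
      (tensorRight (PM A P)).obj
        ((DerivedCategory.homologyFunctor (ModuleCat.{u} A) i).obj K) :=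
    ((H56.mapDerivedCategoryHomologyIso (tensorRight (PM A P)) i).app K)
  rw [← FAITH A (Dual.HD A K i) P]
  exact e.toLinearEquiv.toEquiv.subsingleton_congr

theorem main [IsNoetherianRing A] [Nontrivial A] (ω : Dual.D A) (hω : Dual.IsDualizing A ω)
    (P P' : Type u) [AddCommGroup P] [Module A P] [Module.Invertible A P]
    [AddCommGroup P'] [Module A P'] [Module.Invertible A P']
    [DRing.HasLTensor A (ModuleCat.of A P)] [DRing.HasLTensor A (ModuleCat.of A P')]
    (n n' : ℤ)
    (h : Nonempty (((DRing.LTensor A (ModuleCat.of A P)).obj ω)⟦n⟧ ≅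
      ((DRing.LTensor A (ModuleCat.of A P')).obj ω)⟦n'⟧)) :
    n = n' ∧ Nonempty (P ≃ₗ[A] P') := by
  obtain ⟨e⟩ := h
  have β₀ : ((TM A (PM A P)).obj ω)⟦n⟧ ≅ ((TM A (PM A P')).obj ω)⟦n'⟧ :=
    (shiftFunctor (Dual.D A) n).mapIso ((liftIso A (PM A P)).app ω).symm ≪≫ e ≪≫
      (shiftFunctor (Dual.D A) n').mapIso ((liftIso A (PM A P')).app ω)
  have h₁ := isDualizing_TM A P ω hω
  have hn : n = n' := NEQ A _ _ h₁
    (fun i => (supp_iff A P ω i).trans (supp_iff A P' ω i).symm) n n' β₀
  subst hn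
  refine ⟨rfl, ?_⟩
  have β : (TM A (PM A P)).obj ω ≅ (TM A (PM A P')).obj ω :=
    (shiftFunctor (Dual.D A) n).preimageIso β₀
  let K := (DerivedCategory.Q (C := ModuleCat.{u} A)).objPreimage ω
  have eK : DerivedCategory.Q.obj K ≅ ω := (DerivedCategory.Q).objObjPreimageIso ω
  have c : ∀ (M : ModuleCat.{u} A) [Module.Flat A M], (XK A K).obj M ≅ (TM A M).obj ω :=
    fun M _ => ((tensorRight M).mapDerivedCategoryFactors.app K).symm ≪≫ (TM A M).mapIso eK
  have α : (XK A K).obj (ModuleCat.of A P) ≅ (XK A K).obj (ModuleCat.of A P') :=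
    c (PM A P) ≪≫ β ≪≫ (c (PM A P')).symm
  have hA : Function.Bijective (fun a : A => a • 𝟙 ((XK A K).obj (ModuleCat.of A A))) :=
    (Groth.Agent.H11.Inv_ISO.ISO A (c (ModuleCat.of A A)).symm
      (isDualizing_TM A A ω hω)).toEnd_bijective
  exact DB A (XK A K) hA P P' α

end Groth.Agent.H46.InvTwist2
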