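import Mathlib

/-!
# Pure algebra for the classical Künneth formula (helper46)

* kernels / extensions of flat modules are flat;
* a "component lemma" for submodules with flat cokernel;
* `shiftMap`: maps between direct sums induced by componentwise maps along a reindexing;
* componentwise choice in direct sums.
-/

set_option autoImplicit false

namespace Groth.Agent.H46.Kun

open TensorProduct LinearMap Function

universe u

section FL

variable {A : Type u} [CommRing A] {X Y Z : Type u} [AddCommGroup X] [Module A X]
  [AddCommGroup Y] [Module A Y] [AddCommGroup Z] [Module A Z] (ι : X →ₗ[A] Y) (π : Y →ₗ[A] Z)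

/-- The kernel of a surjection of flat modules is flat. -/
theorem flat_ker (hι : Injective ι) (hex : Function.Exact ι π)
    (hπ : Surjective π) [Module.Flat A Y] [Module.Flat A Z] : Module.Flat A X := by
  rw [Module.Flat.iff_rTensor_injective']
  intro I
  rw [injective_iff_map_eq_zero]
  intro ζ hζ
  have h1 : rTensor Y I.subtype (lTensor I ι ζ) = 0 := by
    rw [← LinearMap.comp_apply, rTensor_comp_lTensor, ← lTensor_comp_rTensor,
      LinearMap.comp_apply, hζ, map_zero]
  have h2 : lTensor I ι ζ = 0 :=
    (injective_iff_map_eq_zero _).mp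
      (Module.Flat.iff_rTensor_injective'.mp (inferInstance : Module.Flat A Y) I) _ h1
  exact (injective_iff_map_eq_zero _).mp
    (LinearMap.lTensor_injective_of_exact_of_flat π hπ ι hι hex I) ζ h2

/-- An extension of flat modules is flat. -/
theorem flat_ext (hι : Injective ι) (hex : Function.Exact ι π)
    (hπ : Surjective π) [Module.Flat A X] [Module.Flat A Z] : Module.Flat A Y := by
  rw [Module.Flat.iff_rTensor_injective']
  intro I
  rw [injective_iff_map_eq_zero]
  intro ζ hζ
  -- push to `Z`
  have h1 : rTensor Z I.subtype (lTensor I π ζ) = 0 := by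
    rw [← LinearMap.comp_apply, rTensor_comp_lTensor, ← lTensor_comp_rTensor,
      LinearMap.comp_apply, hζ, map_zero]
  have h2 : lTensor I π ζ = 0 :=
    (injective_iff_map_eq_zero _).mp
      (Module.Flat.iff_rTensor_injective'.mp (inferInstance : Module.Flat A Z) I) _ h1
  obtain ⟨ζ', rfl⟩ := (lTensor_exact I hex hπ ζ).mp h2
  have h3 : lTensor A ι (rTensor X I.subtype ζ') = 0 := by
    rw [← LinearMap.comp_apply, lTensor_comp_rTensor, ← rTensor_comp_lTensor,
      LinearMap.comp_apply, hζ]
  have h4 : rTensor X I.subtype ζ' = 0 :=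
    (injective_iff_map_eq_zero _).mp
      (Module.Flat.lTensor_preserves_injective_linearMap ι hι) _ h3
  have h5 : ζ' = 0 :=
    (injective_iff_map_eq_zero _).mp
      (Module.Flat.iff_rTensor_injective'.mp (inferInstance : Module.Flat A X) I) _ h4
  rw [h5, map_zero]

end FL

section Comp

variable {A : Type u} [CommRing A] {B L C : Type u} [AddCommGroup B] [Module A B]
  [AddCommGroup L] [Module A L] [AddCommGroup C] [Module A C]
  (ι : B →ₗ[A] L) (π : L →ₗ[A] C)
  {N N' : Type u} [AddCommGroup N] [Module A N] [AddCommGroup N'] [Module A N']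
  (d : N →ₗ[A] N')

/-- Component lemma: if `0 → B → L → C → 0` is exact with `C` flat, `b ∈ B ⊗ N'` and
`(ι ⊗ 1) b = (1 ⊗ d) y` for some `y ∈ L ⊗ N`, then `b = (1 ⊗ d) b'` for some `b' ∈ B ⊗ N`. -/
theorem exists_lTensor_eq (hι : Injective ι) (hex : Function.Exact ι π) (hπ : Surjective π)
    [Module.Flat A C] (b : B ⊗[A] N') (y : L ⊗[A] N)
    (h : rTensor N' ι b = lTensor L d y) : ∃ b' : B ⊗[A] N, lTensor B d b' = b := by
  -- `ȳ ∈ C ⊗ N` is killed by `1 ⊗ d`
  have h1 : lTensor C d (rTensor N π y) = 0 := by
    rw [← LinearMap.comp_apply, lTensor_comp_rTensor, ← rTensor_comp_lTensor,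
      LinearMap.comp_apply, ← h, ← LinearMap.comp_apply, ← rTensor_comp,
      hex.linearMap_comp_eq_zero, rTensor_zero, LinearMap.zero_apply]
  obtain ⟨c, hc⟩ := (Module.Flat.lTensor_exact C (LinearMap.exact_subtype_ker_map d) _).mp h1
  obtain ⟨y', rfl⟩ := LinearMap.rTensor_surjective (LinearMap.ker d) hπ c
  -- `y - y''` maps to zero in `C ⊗ N`
  have h3 : rTensor N π (y - lTensor L (LinearMap.ker d).subtype y') = 0 := by
    rw [map_sub, ← hc, ← LinearMap.comp_apply, ← LinearMap.comp_apply, rTensor_comp_lTensor,
      lTensor_comp_rTensor, sub_self]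
  obtain ⟨b', hb'⟩ := (rTensor_exact N hex hπ _).mp h3
  refine ⟨b', ?_⟩
  have hinj : Injective (rTensor N' ι) := by
    have := LinearMap.lTensor_injective_of_exact_of_flat π hπ ι hι hex N'
    intro a a' haa'
    apply (TensorProduct.comm A B N').injective
    apply this
    have e : ∀ t : B ⊗[A] N', lTensor N' ι (TensorProduct.comm A B N' t) =
        TensorProduct.comm A L N' (rTensor N' ι t) := by
      intro t
      induction t using TensorProduct.induction_on with
      | zero => simp
      | tmul p q => simp
      | add p q hp hq => simp only [map_add, hp, hq]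
    rw [e, e, haa']
  apply hinj
  rw [h, ← LinearMap.comp_apply, rTensor_comp_lTensor, ← lTensor_comp_rTensor,
    LinearMap.comp_apply, hb', map_sub, ← LinearMap.comp_apply (lTensor L d), ← lTensor_comp]
  have : d ∘ₗ (LinearMap.ker d).subtype = 0 := by
    ext z
    exact z.2
  rw [this, lTensor_zero, LinearMap.zero_apply, sub_zero]

/-- `ι ⊗ 1` is injective when the cokernel of `ι` is flat. -/
theorem rTensor_injective_of_flat_coker (hι : Injective ι) (hex : Function.Exact ι π)
    (hπ : Surjective π) [Module.Flat A C] : Injective (rTensor N ι) := by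
  have := LinearMap.lTensor_injective_of_exact_of_flat π hπ ι hι hex N
  intro a a' haa'
  apply (TensorProduct.comm A B N).injective
  apply this
  have e : ∀ t : B ⊗[A] N, lTensor N ι (TensorProduct.comm A B N t) =
      TensorProduct.comm A L N (rTensor N ι t) := by
    intro t
    induction t using TensorProduct.induction_on with
    | zero => simp
    | tmul p q => simp
    | add p q hp hq => simp only [map_add, hp, hq]
  rw [e, e, haa']

end Comp

section Shift

open DirectSum

variable {A : Type u} [CommRing A] {ι κ : Type} [DecidableEq ι] [DecidableEq κ]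
  {X : ι → Type u} {Y : κ → Type u} [∀ i, AddCommGroup (X i)] [∀ i, Module A (X i)]
  [∀ k, AddCommGroup (Y k)] [∀ k, Module A (Y k)]

/-- The map of direct sums induced by componentwise maps along a reindexing. -/
noncomputable def shiftMap (e : ι → κ) (f : ∀ i, X i →ₗ[A] Y (e i)) :
    (⨁ i, X i) →ₗ[A] ⨁ k, Y k :=
  DirectSum.toModule A ι _ fun i => (DirectSum.lof A κ Y (e i)).comp (f i)

@[simp]
lemma shiftMap_lof (e : ι → κ) (f : ∀ i, X i →ₗ[A] Y (e i)) (i : ι) (x : X i) :
    shiftMap e f (DirectSum.lof A ι X i x) = DirectSum.lof A κ Y (e i) (f i x) := by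
  unfold shiftMap
  rw [DirectSum.toModule_lof]
  rfl

lemma shiftMap_apply (e : ι → κ) (he : Injective e) (f : ∀ i, X i →ₗ[A] Y (e i))
    (w : ⨁ i, X i) (i : ι) : shiftMap e f w (e i) = f i (w i) := by
  induction w using DirectSum.induction_on with
  | zero => simp
  | of j x =>
    change shiftMap e f (DirectSum.lof A ι X j x) (e i) = f i ((DirectSum.lof A ι X j x) i)
    rw [shiftMap_lof]
    by_cases hji : j = i
    · subst hji
      rw [DirectSum.lof_apply, DirectSum.lof_apply]
    · have : e i ≠ e j := fun h => hji (he h).symm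
      rw [DirectSum.lof_eq_of, DirectSum.lof_eq_of, DirectSum.of_eq_of_ne _ _ _ this,
        DirectSum.of_eq_of_ne _ _ _ (Ne.symm hji), map_zero]
  | add p q hp hq =>
    rw [map_add, DirectSum.add_apply, hp, hq, DirectSum.add_apply, map_add]

/-- Componentwise choice in a direct sum. -/
lemma exists_dsum {U : ι → Type u} [∀ i, AddCommGroup (U i)] (e : ι → κ) (he : Injective e)
    (w : ⨁ k, Y k) (P : ∀ i, Y (e i) → U i → Prop) (h0 : ∀ i, P i 0 0)
    (h : ∀ i, ∃ u, P i (w (e i)) u) : ∃ u : ⨁ i, U i, ∀ i, P i (w (e i)) (u i) := by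
  classical
  choose c hc using h
  let S : Finset ι := (DFinsupp.support w).preimage e (he.injOn)
  refine ⟨DFinsupp.mk S fun i => c i.1, fun i => ?_⟩
  by_cases hi : i ∈ S
  · have : (DFinsupp.mk S fun i => c i.1 : Π₀ i, U i) i = c i := by
      rw [DFinsupp.mk_apply, dif_pos hi]
    change P i (w (e i)) ((DFinsupp.mk S fun i => c i.1 : Π₀ i, U i) i)
    rw [this]
    exact hc i
  · have h1 : (DFinsupp.mk S fun i => c i.1 : Π₀ i, U i) i = 0 := by
      rw [DFinsupp.mk_apply, dif_neg hi]
    have h2 : w (e i) = 0 := by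
      by_contra hne
      apply hi
      rw [Finset.mem_preimage, DFinsupp.mem_support_toFun]
      exact hne
    change P i (w (e i)) ((DFinsupp.mk S fun i => c i.1 : Π₀ i, U i) i)
    rw [h1, h2]
    exact h0 i

end Shift

end Groth.Agent.H46.Kun
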