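import Mathlib
import Groth.Agent.H46.KunAlg

/-!
# Element-level homology API for cochain complexes of modules, and flatness of
cycles / boundaries / opcycles (helper46)
-/

set_option autoImplicit false

namespace Groth.Agent.H46.Kun

open CategoryTheory CategoryTheory.Limits HomologicalComplex Function

universe u

section Cx

variable {A : Type u} [CommRing A] (P : CochainComplex (ModuleCat.{u} A) ℤ)

lemma iCycles_injective (n : ℤ) : Function.Injective (P.iCycles n).hom :=
  (ModuleCat.mono_iff_injective _).1 inferInstance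

lemma homologyπ_surjective (n : ℤ) : Function.Surjective (P.homologyπ n).hom :=
  (ModuleCat.epi_iff_surjective _).1 inferInstance

lemma pOpcycles_surjective (n : ℤ) : Function.Surjective (P.pOpcycles n).hom :=
  (ModuleCat.epi_iff_surjective _).1 inferInstance

lemma homologyι_injective (n : ℤ) : Function.Injective (P.homologyι n).hom :=
  (ModuleCat.mono_iff_injective _).1 inferInstance

lemma d_d_apply (k m l : ℤ) (x : P.X k) : (P.d m l).hom ((P.d k m).hom x) = 0 := by
  have h := congrArg (fun f => f.hom x) (P.d_comp_d k m l)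
  simp only [ModuleCat.hom_comp, LinearMap.coe_comp, Function.comp_apply, ModuleCat.hom_zero,
    LinearMap.zero_apply] at h
  exact h

lemma iCycles_toCycles (k m : ℤ) (x : P.X k) :
    (P.iCycles m).hom ((P.toCycles k m).hom x) = (P.d k m).hom x := by
  have h := congrArg (fun f => f.hom x) (P.toCycles_i k m)
  simp only [ModuleCat.hom_comp, LinearMap.coe_comp, Function.comp_apply, ModuleCat.hom_zero,
    LinearMap.zero_apply] at h
  exact h

lemma d_iCycles (n m : ℤ) (z : P.cycles n) : (P.d n m).hom ((P.iCycles n).hom z) = 0 := by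
  have h := congrArg (fun f => f.hom z) (P.iCycles_d n m)
  simp only [ModuleCat.hom_comp, LinearMap.coe_comp, Function.comp_apply, ModuleCat.hom_zero,
    LinearMap.zero_apply] at h
  exact h

lemma exists_of_d_eq_zero (n m : ℤ) (h : n + 1 = m) (x : P.X n) (hx : (P.d n m).hom x = 0) :
    ∃ z, (P.iCycles n).hom z = x := by
  have hex : (ShortComplex.mk (P.iCycles n) (P.d n m) (P.iCycles_d n m)).Exact :=
    ShortComplex.exact_of_f_is_kernel _ (P.cyclesIsKernel n m (by rw [CochainComplex.next]; exact h))
  exact (ShortComplex.moduleCat_exact_iff _).1 hex x hx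

lemma homologyπ_toCycles (k m : ℤ) (x : P.X k) :
    (P.homologyπ m).hom ((P.toCycles k m).hom x) = 0 := by
  have h := congrArg (fun f => f.hom x) (P.toCycles_comp_homologyπ k m)
  simp only [ModuleCat.hom_comp, LinearMap.coe_comp, Function.comp_apply, ModuleCat.hom_zero,
    LinearMap.zero_apply] at h
  exact h

lemma exists_of_homologyπ_eq_zero (k m : ℤ) (h : k + 1 = m) (z : P.cycles m)
    (hz : (P.homologyπ m).hom z = 0) : ∃ x, (P.toCycles k m).hom x = z := by
  have hex : (ShortComplex.mk (P.toCycles k m) (P.homologyπ m)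
      (P.toCycles_comp_homologyπ k m)).Exact :=
    ShortComplex.exact_of_g_is_cokernel _
      (P.homologyIsCokernel k m (by rw [CochainComplex.prev]; omega))
  exact (ShortComplex.moduleCat_exact_iff _).1 hex z hz

lemma pOpcycles_d (k m : ℤ) (x : P.X k) : (P.pOpcycles m).hom ((P.d k m).hom x) = 0 := by
  have h := congrArg (fun f => f.hom x) (P.d_pOpcycles k m)
  simp only [ModuleCat.hom_comp, LinearMap.coe_comp, Function.comp_apply, ModuleCat.hom_zero,
    LinearMap.zero_apply] at h
  exact h

lemma exists_of_pOpcycles_eq_zero (k m : ℤ) (h : k + 1 = m) (x : P.X m)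
    (hx : (P.pOpcycles m).hom x = 0) : ∃ y, (P.d k m).hom y = x := by
  have hex : (ShortComplex.mk (P.d k m) (P.pOpcycles m) (P.d_pOpcycles k m)).Exact :=
    ShortComplex.exact_of_g_is_cokernel _
      (P.opcyclesIsCokernel k m (by rw [CochainComplex.prev]; omega))
  exact (ShortComplex.moduleCat_exact_iff _).1 hex x hx

lemma homologyι_homologyπ (n : ℤ) (z : P.cycles n) :
    (P.homologyι n).hom ((P.homologyπ n).hom z) = (P.pOpcycles n).hom ((P.iCycles n).hom z) := by
  have h := congrArg (fun f => f.hom z) (P.homology_π_ι n)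
  simp only [ModuleCat.hom_comp, LinearMap.coe_comp, Function.comp_apply] at h
  exact h

lemma fromOpcycles_pOpcycles (n m : ℤ) (x : P.X n) :
    (P.fromOpcycles n m).hom ((P.pOpcycles n).hom x) = (P.d n m).hom x := by
  have h := congrArg (fun f => f.hom x) (P.p_fromOpcycles n m)
  simp only [ModuleCat.hom_comp, LinearMap.coe_comp, Function.comp_apply] at h
  exact h

lemma fromOpcycles_homologyι (n m : ℤ) (η : P.homology n) :
    (P.fromOpcycles n m).hom ((P.homologyι n).hom η) = 0 := by
  have h := congrArg (fun f => f.hom η) (P.homologyι_comp_fromOpcycles n m)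
  simp only [ModuleCat.hom_comp, LinearMap.coe_comp, Function.comp_apply, ModuleCat.hom_zero,
    LinearMap.zero_apply] at h
  exact h

lemma exists_of_fromOpcycles_eq_zero (n m : ℤ) (h : n + 1 = m) (c : P.opcycles n)
    (hc : (P.fromOpcycles n m).hom c = 0) : ∃ η, (P.homologyι n).hom η = c := by
  have hex : (ShortComplex.mk (P.homologyι n) (P.fromOpcycles n m)
      (P.homologyι_comp_fromOpcycles n m)).Exact :=
    ShortComplex.exact_of_f_is_kernel _
      (P.homologyIsKernel n m (by rw [CochainComplex.next]; exact h))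
  exact (ShortComplex.moduleCat_exact_iff _).1 hex c hc

/-- The boundaries `d(P^i) ⊆ P^{i'}`. -/
noncomputable def Bd (i i' : ℤ) : Submodule A (P.X i') := LinearMap.range (P.d i i').hom

/-- `d : P^i → B^{i'}`. -/
noncomputable def dB (i i' : ℤ) : P.X i →ₗ[A] Bd P i i' := (P.d i i').hom.rangeRestrict

lemma dB_surjective (i i' : ℤ) : Surjective (dB P i i') :=
  LinearMap.surjective_rangeRestrict _

lemma coe_dB (i i' : ℤ) (x : P.X i) : ((dB P i i' x : Bd P i i') : P.X i') = (P.d i i').hom x := rfl

lemma subtype_comp_dB (i i' : ℤ) : (Bd P i i').subtype ∘ₗ dB P i i' = (P.d i i').hom := rfl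

/-- `0 → B^{i'} → P^{i'} → opcycles → 0`. -/
lemma exact_E1 (i i' : ℤ) (h : i + 1 = i') :
    Function.Exact (Bd P i i').subtype (P.pOpcycles i').hom := by
  intro y
  constructor
  · intro hy
    obtain ⟨x, hx⟩ := exists_of_pOpcycles_eq_zero P i i' h y hy
    exact ⟨⟨y, ⟨x, hx⟩⟩, rfl⟩
  · rintro ⟨⟨_, ⟨x, rfl⟩⟩, rfl⟩
    exact pOpcycles_d P i i' x

/-- `0 → Z^i → P^i → B^{i'} → 0`. -/
lemma exact_E2 (i i' : ℤ) (h : i + 1 = i') :
    Function.Exact (P.iCycles i).hom (dB P i i') := by
  intro y
  constructor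
  · intro hy
    have : (P.d i i').hom y = 0 := by
      have := congrArg Subtype.val hy
      exact this
    obtain ⟨z, hz⟩ := exists_of_d_eq_zero P i i' h y this
    exact ⟨z, hz⟩
  · rintro ⟨z, rfl⟩
    apply Subtype.ext
    exact d_iCycles P i i' z

/-- `opcycles i → B^{i'}`. -/
noncomputable def opB (i i' : ℤ) : P.opcycles i →ₗ[A] Bd P i i' :=
  LinearMap.codRestrict (Bd P i i') (P.fromOpcycles i i').hom (by
    intro c
    obtain ⟨x, rfl⟩ := pOpcycles_surjective P i c
    rw [fromOpcycles_pOpcycles]
    exact ⟨x, rfl⟩)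

lemma opB_pOpcycles (i i' : ℤ) (x : P.X i) : opB P i i' ((P.pOpcycles i).hom x) = dB P i i' x := by
  apply Subtype.ext
  exact fromOpcycles_pOpcycles P i i' x

lemma opB_surjective (i i' : ℤ) : Surjective (opB P i i') := by
  intro b
  obtain ⟨x, rfl⟩ := dB_surjective P i i' b
  exact ⟨_, opB_pOpcycles P i i' x⟩

/-- `0 → H^i → opcycles i → B^{i'} → 0`. -/
lemma exact_E3 (i i' : ℤ) (h : i + 1 = i') :
    Function.Exact (P.homologyι i).hom (opB P i i') := by
  intro c
  constructor
  · intro hc
    have : (P.fromOpcycles i i').hom c = 0 := congrArg Subtype.val hc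
    exact exists_of_fromOpcycles_eq_zero P i i' h c this
  · rintro ⟨η, rfl⟩
    apply Subtype.ext
    exact fromOpcycles_homologyι P i i' η

/-- `Z^i → P^i → P^{i'}` is exact. -/
lemma exact_iCycles_d (i i' : ℤ) (h : i + 1 = i') :
    Function.Exact (P.iCycles i).hom (P.d i i').hom := by
  intro y
  constructor
  · intro hy
    exact exists_of_d_eq_zero P i i' h y hy
  · rintro ⟨z, rfl⟩
    exact d_iCycles P i i' z

/-- `P^k → Z^m → H^m` is exact. -/
lemma exact_toCycles_homologyπ (k m : ℤ) (h : k + 1 = m) :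
    Function.Exact (P.toCycles k m).hom (P.homologyπ m).hom := by
  intro z
  constructor
  · intro hz
    exact exists_of_homologyπ_eq_zero P k m h z hz
  · rintro ⟨x, rfl⟩
    exact homologyπ_toCycles P k m x

variable {P}

theorem flat_Bd_of (i i' : ℤ) (h : i + 1 = i') (h1 : Module.Flat A (P.X i'))
    (h2 : Module.Flat A (P.opcycles i')) : Module.Flat A (Bd P i i') :=
  flat_ker (Bd P i i').subtype (P.pOpcycles i').hom (Submodule.injective_subtype _)
    (exact_E1 P i i' h) (pOpcycles_surjective P i')

theorem flat_opcycles_of (i i' : ℤ) (h : i + 1 = i') (h1 : Module.Flat A (Bd P i i'))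
    (h2 : Module.Flat A (P.homology i)) : Module.Flat A (P.opcycles i) :=
  flat_ext (P.homologyι i).hom (opB P i i') (homologyι_injective P i)
    (exact_E3 P i i' h) (opB_surjective P i i')

theorem flat_cycles_of (i i' : ℤ) (h : i + 1 = i') (h1 : Module.Flat A (Bd P i i'))
    (h2 : Module.Flat A (P.X i)) : Module.Flat A (P.cycles i) :=
  flat_ker (P.iCycles i).hom (dB P i i') (iCycles_injective P i)
    (exact_E2 P i i' h) (dB_surjective P i i')

theorem flat_opcycles (hfl : ∀ i, Module.Flat A (P.X i)) (b : ℤ)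
    (hb : ∀ i : ℤ, b < i → IsZero (P.X i)) (hH : ∀ i, Module.Flat A (P.homology i)) :
    ∀ i, Module.Flat A (P.opcycles i) := by
  have key : ∀ k : ℕ, ∀ i : ℤ, b + 1 - k ≤ i → Module.Flat A (P.opcycles i) := by
    intro k
    induction k with
    | zero =>
      intro i hi
      have hz : Subsingleton (P.X i) := ModuleCat.subsingleton_of_isZero (hb i (by omega))
      have : Subsingleton (P.opcycles i) := by
        refine ⟨fun a c => ?_⟩
        obtain ⟨x, rfl⟩ := pOpcycles_surjective P i a
        obtain ⟨y, rfl⟩ := pOpcycles_surjective P i c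
        rw [Subsingleton.elim x y]
      infer_instance
    | succ k ih =>
      intro i hi
      by_cases hi' : b + 1 - k ≤ i
      · exact ih i hi'
      · have h1 : Module.Flat A (P.opcycles (i + 1)) := ih (i + 1) (by push_cast at hi ⊢; omega)
        exact flat_opcycles_of i (i + 1) rfl (flat_Bd_of i (i + 1) rfl (hfl _) h1) (hH i)
  intro i
  exact key (b + 1 - i).toNat i (by omega)

theorem flat_Bd (hfl : ∀ i, Module.Flat A (P.X i)) (b : ℤ)
    (hb : ∀ i : ℤ, b < i → IsZero (P.X i)) (hH : ∀ i, Module.Flat A (P.homology i))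
    (i i' : ℤ) (h : i + 1 = i') : Module.Flat A (Bd P i i') :=
  flat_Bd_of i i' h (hfl _) (flat_opcycles hfl b hb hH i')

theorem flat_cycles (hfl : ∀ i, Module.Flat A (P.X i)) (b : ℤ)
    (hb : ∀ i : ℤ, b < i → IsZero (P.X i)) (hH : ∀ i, Module.Flat A (P.homology i))
    (i : ℤ) : Module.Flat A (P.cycles i) :=
  flat_cycles_of i (i + 1) rfl (flat_Bd hfl b hb hH i (i + 1) rfl) (hfl _)

end Cx

end Groth.Agent.H46.Kun
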