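import Mathlib
import Groth.Agent.H58.TensorCone
import Groth.Agent.H46.KunCx

/-!
# A direct-sum model for the tensor product of two cochain complexes of modules (helper46)
-/

set_option autoImplicit false

namespace Groth.Agent.H46.Kun

open CategoryTheory CategoryTheory.Limits HomologicalComplex
open scoped TensorProduct DirectSum

universe u

/-- antidiagonal index set -/
abbrev AD (n : ℤ) : Type := {ij : ℤ × ℤ // ij.1 + ij.2 = n}

/-- `(i, j) ↦ (i+1, j)` -/
@[reducible] def s₁ {n : ℤ} (x : AD n) : AD (n + 1) := ⟨(x.1.1 + 1, x.1.2), by have := x.2; simp only; omega⟩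

/-- `(i, j) ↦ (i, j+1)` -/
@[reducible] def s₂ {n : ℤ} (x : AD n) : AD (n + 1) := ⟨(x.1.1, x.1.2 + 1), by have := x.2; simp only; omega⟩

lemma s₁_injective {n : ℤ} : Function.Injective (s₁ (n := n)) := by
  rintro ⟨⟨i, j⟩, h⟩ ⟨⟨i', j'⟩, h'⟩ hxy
  simp only [s₁, Subtype.mk.injEq, Prod.mk.injEq] at hxy
  apply Subtype.ext
  simp only [Prod.mk.injEq]
  omega

lemma s₂_injective {n : ℤ} : Function.Injective (s₂ (n := n)) := by
  rintro ⟨⟨i, j⟩, h⟩ ⟨⟨i', j'⟩, h'⟩ hxy
  simp only [s₂, Subtype.mk.injEq, Prod.mk.injEq] at hxy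
  apply Subtype.ext
  simp only [Prod.mk.injEq]
  omega

lemma s₁_surjective {n : ℤ} : Function.Surjective (s₁ (n := n)) := by
  rintro ⟨⟨i, j⟩, h⟩
  have h' : i + j = n + 1 := h
  refine ⟨⟨(i - 1, j), by simp only; omega⟩, ?_⟩
  apply Subtype.ext
  show (i - 1 + 1, j) = (i, j)
  rw [sub_add_cancel]

lemma s₂_surjective {n : ℤ} : Function.Surjective (s₂ (n := n)) := by
  rintro ⟨⟨i, j⟩, h⟩
  have h' : i + j = n + 1 := h
  refine ⟨⟨(i, j - 1), by simp only; omega⟩, ?_⟩
  apply Subtype.ext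
  show (i, j - 1 + 1) = (i, j)
  rw [sub_add_cancel]

lemma s₁_s₂ {n : ℤ} (x : AD n) : s₁ (s₂ x) = s₂ (s₁ x) := rfl

variable {A : Type u} [CommRing A] (L M : CochainComplex (ModuleCat.{u} A) ℤ)

/-- the `(i,j)` term -/
abbrev T {n : ℤ} (x : AD n) : Type u := (L.X x.1.1) ⊗[A] (M.X x.1.2)

/-- the degree `n` part of the model -/
abbrev W (n : ℤ) : Type u := ⨁ x : AD n, T L M x

/-- horizontal differential -/
noncomputable def d₁ {n : ℤ} (x : AD n) : T L M x →ₗ[A] T L M (s₁ x) :=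
  LinearMap.rTensor (M.X x.1.2) (L.d x.1.1 (x.1.1 + 1)).hom

/-- vertical differential (with sign) -/
noncomputable def d₂ {n : ℤ} (x : AD n) : T L M x →ₗ[A] T L M (s₂ x) :=
  ((x.1.1.negOnePow : ℤˣ) : ℤ) • LinearMap.lTensor (L.X x.1.1) (M.d x.1.2 (x.1.2 + 1)).hom

/-- total differential of the model -/
noncomputable def D (n : ℤ) : W L M n →ₗ[A] W L M (n + 1) :=
  shiftMap s₁ (d₁ L M) + shiftMap s₂ (d₂ L M)

lemma D_lof {n : ℤ} (x : AD n) (t : T L M x) :
    D L M n (DirectSum.lof A (AD n) (T L M) x t) =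
      DirectSum.lof A (AD (n + 1)) (T L M) (s₁ x) (d₁ L M x t) +
      DirectSum.lof A (AD (n + 1)) (T L M) (s₂ x) (d₂ L M x t) := by
  unfold D
  rw [LinearMap.add_apply, shiftMap_lof, shiftMap_lof]

lemma D_apply {n : ℤ} (w : W L M (n + 1)) (x : AD n) :
    (D L M (n + 1) w (s₁ (s₂ x)) : (L.X (x.1.1 + 1)) ⊗[A] (M.X (x.1.2 + 1))) =
      LinearMap.rTensor (M.X (x.1.2 + 1)) (L.d x.1.1 (x.1.1 + 1)).hom (w (s₂ x)) +
      (((x.1.1 + 1).negOnePow : ℤˣ) : ℤ) •
        LinearMap.lTensor (L.X (x.1.1 + 1)) (M.d x.1.2 (x.1.2 + 1)).hom (w (s₁ x)) := by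
  unfold D
  rw [LinearMap.add_apply, DirectSum.add_apply]
  refine congrArg₂ (· + ·) ?_ ?_
  · exact shiftMap_apply s₁ s₁_injective (d₁ L M) w (s₂ x)
  · exact shiftMap_apply s₂ s₂_injective (d₂ L M) w (s₁ x)

/-- comparison map to Mathlib's tensor product complex -/
noncomputable def Ψ (n : ℤ) : W L M n →ₗ[A] (HomologicalComplex.tensorObj L M).X n :=
  DirectSum.toModule A (AD n) _ fun x => (ιTensorObj L M x.1.1 x.1.2 n x.2).hom

lemma Ψ_lof {n : ℤ} (x : AD n) (t : T L M x) :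
    Ψ L M n (DirectSum.lof A (AD n) (T L M) x t) = (ιTensorObj L M x.1.1 x.1.2 n x.2).hom t := by
  unfold Ψ
  rw [DirectSum.toModule_lof]

/-- inverse comparison map -/
noncomputable def Ψinv (n : ℤ) : (HomologicalComplex.tensorObj L M).X n ⟶ ModuleCat.of A (W L M n) :=
  mapBifunctorDesc (K₁ := L) (K₂ := M) (F := MonoidalCategory.curriedTensor (ModuleCat.{u} A))
    (c := ComplexShape.up ℤ)
    (fun p q hpq => ModuleCat.ofHom (DirectSum.lof A (AD n) (T L M) ⟨(p, q), hpq⟩))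

lemma Ψinv_ι {n : ℤ} (x : AD n) (t : T L M x) :
    (Ψinv L M n).hom ((ιTensorObj L M x.1.1 x.1.2 n x.2).hom t) =
      DirectSum.lof A (AD n) (T L M) x t := by
  have h := ι_mapBifunctorDesc (K₁ := L) (K₂ := M) (F := MonoidalCategory.curriedTensor (ModuleCat.{u} A))
    (c := ComplexShape.up ℤ)
    (fun p q hpq => ModuleCat.ofHom (DirectSum.lof A (AD n) (T L M) ⟨(p, q), hpq⟩))
    x.1.1 x.1.2 x.2
  have h' := congrArg (fun f => f.hom t) h
  simp only [ModuleCat.hom_comp, LinearMap.coe_comp, Function.comp_apply] at h'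
  exact h'

lemma Ψinv_Ψ (n : ℤ) (w : W L M n) : (Ψinv L M n).hom (Ψ L M n w) = w := by
  induction w using DirectSum.induction_on with
  | zero => simp
  | of x t =>
    change (Ψinv L M n).hom (Ψ L M n (DirectSum.lof A (AD n) (T L M) x t)) =
      DirectSum.lof A (AD n) (T L M) x t
    rw [Ψ_lof, Ψinv_ι]
  | add p q hp hq => rw [map_add, map_add, hp, hq]

lemma Ψ_Ψinv (n : ℤ) (y : (HomologicalComplex.tensorObj L M).X n) : Ψ L M n ((Ψinv L M n).hom y) = y := by
  have : Ψinv L M n ≫ ModuleCat.ofHom (Ψ L M n) = 𝟙 _ := by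
    apply Groth.Agent.H58.TensorCone.tensor_hom_ext
    intro p q hpq
    ext t
    simp only [ModuleCat.hom_comp, LinearMap.coe_comp, Function.comp_apply, ModuleCat.hom_ofHom,
      Category.comp_id]
    have := Ψinv_ι L M (⟨(p, q), hpq⟩ : AD n) t
    simp only at this
    rw [this, Ψ_lof]
  have h' := congrArg (fun f => f.hom y) this
  simp only [ModuleCat.hom_comp, LinearMap.coe_comp, Function.comp_apply, ModuleCat.hom_ofHom,
    ModuleCat.hom_id, LinearMap.id_coe, id_eq] at h'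
  exact h'

lemma Ψ_injective (n : ℤ) : Function.Injective (Ψ L M n) :=
  Function.LeftInverse.injective (Ψinv_Ψ L M n)

lemma Ψ_surjective (n : ℤ) : Function.Surjective (Ψ L M n) :=
  Function.RightInverse.surjective (Ψ_Ψinv L M n)

lemma Ψ_D (n : ℤ) (w : W L M n) :
    ((HomologicalComplex.tensorObj L M).d n (n + 1)).hom (Ψ L M n w) = Ψ L M (n + 1) (D L M n w) := by
  induction w using DirectSum.induction_on with
  | zero => simp
  | of x t =>
    change ((HomologicalComplex.tensorObj L M).d n (n + 1)).hom (Ψ L M n (DirectSum.lof A (AD n) (T L M) x t)) =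
      Ψ L M (n + 1) (D L M n (DirectSum.lof A (AD n) (T L M) x t))
    rw [Ψ_lof, D_lof, map_add, Ψ_lof, Ψ_lof]
    have h := Groth.Agent.H58.TensorCone.ι_d M (X := L) x.1.1 x.1.2 n (n + 1) (x.1.1 + 1)
      (x.1.2 + 1) x.2 rfl rfl rfl
    have h' := congrArg (fun f => f.hom t) h
    simp only [ModuleCat.hom_comp, LinearMap.coe_comp, Function.comp_apply, ModuleCat.hom_add,
      LinearMap.add_apply] at h'
    refine h'.trans ?_
    congr 1
    rw [Units.smul_def, ModuleCat.hom_zsmul, LinearMap.smul_apply, ModuleCat.hom_comp,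
      LinearMap.comp_apply]
    unfold d₂
    erw [LinearMap.smul_apply, map_zsmul]
    rfl
  | add p q hp hq => rw [map_add, map_add, hp, hq, map_add, map_add]

end Groth.Agent.H46.Kun
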