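import Mathlib
import Groth.Agent.H46.KunModel

/-!
# The Künneth chase in the direct-sum model (helper46)
-/

set_option autoImplicit false

namespace Groth.Agent.H46.Kun

open CategoryTheory HomologicalComplex
open scoped TensorProduct DirectSum

universe u

variable {A : Type u} [CommRing A] (L M : CochainComplex (ModuleCat.{u} A) ℤ)

/-- cycles ⊗ cycles -/
abbrev ZZ {n : ℤ} (y : AD n) : Type u := (L.cycles y.1.1) ⊗[A] (M.cycles y.1.2)
/-- homology ⊗ homology -/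
abbrev HH {n : ℤ} (y : AD n) : Type u := (L.homology y.1.1) ⊗[A] (M.homology y.1.2)
/-- opcycles ⊗ opcycles -/
abbrev CC {n : ℤ} (y : AD n) : Type u := (L.opcycles y.1.1) ⊗[A] (M.opcycles y.1.2)

noncomputable def jj {n : ℤ} (y : AD n) : ZZ L M y →ₗ[A] T L M y :=
  TensorProduct.map (L.iCycles y.1.1).hom (M.iCycles y.1.2).hom
noncomputable def pp {n : ℤ} (y : AD n) : ZZ L M y →ₗ[A] HH L M y :=
  TensorProduct.map (L.homologyπ y.1.1).hom (M.homologyπ y.1.2).hom
noncomputable def th {n : ℤ} (y : AD n) : T L M y →ₗ[A] CC L M y :=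
  TensorProduct.map (L.pOpcycles y.1.1).hom (M.pOpcycles y.1.2).hom
noncomputable def la {n : ℤ} (y : AD n) : HH L M y →ₗ[A] CC L M y :=
  TensorProduct.map (L.homologyι y.1.1).hom (M.homologyι y.1.2).hom

noncomputable def J (n : ℤ) : (⨁ y : AD n, ZZ L M y) →ₗ[A] W L M n := DirectSum.lmap (jj L M)
noncomputable def PP (n : ℤ) : (⨁ y : AD n, ZZ L M y) →ₗ[A] ⨁ y : AD n, HH L M y :=
  DirectSum.lmap (pp L M)
noncomputable def Θ (n : ℤ) : W L M n →ₗ[A] ⨁ y : AD n, CC L M y := DirectSum.lmap (th L M)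
noncomputable def Λ (n : ℤ) : (⨁ y : AD n, HH L M y) →ₗ[A] ⨁ y : AD n, CC L M y :=
  DirectSum.lmap (la L M)

lemma D_D (n : ℤ) (u : W L M n) : D L M (n + 1) (D L M n u) = 0 := by
  apply Ψ_injective L M (n + 1 + 1)
  rw [← Ψ_D, ← Ψ_D, map_zero]
  exact d_d_apply (HomologicalComplex.tensorObj L M) n (n + 1) (n + 1 + 1) _

section small

variable {L}

lemma rTensor_dB_d (i : ℤ) (N : Type u) [AddCommGroup N] [Module A N] (a : (L.X i) ⊗[A] N) :
    LinearMap.rTensor N (dB L (i + 1) (i + 1 + 1)) (LinearMap.rTensor N (L.d i (i + 1)).hom a) = 0 := by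
  rw [← LinearMap.comp_apply, ← LinearMap.rTensor_comp]
  have : dB L (i + 1) (i + 1 + 1) ∘ₗ (L.d i (i + 1)).hom = 0 := by
    ext a
    exact d_d_apply L _ _ _ a
  rw [this, LinearMap.rTensor_zero, LinearMap.zero_apply]

lemma rTensor_subtype_dB (i i' : ℤ) (N : Type u) [AddCommGroup N] [Module A N] (a : (L.X i) ⊗[A] N) :
    LinearMap.rTensor N (Bd L i i').subtype (LinearMap.rTensor N (dB L i i') a) =
      LinearMap.rTensor N (L.d i i').hom a := by
  rw [← LinearMap.comp_apply, ← LinearMap.rTensor_comp, subtype_comp_dB]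

end small

/-- Surjectivity part of the chase: every cycle is, up to a boundary, a sum of products of
cycles. -/
theorem surj (hC : ∀ i, Module.Flat A (L.opcycles i))
    (hB : ∀ i i' : ℤ, i + 1 = i' → Module.Flat A (Bd L i i'))
    (hZ : ∀ i, Module.Flat A (L.cycles i)) (n : ℤ) (w : W L M (n + 1))
    (hw : D L M (n + 1) w = 0) :
    ∃ (t : ⨁ y : AD (n + 1), ZZ L M y) (u : W L M n), w = J L M (n + 1) t + D L M n u := by
  -- Step 1
  have step1 : ∀ x : AD n, ∃ u : T L M x,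
      LinearMap.rTensor (M.X (x.1.2 + 1)) (dB L x.1.1 (x.1.1 + 1)) (w (s₂ x)) =
        ((x.1.1.negOnePow : ℤˣ) : ℤ) • LinearMap.rTensor (M.X (x.1.2 + 1)) (dB L x.1.1 (x.1.1 + 1))
          (LinearMap.lTensor (L.X x.1.1) (M.d x.1.2 (x.1.2 + 1)).hom u) := by
    intro x
    haveI := hC (x.1.1 + 1)
    have hcyc := D_apply L M w x
    rw [hw, DirectSum.zero_apply] at hcyc
    have h1 : LinearMap.rTensor (M.X (x.1.2 + 1)) (Bd L x.1.1 (x.1.1 + 1)).subtype
        (LinearMap.rTensor (M.X (x.1.2 + 1)) (dB L x.1.1 (x.1.1 + 1)) (w (s₂ x))) =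
        LinearMap.lTensor (L.X (x.1.1 + 1)) (M.d x.1.2 (x.1.2 + 1)).hom
          (-((((x.1.1 + 1).negOnePow : ℤˣ) : ℤ) • w (s₁ x))) := by
      rw [rTensor_subtype_dB, map_neg, map_zsmul]
      exact eq_neg_of_add_eq_zero_left hcyc.symm
    obtain ⟨b', hb'⟩ := exists_lTensor_eq (Bd L x.1.1 (x.1.1 + 1)).subtype
      (L.pOpcycles (x.1.1 + 1)).hom (M.d x.1.2 (x.1.2 + 1)).hom (Submodule.injective_subtype _)
      (exact_E1 L x.1.1 (x.1.1 + 1) rfl) (pOpcycles_surjective L (x.1.1 + 1)) _ _ h1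
    obtain ⟨u, hu⟩ := LinearMap.rTensor_surjective (M.X x.1.2) (dB_surjective L x.1.1 (x.1.1 + 1))
      (((x.1.1.negOnePow : ℤˣ) : ℤ) • b')
    refine ⟨u, ?_⟩
    rw [← LinearMap.comp_apply (LinearMap.rTensor _ _) (LinearMap.lTensor _ _),
      LinearMap.rTensor_comp_lTensor, ← LinearMap.lTensor_comp_rTensor, LinearMap.comp_apply, hu,
      map_zsmul, hb', smul_smul, Int.units_coe_mul_self, one_smul]
  obtain ⟨u, hu⟩ := exists_dsum (U := fun x : AD n => T L M x) s₂ s₂_injective w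
    (fun x a u => LinearMap.rTensor (M.X (x.1.2 + 1)) (dB L x.1.1 (x.1.1 + 1)) a =
        ((x.1.1.negOnePow : ℤˣ) : ℤ) • LinearMap.rTensor (M.X (x.1.2 + 1)) (dB L x.1.1 (x.1.1 + 1))
          (LinearMap.lTensor (L.X x.1.1) (M.d x.1.2 (x.1.2 + 1)).hom u))
    (by intro x; simp) step1
  -- Step 2
  set w₁ : W L M (n + 1) := w - D L M n u with hw₁def
  have hA : ∀ y' : AD (n + 1), LinearMap.rTensor (M.X y'.1.2) (dB L y'.1.1 (y'.1.1 + 1))
      (shiftMap s₁ (d₁ L M) u y') = 0 := by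
    intro y'
    obtain ⟨x', rfl⟩ := s₁_surjective y'
    rw [shiftMap_apply s₁ s₁_injective]
    exact rTensor_dB_d x'.1.1 (M.X x'.1.2) (u x')
  have hk1 : ∀ y : AD (n + 1),
      LinearMap.rTensor (M.X y.1.2) (dB L y.1.1 (y.1.1 + 1)) (w₁ y) = 0 := by
    intro y
    obtain ⟨x, rfl⟩ := s₂_surjective y
    have e1 : w₁ (s₂ x) = w (s₂ x) - shiftMap s₁ (d₁ L M) u (s₂ x) - d₂ L M x (u x) := by
      rw [hw₁def, DirectSum.sub_apply]
      unfold D
      rw [LinearMap.add_apply, DirectSum.add_apply, shiftMap_apply s₂ s₂_injective]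
      abel
    rw [e1, map_sub, map_sub, hA, sub_zero]
    have h2 := hu x
    have h3 : LinearMap.rTensor (M.X (x.1.2 + 1)) (dB L x.1.1 (x.1.1 + 1)) (d₂ L M x (u x)) =
        ((x.1.1.negOnePow : ℤˣ) : ℤ) • LinearMap.rTensor (M.X (x.1.2 + 1)) (dB L x.1.1 (x.1.1 + 1))
          (LinearMap.lTensor (L.X x.1.1) (M.d x.1.2 (x.1.2 + 1)).hom (u x)) := by
      unfold d₂
      rw [LinearMap.smul_apply, map_zsmul]
    exact sub_eq_zero.mpr (h2.trans h3.symm)
  -- Step 3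
  have hDw₁ : D L M (n + 1) w₁ = 0 := by rw [hw₁def, map_sub, hw, D_D, sub_zero]
  have hk2 : ∀ y : AD (n + 1),
      LinearMap.lTensor (L.X y.1.1) (M.d y.1.2 (y.1.2 + 1)).hom (w₁ y) = 0 := by
    intro y
    obtain ⟨x, rfl⟩ := s₁_surjective y
    have hcyc := D_apply L M w₁ x
    rw [hDw₁, DirectSum.zero_apply] at hcyc
    have h0 : LinearMap.rTensor (M.X (x.1.2 + 1)) (L.d x.1.1 (x.1.1 + 1)).hom (w₁ (s₂ x)) = 0 := by
      rw [← rTensor_subtype_dB]
      have := hk1 (s₂ x)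
      exact (congrArg _ this).trans (map_zero _)
    rw [h0, zero_add] at hcyc
    have h5 := congrArg (fun v => ((((x.1.1 + 1).negOnePow : ℤˣ) : ℤ)) • v) hcyc
    simp only [smul_zero, smul_smul, Int.units_coe_mul_self, one_smul] at h5
    exact h5.symm
  have hk3 : ∀ y : AD (n + 1), ∃ t : ZZ L M y, w₁ y = jj L M y t := by
    intro y
    haveI := hB y.1.1 (y.1.1 + 1) rfl
    haveI := hZ y.1.1
    obtain ⟨v, hv⟩ := (rTensor_exact (M.X y.1.2) (exact_E2 L y.1.1 (y.1.1 + 1) rfl)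
      (dB_surjective L y.1.1 (y.1.1 + 1)) (w₁ y)).mp (hk1 y)
    have h1 : LinearMap.rTensor (M.X (y.1.2 + 1)) (L.iCycles y.1.1).hom
        (LinearMap.lTensor (L.cycles y.1.1) (M.d y.1.2 (y.1.2 + 1)).hom v) = 0 := by
      rw [← LinearMap.comp_apply, LinearMap.rTensor_comp_lTensor, ← LinearMap.lTensor_comp_rTensor,
        LinearMap.comp_apply, hv]
      exact hk2 y
    have h2 : LinearMap.lTensor (L.cycles y.1.1) (M.d y.1.2 (y.1.2 + 1)).hom v = 0 :=
      rTensor_injective_of_flat_coker (L.iCycles y.1.1).hom (dB L y.1.1 (y.1.1 + 1))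
        (iCycles_injective L _) (exact_E2 L y.1.1 (y.1.1 + 1) rfl)
        (dB_surjective L y.1.1 (y.1.1 + 1)) (by rw [h1, map_zero])
    obtain ⟨t, ht⟩ := (Module.Flat.lTensor_exact (L.cycles y.1.1)
      (exact_iCycles_d M y.1.2 (y.1.2 + 1) rfl) v).mp h2
    refine ⟨t, ?_⟩
    rw [← hv, ← ht, ← LinearMap.comp_apply, LinearMap.rTensor_comp_lTensor]
    rfl
  obtain ⟨t, ht⟩ := exists_dsum (U := fun y : AD (n + 1) => ZZ L M y) id Function.injective_id w₁
    (fun y a t => a = jj L M y t) (by intro y; simp) hk3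
  refine ⟨t, u, ?_⟩
  have : w₁ = J L M (n + 1) t := by
    apply DFinsupp.ext
    intro y
    exact ht y
  rw [← this, hw₁def]
  abel

end Groth.Agent.H46.Kun
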