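import Mathlib
import Groth.Agent.H46.KunMain

/-!
# The Künneth chase, part 2: injectivity and well-definedness (helper46)
-/

set_option autoImplicit false

namespace Groth.Agent.H46.Kun

open CategoryTheory HomologicalComplex
open scoped TensorProduct DirectSum

universe u

variable {A : Type u} [CommRing A] (L M : CochainComplex (ModuleCat.{u} A) ℤ)

lemma Θ_D (n : ℤ) (u : W L M n) : Θ L M (n + 1) (D L M n u) = 0 := by
  induction u using DirectSum.induction_on with
  | zero => simp
  | of x a =>
    change Θ L M (n + 1) (D L M n (DirectSum.lof A (AD n) (T L M) x a)) = 0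
    rw [D_lof, map_add]
    unfold Θ
    rw [DirectSum.lmap_lof, DirectSum.lmap_lof]
    have h1 : ∀ a : T L M x, th L M (s₁ x) (d₁ L M x a) = 0 := by
      intro a
      induction a using TensorProduct.induction_on with
      | zero => simp
      | tmul l m =>
        unfold th d₁
        rw [LinearMap.rTensor_tmul, TensorProduct.map_tmul]
        have : (L.pOpcycles (x.1.1 + 1)).hom ((L.d x.1.1 (x.1.1 + 1)).hom l) = 0 :=
          pOpcycles_d L _ _ l
        erw [this, TensorProduct.zero_tmul]
      | add p q hp hq => rw [map_add, map_add, hp, hq, add_zero]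
    have h2 : ∀ a : T L M x, th L M (s₂ x) (d₂ L M x a) = 0 := by
      intro a
      induction a using TensorProduct.induction_on with
      | zero => simp
      | tmul l m =>
        unfold th d₂
        rw [LinearMap.smul_apply, map_zsmul, LinearMap.lTensor_tmul, TensorProduct.map_tmul]
        have : (M.pOpcycles (x.1.2 + 1)).hom ((M.d x.1.2 (x.1.2 + 1)).hom m) = 0 :=
          pOpcycles_d M _ _ m
        erw [this, TensorProduct.tmul_zero, smul_zero]
      | add p q hp hq => rw [map_add, map_add, hp, hq, add_zero]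
    rw [h1, h2, map_zero, map_zero, add_zero]
  | add p q hp hq => rw [map_add, map_add, hp, hq, add_zero]

lemma Θ_J (n : ℤ) (t : ⨁ y : AD n, ZZ L M y) : Θ L M n (J L M n t) = Λ L M n (PP L M n t) := by
  apply DFinsupp.ext
  intro y
  change th L M y (jj L M y (t y)) = la L M y (pp L M y (t y))
  generalize t y = τ
  induction τ using TensorProduct.induction_on with
  | zero => simp
  | tmul z z' =>
    unfold th jj la pp
    rw [TensorProduct.map_tmul, TensorProduct.map_tmul, TensorProduct.map_tmul,
      TensorProduct.map_tmul, homologyι_homologyπ, homologyι_homologyπ]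
  | add p q hp hq => simp only [map_add, hp, hq]

lemma Λ_injective (hC : ∀ i, Module.Flat A (L.opcycles i))
    (hB : ∀ i i' : ℤ, i + 1 = i' → Module.Flat A (Bd L i i')) (n : ℤ) :
    Function.Injective (Λ L M n) := by
  unfold Λ
  rw [DirectSum.lmap_injective]
  intro y
  have := hC y.1.1
  have := hB y.1.1 (y.1.1 + 1) rfl
  have e : la L M y = LinearMap.lTensor (L.opcycles y.1.1) (M.homologyι y.1.2).hom ∘ₗ
      LinearMap.rTensor (M.homology y.1.2) (L.homologyι y.1.1).hom := by
    rw [LinearMap.lTensor_comp_rTensor]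
    rfl
  rw [e, LinearMap.coe_comp]
  apply Function.Injective.comp
  · exact Module.Flat.lTensor_preserves_injective_linearMap _ (homologyι_injective M _)
  · exact rTensor_injective_of_flat_coker (L.homologyι y.1.1).hom (opB L y.1.1 (y.1.1 + 1))
      (homologyι_injective L _) (exact_E3 L y.1.1 (y.1.1 + 1) rfl)
      (opB_surjective L y.1.1 (y.1.1 + 1))

/-- Injectivity part of the chase. -/
theorem inj (hC : ∀ i, Module.Flat A (L.opcycles i))
    (hB : ∀ i i' : ℤ, i + 1 = i' → Module.Flat A (Bd L i i')) (n : ℤ)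
    (t : ⨁ y : AD (n + 1), ZZ L M y) (u : W L M n) (h : J L M (n + 1) t = D L M n u) :
    PP L M (n + 1) t = 0 := by
  apply Λ_injective L M hC hB (n + 1)
  rw [← Θ_J, h, Θ_D, map_zero]

lemma D_J (n : ℤ) (t : ⨁ y : AD n, ZZ L M y) : D L M n (J L M n t) = 0 := by
  induction t using DirectSum.induction_on with
  | zero => simp
  | of y τ =>
    change D L M n (J L M n (DirectSum.lof A (AD n) (ZZ L M) y τ)) = 0
    unfold J
    rw [DirectSum.lmap_lof, D_lof]
    have h1 : ∀ τ : ZZ L M y, d₁ L M y (jj L M y τ) = 0 := by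
      intro τ
      induction τ using TensorProduct.induction_on with
      | zero => simp
      | tmul z z' =>
        unfold jj d₁
        rw [TensorProduct.map_tmul, LinearMap.rTensor_tmul, d_iCycles, TensorProduct.zero_tmul]
      | add p q hp hq => rw [map_add, map_add, hp, hq, add_zero]
    have h2 : ∀ τ : ZZ L M y, d₂ L M y (jj L M y τ) = 0 := by
      intro τ
      induction τ using TensorProduct.induction_on with
      | zero => simp
      | tmul z z' =>
        unfold jj d₂
        rw [TensorProduct.map_tmul, LinearMap.smul_apply, LinearMap.lTensor_tmul, d_iCycles,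
          TensorProduct.tmul_zero, smul_zero]
      | add p q hp hq => rw [map_add, map_add, hp, hq, add_zero]
    rw [h1, h2, map_zero, map_zero, add_zero]
  | add p q hp hq => rw [map_add, map_add, hp, hq, add_zero]

/-- boundaries from the first factor -/
lemma J_lof_toCycles₁ (n : ℤ) (x : AD n) (a : (L.X x.1.1) ⊗[A] (M.cycles x.1.2)) :
    J L M (n + 1) (DirectSum.lof A (AD (n + 1)) (ZZ L M) (s₁ x)
      (LinearMap.rTensor (M.cycles x.1.2) (L.toCycles x.1.1 (x.1.1 + 1)).hom a)) =
    D L M n (DirectSum.lof A (AD n) (T L M) x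
      (LinearMap.lTensor (L.X x.1.1) (M.iCycles x.1.2).hom a)) := by
  unfold J
  rw [DirectSum.lmap_lof, D_lof]
  induction a using TensorProduct.induction_on with
  | zero => simp
  | tmul l z' =>
    unfold jj d₁ d₂
    rw [LinearMap.rTensor_tmul, LinearMap.lTensor_tmul, TensorProduct.map_tmul,
      LinearMap.rTensor_tmul, LinearMap.smul_apply, LinearMap.lTensor_tmul, d_iCycles,
      TensorProduct.tmul_zero, smul_zero, map_zero, add_zero]
    erw [iCycles_toCycles]
  | add p q hp hq => simp only [map_add, hp, hq]; abel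

/-- boundaries from the second factor -/
lemma J_lof_toCycles₂ (n : ℤ) (x : AD n) (a : (L.cycles x.1.1) ⊗[A] (M.X x.1.2)) :
    J L M (n + 1) (DirectSum.lof A (AD (n + 1)) (ZZ L M) (s₂ x)
      (LinearMap.lTensor (L.cycles x.1.1) (M.toCycles x.1.2 (x.1.2 + 1)).hom a)) =
    D L M n (DirectSum.lof A (AD n) (T L M) x
      (((x.1.1.negOnePow : ℤˣ) : ℤ) • LinearMap.rTensor (M.X x.1.2) (L.iCycles x.1.1).hom a)) := by
  unfold J
  rw [DirectSum.lmap_lof, D_lof]
  induction a using TensorProduct.induction_on with
  | zero => simp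
  | tmul z m =>
    unfold jj d₁ d₂
    simp only [LinearMap.rTensor_tmul, LinearMap.lTensor_tmul, TensorProduct.map_tmul, map_zsmul,
      LinearMap.smul_apply, d_iCycles, TensorProduct.zero_tmul, smul_zero, map_zero, zero_add,
      smul_smul, Int.units_coe_mul_self, one_smul]
    erw [iCycles_toCycles]
  | add p q hp hq => simp only [map_add, hp, hq, smul_add]; abel

/-- Well-definedness part of the chase. -/
theorem wd (n : ℤ) (t : ⨁ y : AD (n + 1), ZZ L M y) (h : PP L M (n + 1) t = 0) :
    ∃ u : W L M n, J L M (n + 1) t = D L M n u := by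
  classical
  let R : Submodule A (⨁ y : AD (n + 1), ZZ L M y) :=
    Submodule.comap (J L M (n + 1)) (LinearMap.range (D L M n))
  suffices t ∈ R by
    obtain ⟨u, hu⟩ := this
    exact ⟨u, hu.symm⟩
  have hR1 : ∀ (y : AD (n + 1)) (k : ℤ) (hk : k + 1 = y.1.1) (a : (L.X k) ⊗[A] (M.cycles y.1.2)),
      DirectSum.lof A (AD (n + 1)) (ZZ L M) y
        (LinearMap.rTensor (M.cycles y.1.2) (L.toCycles k y.1.1).hom a) ∈ R := by
    intro y k hk a
    obtain ⟨x, rfl⟩ := s₁_surjective y
    have hk' : k = x.1.1 := by
      have : k + 1 = x.1.1 + 1 := hk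
      omega
    subst hk'
    exact ⟨_, (J_lof_toCycles₁ L M n x a).symm⟩
  have hR2 : ∀ (y : AD (n + 1)) (k : ℤ) (hk : k + 1 = y.1.2) (a : (L.cycles y.1.1) ⊗[A] (M.X k)),
      DirectSum.lof A (AD (n + 1)) (ZZ L M) y
        (LinearMap.lTensor (L.cycles y.1.1) (M.toCycles k y.1.2).hom a) ∈ R := by
    intro y k hk a
    obtain ⟨x, rfl⟩ := s₂_surjective y
    have hk' : k = x.1.2 := by
      have : k + 1 = x.1.2 + 1 := hk
      omega
    subst hk'
    exact ⟨_, (J_lof_toCycles₂ L M n x a).symm⟩
  have hcomp : ∀ y : AD (n + 1), pp L M y (t y) = 0 := by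
    intro y
    have := congrArg (fun v => v y) h
    exact this
  rw [← DirectSum.sum_support_of t]
  refine Submodule.sum_mem _ fun y _ => ?_
  have hker : t y ∈ LinearMap.ker (pp L M y) := hcomp y
  unfold pp at hker
  rw [TensorProduct.map_ker (exact_toCycles_homologyπ L (y.1.1 - 1) y.1.1 (by omega))
    (LinearMap.range_eq_top.mp (LinearMap.range_eq_top.mpr (homologyπ_surjective L y.1.1)))
    (exact_toCycles_homologyπ M (y.1.2 - 1) y.1.2 (by omega))
    (homologyπ_surjective M y.1.2), Submodule.mem_sup] at hker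
  obtain ⟨a', ⟨a, rfl⟩, b', ⟨b, rfl⟩, hab⟩ := hker
  rw [← hab, map_add]
  exact R.add_mem (hR2 y _ (by omega) a) (hR1 y _ (by omega) b)

end Groth.Agent.H46.Kun
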