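import Mathlib
import Groth.Agent.H46.KunFin

/-!
# The Künneth map and its bijectivity, in terms of the model (helper46)
-/

set_option autoImplicit false

namespace Groth.Agent.H46.Kun

open CategoryTheory HomologicalComplex
open scoped TensorProduct DirectSum

universe u

variable {A : Type u} [CommRing A] (L M : CochainComplex (ModuleCat.{u} A) ℤ)

lemma comp_d_zero (n : ℤ) :
    ModuleCat.ofHom (Ψ L M n ∘ₗ J L M n) ≫ (HomologicalComplex.tensorObj L M).d n (n + 1) = 0 := by
  apply ModuleCat.hom_ext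
  apply LinearMap.ext
  intro t
  simp only [ModuleCat.hom_comp, ModuleCat.hom_ofHom, LinearMap.coe_comp, Function.comp_apply,
    ModuleCat.hom_zero, LinearMap.zero_apply]
  rw [Ψ_D, D_J, map_zero]

/-- products of cycles, as cycles of the tensor product -/
noncomputable def kap (n : ℤ) :
    (⨁ y : AD n, ZZ L M y) →ₗ[A] (HomologicalComplex.tensorObj L M).cycles n :=
  ((HomologicalComplex.tensorObj L M).liftCycles (ModuleCat.ofHom (Ψ L M n ∘ₗ J L M n)) (n + 1)
    (by simp) (comp_d_zero L M n)).hom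

lemma iCycles_kap (n : ℤ) (t : ⨁ y : AD n, ZZ L M y) :
    ((HomologicalComplex.tensorObj L M).iCycles n).hom (kap L M n t) = Ψ L M n (J L M n t) := by
  have h := (HomologicalComplex.tensorObj L M).liftCycles_i
    (ModuleCat.ofHom (Ψ L M n ∘ₗ J L M n)) (n + 1) (by simp) (comp_d_zero L M n)
  have h' := congrArg (fun f => f.hom t) h
  simp only [ModuleCat.hom_comp, ModuleCat.hom_ofHom, LinearMap.coe_comp,
    Function.comp_apply] at h'
  exact h'

lemma PP_surjective (n : ℤ) : Function.Surjective (PP L M n) := by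
  unfold PP
  rw [DirectSum.lmap_surjective]
  intro y
  exact TensorProduct.map_surjective (homologyπ_surjective L _) (homologyπ_surjective M _)

/-- The Künneth theorem in terms of the model. -/
theorem kunneth_model (hfl : ∀ i, Module.Flat A (L.X i)) (b : ℤ)
    (hb : ∀ i : ℤ, b < i → Limits.IsZero (L.X i)) (hH : ∀ i, Module.Flat A (L.homology i))
    (n : ℤ) :
    ∃ Φ : (⨁ y : AD n, HH L M y) →ₗ[A] (HomologicalComplex.tensorObj L M).homology n,
      (∀ t, Φ (PP L M n t) =
        ((HomologicalComplex.tensorObj L M).homologyπ n).hom (kap L M n t)) ∧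
      Function.Bijective Φ := by
  have hC := flat_opcycles hfl b hb hH
  have hB := flat_Bd hfl b hb hH
  have hZ := flat_cycles hfl b hb hH
  obtain ⟨m, rfl⟩ : ∃ m, n = m + 1 := ⟨n - 1, by omega⟩
  set K := HomologicalComplex.tensorObj L M with hK
  let gg : (⨁ y : AD (m + 1), ZZ L M y) →ₗ[A] K.homology (m + 1) :=
    (K.homologyπ (m + 1)).hom ∘ₗ kap L M (m + 1)
  -- key: `J t = D u` implies `kap t` is a boundary
  have hbd : ∀ (t : ⨁ y : AD (m + 1), ZZ L M y) (u : W L M m), J L M (m + 1) t = D L M m u →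
      kap L M (m + 1) t = (K.toCycles m (m + 1)).hom (Ψ L M m u) := by
    intro t u h
    apply iCycles_injective K (m + 1)
    rw [iCycles_kap, iCycles_toCycles, h, Ψ_D]
  have hker : LinearMap.ker (PP L M (m + 1)) ≤ LinearMap.ker gg := by
    intro t ht
    obtain ⟨u, hu⟩ := wd L M m t ht
    change (K.homologyπ (m + 1)).hom (kap L M (m + 1) t) = 0
    rw [hbd t u hu, homologyπ_toCycles]
  let Φ : (⨁ y : AD (m + 1), HH L M y) →ₗ[A] K.homology (m + 1) :=
    (LinearMap.ker (PP L M (m + 1))).liftQ gg hker ∘ₗ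
      ((PP L M (m + 1)).quotKerEquivOfSurjective (PP_surjective L M (m + 1))).symm.toLinearMap
  have hΦ : ∀ t, Φ (PP L M (m + 1) t) = (K.homologyπ (m + 1)).hom (kap L M (m + 1) t) := by
    intro t
    change (LinearMap.ker (PP L M (m + 1))).liftQ gg hker
      (((PP L M (m + 1)).quotKerEquivOfSurjective (PP_surjective L M (m + 1))).symm
        (PP L M (m + 1) t)) = _
    rw [LinearMap.quotKerEquivOfSurjective_symm_apply, Submodule.liftQ_apply]
    rfl
  refine ⟨Φ, hΦ, ?_, ?_⟩
  · -- injective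
    rw [injective_iff_map_eq_zero]
    intro ξ hξ
    obtain ⟨t, rfl⟩ := PP_surjective L M (m + 1) ξ
    rw [hΦ] at hξ
    obtain ⟨ν, hν⟩ := exists_of_homologyπ_eq_zero K m (m + 1) rfl _ hξ
    apply inj L M hC hB m t ((Ψinv L M m).hom ν)
    apply Ψ_injective L M (m + 1)
    rw [← Ψ_D, Ψ_Ψinv, ← iCycles_kap, ← hν, iCycles_toCycles]
  · -- surjective
    intro η
    obtain ⟨ω, rfl⟩ := homologyπ_surjective K (m + 1) η
    have hw : D L M (m + 1) ((Ψinv L M (m + 1)).hom ((K.iCycles (m + 1)).hom ω)) = 0 := by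
      apply Ψ_injective L M (m + 1 + 1)
      rw [← Ψ_D, Ψ_Ψinv, map_zero, d_iCycles]
    obtain ⟨t, u, htu⟩ := surj L M hC hB hZ m _ hw
    refine ⟨PP L M (m + 1) t, ?_⟩
    rw [hΦ]
    have : ω = kap L M (m + 1) t + (K.toCycles m (m + 1)).hom (Ψ L M m u) := by
      apply iCycles_injective K (m + 1)
      rw [map_add, iCycles_kap, iCycles_toCycles, Ψ_D, ← map_add, ← htu, Ψ_Ψinv]
    rw [this, map_add, homologyπ_toCycles, add_zero]

end Groth.Agent.H46.Kun
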