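import Mathlib
import Groth.Agent.H46.KunPhi

/-!
# Künneth maps in general: existence, naturality in the first variable, vanishing (helper46)
-/

set_option autoImplicit false

namespace Groth.Agent.H46.Kun

open CategoryTheory HomologicalComplex
open scoped TensorProduct DirectSum

universe u

variable {A : Type u} [CommRing A]

/-- `Φ` is the Künneth map (characterisation through the model). -/
def IsKM (L M : CochainComplex (ModuleCat.{u} A) ℤ) (n : ℤ)
    (Φ : (⨁ y : AD n, HH L M y) →ₗ[A] (HomologicalComplex.tensorObj L M).homology n) : Prop :=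
  ∀ t, Φ (PP L M n t) = ((HomologicalComplex.tensorObj L M).homologyπ n).hom (kap L M n t)

/-- A Künneth map always exists. -/
theorem exists_kunnethMap (L M : CochainComplex (ModuleCat.{u} A) ℤ) (n : ℤ) :
    ∃ Φ : (⨁ y : AD n, HH L M y) →ₗ[A] (HomologicalComplex.tensorObj L M).homology n,
      IsKM L M n Φ := by
  obtain ⟨m, rfl⟩ : ∃ m, n = m + 1 := ⟨n - 1, by omega⟩
  set K := HomologicalComplex.tensorObj L M with hK
  let gg : (⨁ y : AD (m + 1), ZZ L M y) →ₗ[A] K.homology (m + 1) :=
    (K.homologyπ (m + 1)).hom ∘ₗ kap L M (m + 1)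
  have hbd : ∀ (t : ⨁ y : AD (m + 1), ZZ L M y) (u : W L M m), J L M (m + 1) t = D L M m u →
      kap L M (m + 1) t = (K.toCycles m (m + 1)).hom (Ψ L M m u) := by
    intro t u h
    apply iCycles_injective K (m + 1)
    rw [iCycles_kap, iCycles_toCycles, h, Ψ_D]
  have hker : LinearMap.ker (PP L M (m + 1)) ≤ LinearMap.ker gg := by
    intro t ht
    obtain ⟨u, hu⟩ := wd L M m t ht
    change (K.homologyπ (m + 1)).hom (kap L M (m + 1) t) = 0
    rw [hbd t u hu, homologyπ_toCycles]
  let Φ : (⨁ y : AD (m + 1), HH L M y) →ₗ[A] K.homology (m + 1) :=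
    (LinearMap.ker (PP L M (m + 1))).liftQ gg hker ∘ₗ
      ((PP L M (m + 1)).quotKerEquivOfSurjective (PP_surjective L M (m + 1))).symm.toLinearMap
  refine ⟨Φ, ?_⟩
  intro t
  change (LinearMap.ker (PP L M (m + 1))).liftQ gg hker
    (((PP L M (m + 1)).quotKerEquivOfSurjective (PP_surjective L M (m + 1))).symm
      (PP L M (m + 1) t)) = _
  rw [LinearMap.quotKerEquivOfSurjective_symm_apply, Submodule.liftQ_apply]
  rfl

section Nat

variable {L L' : CochainComplex (ModuleCat.{u} A) ℤ} (f : L ⟶ L')
  (M : CochainComplex (ModuleCat.{u} A) ℤ)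

/-- the map induced on the model -/
noncomputable def WMap (n : ℤ) : W L M n →ₗ[A] W L' M n :=
  DirectSum.lmap fun y => LinearMap.rTensor (M.X y.1.2) (f.f y.1.1).hom

/-- the map induced on products of cycles -/
noncomputable def ZZMap (n : ℤ) : (⨁ y : AD n, ZZ L M y) →ₗ[A] ⨁ y : AD n, ZZ L' M y :=
  DirectSum.lmap fun y => LinearMap.rTensor (M.cycles y.1.2) (cyclesMap f y.1.1).hom

/-- the map induced on the Künneth sums -/
noncomputable def KSMap (n : ℤ) : (⨁ y : AD n, HH L M y) →ₗ[A] ⨁ y : AD n, HH L' M y :=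
  DirectSum.lmap fun y => LinearMap.rTensor (M.homology y.1.2) (homologyMap f y.1.1).hom

lemma Ψ_WMap (n : ℤ) (w : W L M n) :
    ((MonoidalCategory.whiskerRight f M).f n).hom (Ψ L M n w) = Ψ L' M n (WMap f M n w) := by
  induction w using DirectSum.induction_on with
  | zero => simp
  | of x t =>
    change ((MonoidalCategory.whiskerRight f M).f n).hom
      (Ψ L M n (DirectSum.lof A (AD n) (T L M) x t)) =
      Ψ L' M n (WMap f M n (DirectSum.lof A (AD n) (T L M) x t))
    unfold WMap
    rw [Ψ_lof, DirectSum.lmap_lof, Ψ_lof]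
    have h := Groth.Agent.H58.TensorCone.ι_whiskerRight M f x.1.1 x.1.2 n x.2
    have h' := congrArg (fun g => g.hom t) h
    simp only [ModuleCat.hom_comp, LinearMap.coe_comp, Function.comp_apply] at h'
    exact h'
  | add p q hp hq => rw [map_add, map_add, hp, hq, map_add, map_add]

lemma iCycles_cyclesMap' (n : ℤ) (z : L.cycles n) :
    (L'.iCycles n).hom ((cyclesMap f n).hom z) = (f.f n).hom ((L.iCycles n).hom z) := by
  have h := congrArg (fun g => g.hom z) (cyclesMap_i f n)
  simp only [ModuleCat.hom_comp, LinearMap.coe_comp, Function.comp_apply] at h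
  exact h

lemma homologyπ_cyclesMap' (n : ℤ) (z : L.cycles n) :
    (homologyMap f n).hom ((L.homologyπ n).hom z) = (L'.homologyπ n).hom ((cyclesMap f n).hom z) := by
  have h := congrArg (fun g => g.hom z) (homologyπ_naturality f n)
  simp only [ModuleCat.hom_comp, LinearMap.coe_comp, Function.comp_apply] at h
  exact h

lemma J_ZZMap (n : ℤ) (t : ⨁ y : AD n, ZZ L M y) :
    J L' M n (ZZMap f M n t) = WMap f M n (J L M n t) := by
  apply DFinsupp.ext
  intro y
  change jj L' M y (LinearMap.rTensor _ (cyclesMap f y.1.1).hom (t y)) =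
    LinearMap.rTensor _ (f.f y.1.1).hom (jj L M y (t y))
  generalize t y = τ
  induction τ using TensorProduct.induction_on with
  | zero => simp
  | tmul z z' =>
    unfold jj
    rw [LinearMap.rTensor_tmul, TensorProduct.map_tmul, TensorProduct.map_tmul,
      LinearMap.rTensor_tmul, iCycles_cyclesMap']
  | add p q hp hq => simp only [map_add, hp, hq]

lemma PP_ZZMap (n : ℤ) (t : ⨁ y : AD n, ZZ L M y) :
    PP L' M n (ZZMap f M n t) = KSMap f M n (PP L M n t) := by
  apply DFinsupp.ext
  intro y
  change pp L' M y (LinearMap.rTensor _ (cyclesMap f y.1.1).hom (t y)) =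
    LinearMap.rTensor _ (homologyMap f y.1.1).hom (pp L M y (t y))
  generalize t y = τ
  induction τ using TensorProduct.induction_on with
  | zero => simp
  | tmul z z' =>
    unfold pp
    rw [LinearMap.rTensor_tmul, TensorProduct.map_tmul, TensorProduct.map_tmul,
      LinearMap.rTensor_tmul, homologyπ_cyclesMap']
  | add p q hp hq => simp only [map_add, hp, hq]

lemma cyclesMap_kap (n : ℤ) (t : ⨁ y : AD n, ZZ L M y) :
    (cyclesMap (MonoidalCategory.whiskerRight f M) n).hom (kap L M n t) =
      kap L' M n (ZZMap f M n t) := by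
  apply iCycles_injective (HomologicalComplex.tensorObj L' M) n
  rw [iCycles_kap, J_ZZMap, ← Ψ_WMap, ← iCycles_kap]
  exact iCycles_cyclesMap' (MonoidalCategory.whiskerRight f M) n _

/-- Naturality of the Künneth map in the first variable. -/
theorem kunnethMap_natural (n : ℤ)
    (Φ : (⨁ y : AD n, HH L M y) →ₗ[A] (HomologicalComplex.tensorObj L M).homology n)
    (Φ' : (⨁ y : AD n, HH L' M y) →ₗ[A] (HomologicalComplex.tensorObj L' M).homology n)
    (hΦ : IsKM L M n Φ) (hΦ' : IsKM L' M n Φ') (ξ : ⨁ y : AD n, HH L M y) :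
    (homologyMap (MonoidalCategory.whiskerRight f M) n).hom (Φ ξ) = Φ' (KSMap f M n ξ) := by
  obtain ⟨t, rfl⟩ := PP_surjective L M n ξ
  rw [hΦ, ← PP_ZZMap, hΦ', ← cyclesMap_kap]
  exact homologyπ_cyclesMap' (MonoidalCategory.whiskerRight f M) n _

end Nat

section Vanish

variable (L M : CochainComplex (ModuleCat.{u} A) ℤ)

lemma subsingleton_tensor_left {X Y : Type u} [AddCommGroup X] [Module A X] [AddCommGroup Y]
    [Module A Y] [Subsingleton X] : Subsingleton (X ⊗[A] Y) := by
  refine ⟨fun a b => ?_⟩
  have h : ∀ t : X ⊗[A] Y, t = 0 := by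
    intro t
    induction t using TensorProduct.induction_on with
    | zero => rfl
    | tmul x y => rw [Subsingleton.elim x 0, TensorProduct.zero_tmul]
    | add p q hp hq => rw [hp, hq, add_zero]
  rw [h a, h b]

lemma subsingleton_tensor_right {X Y : Type u} [AddCommGroup X] [Module A X] [AddCommGroup Y]
    [Module A Y] [Subsingleton Y] : Subsingleton (X ⊗[A] Y) := by
  refine ⟨fun a b => ?_⟩
  have h : ∀ t : X ⊗[A] Y, t = 0 := by
    intro t
    induction t using TensorProduct.induction_on with
    | zero => rfl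
    | tmul x y => rw [Subsingleton.elim y 0, TensorProduct.tmul_zero]
    | add p q hp hq => rw [hp, hq, add_zero]
  rw [h a, h b]

/-- The tensor product complex vanishes above the sum of the bounds. -/
theorem subsingleton_homology_of_lt (bL bM : ℤ)
    (hL : ∀ i : ℤ, bL < i → Limits.IsZero (L.X i)) (hM : ∀ j : ℤ, bM < j → Limits.IsZero (M.X j))
    (n : ℤ) (hn : bL + bM < n) :
    Subsingleton ((HomologicalComplex.tensorObj L M).homology n) := by
  have hW : Subsingleton (W L M n) := by
    refine ⟨fun a b => ?_⟩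
    apply DFinsupp.ext
    intro y
    have hy : Subsingleton (T L M y) := by
      by_cases h1 : bL < y.1.1
      · haveI : Subsingleton (L.X y.1.1) := ModuleCat.subsingleton_of_isZero (hL _ h1)
        exact subsingleton_tensor_left
      · have h2 : bM < y.1.2 := by
          have := y.2
          omega
        haveI : Subsingleton (M.X y.1.2) := ModuleCat.subsingleton_of_isZero (hM _ h2)
        exact subsingleton_tensor_right
    exact Subsingleton.elim _ _
  have hX : Subsingleton ((HomologicalComplex.tensorObj L M).X n) := by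
    refine ⟨fun a b => ?_⟩
    obtain ⟨a', rfl⟩ := Ψ_surjective L M n a
    obtain ⟨b', rfl⟩ := Ψ_surjective L M n b
    rw [Subsingleton.elim a' b']
  have hZ : Subsingleton ((HomologicalComplex.tensorObj L M).cycles n) := by
    refine ⟨fun a b => ?_⟩
    apply iCycles_injective (HomologicalComplex.tensorObj L M) n
    exact Subsingleton.elim _ _
  refine ⟨fun a b => ?_⟩
  obtain ⟨a', rfl⟩ := homologyπ_surjective (HomologicalComplex.tensorObj L M) n a
  obtain ⟨b', rfl⟩ := homologyπ_surjective (HomologicalComplex.tensorObj L M) n b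
  rw [Subsingleton.elim a' b']

end Vanish

end Groth.Agent.H46.Kun
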