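import Mathlib
import Groth.Agent.H46.KunGen

/-!
# A free cover `P ↠ L` of a cochain complex of modules whose cohomology is free, which is
surjective on terms and on cohomology; the kernel complex of a chain map (helper46)
-/

set_option autoImplicit false

namespace Groth.Agent.H46.Kun

open CategoryTheory HomologicalComplex

universe u

variable {A : Type u} [CommRing A] (L : CochainComplex (ModuleCat.{u} A) ℤ)

/-- tops of disks in degree `k` -/
abbrev CI (k : ℤ) : Type u := {x : L.X k // (L.d k (k + 1)).hom x ≠ 0}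
/-- bottoms of disks in degree `k` -/
abbrev CI' (k : ℤ) : Type u := Σ j : ℤ, {x : L.X j // j + 1 = k ∧ (L.d j (j + 1)).hom x ≠ 0}
/-- spheres in degree `k` -/
abbrev CJ (k : ℤ) : Type u := {z : L.cycles k // z ≠ 0}

/-- the degree `k` term of the cover -/
abbrev CX (k : ℤ) : Type u := (CI L k →₀ A) × (CI' L k →₀ A) × (CJ L k →₀ A)

/-- reindexing of disk generators -/
def ιC (k : ℤ) (x : CI L k) : CI' L (k + 1) := ⟨k, x.1, rfl, x.2⟩

lemma ιC_injective (k : ℤ) : Function.Injective (ιC L k) := by
  intro x y h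
  have h' : (⟨k, x.1, rfl, x.2⟩ :
      Σ j : ℤ, {x : L.X j // j + 1 = k + 1 ∧ (L.d j (j + 1)).hom x ≠ 0}) = ⟨k, y.1, rfl, y.2⟩ := h
  have h2 := eq_of_heq (Sigma.mk.inj_iff.mp h').2
  exact Subtype.ext (Subtype.mk.inj h2)

lemma ιC_surjective (k : ℤ) : Function.Surjective (ιC L k) := by
  rintro ⟨j, x, hj, hx⟩
  obtain rfl : j = k := by omega
  exact ⟨⟨x, hx⟩, rfl⟩

/-- the differential of the cover -/
noncomputable def dC (k : ℤ) : CX L k →ₗ[A] CX L (k + 1) :=
  LinearMap.prod 0 (LinearMap.prod
    ((Finsupp.lmapDomain A A (ιC L k)).comp (LinearMap.fst A _ _)) 0)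

lemma dC_apply (k : ℤ) (t : CX L k) :
    dC L k t = (0, Finsupp.mapDomain (ιC L k) t.1, 0) := rfl

lemma dC_dC (k : ℤ) (t : CX L k) : dC L (k + 1) (dC L k t) = 0 := by
  rw [dC_apply, dC_apply]
  simp

/-- the cover complex -/
noncomputable def cov : CochainComplex (ModuleCat.{u} A) ℤ :=
  CochainComplex.of (fun k => ModuleCat.of A (CX L k)) (fun k => ModuleCat.ofHom (dC L k))
    (fun k => by
      apply ModuleCat.hom_ext
      apply LinearMap.ext
      intro t
      exact dC_dC L k t)

lemma cov_d (k : ℤ) : (cov L).d k (k + 1) = ModuleCat.ofHom (dC L k) := by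
  unfold cov
  exact CochainComplex.of_d (fun k => ModuleCat.of A (CX L k))
    (fun k => ModuleCat.ofHom (dC L k)) k

lemma cov_d_apply (k : ℤ) (t : CX L k) :
    ((cov L).d k (k + 1)).hom t = (0, Finsupp.mapDomain (ιC L k) t.1, 0) := by
  rw [cov_d]
  rfl

/-- components of the augmentation -/
noncomputable def εC (k : ℤ) : CX L k →ₗ[A] L.X k :=
  LinearMap.coprod (Finsupp.linearCombination A (fun x : CI L k => x.1))
    (LinearMap.coprod
      (Finsupp.linearCombination A (fun y : CI' L k => (L.d y.1 k).hom y.2.1))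
      (Finsupp.linearCombination A (fun z : CJ L k => (L.iCycles k).hom z.1)))

lemma εC_apply (k : ℤ) (t : CX L k) :
    εC L k t = Finsupp.linearCombination A (fun x : CI L k => x.1) t.1 +
      (Finsupp.linearCombination A (fun y : CI' L k => (L.d y.1 k).hom y.2.1) t.2.1 +
       Finsupp.linearCombination A (fun z : CJ L k => (L.iCycles k).hom z.1) t.2.2) := rfl

lemma εC_comm (k : ℤ) (t : CX L k) :
    (L.d k (k + 1)).hom (εC L k t) = εC L (k + 1) (dC L k t) := by
  rw [dC_apply, εC_apply, εC_apply, map_add, map_add, Finsupp.apply_linearCombination,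
    Finsupp.apply_linearCombination, Finsupp.apply_linearCombination]
  have h2 : ((L.d k (k + 1)).hom ∘ fun y : CI' L k => (L.d y.1 k).hom y.2.1) = 0 := by
    funext y
    exact d_d_apply L _ _ _ _
  have h3 : ((L.d k (k + 1)).hom ∘ fun z : CJ L k => (L.iCycles k).hom z.1) = 0 := by
    funext z
    exact d_iCycles L _ _ _
  rw [h2, h3]
  simp only [Finsupp.linearCombination_zero, LinearMap.zero_apply, add_zero, map_zero, zero_add]
  rw [Finsupp.linearCombination_mapDomain]
  rfl

/-- the augmentation -/
noncomputable def covε : cov L ⟶ L where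
  f k := ModuleCat.ofHom (εC L k)
  comm' i j hij := by
    have hij' : i + 1 = j := hij
    subst hij'
    rw [cov_d]
    apply ModuleCat.hom_ext
    apply LinearMap.ext
    intro t
    exact εC_comm L i t

lemma covε_f_apply (k : ℤ) (t : CX L k) : ((covε L).f k).hom t = εC L k t := rfl

lemma εC_surjective (k : ℤ) : Function.Surjective (εC L k) := by
  intro x
  by_cases h : (L.d k (k + 1)).hom x = 0
  · obtain ⟨z, rfl⟩ := exists_of_d_eq_zero L k (k + 1) rfl x h
    by_cases hz : z = 0
    · exact ⟨0, by rw [hz]; simp⟩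
    · refine ⟨(0, 0, Finsupp.single (⟨z, hz⟩ : CJ L k) 1), ?_⟩
      rw [εC_apply]
      simp only [map_zero, zero_add]
      rw [Finsupp.linearCombination_single, one_smul]
  · refine ⟨(Finsupp.single (⟨x, h⟩ : CI L k) 1, 0, 0), ?_⟩
    rw [εC_apply]
    simp only [map_zero, add_zero]
    rw [Finsupp.linearCombination_single, one_smul]

lemma covε_surjective (k : ℤ) : Function.Surjective ((covε L).f k).hom := εC_surjective L k

instance cov_free (k : ℤ) : Module.Free A ((cov L).X k) := by
  change Module.Free A (CX L k)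
  infer_instance

lemma cov_vanishes (b : ℤ) (hb : ∀ i : ℤ, b < i → Limits.IsZero (L.X i)) :
    ∀ i : ℤ, b < i → Limits.IsZero ((cov L).X i) := by
  intro k hk
  have hz : ∀ x : L.X k, x = 0 := by
    intro x
    haveI := ModuleCat.subsingleton_of_isZero (hb k hk)
    exact Subsingleton.elim _ _
  haveI h1 : IsEmpty (CI L k) := by
    refine ⟨fun x => x.2 ?_⟩
    rw [hz x.1, map_zero]
  haveI h2 : IsEmpty (CI' L k) := by
    refine ⟨fun y => ?_⟩
    obtain ⟨j, x, hj, hx⟩ := y
    subst hj
    exact hx (hz _)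
  haveI h3 : IsEmpty (CJ L k) := by
    refine ⟨fun z => z.2 ?_⟩
    apply iCycles_injective L k
    rw [map_zero]
    exact hz _
  haveI : Subsingleton (CX L k) := inferInstance
  exact ModuleCat.isZero_of_subsingleton (ModuleCat.of A (CX L k))

/-- the differential of the cover into degree `k` has zero first and third components -/
lemma cov_d_fst (k' k : ℤ) (h : k' + 1 = k) (y : (cov L).X k') :
    (show CX L k from ((cov L).d k' k).hom y).1 = 0 ∧
    (show CX L k from ((cov L).d k' k).hom y).2.2 = 0 := by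
  subst h
  have := cov_d_apply L k' y
  constructor
  · exact congrArg (fun t : CX L (k' + 1) => t.1) this
  · exact congrArg (fun t : CX L (k' + 1) => t.2.2) this

/-- bottoms of disks are boundaries -/
lemma cov_bottom_boundary (k' k : ℤ) (h : k' + 1 = k) (f' : CI' L k →₀ A) :
    ∃ y : (cov L).X k', ((cov L).d k' k).hom y = ((0, f', 0) : CX L k) := by
  subst h
  obtain ⟨f, rfl⟩ := Finsupp.mapDomain_surjective (M := A) (ιC_surjective L k') f'
  exact ⟨((f, 0, 0) : CX L k'), cov_d_apply L k' _⟩

/-- cycles have zero first component -/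
lemma cov_cycle_fst (k : ℤ) (z : (cov L).cycles k) :
    (show CX L k from ((cov L).iCycles k).hom z).1 = 0 := by
  have h := (cov_d_apply L k (show CX L k from ((cov L).iCycles k).hom z)).symm.trans
    (d_iCycles (cov L) k (k + 1) z)
  have h2 : Finsupp.mapDomain (ιC L k) (show CX L k from ((cov L).iCycles k).hom z).1 = 0 :=
    congrArg (fun t : CX L (k + 1) => t.2.1) h
  exact Finsupp.mapDomain_injective (ιC_injective L k) (h2.trans Finsupp.mapDomain_zero.symm)

lemma CX_decomp (k : ℤ) (w : CX L k) (h : w.1 = 0) : w = (0, w.2.1, 0) + (0, 0, w.2.2) := by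
  obtain ⟨a, b, c⟩ := w
  change a = 0 at h
  subst h
  simp

/-- inclusion of the sphere part -/
noncomputable def inj3 (k : ℤ) : (CJ L k →₀ A) →ₗ[A] CX L k :=
  (LinearMap.inr A _ _).comp (LinearMap.inr A _ _)

lemma inj3_apply (k : ℤ) (g : CJ L k →₀ A) : inj3 L k g = (0, 0, g) := rfl

/-- the sphere part as cycles -/
noncomputable def cycOf (k : ℤ) : (CJ L k →₀ A) →ₗ[A] (cov L).cycles k :=
  ((cov L).liftCycles (ModuleCat.ofHom (inj3 L k) : ModuleCat.of A (CJ L k →₀ A) ⟶ (cov L).X k)
    (k + 1) (by simp) (by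
      rw [cov_d]
      apply ModuleCat.hom_ext
      apply LinearMap.ext
      intro g
      change dC L k (inj3 L k g) = 0
      rw [inj3_apply, dC_apply]
      simp)).hom

lemma iCycles_cycOf (k : ℤ) (g : CJ L k →₀ A) :
    ((cov L).iCycles k).hom (cycOf L k g) = ((0, 0, g) : CX L k) := by
  have h := congrArg (fun f => f.hom g) ((cov L).liftCycles_i
    (ModuleCat.ofHom (inj3 L k) : ModuleCat.of A (CJ L k →₀ A) ⟶ (cov L).X k)
    (k + 1) (by simp) (by
      rw [cov_d]
      apply ModuleCat.hom_ext
      apply LinearMap.ext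
      intro g
      change dC L k (inj3 L k g) = 0
      rw [inj3_apply, dC_apply]
      simp))
  exact h

/-- the comparison from the free module on spheres to the cohomology of the cover -/
noncomputable def sC (k : ℤ) : (CJ L k →₀ A) →ₗ[A] (cov L).homology k :=
  ((cov L).homologyπ k).hom.comp (cycOf L k)

lemma sC_injective (k : ℤ) : Function.Injective (sC L k) := by
  rw [← LinearMap.ker_eq_bot, LinearMap.ker_eq_bot']
  intro g hg
  obtain ⟨y, hy⟩ := exists_of_homologyπ_eq_zero (cov L) (k - 1) k (by omega) _ hg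
  have h1 := congrArg ((cov L).iCycles k).hom hy
  rw [iCycles_toCycles, iCycles_cycOf] at h1
  have h2 := (cov_d_fst L (k - 1) k (by omega) y).2
  rw [h1] at h2
  exact h2

lemma sC_surjective (k : ℤ) : Function.Surjective (sC L k) := by
  intro η
  obtain ⟨z, rfl⟩ := homologyπ_surjective (cov L) k η
  obtain ⟨y, hy⟩ := cov_bottom_boundary L (k - 1) k (by omega)
    (show CX L k from ((cov L).iCycles k).hom z).2.1
  refine ⟨(show CX L k from ((cov L).iCycles k).hom z).2.2, ?_⟩
  have hz : z = ((cov L).toCycles (k - 1) k).hom y +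
      cycOf L k (show CX L k from ((cov L).iCycles k).hom z).2.2 := by
    apply iCycles_injective (cov L) k
    rw [map_add, iCycles_toCycles, iCycles_cycOf, hy]
    exact CX_decomp L k _ (cov_cycle_fst L k z)
  conv_rhs => rw [hz]
  rw [map_add, homologyπ_toCycles, zero_add]
  rfl

/-- the cohomology of the cover is free -/
instance cov_homology_free (k : ℤ) : Module.Free A ((cov L).homology k) :=
  Module.Free.of_equiv (LinearEquiv.ofBijective (sC L k) ⟨sC_injective L k, sC_surjective L k⟩)

lemma covε_homology_surjective (k : ℤ) :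
    Function.Surjective (homologyMap (covε L) k).hom := by
  intro η
  obtain ⟨z, rfl⟩ := homologyπ_surjective L k η
  by_cases hz : z = 0
  · exact ⟨0, by rw [hz]; simp⟩
  · refine ⟨sC L k (Finsupp.single (⟨z, hz⟩ : CJ L k) 1), ?_⟩
    change (homologyMap (covε L) k).hom (((cov L).homologyπ k).hom _) = _
    rw [homologyπ_cyclesMap']
    congr 1
    apply iCycles_injective L k
    rw [iCycles_cyclesMap', iCycles_cycOf, covε_f_apply, εC_apply]
    simp

end Groth.Agent.H46.Kun
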