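import Mathlib
import Groth.Agent.H46.KunCover

/-!
# The kernel complex of a chain map, the short exact sequence it gives, its tensor product with a
complex, and the long exact sequence in elementwise form (helper46)
-/

set_option autoImplicit false

namespace Groth.Agent.H46.Kun

open CategoryTheory HomologicalComplex
open scoped TensorProduct DirectSum

universe u

variable {A : Type u} [CommRing A]

section Ker

variable {P L : CochainComplex (ModuleCat.{u} A) ℤ} (f : P ⟶ L)

lemma hom_comm_apply (i j : ℤ) (x : P.X i) :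
    (f.f j).hom ((P.d i j).hom x) = (L.d i j).hom ((f.f i).hom x) := by
  have h := congrArg (fun g => g.hom x) (f.comm i j)
  simp only [ModuleCat.hom_comp, LinearMap.coe_comp, Function.comp_apply] at h
  exact h.symm

/-- the kernel complex of a chain map -/
noncomputable def kerCx : CochainComplex (ModuleCat.{u} A) ℤ where
  X k := ModuleCat.of A (LinearMap.ker (f.f k).hom)
  d i j := ModuleCat.ofHom (LinearMap.restrict (P.d i j).hom (fun x hx => by
    rw [LinearMap.mem_ker] at hx ⊢
    rw [hom_comm_apply, hx, map_zero]))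
  shape i j h := by
    apply ModuleCat.hom_ext
    apply LinearMap.ext
    intro x
    apply Subtype.ext
    change (P.d i j).hom x.1 = 0
    rw [P.shape i j h]
    rfl
  d_comp_d' i j k _ _ := by
    apply ModuleCat.hom_ext
    apply LinearMap.ext
    intro x
    apply Subtype.ext
    change (P.d j k).hom ((P.d i j).hom x.1) = 0
    exact d_d_apply P i j k x.1

/-- the inclusion of the kernel complex -/
noncomputable def kerι : kerCx f ⟶ P where
  f k := ModuleCat.ofHom (LinearMap.ker (f.f k).hom).subtype
  comm' i j _ := rfl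

lemma kerι_f_apply (k : ℤ) (x : (kerCx f).X k) :
    ((kerι f).f k).hom x = (show LinearMap.ker (f.f k).hom from x).1 := rfl

lemma kerι_injective (k : ℤ) : Function.Injective ((kerι f).f k).hom :=
  Submodule.injective_subtype _

lemma kerι_exact (k : ℤ) : Function.Exact ((kerι f).f k).hom (f.f k).hom := by
  intro y
  constructor
  · intro hy
    exact ⟨(⟨y, hy⟩ : LinearMap.ker (f.f k).hom), rfl⟩
  · rintro ⟨x, rfl⟩
    exact (show LinearMap.ker (f.f k).hom from x).2

lemma kerι_comp : kerι f ≫ f = 0 := by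
  ext k x
  exact (show LinearMap.ker (f.f k).hom from x).2

lemma kerCx_flat (hf : ∀ k, Function.Surjective (f.f k).hom)
    (hP : ∀ k, Module.Flat A (P.X k)) (hL : ∀ k, Module.Flat A (L.X k)) (k : ℤ) :
    Module.Flat A ((kerCx f).X k) := by
  haveI := hP k
  haveI := hL k
  exact flat_ker ((kerι f).f k).hom (f.f k).hom (kerι_injective f k) (kerι_exact f k) (hf k)

lemma kerCx_vanishes (b : ℤ) (hb : ∀ i : ℤ, b < i → Limits.IsZero (P.X i)) :
    ∀ i : ℤ, b < i → Limits.IsZero ((kerCx f).X i) := by
  intro k hk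
  haveI := ModuleCat.subsingleton_of_isZero (hb k hk)
  haveI : Subsingleton (LinearMap.ker (f.f k).hom) := inferInstance
  exact ModuleCat.isZero_of_subsingleton (ModuleCat.of A (LinearMap.ker (f.f k).hom))

end Ker

section DS

variable {ι : Type} {X Y Z : ι → Type u} [∀ i, AddCommGroup (X i)]
  [∀ i, Module A (X i)] [∀ i, AddCommGroup (Y i)] [∀ i, Module A (Y i)]
  [∀ i, AddCommGroup (Z i)] [∀ i, Module A (Z i)]

lemma lmap_exact (f : ∀ i, X i →ₗ[A] Y i) (g : ∀ i, Y i →ₗ[A] Z i)
    (h : ∀ i, Function.Exact (f i) (g i)) :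
    Function.Exact (DirectSum.lmap f) (DirectSum.lmap g) := by
  rw [LinearMap.exact_iff, DirectSum.ker_lmap, DirectSum.range_lmap]
  have : (fun i => LinearMap.ker (g i)) = fun i => LinearMap.range (f i) :=
    funext fun i => LinearMap.exact_iff.mp (h i)
  rw [this]

end DS

section Tensor

variable {K P L : CochainComplex (ModuleCat.{u} A) ℤ} (ι : K ⟶ P) (ε : P ⟶ L)
  (M : CochainComplex (ModuleCat.{u} A) ℤ)

lemma WMap_zero (n : ℤ) (w : W K M n) : WMap (0 : K ⟶ P) M n w = 0 := by
  apply DFinsupp.ext
  intro y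
  change LinearMap.rTensor (M.X y.1.2) ((0 : K ⟶ P).f y.1.1).hom (w y) = 0
  have : ((0 : K ⟶ P).f y.1.1).hom = 0 := rfl
  rw [this, LinearMap.rTensor_zero]
  rfl

lemma zero_whiskerRight' : MonoidalCategory.whiskerRight (0 : K ⟶ P) M = 0 := by
  ext n x
  obtain ⟨w, rfl⟩ := Ψ_surjective K M n x
  rw [Ψ_WMap, WMap_zero, map_zero]
  rfl

lemma whiskerRight_comp_zero (h : ι ≫ ε = 0) :
    MonoidalCategory.whiskerRight ι M ≫ MonoidalCategory.whiskerRight ε M = 0 := by
  rw [← MonoidalCategory.comp_whiskerRight, h, zero_whiskerRight']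

variable (hinj : ∀ k, Function.Injective (ι.f k).hom)
  (hex : ∀ k, Function.Exact (ι.f k).hom (ε.f k).hom)
  (hsurj : ∀ k, Function.Surjective (ε.f k).hom)
  (hfl : ∀ k, Module.Flat A (L.X k))

include hinj hex hsurj hfl in
lemma WMap_injective (n : ℤ) : Function.Injective (WMap ι M n) := by
  unfold WMap
  rw [DirectSum.lmap_injective]
  intro y
  haveI := hfl y.1.1
  exact rTensor_injective_of_flat_coker (ι.f y.1.1).hom (ε.f y.1.1).hom (hinj _) (hex _) (hsurj _)

include hsurj in
lemma WMap_surjective (n : ℤ) : Function.Surjective (WMap ε M n) := by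
  unfold WMap
  rw [DirectSum.lmap_surjective]
  intro y
  exact LinearMap.rTensor_surjective _ (hsurj _)

include hex hsurj in
lemma WMap_exact (n : ℤ) : Function.Exact (WMap ι M n) (WMap ε M n) := by
  unfold WMap
  apply lmap_exact
  intro y
  exact rTensor_exact _ (hex _) (hsurj _)

include hinj hex hsurj hfl in
theorem tensor_shortExact (w : MonoidalCategory.whiskerRight ι M ≫ MonoidalCategory.whiskerRight ε M = 0) :
    (ShortComplex.mk (MonoidalCategory.whiskerRight ι M) (MonoidalCategory.whiskerRight ε M)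
      w).ShortExact := by
  apply HomologicalComplex.shortExact_of_degreewise_shortExact
  intro n
  apply ModuleCat.shortComplex_shortExact
  · intro y
    change ((MonoidalCategory.whiskerRight ε M).f n).hom y = 0 ↔
      y ∈ Set.range ((MonoidalCategory.whiskerRight ι M).f n).hom
    constructor
    · intro hy
      obtain ⟨v, rfl⟩ := Ψ_surjective P M n y
      rw [Ψ_WMap] at hy
      have hy' : WMap ε M n v = 0 := Ψ_injective L M n (hy.trans (map_zero _).symm)
      obtain ⟨u, rfl⟩ := (WMap_exact ι ε M hex hsurj n v).mp hy'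
      exact ⟨Ψ K M n u, Ψ_WMap ι M n u⟩
    · rintro ⟨x, rfl⟩
      have h := congrArg (fun g => (g.f n).hom x) w
      simp only [HomologicalComplex.comp_f, ModuleCat.hom_comp, LinearMap.coe_comp,
        Function.comp_apply] at h
      exact h
  · intro x x' hxx'
    change ((MonoidalCategory.whiskerRight ι M).f n).hom x =
      ((MonoidalCategory.whiskerRight ι M).f n).hom x' at hxx'
    obtain ⟨u, rfl⟩ := Ψ_surjective K M n x
    obtain ⟨u', rfl⟩ := Ψ_surjective K M n x'
    rw [Ψ_WMap, Ψ_WMap] at hxx'
    rw [WMap_injective ι ε M hinj hex hsurj hfl n (Ψ_injective P M n hxx')]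
  · intro y
    obtain ⟨v, rfl⟩ := Ψ_surjective L M n y
    obtain ⟨u, rfl⟩ := WMap_surjective ε M hsurj n v
    exact ⟨Ψ P M n u, Ψ_WMap ε M n u⟩

end Tensor

section LES

variable {S : ShortComplex (CochainComplex (ModuleCat.{u} A) ℤ)} (hS : S.ShortExact)

/-- exactness at `H^n(X₃)` -/
lemma les_exact₃ (n m : ℤ) (h : n + 1 = m) (y : S.X₃.homology n) :
    (hS.δ n m h).hom y = 0 ↔ ∃ x, (homologyMap S.g n).hom x = y := by
  have hex := hS.homology_exact₃ n m h
  rw [ShortComplex.ShortExact.moduleCat_exact_iff_function_exact] at hex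
  exact hex y

/-- exactness at `H^m(X₁)` -/
lemma les_exact₁ (n m : ℤ) (h : n + 1 = m) (y : S.X₁.homology m) :
    (homologyMap S.f m).hom y = 0 ↔ ∃ x, (hS.δ n m h).hom x = y := by
  have hex := hS.homology_exact₁ n m h
  rw [ShortComplex.ShortExact.moduleCat_exact_iff_function_exact] at hex
  exact hex y

include hS in
/-- exactness at `H^n(X₂)` -/
lemma les_exact₂ (n : ℤ) (y : S.X₂.homology n) :
    (homologyMap S.g n).hom y = 0 ↔ ∃ x, (homologyMap S.f n).hom x = y := by
  have hex := hS.homology_exact₂ n
  rw [ShortComplex.ShortExact.moduleCat_exact_iff_function_exact] at hex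
  exact hex y

include hS in
/-- if `H(g)` is surjective in degrees `n - 1` and `n`, the cohomology sequence in degree `n` is
short exact -/
lemma homology_shortExact (n : ℤ)
    (h1 : Function.Surjective (homologyMap S.g (n - 1)).hom)
    (h2 : Function.Surjective (homologyMap S.g n).hom) :
    Function.Injective (homologyMap S.f n).hom ∧
    Function.Exact (homologyMap S.f n).hom (homologyMap S.g n).hom ∧
    Function.Surjective (homologyMap S.g n).hom := by
  refine ⟨?_, ?_, h2⟩
  · rw [← LinearMap.ker_eq_bot, LinearMap.ker_eq_bot']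
    intro y hy
    obtain ⟨x, rfl⟩ := (les_exact₁ hS (n - 1) n (by omega) y).mp hy
    obtain ⟨x', rfl⟩ := h1 x
    exact (les_exact₃ hS (n - 1) n (by omega) _).mpr ⟨x', rfl⟩
  · intro y
    exact les_exact₂ hS n y

end LES

end Groth.Agent.H46.Kun
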