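import Mathlib

/-!
# Subquotients in "span" form `T ↩ Q ↠ N` (helper46)
-/

set_option autoImplicit false

namespace Groth.Agent.H46.Kun

universe u

variable {R : Type u} [CommRing R]

/-- `N` is a quotient of a submodule of `T`, in span form. -/
def IsSpanSubq (N T : Type u) [AddCommGroup N] [Module R N] [AddCommGroup T] [Module R T] : Prop :=
  ∃ (Q : Type u) (_ : AddCommGroup Q) (_ : Module R Q) (i : Q →ₗ[R] T) (q : Q →ₗ[R] N),
    Function.Injective i ∧ Function.Surjective q

variable {N N' T T' H : Type u} [AddCommGroup N] [Module R N] [AddCommGroup N'] [Module R N']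
  [AddCommGroup T] [Module R T] [AddCommGroup T'] [Module R T'] [AddCommGroup H] [Module R H]

/-- the span form gives the submodule form -/
theorem IsSpanSubq.exists_submodules (h : IsSpanSubq (R := R) N T) :
    ∃ (S S' : Submodule R T), S ≤ S' ∧
      Nonempty (N ≃ₗ[R] (↥S' ⧸ Submodule.comap S'.subtype S)) := by
  obtain ⟨Q, _, _, i, q, hi, hq⟩ := h
  refine ⟨Submodule.map i (LinearMap.ker q), LinearMap.range i, ?_, ⟨?_⟩⟩
  · rintro _ ⟨x, -, rfl⟩
    exact ⟨x, rfl⟩
  · let e : Q ≃ₗ[R] LinearMap.range i := LinearEquiv.ofInjective i hi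
    have he : Submodule.map (e : Q →ₗ[R] LinearMap.range i) (LinearMap.ker q) =
        Submodule.comap (LinearMap.range i).subtype (Submodule.map i (LinearMap.ker q)) := by
      ext ⟨t, ht⟩
      constructor
      · rintro ⟨x, hx, hxt⟩
        refine ⟨x, hx, ?_⟩
        exact congrArg Subtype.val hxt
      · rintro ⟨x, hx, hxt⟩
        refine ⟨x, hx, ?_⟩
        apply Subtype.ext
        exact hxt
    exact (q.quotKerEquivOfSurjective hq).symm.trans
      (Submodule.Quotient.equiv (LinearMap.ker q) _ e he)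

/-- the submodule form gives the span form -/
theorem IsSpanSubq.of_submodules (S S' : Submodule R T)
    (e : N ≃ₗ[R] (↥S' ⧸ Submodule.comap S'.subtype S)) : IsSpanSubq (R := R) N T :=
  ⟨S', inferInstance, inferInstance, S'.subtype,
    (e.symm : _ →ₗ[R] N).comp (Submodule.mkQ _), Submodule.injective_subtype _, by
      intro n
      obtain ⟨y, hy⟩ := Submodule.mkQ_surjective _ (e n)
      refine ⟨y, ?_⟩
      change e.symm (Submodule.mkQ _ y) = n
      rw [hy, LinearEquiv.symm_apply_apply]⟩

/-- a quotient is a subquotient -/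
theorem IsSpanSubq.of_surjective (q : T →ₗ[R] N) (hq : Function.Surjective q) :
    IsSpanSubq (R := R) N T :=
  ⟨T, inferInstance, inferInstance, LinearMap.id, q, Function.injective_id, hq⟩

/-- a submodule of a subquotient is a subquotient -/
theorem IsSpanSubq.of_injective (h : IsSpanSubq (R := R) N' T) (f : N →ₗ[R] N')
    (hf : Function.Injective f) : IsSpanSubq (R := R) N T := by
  obtain ⟨Q', _, _, i', q', hi', hq'⟩ := h
  let Q : Submodule R Q' := Submodule.comap q' (LinearMap.range f)
  let e : N ≃ₗ[R] LinearMap.range f := LinearEquiv.ofInjective f hf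
  let q0 : Q →ₗ[R] LinearMap.range f := LinearMap.codRestrict (LinearMap.range f)
    (q'.comp Q.subtype) (fun x => x.2)
  refine ⟨Q, inferInstance, inferInstance, i'.comp Q.subtype, (e.symm : _ →ₗ[R] N).comp q0,
    hi'.comp (Submodule.injective_subtype _), ?_⟩
  intro n
  obtain ⟨x, hx⟩ := hq' (f n)
  refine ⟨⟨x, ⟨n, hx.symm⟩⟩, ?_⟩
  apply hf
  change f (e.symm (q0 _)) = f n
  have : ∀ y : LinearMap.range f, f (e.symm y) = y.1 := by
    intro y
    have := e.apply_symm_apply y
    exact congrArg Subtype.val this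
  rw [this]
  exact hx

/-- a subquotient of a quotient is a subquotient -/
theorem IsSpanSubq.of_surjective_right (h : IsSpanSubq (R := R) N T') (π : T →ₗ[R] T')
    (hπ : Function.Surjective π) : IsSpanSubq (R := R) N T := by
  obtain ⟨Q', _, _, i', q', hi', hq'⟩ := h
  let Q : Submodule R (T × Q') :=
    LinearMap.eqLocus (π.comp (LinearMap.fst R T Q')) (i'.comp (LinearMap.snd R T Q'))
  refine ⟨Q, inferInstance, inferInstance, (LinearMap.fst R T Q').comp Q.subtype,
    (q'.comp (LinearMap.snd R T Q')).comp Q.subtype, ?_, ?_⟩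
  · rw [← LinearMap.ker_eq_bot, LinearMap.ker_eq_bot']
    rintro ⟨⟨t, x⟩, hx⟩ h0
    change t = 0 at h0
    have hx' : π t = i' x := hx
    subst h0
    rw [map_zero] at hx'
    have : x = 0 := hi' (hx'.symm.trans (map_zero _).symm)
    subst this
    rfl
  · intro n
    obtain ⟨x, rfl⟩ := hq' n
    obtain ⟨t, ht⟩ := hπ (i' x)
    exact ⟨⟨(t, x), ht⟩, rfl⟩

/-- an injective map and a map with larger range into a common module give a subquotient -/
theorem IsSpanSubq.of_range_le (f : N →ₗ[R] H) (g : T →ₗ[R] H) (hf : Function.Injective f)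
    (h : LinearMap.range f ≤ LinearMap.range g) : IsSpanSubq (R := R) N T := by
  let Q : Submodule R T := Submodule.comap g (LinearMap.range f)
  let e : N ≃ₗ[R] LinearMap.range f := LinearEquiv.ofInjective f hf
  let q0 : Q →ₗ[R] LinearMap.range f := LinearMap.codRestrict (LinearMap.range f)
    (g.comp Q.subtype) (fun x => x.2)
  refine ⟨Q, inferInstance, inferInstance, Q.subtype, (e.symm : _ →ₗ[R] N).comp q0,
    Submodule.injective_subtype _, ?_⟩
  intro n
  obtain ⟨t, ht⟩ := h ⟨n, rfl⟩
  refine ⟨⟨t, ⟨n, ht.symm⟩⟩, ?_⟩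
  apply hf
  change f (e.symm (q0 _)) = f n
  have : ∀ y : LinearMap.range f, f (e.symm y) = y.1 := by
    intro y
    have := e.apply_symm_apply y
    exact congrArg Subtype.val this
  rw [this]
  exact ht

/-- a subsingleton is a subquotient of anything -/
theorem IsSpanSubq.of_subsingleton [Subsingleton N] : IsSpanSubq (R := R) N T :=
  ⟨PUnit.{u + 1}, inferInstance, inferInstance, 0, 0,
    fun _ _ _ => Subsingleton.elim _ _, fun n => ⟨0, Subsingleton.elim _ _⟩⟩

section Quot

variable {H' : Type u} [AddCommGroup H'] [Module R H']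

/-- the map induced on successive quotients by a linear map, for pulled-back submodules, is
injective -/
theorem exists_injective_gr (δ : H →ₗ[R] H') (G1 G2 : Submodule R H') :
    ∃ f : (↥(Submodule.comap δ G2) ⧸
        Submodule.comap (Submodule.comap δ G2).subtype (Submodule.comap δ G1)) →ₗ[R]
        (↥G2 ⧸ Submodule.comap G2.subtype G1), Function.Injective f := by
  let δ' : ↥(Submodule.comap δ G2) →ₗ[R] ↥G2 := δ.restrict (fun x hx => hx)
  have hle : Submodule.comap (Submodule.comap δ G2).subtype (Submodule.comap δ G1) ≤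
      Submodule.comap δ' (Submodule.comap G2.subtype G1) := by
    intro x hx
    exact hx
  refine ⟨Submodule.mapQ _ _ δ' hle, ?_⟩
  rw [← LinearMap.ker_eq_bot, LinearMap.ker_eq_bot']
  intro x hx
  obtain ⟨y, rfl⟩ := Submodule.mkQ_surjective _ x
  have hx' : (Submodule.Quotient.mk (δ' y) : ↥G2 ⧸ Submodule.comap G2.subtype G1) = 0 := hx
  rw [Submodule.Quotient.mk_eq_zero] at hx'
  rw [Submodule.mkQ_apply, Submodule.Quotient.mk_eq_zero]
  exact hx'

/-- the first graded piece embeds through `δ` when the bottom step is the kernel of `δ` -/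
theorem exists_injective_gr0 (δ : H →ₗ[R] H') (F0 : Submodule R H) (hF0 : F0 = LinearMap.ker δ)
    (G : Submodule R H') :
    ∃ f : (↥(Submodule.comap δ G) ⧸
        Submodule.comap (Submodule.comap δ G).subtype F0) →ₗ[R] H',
      Function.Injective f ∧ ∀ x, ∃ y : H, δ y ∈ G ∧ f x = δ y := by
  subst hF0
  have hle : Submodule.comap (Submodule.comap δ G).subtype (LinearMap.ker δ) ≤
      LinearMap.ker (δ.comp (Submodule.comap δ G).subtype) := by
    intro x hx
    exact hx
  refine ⟨Submodule.liftQ _ (δ.comp (Submodule.comap δ G).subtype) hle, ?_, ?_⟩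
  · rw [← LinearMap.ker_eq_bot, LinearMap.ker_eq_bot']
    intro x hx
    obtain ⟨y, rfl⟩ := Submodule.mkQ_surjective _ x
    have hx' : δ y.1 = 0 := hx
    rw [Submodule.mkQ_apply, Submodule.Quotient.mk_eq_zero]
    exact hx'
  · intro x
    obtain ⟨y, rfl⟩ := Submodule.mkQ_surjective _ x
    exact ⟨y.1, y.2, rfl⟩

end Quot

end Groth.Agent.H46.Kun
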