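import Mathlib
import Groth.Agent.H82.TorShift

/-!
# Dimension shifting for `Tor` in the first variable along a short exact sequence with projective
middle term (helper46; uses helper82's Tor library)
-/

set_option autoImplicit false

namespace Groth.Agent.H46.Kun

open CategoryTheory MonoidalCategory

universe u

variable {A : Type u} [CommRing A]

lemma whiskerRight_hom {X Y : ModuleCat.{u} A} (f : X ⟶ Y) (N : ModuleCat.{u} A) :
    (f ▷ N).hom = LinearMap.rTensor N f.hom := by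
  apply TensorProduct.ext'
  intro x n
  rfl

theorem tor_shift_surjective (S : ShortComplex (ModuleCat.{u} A)) (hS : S.ShortExact)
    [Projective S.X₂] (N : ModuleCat.{u} A) (q : ℕ) :
    ∃ δ : ((Tor (ModuleCat.{u} A) (q + 1 + 1)).obj S.X₃).obj N ⟶
        ((Tor (ModuleCat.{u} A) (q + 1)).obj S.X₁).obj N, Function.Surjective δ.hom := by
  obtain ⟨-, -, δ, w₁, w₂, -, e2⟩ := Groth.Agent.H82.TorLib.hasLES_tor_flip N S hS (q + 1)
  have hz : Limits.IsZero (((Tor (ModuleCat.{u} A) (q + 1)).obj S.X₂).obj N) :=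
    Groth.Agent.H82.TorShift.isZero_tor_of_projective_left S.X₂ N q
  have : Epi δ := e2.epi_f (hz.eq_of_tgt _ _)
  exact ⟨δ, (ModuleCat.epi_iff_surjective _).1 this⟩

theorem tor_one_range (S : ShortComplex (ModuleCat.{u} A)) (hS : S.ShortExact)
    (N : ModuleCat.{u} A) :
    ∃ δ : ((Tor (ModuleCat.{u} A) 1).obj S.X₃).obj N ⟶ S.X₁ ⊗ N,
      ∀ x : (S.X₁ ⊗ N : ModuleCat.{u} A), (S.f ▷ N).hom x = 0 → ∃ t, δ.hom t = x := by
  obtain ⟨-, -, δ₀, w₁, w₂, -, e2⟩ := Groth.Agent.H82.TorLib.hasLES_tor_flip N S hS 0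
  let φ : ∀ X : ModuleCat.{u} A, ((Tor (ModuleCat.{u} A) 0).obj X).obj N ≅ X ⊗ N :=
    fun X => ((tensorLeft X).leftDerivedZeroIsoSelf).app N
  have hnat : ((Tor (ModuleCat.{u} A) 0).map S.f).app N ≫ (φ S.X₂).hom =
      (φ S.X₁).hom ≫ (S.f ▷ N) := by
    have h1 : (Tor (ModuleCat.{u} A) 0).map S.f ≫ (tensorLeft S.X₂).leftDerivedZeroIsoSelf.hom =
        (tensorLeft S.X₁).leftDerivedZeroIsoSelf.hom ≫ (tensoringLeft (ModuleCat.{u} A)).map S.f :=
      Groth.Agent.H82.LDer.fromLeftDerivedZero_natTrans ((tensoringLeft (ModuleCat.{u} A)).map S.f)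
    exact congrArg (fun α => α.app N) h1
  refine ⟨δ₀ ≫ (φ S.X₁).hom, ?_⟩
  intro x hx
  have hx1 : (φ S.X₁).hom.hom ((φ S.X₁).inv.hom x) = x := by
    have := congrArg (fun g => g.hom x) (φ S.X₁).inv_hom_id
    simpa only [ModuleCat.hom_comp, LinearMap.coe_comp, Function.comp_apply, ModuleCat.hom_id,
      LinearMap.id_coe, id_eq] using this
  have h2 : (φ S.X₂).hom.hom ((((Tor (ModuleCat.{u} A) 0).map S.f).app N).hom
      ((φ S.X₁).inv.hom x)) = 0 := by
    have := congrArg (fun g => g.hom ((φ S.X₁).inv.hom x)) hnat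
    simp only [ModuleCat.hom_comp, LinearMap.coe_comp, Function.comp_apply] at this
    rw [this, hx1, hx]
  have hinj : Function.Injective (φ S.X₂).hom.hom :=
    (ModuleCat.mono_iff_injective _).1 inferInstance
  have h3 : (((Tor (ModuleCat.{u} A) 0).map S.f).app N).hom ((φ S.X₁).inv.hom x) = 0 :=
    hinj (h2.trans (map_zero _).symm)
  rw [ShortComplex.ShortExact.moduleCat_exact_iff_function_exact] at e2
  obtain ⟨t, ht⟩ := (e2 ((φ S.X₁).inv.hom x)).mp h3
  refine ⟨t, ?_⟩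
  change (φ S.X₁).hom.hom (δ₀.hom t) = x
  have ht' : δ₀.hom t = (φ S.X₁).inv.hom x := ht
  rw [ht', hx1]

end Groth.Agent.H46.Kun
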