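import Mathlib
import Groth.Agent.H46.KunSES
import Groth.Agent.H46.KunSubq
import Groth.Agent.H46.KunTor

/-!
# The Künneth filtration on `H^n(L ⊗ M)` for `L` termwise flat, both complexes bounded above
(helper46)

Induction through a free cover `P ↠ L` with free cohomology and kernel `K`:
`H^n(P ⊗ M) → H^n(L ⊗ M) → H^{n+1}(K ⊗ M) → H^{n+1}(P ⊗ M)`.
-/

set_option autoImplicit false

namespace Groth.Agent.H46.Kun

open CategoryTheory HomologicalComplex
open scoped TensorProduct DirectSum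

universe u

variable {A : Type u} [CommRing A]

section Shift

variable {ι κ : Type} [DecidableEq ι] [DecidableEq κ]
  {X : ι → Type u} {Y : κ → Type u} [∀ i, AddCommGroup (X i)] [∀ i, Module A (X i)]
  [∀ k, AddCommGroup (Y k)] [∀ k, Module A (Y k)]

lemma shiftMap_surjective (e : ι → κ) (he : Function.Surjective e) (f : ∀ i, X i →ₗ[A] Y (e i))
    (hf : ∀ i, Function.Surjective (f i)) : Function.Surjective (shiftMap e f) := by
  intro w
  induction w using DirectSum.induction_on with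
  | zero => exact ⟨0, map_zero _⟩
  | of k y =>
    obtain ⟨i, rfl⟩ := he k
    obtain ⟨x, rfl⟩ := hf i y
    exact ⟨DirectSum.lof A ι X i x, shiftMap_lof e f i x⟩
  | add a b ha hb =>
    obtain ⟨a', rfl⟩ := ha
    obtain ⟨b', rfl⟩ := hb
    exact ⟨a' + b', map_add _ _ _⟩

lemma mem_range_shiftMap (e : ι → κ) (he : Function.Surjective e) (f : ∀ i, X i →ₗ[A] Y (e i))
    (ξ : ⨁ k, Y k) (h : ∀ i, ξ (e i) ∈ LinearMap.range (f i)) :
    ξ ∈ LinearMap.range (shiftMap e f) := by
  classical
  rw [← DirectSum.sum_support_of ξ]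
  apply Submodule.sum_mem
  intro k _
  obtain ⟨i, rfl⟩ := he k
  obtain ⟨x, hx⟩ := h i
  exact ⟨DirectSum.lof A ι X i x, by rw [shiftMap_lof, hx]; rfl⟩

end Shift

/-- Tor sums, as in the statement -/
abbrev TorS (L M : CochainComplex (ModuleCat.{u} A) ℤ) (n : ℤ) (p : ℕ) : Type u :=
  DirectSum {ij : ℤ × ℤ // ij.1 + ij.2 - p = n} fun ij =>
    ((Tor (ModuleCat.{u} A) p).obj (ModuleCat.of A (L.homology ij.1.1))).obj
      (ModuleCat.of A (M.homology ij.1.2))

/-- successive quotients -/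
abbrev grS {H : Type u} [AddCommGroup H] [Module A H] (F : ℕ → Submodule A H) (p : ℕ) : Type u :=
  ↥(F (p + 1)) ⧸ Submodule.comap (F (p + 1)).subtype (F p)

/-- the convergence statement in degree `n` -/
def Conv (L M : CochainComplex (ModuleCat.{u} A) ℤ) (n : ℤ) : Prop :=
  ∃ (N : ℕ) (F : ℕ → Submodule A ((HomologicalComplex.tensorObj L M).homology n))
    (Φ : (⨁ y : AD n, HH L M y) →ₗ[A] (HomologicalComplex.tensorObj L M).homology n),
    IsKM L M n Φ ∧ F 0 = LinearMap.range Φ ∧ Monotone F ∧ F N = ⊤ ∧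
      ∀ p : ℕ, IsSpanSubq (R := A) (grS F p) (TorS L M n (p + 1))

theorem conv_base (L M : CochainComplex (ModuleCat.{u} A) ℤ) (bL bM : ℤ)
    (hL : ∀ i : ℤ, bL < i → Limits.IsZero (L.X i)) (hM : ∀ j : ℤ, bM < j → Limits.IsZero (M.X j))
    (n : ℤ) (hn : bL + bM < n) : Conv L M n := by
  haveI := subsingleton_homology_of_lt L M bL bM hL hM n hn
  obtain ⟨Φ, hΦ⟩ := exists_kunnethMap L M n
  refine ⟨0, fun _ => ⊤, Φ, hΦ, ?_, monotone_const, rfl, fun p => ?_⟩
  · exact Subsingleton.elim _ _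
  · exact IsSpanSubq.of_subsingleton

theorem ker_shortExact {P L : CochainComplex (ModuleCat.{u} A) ℤ} (f : P ⟶ L)
    (hf : ∀ k, Function.Surjective (f.f k).hom) :
    (ShortComplex.mk (kerι f) f (kerι_comp f)).ShortExact := by
  apply HomologicalComplex.shortExact_of_degreewise_shortExact
  intro n
  apply ModuleCat.shortComplex_shortExact
  · exact kerι_exact f n
  · exact kerι_injective f n
  · exact hf n

section TorData

variable (L : CochainComplex (ModuleCat.{u} A) ℤ)

theorem tor_data (i : ℤ) (N : ModuleCat.{u} A) :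
    (∃ δ : ((Tor (ModuleCat.{u} A) 1).obj (ModuleCat.of A (L.homology i))).obj N →ₗ[A]
        ((kerCx (covε L)).homology i) ⊗[A] N,
      ∀ x, LinearMap.rTensor N (homologyMap (kerι (covε L)) i).hom x = 0 → ∃ t, δ t = x) ∧
    (∀ q : ℕ, ∃ δ : ((Tor (ModuleCat.{u} A) (q + 1 + 1)).obj (ModuleCat.of A (L.homology i))).obj N
        →ₗ[A] ((Tor (ModuleCat.{u} A) (q + 1)).obj
          (ModuleCat.of A ((kerCx (covε L)).homology i))).obj N, Function.Surjective δ) := by
  have hS0 := ker_shortExact (covε L) (covε_surjective L)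
  obtain ⟨h1, h2, h3⟩ := homology_shortExact hS0 i (covε_homology_surjective L (i - 1))
    (covε_homology_surjective L i)
  let S : ShortComplex (ModuleCat.{u} A) :=
    ShortComplex.mk (homologyMap (kerι (covε L)) i) (homologyMap (covε L) i)
      (by rw [← homologyMap_comp, kerι_comp, homologyMap_zero])
  have hS : S.ShortExact := ModuleCat.shortComplex_shortExact S h2 h1 h3
  haveI hfree : Module.Free A ((cov L).homology i) := cov_homology_free L i
  haveI hproj : Module.Projective A ((cov L).homology i) := Module.Projective.of_free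
  haveI : Projective S.X₂ :=
    (IsProjective.iff_projective (R := A) ((cov L).homology i)).mp hproj
  constructor
  · obtain ⟨δ, hδ⟩ := tor_one_range S hS N
    refine ⟨δ.hom, ?_⟩
    intro x hx
    apply hδ x
    rw [whiskerRight_hom]
    exact hx
  · intro q
    obtain ⟨δ, hδ⟩ := tor_shift_surjective S hS N q
    exact ⟨δ.hom, hδ⟩

end TorData

section Step

variable (L M : CochainComplex (ModuleCat.{u} A) ℤ)

/-- reindexing for the first graded piece -/
def r1 (n : ℤ) (ij : {ij : ℤ × ℤ // ij.1 + ij.2 - ((0 + 1 : ℕ) : ℤ) = n}) : AD (n + 1) :=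
  ⟨ij.1, by have := ij.2; push_cast at this; omega⟩

lemma r1_surjective (n : ℤ) : Function.Surjective (r1 n) := by
  intro y
  exact ⟨⟨y.1, by have := y.2; push_cast; omega⟩, rfl⟩

/-- reindexing for the higher graded pieces -/
def r2 (n : ℤ) (p : ℕ) (ij : {ij : ℤ × ℤ // ij.1 + ij.2 - ((p + 1 + 1 : ℕ) : ℤ) = n}) :
    {ij : ℤ × ℤ // ij.1 + ij.2 - ((p + 1 : ℕ) : ℤ) = n + 1} :=
  ⟨ij.1, by have := ij.2; push_cast at this ⊢; omega⟩

lemma r2_surjective (n : ℤ) (p : ℕ) : Function.Surjective (r2 n p) := by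
  intro y
  exact ⟨⟨y.1, by have := y.2; push_cast at this ⊢; omega⟩, rfl⟩

theorem conv_step (hfl : ∀ i, Module.Flat A (L.X i)) (bL : ℤ)
    (hbL : ∀ i : ℤ, bL < i → Limits.IsZero (L.X i)) (n : ℤ)
    (ih : Conv (kerCx (covε L)) M (n + 1)) : Conv L M n := by
  have hw := whiskerRight_comp_zero (kerι (covε L)) (covε L) M (kerι_comp (covε L))
  have hS := tensor_shortExact (kerι (covε L)) (covε L) M (kerι_injective (covε L))
    (kerι_exact (covε L)) (covε_surjective L) hfl hw
  obtain ⟨ΦP, hΦP, hΦPbij⟩ := kunneth_model (L := cov L) (M := M) (fun i => inferInstance) bL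
    (cov_vanishes L bL hbL) (fun i => inferInstance) n
  obtain ⟨ΦP', hΦP', hΦP'bij⟩ := kunneth_model (L := cov L) (M := M) (fun i => inferInstance) bL
    (cov_vanishes L bL hbL) (fun i => inferInstance) (n + 1)
  obtain ⟨ΦL, hΦL⟩ := exists_kunnethMap L M n
  obtain ⟨N', G, ΦK, hΦK, hG0, hGmono, hGN, hGsub⟩ := ih
  -- the connecting map
  let δ : (HomologicalComplex.tensorObj L M).homology n →ₗ[A]
      (HomologicalComplex.tensorObj (kerCx (covε L)) M).homology (n + 1) :=
    (hS.δ n (n + 1) rfl).hom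
  have hδ3 : ∀ y, δ y = 0 ↔
      ∃ x, (homologyMap (MonoidalCategory.whiskerRight (covε L) M) n).hom x = y :=
    fun y => les_exact₃ hS n (n + 1) rfl y
  have hδb : ∀ y, (homologyMap (MonoidalCategory.whiskerRight (kerι (covε L)) M) (n + 1)).hom
      (δ y) = 0 := fun y => (les_exact₁ hS n (n + 1) rfl (δ y)).mpr ⟨y, rfl⟩
  have hKSsurj : Function.Surjective (KSMap (covε L) M n) := by
    unfold KSMap
    rw [DirectSum.lmap_surjective]
    intro y
    exact LinearMap.rTensor_surjective _ (covε_homology_surjective L _)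
  have hF0 : LinearMap.range ΦL = LinearMap.ker δ := by
    ext y
    rw [LinearMap.mem_ker]
    constructor
    · rintro ⟨ξ, rfl⟩
      obtain ⟨ξ', rfl⟩ := hKSsurj ξ
      rw [← kunnethMap_natural (covε L) M n ΦP ΦL hΦP hΦL ξ']
      exact (hδ3 _).mpr ⟨_, rfl⟩
    · intro hy
      obtain ⟨x, rfl⟩ := (hδ3 y).mp hy
      obtain ⟨ξ', rfl⟩ := hΦPbij.2 x
      exact ⟨KSMap (covε L) M n ξ', (kunnethMap_natural (covε L) M n ΦP ΦL hΦP hΦL ξ').symm⟩
  -- the filtration
  let F : ℕ → Submodule A ((HomologicalComplex.tensorObj L M).homology n) :=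
    fun p => Nat.rec (LinearMap.range ΦL) (fun p _ => Submodule.comap δ (G p)) p
  have hFs : ∀ p, F (p + 1) = Submodule.comap δ (G p) := fun p => rfl
  have hF0' : F 0 = LinearMap.range ΦL := rfl
  refine ⟨N' + 1, F, ΦL, hΦL, hF0', ?_, ?_, ?_⟩
  · apply monotone_nat_of_le_succ
    intro p
    cases p with
    | zero =>
      rw [hF0', hFs, hF0]
      intro y hy
      rw [LinearMap.mem_ker] at hy
      rw [Submodule.mem_comap, hy]
      exact Submodule.zero_mem _
    | succ p =>
      rw [hFs, hFs]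
      exact Submodule.comap_mono (hGmono (Nat.le_succ p))
  · rw [hFs, hGN, Submodule.comap_top]
  · intro p
    cases p with
    | zero =>
      -- the first graded piece
      obtain ⟨f, hf, hfr⟩ := exists_injective_gr0 δ (F 0) (hF0'.trans hF0) (G 0)
      have hd := fun i j => (tor_data L i (M.homology j)).1
      choose δ1 hδ1 using hd
      let σ : TorS L M n (0 + 1) →ₗ[A] ⨁ y : AD (n + 1), HH (kerCx (covε L)) M y :=
        shiftMap (r1 n) (fun ij => δ1 ij.1.1 ij.1.2)
      refine IsSpanSubq.of_range_le (R := A) f (ΦK.comp σ) hf ?_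
      rintro _ ⟨x, rfl⟩
      obtain ⟨y, hyG, hy⟩ := hfr x
      rw [hy]
      rw [hG0] at hyG
      obtain ⟨ξ, hξ⟩ := hyG
      have h1 := hδb y
      rw [← hξ, kunnethMap_natural (kerι (covε L)) M (n + 1) ΦK ΦP' hΦK hΦP' ξ] at h1
      have h2 : KSMap (kerι (covε L)) M (n + 1) ξ = 0 :=
        hΦP'bij.1 (h1.trans (map_zero _).symm)
      have h3 : ξ ∈ LinearMap.range σ := by
        apply mem_range_shiftMap (r1 n) (r1_surjective n)
        intro ij
        have h4 := congrArg (fun w => w (r1 n ij)) h2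
        obtain ⟨t, ht⟩ := hδ1 ij.1.1 ij.1.2 (ξ (r1 n ij)) h4
        exact ⟨t, ht⟩
      obtain ⟨t, rfl⟩ := h3
      exact ⟨t, hξ⟩
    | succ p =>
      obtain ⟨f, hf⟩ := exists_injective_gr δ (G p) (G (p + 1))
      have hd := fun i j => (tor_data L i (M.homology j)).2 p
      choose δ2 hδ2 using hd
      let ρ : TorS L M n (p + 1 + 1) →ₗ[A] TorS (kerCx (covε L)) M (n + 1) (p + 1) :=
        shiftMap (r2 n p) (fun ij => δ2 ij.1.1 ij.1.2)
      have hρ : Function.Surjective ρ :=
        shiftMap_surjective (r2 n p) (r2_surjective n p) _ (fun ij => hδ2 ij.1.1 ij.1.2)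
      exact ((hGsub p).of_injective f hf).of_surjective_right ρ hρ

end Step

theorem conv_all (M : CochainComplex (ModuleCat.{u} A) ℤ) (bM : ℤ)
    (hbM : ∀ j : ℤ, bM < j → Limits.IsZero (M.X j)) :
    ∀ (k : ℕ) (L : CochainComplex (ModuleCat.{u} A) ℤ) (_ : ∀ i, Module.Flat A (L.X i)) (bL : ℤ)
      (_ : ∀ i : ℤ, bL < i → Limits.IsZero (L.X i)) (n : ℤ), bL + bM - n < k → Conv L M n := by
  intro k
  induction k with
  | zero =>
    intro L _ bL hbL n hn
    exact conv_base L M bL bM hbL hbM n (by push_cast at hn; omega)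
  | succ k ih =>
    intro L hfl bL hbL n hn
    apply conv_step L M hfl bL hbL n
    apply ih (kerCx (covε L))
      (kerCx_flat (covε L) (covε_surjective L) (fun i => inferInstance) hfl) bL
      (kerCx_vanishes (covε L) bL (cov_vanishes L bL hbL)) (n + 1)
    push_cast at hn
    omega

theorem conv (L M : CochainComplex (ModuleCat.{u} A) ℤ) (hfl : ∀ i, Module.Flat A (L.X i))
    (bL bM : ℤ) (hbL : ∀ i : ℤ, bL < i → Limits.IsZero (L.X i))
    (hbM : ∀ j : ℤ, bM < j → Limits.IsZero (M.X j)) (n : ℤ) : Conv L M n :=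
  conv_all M bM hbM ((bL + bM - n).toNat + 1) L hfl bL hbL n (by
    have := Int.self_le_toNat (bL + bM - n)
    push_cast
    omega)

end Groth.Agent.H46.Kun
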