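import Mathlib

/-!
# A concrete model of the mapping cone of `a • 𝟙 L` for complexes of modules (helper46)

`cc L a` has terms `L.X (n+1) × L.X n` and differential `(x, y) ↦ (-d x, a • x + d y)`.
-/

set_option autoImplicit false

namespace Groth.Agent.H46.KzCone

open CategoryTheory

universe u

variable {A : Type u} [CommRing A]

section Tr

variable (L : CochainComplex (ModuleCat.{u} A) ℤ)

/-- transport between terms of a complex (zero when the indices differ) -/
noncomputable def tr (i j : ℤ) : L.X i →ₗ[A] L.X j :=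
  if h : i = j then (L.XIsoOfEq h).hom.hom else 0

lemma tr_self (i : ℤ) : tr L i i = LinearMap.id := by
  unfold tr
  rw [dif_pos rfl]
  rfl

lemma tr_ne (i j : ℤ) (h : ¬ i = j) : tr L i j = 0 := dif_neg h

lemma d_apply_eq_zero (i j : ℤ) (h : ¬ i + 1 = j) (x : L.X i) : (L.d i j).hom x = 0 := by
  rw [L.shape i j h]
  rfl

lemma d_d_apply (i j k : ℤ) (x : L.X i) : (L.d j k).hom ((L.d i j).hom x) = 0 := by
  have h := congrArg (fun f => f.hom x) (L.d_comp_d i j k)
  exact h

lemma hom_comm_apply {L L' : CochainComplex (ModuleCat.{u} A) ℤ} (f : L ⟶ L') (i j : ℤ)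
    (x : L.X i) : (f.f j).hom ((L.d i j).hom x) = (L'.d i j).hom ((f.f i).hom x) := by
  have h := congrArg (fun g => g.hom x) (f.comm i j)
  exact h.symm

end Tr

section Cone

variable (L : CochainComplex (ModuleCat.{u} A) ℤ) (a : A)

/-- the differential of the concrete cone -/
noncomputable def ccD (i j : ℤ) : (L.X (i + 1) × L.X i) →ₗ[A] (L.X (j + 1) × L.X j) :=
  LinearMap.prod (-((L.d (i + 1) (j + 1)).hom ∘ₗ LinearMap.fst A _ _))
    (a • (tr L (i + 1) j ∘ₗ LinearMap.fst A _ _) + (L.d i j).hom ∘ₗ LinearMap.snd A _ _)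

lemma ccD_apply (i j : ℤ) (x : L.X (i + 1)) (y : L.X i) :
    ccD L a i j (x, y) =
      (-(L.d (i + 1) (j + 1)).hom x, a • tr L (i + 1) j x + (L.d i j).hom y) := rfl

lemma ccD_succ (i : ℤ) (x : L.X (i + 1)) (y : L.X i) :
    ccD L a i (i + 1) (x, y) =
      (-(L.d (i + 1) (i + 1 + 1)).hom x, a • x + (L.d i (i + 1)).hom y) := by
  rw [ccD_apply, tr_self]
  rfl

/-- the concrete cone of `a • 𝟙 L` -/
noncomputable def cc : CochainComplex (ModuleCat.{u} A) ℤ where
  X n := ModuleCat.of A (L.X (n + 1) × L.X n)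
  d i j := ModuleCat.ofHom (ccD L a i j)
  shape i j h := by
    have h1 : ¬ i + 1 = j := h
    have h2 : ¬ i + 1 + 1 = j + 1 := fun h' => h1 (by omega)
    apply ModuleCat.hom_ext
    apply LinearMap.ext
    rintro ⟨x, y⟩
    change ccD L a i j (x, y) = 0
    rw [ccD_apply, tr_ne L _ _ h1, d_apply_eq_zero L _ _ h1, d_apply_eq_zero L _ _ h2]
    simp
  d_comp_d' i j k hij hjk := by
    obtain rfl : i + 1 = j := hij
    obtain rfl : i + 1 + 1 = k := hjk
    apply ModuleCat.hom_ext
    apply LinearMap.ext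
    rintro ⟨x, y⟩
    change ccD L a (i + 1) (i + 1 + 1) (ccD L a i (i + 1) (x, y)) = 0
    rw [ccD_succ, ccD_succ, map_neg, d_d_apply, map_add, map_smul, d_d_apply]
    simp

lemma cc_d_hom (i j : ℤ) : ((cc L a).d i j).hom = ccD L a i j := rfl

/-- the identification of the terms -/
noncomputable def ccE (n : ℤ) : (cc L a).X n ≃ₗ[A] (L.X (n + 1) × L.X n) := LinearEquiv.refl _ _

end Cone

section Map

variable {L L' L'' : CochainComplex (ModuleCat.{u} A) ℤ} (a : A)

/-- functoriality of the concrete cone -/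
noncomputable def ccMap (f : L ⟶ L') : cc L a ⟶ cc L' a where
  f n := ModuleCat.ofHom (LinearMap.prodMap (f.f (n + 1)).hom (f.f n).hom)
  comm' i j hij := by
    obtain rfl : i + 1 = j := hij
    apply ModuleCat.hom_ext
    apply LinearMap.ext
    rintro ⟨x, y⟩
    change ccD L' a i (i + 1) ((f.f (i + 1)).hom x, (f.f i).hom y) =
      LinearMap.prodMap (f.f (i + 1 + 1)).hom (f.f (i + 1)).hom (ccD L a i (i + 1) (x, y))
    rw [ccD_succ, ccD_succ, LinearMap.prodMap_apply]
    refine Prod.ext ?_ ?_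
    · change -(L'.d (i + 1) (i + 1 + 1)).hom ((f.f (i + 1)).hom x) =
        (f.f (i + 1 + 1)).hom (-(L.d (i + 1) (i + 1 + 1)).hom x)
      rw [map_neg, hom_comm_apply]
    · change a • (f.f (i + 1)).hom x + (L'.d i (i + 1)).hom ((f.f i).hom y) =
        (f.f (i + 1)).hom (a • x + (L.d i (i + 1)).hom y)
      rw [map_add, map_smul, hom_comm_apply]

lemma ccMap_f_hom (f : L ⟶ L') (n : ℤ) :
    ((ccMap a f).f n).hom = LinearMap.prodMap (f.f (n + 1)).hom (f.f n).hom := rfl

lemma ccMap_id : ccMap a (𝟙 L) = 𝟙 (cc L a) := by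
  apply HomologicalComplex.hom_ext
  intro n
  apply ModuleCat.hom_ext
  apply LinearMap.ext
  rintro ⟨x, y⟩
  rfl

lemma ccMap_comp (f : L ⟶ L') (g : L' ⟶ L'') : ccMap a (f ≫ g) = ccMap a f ≫ ccMap a g := by
  apply HomologicalComplex.hom_ext
  intro n
  apply ModuleCat.hom_ext
  apply LinearMap.ext
  rintro ⟨x, y⟩
  rfl

/-- the concrete cone of isomorphic complexes -/
noncomputable def ccIso (e : L ≅ L') : cc L a ≅ cc L' a where
  hom := ccMap a e.hom
  inv := ccMap a e.inv
  hom_inv_id := by rw [← ccMap_comp, e.hom_inv_id, ccMap_id]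
  inv_hom_id := by rw [← ccMap_comp, e.inv_hom_id, ccMap_id]

end Map

section Compare

open CochainComplex CochainComplex.HomComplex

variable (L : CochainComplex (ModuleCat.{u} A) ℤ) (a : A)

/-- the two coordinates on the mapping cone -/
noncomputable def coord (n : ℤ) :
    (mappingCone (a • 𝟙 L)).X n →ₗ[A] (L.X (n + 1) × L.X n) :=
  LinearMap.prod ((mappingCone.fst (a • 𝟙 L)).1.v n (n + 1) rfl).hom
    ((mappingCone.snd (a • 𝟙 L)).v n n (add_zero n)).hom

/-- the inverse of the coordinates -/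
noncomputable def coordInv (n : ℤ) :
    (L.X (n + 1) × L.X n) →ₗ[A] (mappingCone (a • 𝟙 L)).X n :=
  LinearMap.coprod ((mappingCone.inl (a • 𝟙 L)).v (n + 1) n (by omega)).hom
    ((mappingCone.inr (a • 𝟙 L)).f n).hom

lemma coord_coordInv (n : ℤ) (p : L.X (n + 1) × L.X n) : coord L a n (coordInv L a n p) = p := by
  obtain ⟨x, y⟩ := p
  have h1 := congrArg (fun g => g.hom x) (mappingCone.inl_v_fst_v (a • 𝟙 L) (n + 1) n rfl)
  have h2 := congrArg (fun g => g.hom x)
    (mappingCone.inl_v_snd_v (a • 𝟙 L) (n + 1) n (by omega))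
  have h3 := congrArg (fun g => g.hom y) (mappingCone.inr_f_fst_v (a • 𝟙 L) n (n + 1) rfl)
  have h4 := congrArg (fun g => g.hom y) (mappingCone.inr_f_snd_v (a • 𝟙 L) n)
  simp only [ModuleCat.hom_comp, LinearMap.coe_comp, Function.comp_apply, ModuleCat.hom_id,
    LinearMap.id_coe, id_eq, ModuleCat.hom_zero, LinearMap.zero_apply] at h1 h2 h3 h4
  unfold coord coordInv
  rw [LinearMap.coprod_apply]
  refine Prod.ext ?_ ?_
  · change ((mappingCone.fst (a • 𝟙 L)).1.v n (n + 1) rfl).hom _ = x
    rw [map_add, h1, h3, add_zero]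
  · change ((mappingCone.snd (a • 𝟙 L)).v n n (add_zero n)).hom _ = y
    rw [map_add, h2, h4, zero_add]

lemma coordInv_coord (n : ℤ) (z : (mappingCone (a • 𝟙 L)).X n) :
    coordInv L a n (coord L a n z) = z := by
  have h := congrArg (fun g => g.hom z) (mappingCone.id_X (a • 𝟙 L) n (n + 1) rfl)
  simp only [ModuleCat.hom_comp, LinearMap.coe_comp, Function.comp_apply, ModuleCat.hom_id,
    LinearMap.id_coe, id_eq, ModuleCat.hom_add, LinearMap.add_apply] at h
  unfold coord coordInv
  rw [LinearMap.coprod_apply]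
  exact h

/-- the comparison map from Mathlib's mapping cone to the concrete cone -/
noncomputable def toCC : mappingCone (a • 𝟙 L) ⟶ cc L a where
  f n := ModuleCat.ofHom (coord L a n)
  comm' i j hij := by
    obtain rfl : i + 1 = j := hij
    apply ModuleCat.hom_ext
    apply LinearMap.ext
    intro z
    change ccD L a i (i + 1) (coord L a i z) =
      coord L a (i + 1) (((mappingCone (a • 𝟙 L)).d i (i + 1)).hom z)
    have h1 := congrArg (fun g => g.hom z)
      (mappingCone.d_fst_v (a • 𝟙 L) i (i + 1) (i + 1 + 1) rfl rfl)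
    have h2 := congrArg (fun g => g.hom z) (mappingCone.d_snd_v (a • 𝟙 L) i (i + 1) rfl)
    simp only [ModuleCat.hom_comp, LinearMap.coe_comp, Function.comp_apply, ModuleCat.hom_neg,
      LinearMap.neg_apply, ModuleCat.hom_add, LinearMap.add_apply, HomologicalComplex.smul_f_apply,
      HomologicalComplex.id_f, ModuleCat.hom_smul, ModuleCat.hom_id, LinearMap.smul_apply,
      LinearMap.id_coe, id_eq] at h1 h2
    unfold coord
    change ccD L a i (i + 1) (((mappingCone.fst (a • 𝟙 L)).1.v i (i + 1) rfl).hom z,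
      ((mappingCone.snd (a • 𝟙 L)).v i i (add_zero i)).hom z) =
      (((mappingCone.fst (a • 𝟙 L)).1.v (i + 1) (i + 1 + 1) rfl).hom _,
        ((mappingCone.snd (a • 𝟙 L)).v (i + 1) (i + 1) (add_zero (i + 1))).hom _)
    rw [ccD_succ, h1, h2]

instance (n : ℤ) : IsIso ((toCC L a).f n) := by
  apply (ConcreteCategory.isIso_iff_bijective _).mpr
  constructor
  · intro z z' h
    have h' : coord L a n z = coord L a n z' := h
    rw [← coordInv_coord L a n z, ← coordInv_coord L a n z', h']
  · intro p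
    exact ⟨coordInv L a n p, coord_coordInv L a n p⟩

instance : IsIso (toCC L a) := HomologicalComplex.Hom.isIso_of_components _

/-- Mathlib's mapping cone of `a • 𝟙 L` is the concrete cone -/
noncomputable def coneIsoCC : mappingCone (a • 𝟙 L) ≅ cc L a := asIso (toCC L a)

end Compare

end Groth.Agent.H46.KzCone
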