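import Mathlib
import Groth.Agent.H46.KzCone

/-!
# Concrete cones commute; null-homotopic multiplications split the cone (helper46)
-/

set_option autoImplicit false

namespace Groth.Agent.H46.KzCone

open CategoryTheory

universe u

variable {A : Type u} [CommRing A]

section Swap

variable (L : CochainComplex (ModuleCat.{u} A) ℤ) (a b : A)

/-- the swap on terms -/
noncomputable def swapL (n : ℤ) :
    ((L.X (n + 1 + 1) × L.X (n + 1)) × (L.X (n + 1) × L.X n)) →ₗ[A]
      ((L.X (n + 1 + 1) × L.X (n + 1)) × (L.X (n + 1) × L.X n)) :=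
  LinearMap.prod
    (LinearMap.prod (-(LinearMap.fst A _ _ ∘ₗ LinearMap.fst A _ _))
      (LinearMap.fst A _ _ ∘ₗ LinearMap.snd A _ _))
    (LinearMap.prod (LinearMap.snd A _ _ ∘ₗ LinearMap.fst A _ _)
      (LinearMap.snd A _ _ ∘ₗ LinearMap.snd A _ _))

lemma swapL_apply (n : ℤ) (p : L.X (n + 1 + 1)) (q r : L.X (n + 1)) (s : L.X n) :
    swapL L n ((p, q), (r, s)) = ((-p, r), (q, s)) := rfl

lemma swapL_swapL (n : ℤ) (z) : swapL L n (swapL L n z) = z := by
  obtain ⟨⟨p, q⟩, ⟨r, s⟩⟩ := z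
  rw [swapL_apply, swapL_apply, neg_neg]

/-- the swap chain map `cc (cc L b) a ⟶ cc (cc L a) b` -/
noncomputable def swapHom : cc (cc L b) a ⟶ cc (cc L a) b where
  f n := ModuleCat.ofHom (swapL L n)
  comm' i j hij := by
    obtain rfl : i + 1 = j := hij
    apply ModuleCat.hom_ext
    apply LinearMap.ext
    rintro ⟨⟨p, q⟩, ⟨r, s⟩⟩
    have e1 : ccD (cc L a) b i (i + 1) ((-p, r), (q, s)) =
        (-(ccD L a (i + 1) (i + 1 + 1) (-p, r)),
          b • ((-p, r) : L.X (i + 1 + 1) × L.X (i + 1)) + ccD L a i (i + 1) (q, s)) :=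
      ccD_succ (cc L a) b i (-p, r) (q, s)
    have e2 : ccD (cc L b) a i (i + 1) ((p, q), (r, s)) =
        (-(ccD L b (i + 1) (i + 1 + 1) (p, q)),
          a • ((p, q) : L.X (i + 1 + 1) × L.X (i + 1)) + ccD L b i (i + 1) (r, s)) :=
      ccD_succ (cc L b) a i (p, q) (r, s)
    change ccD (cc L a) b i (i + 1) ((-p, r), (q, s)) =
      swapL L (i + 1) (ccD (cc L b) a i (i + 1) ((p, q), (r, s)))
    rw [e1, e2, ccD_succ, ccD_succ, ccD_succ, ccD_succ]
    simp only [Prod.neg_mk, Prod.smul_mk, Prod.mk_add_mk, swapL_apply, map_neg, neg_neg, smul_neg]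
    refine Prod.ext (Prod.ext ?_ ?_) (Prod.ext ?_ ?_)
    · rfl
    · change -(-(a • p) + (L.d (i + 1) (i + 1 + 1)).hom r) =
        a • p + -(L.d (i + 1) (i + 1 + 1)).hom r
      abel
    · change -(b • p) + -(L.d (i + 1) (i + 1 + 1)).hom q =
        -(b • p + (L.d (i + 1) (i + 1 + 1)).hom q)
      abel
    · change b • r + (a • q + (L.d i (i + 1)).hom s) = a • q + (b • r + (L.d i (i + 1)).hom s)
      abel

lemma swapHom_swapHom : swapHom L a b ≫ swapHom L b a = 𝟙 _ := by
  apply HomologicalComplex.hom_ext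
  intro n
  apply ModuleCat.hom_ext
  apply LinearMap.ext
  intro z
  exact swapL_swapL L n z

/-- concrete cones commute -/
noncomputable def swapIso : cc (cc L b) a ≅ cc (cc L a) b where
  hom := swapHom L a b
  inv := swapHom L b a
  hom_inv_id := swapHom_swapHom L a b
  inv_hom_id := swapHom_swapHom L b a

end Swap

section NH

variable (L : CochainComplex (ModuleCat.{u} A) ℤ)

/-- multiplication by `a` is null-homotopic on `L` -/
def NH (a : A) : Prop :=
  ∃ h : ∀ i j : ℤ, L.X i →ₗ[A] L.X j, ∀ (i n k : ℤ), i + 1 = n → n + 1 = k → ∀ x : L.X n,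
    a • x = (L.d i n).hom (h n i x) + h k n ((L.d n k).hom x)

lemma NH.zero : NH L 0 := ⟨fun _ _ => 0, fun i n k _ _ x => by simp⟩

lemma NH.add {a b : A} (ha : NH L a) (hb : NH L b) : NH L (a + b) := by
  obtain ⟨h, hh⟩ := ha
  obtain ⟨h', hh'⟩ := hb
  refine ⟨fun i j => h i j + h' i j, fun i n k hi hk x => ?_⟩
  rw [add_smul, hh i n k hi hk x, hh' i n k hi hk x, LinearMap.add_apply, LinearMap.add_apply,
    map_add]
  abel

lemma NH.smul {a : A} (c : A) (ha : NH L a) : NH L (c * a) := by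
  obtain ⟨h, hh⟩ := ha
  refine ⟨fun i j => c • h i j, fun i n k hi hk x => ?_⟩
  rw [mul_smul, hh i n k hi hk x, LinearMap.smul_apply, LinearMap.smul_apply, map_smul, smul_add]

lemma NH.of_mem_span {S : Set A} (hS : ∀ a ∈ S, NH L a) {y : A} (hy : y ∈ Ideal.span S) :
    NH L y := by
  induction hy using Submodule.span_induction with
  | mem x hx => exact hS x hx
  | zero => exact NH.zero L
  | add x y _ _ hx hy => exact NH.add L hx hy
  | smul c x _ hx => exact NH.smul L c hx

/-- the multiplication by `a` is null-homotopic on its own cone -/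
lemma NH.cone_self (a : A) : NH (cc L a) a := by
  refine ⟨fun i j => LinearMap.prod (tr L i (j + 1) ∘ₗ LinearMap.snd A _ _) 0,
    fun i n k hi hk z => ?_⟩
  obtain rfl := hi
  obtain rfl := hk
  obtain ⟨x, y⟩ := z
  change a • ((x, y) : L.X (i + 1 + 1) × L.X (i + 1)) =
    ccD L a i (i + 1) (tr L (i + 1) (i + 1) y, 0) +
      (tr L (i + 1 + 1) (i + 1 + 1) (ccD L a (i + 1) (i + 1 + 1) (x, y)).2, 0)
  rw [ccD_succ, ccD_succ, tr_self, tr_self]
  refine Prod.ext ?_ ?_
  · change a • x = -(L.d (i + 1) (i + 1 + 1)).hom y + (a • x + (L.d (i + 1) (i + 1 + 1)).hom y)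
    abel
  · change a • y = (a • y + (L.d i (i + 1)).hom 0) + 0
    rw [map_zero, add_zero, add_zero]

/-- a null-homotopy on `L` induces one on the cone -/
lemma NH.cone {b : A} (hb : NH L b) (a : A) : NH (cc L a) b := by
  obtain ⟨h, hh⟩ := hb
  refine ⟨fun i j => LinearMap.prodMap (-(h (i + 1) (j + 1))) (h i j), fun i n k hi hk z => ?_⟩
  obtain rfl := hi
  obtain rfl := hk
  obtain ⟨x, y⟩ := z
  change b • ((x, y) : L.X (i + 1 + 1) × L.X (i + 1)) =
    ccD L a i (i + 1) (-(h (i + 1 + 1) (i + 1) x), h (i + 1) i y) +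
      LinearMap.prodMap (-(h (i + 1 + 1 + 1) (i + 1 + 1))) (h (i + 1 + 1) (i + 1))
        (ccD L a (i + 1) (i + 1 + 1) (x, y))
  rw [ccD_succ, ccD_succ, LinearMap.prodMap_apply]
  have e1 := hh (i + 1) (i + 1 + 1) (i + 1 + 1 + 1) rfl rfl x
  have e2 := hh i (i + 1) (i + 1 + 1) rfl rfl y
  refine Prod.ext ?_ ?_
  · change b • x = -(L.d (i + 1) (i + 1 + 1)).hom (-(h (i + 1 + 1) (i + 1) x)) +
      (-(h (i + 1 + 1 + 1) (i + 1 + 1))) (-(L.d (i + 1 + 1) (i + 1 + 1 + 1)).hom x)
    rw [e1, map_neg, neg_neg, LinearMap.neg_apply, map_neg, neg_neg]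
  · change b • y = (a • (-(h (i + 1 + 1) (i + 1) x)) + (L.d i (i + 1)).hom (h (i + 1) i y)) +
      h (i + 1 + 1) (i + 1) (a • x + (L.d (i + 1) (i + 1 + 1)).hom y)
    rw [e2, map_add, map_smul, smul_neg]
    abel

end NH

section Split

variable (L : CochainComplex (ModuleCat.{u} A) ℤ) (a : A)
  (h : ∀ i j : ℤ, L.X i →ₗ[A] L.X j)

/-- the shear by a homotopy -/
noncomputable def shearL (ε : A) (n : ℤ) : (L.X (n + 1) × L.X n) →ₗ[A] (L.X (n + 1) × L.X n) :=
  LinearMap.prod (LinearMap.fst A _ _)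
    (LinearMap.snd A _ _ + ε • (h (n + 1) n ∘ₗ LinearMap.fst A _ _))

lemma shearL_apply (ε : A) (n : ℤ) (x : L.X (n + 1)) (y : L.X n) :
    shearL L h ε n (x, y) = (x, y + ε • h (n + 1) n x) := rfl

variable (hh : ∀ (i n k : ℤ), i + 1 = n → n + 1 = k → ∀ x : L.X n,
    a • x = (L.d i n).hom (h n i x) + h k n ((L.d n k).hom x))

include hh in
lemma shear_comm (i : ℤ) (z : L.X (i + 1) × L.X i) :
    ccD L 0 i (i + 1) (shearL L h 1 i z) = shearL L h 1 (i + 1) (ccD L a i (i + 1) z) := by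
  obtain ⟨x, y⟩ := z
  rw [shearL_apply, ccD_succ, ccD_succ, shearL_apply]
  have e := hh i (i + 1) (i + 1 + 1) rfl rfl x
  refine Prod.ext rfl ?_
  change (0 : A) • x + (L.d i (i + 1)).hom (y + (1 : A) • h (i + 1) i x) =
    (a • x + (L.d i (i + 1)).hom y) + (1 : A) • h (i + 1 + 1) (i + 1) (-(L.d (i + 1) (i + 1 + 1)).hom x)
  rw [e, zero_smul, zero_add, one_smul, one_smul, map_add, map_neg]
  abel

include hh in
lemma shear_comm' (i : ℤ) (z : L.X (i + 1) × L.X i) :
    ccD L a i (i + 1) (shearL L h (-1) i z) = shearL L h (-1) (i + 1) (ccD L 0 i (i + 1) z) := by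
  obtain ⟨x, y⟩ := z
  rw [shearL_apply, ccD_succ, ccD_succ, shearL_apply]
  have e := hh i (i + 1) (i + 1 + 1) rfl rfl x
  refine Prod.ext rfl ?_
  change a • x + (L.d i (i + 1)).hom (y + (-1 : A) • h (i + 1) i x) =
    ((0 : A) • x + (L.d i (i + 1)).hom y) +
      (-1 : A) • h (i + 1 + 1) (i + 1) (-(L.d (i + 1) (i + 1 + 1)).hom x)
  rw [e, zero_smul, zero_add, neg_one_smul, neg_one_smul, map_add, map_neg, map_neg]
  abel

/-- the splitting isomorphism, given a null-homotopy -/
noncomputable def splitIso : cc L a ≅ cc L 0 where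
  hom :=
    { f := fun n => ModuleCat.ofHom (shearL L h 1 n)
      comm' := fun i j hij => by
        obtain rfl : i + 1 = j := hij
        apply ModuleCat.hom_ext
        apply LinearMap.ext
        intro z
        exact shear_comm L a h hh i z }
  inv :=
    { f := fun n => ModuleCat.ofHom (shearL L h (-1) n)
      comm' := fun i j hij => by
        obtain rfl : i + 1 = j := hij
        apply ModuleCat.hom_ext
        apply LinearMap.ext
        intro z
        exact shear_comm' L a h hh i z }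
  hom_inv_id := by
    apply HomologicalComplex.hom_ext
    intro n
    apply ModuleCat.hom_ext
    apply LinearMap.ext
    rintro ⟨x, y⟩
    change shearL L h (-1) n (shearL L h 1 n (x, y)) = (x, y)
    rw [shearL_apply, shearL_apply]
    refine Prod.ext rfl ?_
    change y + (1 : A) • h (n + 1) n x + (-1 : A) • h (n + 1) n x = y
    rw [one_smul, neg_one_smul]
    abel
  inv_hom_id := by
    apply HomologicalComplex.hom_ext
    intro n
    apply ModuleCat.hom_ext
    apply LinearMap.ext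
    rintro ⟨x, y⟩
    change shearL L h 1 n (shearL L h (-1) n (x, y)) = (x, y)
    rw [shearL_apply, shearL_apply]
    refine Prod.ext rfl ?_
    change y + (-1 : A) • h (n + 1) n x + (1 : A) • h (n + 1) n x = y
    rw [one_smul, neg_one_smul]
    abel

lemma NH.nonempty_splitIso {L : CochainComplex (ModuleCat.{u} A) ℤ} {a : A} (ha : NH L a) :
    Nonempty (cc L a ≅ cc L 0) := by
  obtain ⟨h, hh⟩ := ha
  exact ⟨splitIso L a h hh⟩

end Split

end Groth.Agent.H46.KzCone
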