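import Mathlib
import Groth.Prelude.Def_Koszul
import Groth.Prelude.Def_DRing2
import Groth.Agent.H46.KzSwap

/-!
# Iterated concrete cones, the Koszul complex, and the splitting of `K(x, y)` for `y ∈ (x)` (helper46)
-/

set_option autoImplicit false

namespace Groth.Agent.H46.KzCone

open CategoryTheory

universe u

variable {A : Type u} [CommRing A]

section Lists

variable (B : CochainComplex (ModuleCat.{u} A) ℤ)

/-- iterated concrete cones -/
noncomputable def kzC : List A → CochainComplex (ModuleCat.{u} A) ℤ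
  | [] => B
  | f :: l => cc (kzC l) f

/-- iterated Mathlib mapping cones -/
noncomputable def kzM : List A → CochainComplex (ModuleCat.{u} A) ℤ
  | [] => B
  | f :: l => CochainComplex.mappingCone (f • 𝟙 (kzM l))

lemma kzC_cons (f : A) (l : List A) : kzC B (f :: l) = cc (kzC B l) f := rfl

lemma kzM_cons (f : A) (l : List A) :
    kzM B (f :: l) = CochainComplex.mappingCone (f • 𝟙 (kzM B l)) := rfl

lemma koszul_eq (l : List A) :
    Koszul.koszul A l =
      kzM ((CochainComplex.singleFunctor (ModuleCat.{u} A) 0).obj (ModuleCat.of A A)) l := by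
  induction l with
  | nil => rfl
  | cons f l ih =>
    change CochainComplex.mappingCone (f • 𝟙 (Koszul.koszul A l)) = _
    rw [ih]
    rfl

lemma kzM_iso_kzC (l : List A) : Nonempty (kzM B l ≅ kzC B l) := by
  induction l with
  | nil => exact ⟨Iso.refl _⟩
  | cons f l ih =>
    obtain ⟨e⟩ := ih
    exact ⟨coneIsoCC (kzM B l) f ≪≫ ccIso f e⟩

lemma kzC_append (xs ys : List A) : kzC B (xs ++ ys) = kzC (kzC B ys) xs := by
  induction xs with
  | nil => rfl
  | cons x xs ih =>
    change cc (kzC B (xs ++ ys)) x = cc (kzC (kzC B ys) xs) x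
    rw [ih]

lemma swap1 (y : A) (xs : List A) : Nonempty (kzC (cc B y) xs ≅ cc (kzC B xs) y) := by
  induction xs with
  | nil => exact ⟨Iso.refl _⟩
  | cons x xs ih =>
    obtain ⟨e⟩ := ih
    exact ⟨ccIso x e ≪≫ swapIso (kzC B xs) x y⟩

lemma swapAll (xs ys : List A) : Nonempty (kzC (kzC B ys) xs ≅ kzC (kzC B xs) ys) := by
  induction ys with
  | nil => exact ⟨Iso.refl _⟩
  | cons y ys ih =>
    obtain ⟨e⟩ := ih
    obtain ⟨e1⟩ := swap1 (kzC B ys) y xs
    exact ⟨e1 ≪≫ ccIso y e⟩

lemma NH_kzC {y : A} (hy : NH B y) (l : List A) : NH (kzC B l) y := by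
  induction l with
  | nil => exact hy
  | cons f l ih => exact NH.cone _ ih f

lemma NH_kzC_mem {x : A} {l : List A} (hx : x ∈ l) : NH (kzC B l) x := by
  induction l with
  | nil => simp at hx
  | cons f l ih =>
    rcases List.mem_cons.1 hx with rfl | h
    · exact NH.cone_self _ _
    · exact NH.cone _ (ih h) f

lemma NH_kzC_span {y : A} {l : List A} (hy : y ∈ Ideal.span {a | a ∈ l}) : NH (kzC B l) y :=
  NH.of_mem_span _ (fun _ ha => NH_kzC_mem B ha) hy

end Lists

section Functor

variable (H : ModuleCat.{u} A ⥤ ModuleCat.{u} A) [H.Additive] [H.Linear A]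

lemma map_kzM (B : CochainComplex (ModuleCat.{u} A) ℤ) (l : List A) :
    Nonempty ((H.mapHomologicalComplex (ComplexShape.up ℤ)).obj (kzM B l) ≅
      kzM ((H.mapHomologicalComplex (ComplexShape.up ℤ)).obj B) l) := by
  induction l with
  | nil => exact ⟨Iso.refl _⟩
  | cons f l ih =>
    obtain ⟨e⟩ := ih
    have h1 : (H.mapHomologicalComplex (ComplexShape.up ℤ)).map (f • 𝟙 (kzM B l)) =
        f • 𝟙 ((H.mapHomologicalComplex (ComplexShape.up ℤ)).obj (kzM B l)) := by
      rw [Functor.map_smul, CategoryTheory.Functor.map_id]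
    have e1 : (H.mapHomologicalComplex (ComplexShape.up ℤ)).obj (kzM B (f :: l)) ≅
        CochainComplex.mappingCone
          ((H.mapHomologicalComplex (ComplexShape.up ℤ)).map (f • 𝟙 (kzM B l))) :=
      CochainComplex.mappingCone.mapHomologicalComplexIso (f • 𝟙 (kzM B l)) H
    rw [h1] at e1
    exact ⟨e1 ≪≫ coneIsoCC _ f ≪≫ ccIso f e ≪≫ (coneIsoCC _ f).symm⟩

end Functor

end Groth.Agent.H46.KzCone
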