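import Mathlib
import Groth.Agent.H46.KzList

/-!
# Homology of iterated cones of null-homotopic multiplications (helper46)
-/

set_option autoImplicit false

namespace Groth.Agent.H46.KzCone

open CategoryTheory

universe u

variable {A : Type u} [CommRing A]

section Zero

variable (L : CochainComplex (ModuleCat.{u} A) ℤ)

lemma ccD_zero_succ (i : ℤ) (x : L.X (i + 1)) (y : L.X i) :
    ccD L 0 i (i + 1) (x, y) = (-(L.d (i + 1) (i + 1 + 1)).hom x, (L.d i (i + 1)).hom y) := by
  rw [ccD_succ, zero_smul, zero_add]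

lemma shift_d_apply (i : ℤ) (x : L.X (i + 1)) :
    ((L⟦(1 : ℤ)⟧).d i (i + 1)).hom x = -(L.d (i + 1) (i + 1 + 1)).hom x := by
  rw [CochainComplex.shiftFunctor_obj_d']
  simp
  rfl

/-- second projection -/
noncomputable def sndHom : cc L 0 ⟶ L where
  f n := ModuleCat.ofHom (LinearMap.snd A (L.X (n + 1)) (L.X n))
  comm' i j hij := by
    obtain rfl : i + 1 = j := hij
    apply ModuleCat.hom_ext
    apply LinearMap.ext
    rintro ⟨x, y⟩
    change (L.d i (i + 1)).hom y = (ccD L 0 i (i + 1) (x, y)).2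
    rw [ccD_zero_succ]

/-- second inclusion -/
noncomputable def inrHom : L ⟶ cc L 0 where
  f n := ModuleCat.ofHom (LinearMap.inr A (L.X (n + 1)) (L.X n))
  comm' i j hij := by
    obtain rfl : i + 1 = j := hij
    apply ModuleCat.hom_ext
    apply LinearMap.ext
    intro y
    change ccD L 0 i (i + 1) (0, y) = (0, (L.d i (i + 1)).hom y)
    rw [ccD_zero_succ, map_zero, neg_zero]

/-- first projection -/
noncomputable def fstHom : cc L 0 ⟶ L⟦(1 : ℤ)⟧ where
  f n := ModuleCat.ofHom (LinearMap.fst A (L.X (n + 1)) (L.X n))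
  comm' i j hij := by
    obtain rfl : i + 1 = j := hij
    apply ModuleCat.hom_ext
    apply LinearMap.ext
    rintro ⟨x, y⟩
    change ((L⟦(1 : ℤ)⟧).d i (i + 1)).hom x = (ccD L 0 i (i + 1) (x, y)).1
    rw [ccD_zero_succ, shift_d_apply]

/-- first inclusion -/
noncomputable def inlHom : L⟦(1 : ℤ)⟧ ⟶ cc L 0 where
  f n := ModuleCat.ofHom (LinearMap.inl A (L.X (n + 1)) (L.X n))
  comm' i j hij := by
    obtain rfl : i + 1 = j := hij
    apply ModuleCat.hom_ext
    apply LinearMap.ext
    intro (x : L.X (i + 1))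
    change ccD L 0 i (i + 1) (x, 0) = (((L⟦(1 : ℤ)⟧).d i (i + 1)).hom x, 0)
    rw [ccD_zero_succ, map_zero, shift_d_apply]
    rfl

lemma inr_snd : inrHom L ≫ sndHom L = 𝟙 L := by
  apply HomologicalComplex.hom_ext
  intro n
  apply ModuleCat.hom_ext
  apply LinearMap.ext
  intro y
  rfl

lemma inl_fst : inlHom L ≫ fstHom L = 𝟙 _ := by
  apply HomologicalComplex.hom_ext
  intro n
  apply ModuleCat.hom_ext
  apply LinearMap.ext
  intro y
  rfl

lemma inl_snd : inlHom L ≫ sndHom L = 0 := by
  apply HomologicalComplex.hom_ext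
  intro n
  apply ModuleCat.hom_ext
  apply LinearMap.ext
  intro y
  rfl

lemma inr_fst : inrHom L ≫ fstHom L = 0 := by
  apply HomologicalComplex.hom_ext
  intro n
  apply ModuleCat.hom_ext
  apply LinearMap.ext
  intro y
  rfl

lemma fst_inl_add : fstHom L ≫ inlHom L + sndHom L ≫ inrHom L = 𝟙 (cc L 0) := by
  apply HomologicalComplex.hom_ext
  intro n
  apply ModuleCat.hom_ext
  apply LinearMap.ext
  rintro ⟨x, y⟩
  change ((x, 0) : L.X (n + 1) × L.X n) + (0, y) = (x, y)
  rw [Prod.mk_add_mk, add_zero, zero_add]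

lemma hm_comp_apply {K K' K'' : CochainComplex (ModuleCat.{u} A) ℤ} (f : K ⟶ K') (g : K' ⟶ K'')
    (m : ℤ) (z : K.homology m) :
    (HomologicalComplex.homologyMap g m).hom ((HomologicalComplex.homologyMap f m).hom z) =
      (HomologicalComplex.homologyMap (f ≫ g) m).hom z := by
  rw [HomologicalComplex.homologyMap_comp]
  rfl

/-- the homology of the cone of zero -/
noncomputable def homologyZeroEquiv (m : ℤ) :
    (cc L 0).homology m ≃ₗ[A] ((L⟦(1 : ℤ)⟧).homology m × L.homology m) :=
  LinearEquiv.ofLinearMap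
    (LinearMap.prod (HomologicalComplex.homologyMap (fstHom L) m).hom
      (HomologicalComplex.homologyMap (sndHom L) m).hom)
    (LinearMap.coprod (HomologicalComplex.homologyMap (inlHom L) m).hom
      (HomologicalComplex.homologyMap (inrHom L) m).hom)
    (by
      apply LinearMap.ext
      rintro ⟨u, v⟩
      rw [LinearMap.comp_apply, LinearMap.coprod_apply, LinearMap.id_apply]
      refine Prod.ext ?_ ?_
      · change (HomologicalComplex.homologyMap (fstHom L) m).hom _ = u
        rw [map_add, hm_comp_apply, hm_comp_apply, inl_fst, inr_fst,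
          HomologicalComplex.homologyMap_id, HomologicalComplex.homologyMap_zero]
        simp
      · change (HomologicalComplex.homologyMap (sndHom L) m).hom _ = v
        rw [map_add, hm_comp_apply, hm_comp_apply, inl_snd, inr_snd,
          HomologicalComplex.homologyMap_id, HomologicalComplex.homologyMap_zero]
        simp)
    (by
      apply LinearMap.ext
      intro z
      rw [LinearMap.comp_apply, LinearMap.id_apply]
      change (HomologicalComplex.homologyMap (inlHom L) m).hom
          ((HomologicalComplex.homologyMap (fstHom L) m).hom z) +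
        (HomologicalComplex.homologyMap (inrHom L) m).hom
          ((HomologicalComplex.homologyMap (sndHom L) m).hom z) = z
      rw [hm_comp_apply, hm_comp_apply, ← LinearMap.add_apply, ← ModuleCat.hom_add,
        ← HomologicalComplex.homologyMap_add, fst_inl_add, HomologicalComplex.homologyMap_id]
      rfl)

/-- the homology of a shifted complex -/
noncomputable def shiftHomologyEquiv (m : ℤ) :
    (L⟦(1 : ℤ)⟧).homology m ≃ₗ[A] L.homology (m + 1) :=
  ((CochainComplex.ShiftSequence.shiftIso (ModuleCat.{u} A) 1 m (m + 1)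
    (by omega)).app L).toLinearEquiv

lemma cone_homology {a : A} (ha : NH L a) (m : ℤ) :
    Nonempty ((cc L a).homology m ≃ₗ[A] (L.homology (m + 1) × L.homology m)) := by
  obtain ⟨e⟩ := ha.nonempty_splitIso
  let e1 : (cc L a).homology m ≅ (cc L 0).homology m :=
    (HomologicalComplex.homologyFunctor _ _ m).mapIso e
  exact ⟨e1.toLinearEquiv ≪≫ₗ homologyZeroEquiv L m ≪≫ₗ
    LinearEquiv.prodCongr (shiftHomologyEquiv L m) (LinearEquiv.refl A _)⟩

end Zero

section Comb

variable (Hm : ℤ → Type u) [∀ n, AddCommGroup (Hm n)] [∀ n, Module A (Hm n)]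

/-- transport along an equality of degrees -/
def castH {a b : ℤ} (h : a = b) : Hm a ≃ₗ[A] Hm b := by
  subst h
  exact LinearEquiv.refl A _

/-- reindexing a product -/
noncomputable def piReindex {ι ι' : Type} (E : ι ≃ ι') (f : ι → ℤ) (g : ι' → ℤ)
    (h : ∀ i, g (E i) = f i) : (∀ i, Hm (f i)) ≃ₗ[A] (∀ i', Hm (g i')) := by
  have hf : f = fun i => g (E i) := funext fun i => (h i).symm
  subst hf
  exact LinearEquiv.piCongrLeft A (fun i' => Hm (g i')) E

theorem final_reindex (r : ℕ) (ι : Type) [Finite ι] (φ : ι → ℕ)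
    (hcard : ∀ j, Nat.card {i // φ i = j} = r.choose j) (m : ℤ) :
    Nonempty ((∀ i : ι, Hm (m + φ i)) ≃ₗ[A]
      ((j : Fin (r + 1)) → Fin (r.choose j) → Hm (m + j))) := by
  have hb : ∀ i, φ i < r + 1 := by
    intro i
    by_contra hlt
    have hlt' : r < φ i := by omega
    have h0 := hcard (φ i)
    rw [Nat.choose_eq_zero_of_lt hlt'] at h0
    haveI : Nonempty {i' // φ i' = φ i} := ⟨⟨i, rfl⟩⟩
    exact (Nat.card_pos (α := {i' // φ i' = φ i})).ne' h0
  let φ' : ι → Fin (r + 1) := fun i => ⟨φ i, hb i⟩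
  have e : ∀ j : Fin (r + 1), {i // φ' i = j} ≃ Fin (r.choose j) := fun j =>
    (Equiv.subtypeEquivRight (fun i => by
      change (⟨φ i, hb i⟩ : Fin (r + 1)) = j ↔ φ i = (j : ℕ)
      rw [Fin.ext_iff])).trans (Finite.equivFinOfCardEq (hcard j))
  let E : ι ≃ Σ j : Fin (r + 1), Fin (r.choose j) :=
    (Equiv.sigmaFiberEquiv φ').symm.trans (Equiv.sigmaCongrRight e)
  have hE : ∀ i, (E i).1 = φ' i := fun i => rfl
  exact ⟨(piReindex Hm E (fun i => m + φ i)
    (fun s => m + (((s.1 : Fin (r + 1)) : ℕ) : ℤ)) (fun i => by rw [hE])) ≪≫ₗ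
      (LinearEquiv.piCurry A (fun (j : Fin (r + 1)) (_ : Fin (r.choose j)) => Hm (m + j)))⟩

end Comb

section Main

variable (N : CochainComplex (ModuleCat.{u} A) ℤ)

theorem kz_homology (ys : List A) (hys : ∀ y ∈ ys, NH N y) :
    ∃ (ι : Type) (_ : Finite ι) (φ : ι → ℕ),
      (∀ j, Nat.card {i // φ i = j} = ys.length.choose j) ∧
      ∀ m : ℤ, Nonempty ((kzC N ys).homology m ≃ₗ[A] (∀ i : ι, N.homology (m + φ i))) := by
  induction ys with
  | nil =>
    refine ⟨Unit, inferInstance, fun _ => 0, ?_, fun m => ?_⟩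
    · intro j
      rcases j with _ | j
      · rw [List.length_nil, Nat.choose_self]
        haveI : Unique {i : Unit // (0 : ℕ) = 0} := ⟨⟨⟨(), rfl⟩⟩, fun ⟨_, _⟩ => rfl⟩
        exact Nat.card_unique
      · rw [List.length_nil, Nat.choose_zero_succ]
        haveI : IsEmpty {i : Unit // (0 : ℕ) = j + 1} := ⟨fun ⟨_, h⟩ => by omega⟩
        exact Nat.card_of_isEmpty
    · exact ⟨(castH (fun n => N.homology n) (show m = m + ((0 : ℕ) : ℤ) by simp)) ≪≫ₗ
        (LinearEquiv.funUnique Unit A (N.homology (m + ((0 : ℕ) : ℤ)))).symm⟩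
  | cons y ys ih =>
    obtain ⟨ι, hfin, φ, hcard, he⟩ := ih (fun y' hy' => hys y' (List.mem_cons_of_mem _ hy'))
    have hy : NH (kzC N ys) y := NH_kzC N (hys y List.mem_cons_self) ys
    refine ⟨ι ⊕ ι, inferInstance, Sum.elim (fun i => φ i + 1) φ, ?_, fun m => ?_⟩
    · intro j
      have h1 : Nat.card {i' : ι ⊕ ι // Sum.elim (fun i => φ i + 1) φ i' = j} =
          Nat.card {i // φ i + 1 = j} + Nat.card {i // φ i = j} := by
        rw [← Nat.card_sum]
        exact Nat.card_congr (Equiv.subtypeSum)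
      rw [h1, hcard j, List.length_cons]
      rcases j with _ | j
      · haveI : IsEmpty {i // φ i + 1 = 0} := ⟨fun ⟨_, h⟩ => by omega⟩
        rw [Nat.card_of_isEmpty, Nat.choose_zero_right, Nat.choose_zero_right]
      · have h2 : Nat.card {i // φ i + 1 = j + 1} = Nat.card {i // φ i = j} :=
          Nat.card_congr (Equiv.subtypeEquivRight (fun i => by omega))
        rw [h2, hcard j, Nat.choose_succ_succ]
    · obtain ⟨c⟩ := cone_homology (kzC N ys) hy m
      obtain ⟨e1⟩ := he (m + 1)
      obtain ⟨e0⟩ := he m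
      refine ⟨c ≪≫ₗ LinearEquiv.prodCongr e1 e0 ≪≫ₗ ?_⟩
      refine LinearEquiv.prodCongr
        (LinearEquiv.piCongrRight (fun i => castH (fun n => N.homology n)
          (show m + 1 + (φ i : ℤ) = m + ((φ i + 1 : ℕ) : ℤ) by push_cast; ring)))
        (LinearEquiv.refl A _) ≪≫ₗ ?_
      exact (LinearEquiv.sumPiEquivProdPi A ι ι
        (fun s => N.homology (m + ((Sum.elim (fun i => φ i + 1) φ s : ℕ) : ℤ)))).symm

end Main

end Groth.Agent.H46.KzCone
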