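import Mathlib
import Groth.Agent.H81.ModHomology
import Groth.Agent.H46.KzHom

/-!
# Quasi-isomorphisms are preserved by the concrete cones (helper46)
-/

set_option autoImplicit false

namespace Groth.Agent.H46.KzCone

open CategoryTheory

universe u

variable {A : Type u} [CommRing A]

section Qis

variable {L L' : CochainComplex (ModuleCat.{u} A) ℤ} (ε : L ⟶ L')

/-- elementwise injectivity on cohomology -/
def MonoE : Prop := ∀ (i j k : ℤ), i + 1 = j → j + 1 = k → ∀ x : L.X j, (L.d j k).hom x = 0 →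
  (∃ y : L'.X i, (ε.f j).hom x = (L'.d i j).hom y) → ∃ x₁ : L.X i, x = (L.d i j).hom x₁

/-- elementwise surjectivity on cohomology -/
def EpiE : Prop := ∀ (i j k : ℤ), i + 1 = j → j + 1 = k → ∀ y : L'.X j, (L'.d j k).hom y = 0 →
  ∃ x : L.X j, (L.d j k).hom x = 0 ∧ ∃ y₁ : L'.X i, y = (ε.f j).hom x + (L'.d i j).hom y₁

/-- quasi-isomorphism, as a family of isomorphisms on cohomology -/
def Qis : Prop := ∀ n : ℤ, IsIso (HomologicalComplex.homologyMap ε n)

lemma qis_iff : Qis ε ↔ MonoE ε ∧ EpiE ε := by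
  constructor
  · intro h
    constructor
    · intro i j k hij hjk
      haveI := h j
      exact (Groth.Agent.H81.mono_homologyMap_iff_elem ε i j k
        (by rw [CochainComplex.prev]; omega) (by rw [CochainComplex.next]; omega)).1 inferInstance
    · intro i j k hij hjk
      haveI := h j
      exact (Groth.Agent.H81.epi_homologyMap_iff_elem ε i j k
        (by rw [CochainComplex.prev]; omega) (by rw [CochainComplex.next]; omega)).1 inferInstance
  · rintro ⟨hM, hE⟩ n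
    haveI : Mono (HomologicalComplex.homologyMap ε n) :=
      (Groth.Agent.H81.mono_homologyMap_iff_elem ε (n - 1) n (n + 1)
        (by rw [CochainComplex.prev]) (by rw [CochainComplex.next])).2
        (hM (n - 1) n (n + 1) (by omega) rfl)
    haveI : Epi (HomologicalComplex.homologyMap ε n) :=
      (Groth.Agent.H81.epi_homologyMap_iff_elem ε (n - 1) n (n + 1)
        (by rw [CochainComplex.prev]) (by rw [CochainComplex.next])).2
        (hE (n - 1) n (n + 1) (by omega) rfl)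
    exact isIso_of_mono_of_epi _

lemma ccMap_apply (a : A) (n : ℤ) (x : L.X (n + 1)) (y : L.X n) :
    ((ccMap a ε).f n).hom (x, y) = ((ε.f (n + 1)).hom x, (ε.f n).hom y) := rfl

theorem monoE_ccMap (a : A) (hM : MonoE ε) (hE : EpiE ε) : MonoE (ccMap a ε) := by
  intro i j k hij hjk z hz hw
  obtain rfl := hij
  obtain rfl := hjk
  obtain ⟨w', hw'⟩ := hw
  obtain ⟨x, y⟩ := z
  obtain ⟨x', y'⟩ := w'
  change ccD L a (i + 1) (i + 1 + 1) (x, y) = 0 at hz
  rw [ccD_succ] at hz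
  have hz1 : (L.d (i + 1 + 1) (i + 1 + 1 + 1)).hom x = 0 := by
    have := (Prod.ext_iff.1 hz).1
    exact neg_eq_zero.1 this
  have hz2 : a • x + (L.d (i + 1) (i + 1 + 1)).hom y = 0 := (Prod.ext_iff.1 hz).2
  change ((ε.f (i + 1 + 1)).hom x, (ε.f (i + 1)).hom y) = ccD L' a i (i + 1) (x', y') at hw'
  rw [ccD_succ] at hw'
  have hx' : (ε.f (i + 1 + 1)).hom x = -(L'.d (i + 1) (i + 1 + 1)).hom x' := (Prod.ext_iff.1 hw').1
  have hy' : (ε.f (i + 1)).hom y = a • x' + (L'.d i (i + 1)).hom y' := (Prod.ext_iff.1 hw').2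
  -- step 1
  obtain ⟨x₁, hx₁⟩ := hM (i + 1) (i + 1 + 1) (i + 1 + 1 + 1) rfl rfl x hz1
    ⟨-x', by rw [hx', map_neg]⟩
  -- step 2
  have hx'' : (L'.d (i + 1) (i + 1 + 1)).hom (x' + (ε.f (i + 1)).hom x₁) = 0 := by
    rw [map_add, ← hom_comm_apply, ← hx₁, hx']
    abel
  obtain ⟨x₃, hx₃, w', hw'⟩ := hE i (i + 1) (i + 1 + 1) rfl rfl _ hx''
  have hy₂ : (L.d (i + 1) (i + 1 + 1)).hom (y + a • x₁ - a • x₃) = 0 := by
    rw [map_sub, map_add, map_smul, map_smul, ← hx₁, hx₃]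
    linear_combination (norm := module) hz2
  have hy₂' : (ε.f (i + 1)).hom (y + a • x₁ - a • x₃) =
      (L'.d i (i + 1)).hom (a • w' + y') := by
    rw [map_sub, map_add, map_smul, map_smul, hy', map_add, map_smul]
    linear_combination (norm := module) a • hw'
  obtain ⟨y₃, hy₃⟩ := hM i (i + 1) (i + 1 + 1) rfl rfl _ hy₂ ⟨_, hy₂'⟩
  refine ⟨(x₃ - x₁, y₃), ?_⟩
  change ((x, y) : L.X (i + 1 + 1) × L.X (i + 1)) = ccD L a i (i + 1) (x₃ - x₁, y₃)
  rw [ccD_succ]
  refine Prod.ext ?_ ?_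
  · change x = -(L.d (i + 1) (i + 1 + 1)).hom (x₃ - x₁)
    rw [map_sub, hx₃, ← hx₁]
    abel
  · change y = a • (x₃ - x₁) + (L.d i (i + 1)).hom y₃
    rw [← hy₃]
    module

theorem epiE_ccMap (a : A) (hM : MonoE ε) (hE : EpiE ε) : EpiE (ccMap a ε) := by
  intro i j k hij hjk z' hz'
  obtain rfl := hij
  obtain rfl := hjk
  obtain ⟨x', y'⟩ := z'
  change ccD L' a (i + 1) (i + 1 + 1) (x', y') = 0 at hz'
  rw [ccD_succ] at hz'
  have hz1 : (L'.d (i + 1 + 1) (i + 1 + 1 + 1)).hom x' = 0 := by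
    have := (Prod.ext_iff.1 hz').1
    exact neg_eq_zero.1 this
  have hz2 : a • x' + (L'.d (i + 1) (i + 1 + 1)).hom y' = 0 := (Prod.ext_iff.1 hz').2
  -- step 1
  obtain ⟨x₀, hx₀, u₀, hu₀⟩ := hE (i + 1) (i + 1 + 1) (i + 1 + 1 + 1) rfl rfl x' hz1
  -- step 2
  have h1 : (L.d (i + 1 + 1) (i + 1 + 1 + 1)).hom (a • x₀) = 0 := by rw [map_smul, hx₀, smul_zero]
  have h2 : (ε.f (i + 1 + 1)).hom (a • x₀) =
      (L'.d (i + 1) (i + 1 + 1)).hom (-y' - a • u₀) := by
    rw [map_smul, map_sub, map_neg, map_smul]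
    linear_combination (norm := module) hz2 + (-a) • hu₀
  obtain ⟨y₀, hy₀⟩ := hM (i + 1) (i + 1 + 1) (i + 1 + 1 + 1) rfl rfl _ h1 ⟨_, h2⟩
  -- step 3
  have ht : (L'.d (i + 1) (i + 1 + 1)).hom (y' + (ε.f (i + 1)).hom y₀ + a • u₀) = 0 := by
    rw [map_add, map_add, map_smul, ← hom_comm_apply, ← hy₀, map_smul]
    linear_combination (norm := module) hz2 + (-a) • hu₀
  obtain ⟨t, ht0, v, hv⟩ := hE i (i + 1) (i + 1 + 1) rfl rfl _ ht
  refine ⟨(x₀, -y₀ + t), ?_, (-u₀, v), ?_⟩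
  · change ccD L a (i + 1) (i + 1 + 1) (x₀, -y₀ + t) = 0
    rw [ccD_succ]
    refine Prod.ext ?_ ?_
    · change -(L.d (i + 1 + 1) (i + 1 + 1 + 1)).hom x₀ = 0
      rw [hx₀, neg_zero]
    · change a • x₀ + (L.d (i + 1) (i + 1 + 1)).hom (-y₀ + t) = 0
      rw [map_add, map_neg, ← hy₀, ht0]
      abel
  · change ((x', y') : L'.X (i + 1 + 1) × L'.X (i + 1)) =
      ((ε.f (i + 1 + 1)).hom x₀, (ε.f (i + 1)).hom (-y₀ + t)) + ccD L' a i (i + 1) (-u₀, v)
    rw [ccD_succ]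
    refine Prod.ext ?_ ?_
    · change x' = (ε.f (i + 1 + 1)).hom x₀ + -(L'.d (i + 1) (i + 1 + 1)).hom (-u₀)
      rw [map_neg, neg_neg]
      exact hu₀
    · change y' = (ε.f (i + 1)).hom (-y₀ + t) + (a • (-u₀) + (L'.d i (i + 1)).hom v)
      rw [map_add, map_neg]
      linear_combination (norm := module) hv

theorem qis_ccMap (a : A) (h : Qis ε) : Qis (ccMap a ε) := by
  rw [qis_iff] at h ⊢
  exact ⟨monoE_ccMap ε a h.1 h.2, epiE_ccMap ε a h.1 h.2⟩

end Qis

section KzMap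

variable {L L' : CochainComplex (ModuleCat.{u} A) ℤ}

/-- functoriality of iterated cones in the base -/
noncomputable def kzCMap (ε : L ⟶ L') : (l : List A) → (kzC L l ⟶ kzC L' l)
  | [] => ε
  | a :: l => ccMap a (kzCMap ε l)

theorem qis_kzCMap (ε : L ⟶ L') (h : Qis ε) (l : List A) : Qis (kzCMap ε l) := by
  induction l with
  | nil => exact h
  | cons a l ih => exact qis_ccMap _ a ih

lemma kzC_iso_of_iso (e : L ≅ L') (l : List A) : Nonempty (kzC L l ≅ kzC L' l) := by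
  induction l with
  | nil => exact ⟨e⟩
  | cons a l ih =>
    obtain ⟨e'⟩ := ih
    exact ⟨ccIso a e'⟩

/-- acyclicity off degree zero -/
def Acyc (K : CochainComplex (ModuleCat.{u} A) ℤ) : Prop :=
  ∀ i : ℤ, i ≠ 0 → Limits.IsZero (K.homology i)

lemma Acyc.of_iso {K K' : CochainComplex (ModuleCat.{u} A) ℤ} (e : K ≅ K') (h : Acyc K) :
    Acyc K' := fun i hi =>
  (h i hi).of_iso ((HomologicalComplex.homologyFunctor _ _ i).mapIso e.symm)

lemma Acyc.of_qis {K K' : CochainComplex (ModuleCat.{u} A) ℤ} (ε : K ⟶ K') (hε : Qis ε)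
    (h : Acyc K) : Acyc K' := fun i hi => by
  haveI := hε i
  exact (h i hi).of_iso (asIso (HomologicalComplex.homologyMap ε i)).symm

end KzMap

end Groth.Agent.H46.KzCone
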