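import Mathlib
import Groth.Agent.H46.KzQis

/-!
# Degree zero cohomology of iterated cones; augmentation quasi-isomorphism (helper46)
-/

set_option autoImplicit false

namespace Groth.Agent.H46.KzCone

open CategoryTheory

universe u

variable {A : Type u} [CommRing A]

section Elem

variable (K : CochainComplex (ModuleCat.{u} A) ℤ)

lemma isZero_homology_iff (i j k : ℤ) (hij : i + 1 = j) (hjk : j + 1 = k) :
    Limits.IsZero (K.homology j) ↔
      ∀ x : K.X j, (K.d j k).hom x = 0 → ∃ y : K.X i, (K.d i j).hom y = x := by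
  rw [← HomologicalComplex.exactAt_iff_isZero_homology,
    K.exactAt_iff' i j k (by rw [CochainComplex.prev]; omega) (by rw [CochainComplex.next]; omega),
    ShortComplex.moduleCat_exact_iff]
  rfl

lemma iCycles_inj (j : ℤ) : Function.Injective (K.iCycles j).hom :=
  (ModuleCat.mono_iff_injective _).1 inferInstance

lemma homologyπ_surj (j : ℤ) : Function.Surjective (K.homologyπ j).hom :=
  (ModuleCat.epi_iff_surjective _).1 inferInstance

lemma iCycles_toCycles_apply (i j : ℤ) (x : K.X i) :
    (K.iCycles j).hom ((K.toCycles i j).hom x) = (K.d i j).hom x := by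
  have h := congrArg (fun f => f.hom x) (K.toCycles_i i j)
  exact h

lemma homologyπ_eq_zero_iff (i j : ℤ) (hij : i + 1 = j) (z : K.cycles j) :
    (K.homologyπ j).hom z = 0 ↔ ∃ y : K.X i, (K.toCycles i j).hom y = z := by
  have hex : (ShortComplex.mk (K.toCycles i j) (K.homologyπ j)
      (K.toCycles_comp_homologyπ i j)).Exact :=
    ShortComplex.exact_of_g_is_cokernel _
      (K.homologyIsCokernel i j (by rw [CochainComplex.prev]; omega))
  constructor
  · intro h
    exact (ShortComplex.moduleCat_exact_iff _).1 hex z h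
  · rintro ⟨y, rfl⟩
    have h := congrArg (fun f => f.hom y) (K.toCycles_comp_homologyπ i j)
    exact h

variable (i j k : ℤ) (hij : i + 1 = j) (hjk : j + 1 = k) (hk : Subsingleton (K.X k))

include hk in
lemma d_eq_zero_of_subsingleton : 𝟙 (K.X j) ≫ K.d j k = 0 := by
  apply ModuleCat.hom_ext
  apply LinearMap.ext
  intro x
  exact Subsingleton.elim _ _

/-- the lift of an element to a cycle, when the next term vanishes -/
noncomputable def liftC : K.X j →ₗ[A] K.cycles j :=
  (K.liftCycles (𝟙 (K.X j)) k (by rw [CochainComplex.next]; omega)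
    (d_eq_zero_of_subsingleton K j k hk)).hom

lemma iCycles_liftC (x : K.X j) : (K.iCycles j).hom (liftC K j k hjk hk x) = x := by
  have h := congrArg (fun f => f.hom x) (K.liftCycles_i (𝟙 (K.X j)) k
    (by rw [CochainComplex.next]; omega) (d_eq_zero_of_subsingleton K j k hk))
  exact h

lemma liftC_iCycles (z : K.cycles j) : liftC K j k hjk hk ((K.iCycles j).hom z) = z := by
  apply iCycles_inj K j
  rw [iCycles_liftC]

/-- the class of an element, when the next term vanishes -/
noncomputable def cls : K.X j →ₗ[A] K.homology j :=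
  (K.homologyπ j).hom ∘ₗ liftC K j k hjk hk

lemma cls_surjective : Function.Surjective (cls K j k hjk hk) := by
  intro η
  obtain ⟨z, rfl⟩ := homologyπ_surj K j η
  exact ⟨(K.iCycles j).hom z, by unfold cls; rw [LinearMap.comp_apply, liftC_iCycles]⟩

include hij in
lemma ker_cls : LinearMap.ker (cls K j k hjk hk) = LinearMap.range (K.d i j).hom := by
  ext x
  rw [LinearMap.mem_ker, LinearMap.mem_range]
  unfold cls
  rw [LinearMap.comp_apply, homologyπ_eq_zero_iff K i j hij]
  constructor
  · rintro ⟨y, hy⟩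
    refine ⟨y, ?_⟩
    rw [← iCycles_toCycles_apply, hy, iCycles_liftC]
  · rintro ⟨y, rfl⟩
    refine ⟨y, ?_⟩
    apply iCycles_inj K j
    rw [iCycles_toCycles_apply, iCycles_liftC]

/-- degree `j` cohomology as a quotient, when the next term vanishes -/
noncomputable def h0Equiv :
    (K.X j ⧸ LinearMap.range (K.d i j).hom) ≃ₗ[A] K.homology j :=
  (Submodule.quotEquivOfEq _ _ (ker_cls K i j k hij hjk hk).symm) ≪≫ₗ
    LinearMap.quotKerEquivOfSurjective (cls K j k hjk hk) (cls_surjective K j k hjk hk)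

end Elem

section Pos

/-- concentrated in nonpositive degrees -/
def NonPos (L : CochainComplex (ModuleCat.{u} A) ℤ) : Prop :=
  ∀ n : ℤ, 0 < n → Subsingleton (L.X n)

lemma NonPos.cone {L : CochainComplex (ModuleCat.{u} A) ℤ} (h : NonPos L) (a : A) :
    NonPos (cc L a) := fun n hn => by
  haveI := h (n + 1) (by omega)
  haveI := h n hn
  change Subsingleton (L.X (n + 1) × L.X n)
  infer_instance

lemma NonPos.kzC {B : CochainComplex (ModuleCat.{u} A) ℤ} (h : NonPos B) (l : List A) :
    NonPos (kzC B l) := by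
  induction l with
  | nil => exact h
  | cons a l ih => exact ih.cone a

/-- `a` annihilates every term -/
def Kills (a : A) (L : CochainComplex (ModuleCat.{u} A) ℤ) : Prop :=
  ∀ (n : ℤ) (x : L.X n), a • x = 0

lemma Kills.cone {L : CochainComplex (ModuleCat.{u} A) ℤ} {a : A} (h : Kills a L) (b : A) :
    Kills a (cc L b) := fun n z => by
  obtain ⟨x, y⟩ := z
  change ((a • x, a • y) : L.X (n + 1) × L.X n) = 0
  rw [h, h]
  rfl

lemma Kills.kzC {B : CochainComplex (ModuleCat.{u} A) ℤ} {a : A} (h : Kills a B) (l : List A) :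
    Kills a (kzC B l) := by
  induction l with
  | nil => exact h
  | cons b l ih => exact ih.cone b

lemma Kills.nh {L : CochainComplex (ModuleCat.{u} A) ℤ} {a : A} (h : Kills a L) : NH L a :=
  ⟨fun _ _ => 0, fun i n k _ _ x => by rw [h]; simp⟩

end Pos

section Theta

variable (B : CochainComplex (ModuleCat.{u} A) ℤ)

/-- the second projection, as an equivalence when the first factor is trivial -/
noncomputable def sndEquiv (X Y : Type u) [AddCommGroup X] [Module A X] [AddCommGroup Y]
    [Module A Y] [Subsingleton X] : (X × Y) ≃ₗ[A] Y where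
  toFun p := p.2
  map_add' _ _ := rfl
  map_smul' _ _ := rfl
  invFun y := (0, y)
  left_inv p := Prod.ext (Subsingleton.elim _ _) rfl
  right_inv _ := rfl

lemma span_cons (a : A) (l : List A) :
    Ideal.span {x | x ∈ a :: l} = Ideal.span {a} ⊔ Ideal.span {x | x ∈ l} := by
  rw [← Ideal.span_union]
  congr 1
  ext x
  simp [List.mem_cons]

theorem exists_theta (hB : NonPos B) (l : List A) (i j : ℤ) (hij : i + 1 = j) (hj : 0 ≤ j) :
    ∃ θ : (kzC B l).X j ≃ₗ[A] B.X j,
      Submodule.map θ.toLinearMap (LinearMap.range ((kzC B l).d i j).hom) =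
        LinearMap.range (B.d i j).hom ⊔
          (Ideal.span {a | a ∈ l}) • (⊤ : Submodule A (B.X j)) := by
  subst hij
  induction l with
  | nil =>
    refine ⟨LinearEquiv.refl A _, ?_⟩
    have h0 : Ideal.span {a : A | a ∈ ([] : List A)} = ⊥ := by
      rw [Ideal.span_eq_bot]
      intro x hx
      simp at hx
    rw [h0, Submodule.bot_smul, sup_bot_eq]
    exact Submodule.map_id _
  | cons a l ih =>
    obtain ⟨θ, hθ⟩ := ih
    haveI : Subsingleton ((kzC B l).X (i + 1 + 1)) := hB.kzC l (i + 1 + 1) (by omega)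
    let s : (kzC B (a :: l)).X (i + 1) ≃ₗ[A] (kzC B l).X (i + 1) :=
      sndEquiv ((kzC B l).X (i + 1 + 1)) ((kzC B l).X (i + 1))
    have e1 : Submodule.map s.toLinearMap
        (LinearMap.range ((kzC B (a :: l)).d i (i + 1)).hom) =
        (Ideal.span {a}) • (⊤ : Submodule A ((kzC B l).X (i + 1))) ⊔
          LinearMap.range ((kzC B l).d i (i + 1)).hom := by
      apply le_antisymm
      · rintro _ ⟨_, ⟨⟨x, y⟩, rfl⟩, rfl⟩
        change (ccD (kzC B l) a i (i + 1) (x, y)).2 ∈ _
        rw [ccD_succ]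
        exact Submodule.add_mem_sup
          (Submodule.smul_mem_smul (Ideal.mem_span_singleton_self a) Submodule.mem_top)
          ⟨y, rfl⟩
      · refine sup_le ?_ ?_
        · rw [Submodule.smul_le]
          intro r hr n _
          obtain ⟨c, rfl⟩ := Ideal.mem_span_singleton'.1 hr
          refine ⟨ccD (kzC B l) a i (i + 1) (c • n, 0), ⟨(c • n, 0), rfl⟩, ?_⟩
          change (ccD (kzC B l) a i (i + 1) (c • n, 0)).2 = (c * a) • n
          rw [ccD_succ]
          change a • c • n + ((kzC B l).d i (i + 1)).hom 0 = (c * a) • n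
          rw [map_zero, add_zero, smul_smul, mul_comm]
        · rintro _ ⟨y, rfl⟩
          refine ⟨ccD (kzC B l) a i (i + 1) (0, y), ⟨(0, y), rfl⟩, ?_⟩
          change (ccD (kzC B l) a i (i + 1) (0, y)).2 = _
          rw [ccD_succ]
          change a • (0 : (kzC B l).X (i + 1)) + ((kzC B l).d i (i + 1)).hom y = _
          rw [smul_zero, zero_add]
    refine ⟨s ≪≫ₗ θ, ?_⟩
    have hcomp : (s ≪≫ₗ θ).toLinearMap = θ.toLinearMap ∘ₗ s.toLinearMap := rfl
    rw [hcomp, Submodule.map_comp, e1, Submodule.map_sup, hθ, Submodule.map_smul'',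
      Submodule.map_top, LinearEquiv.range, span_cons, Submodule.sup_smul]
    ac_rfl

theorem exists_h0 (hB : NonPos B) (l : List A) (i j : ℤ) (hij : i + 1 = j) (hj : 0 ≤ j) :
    Nonempty ((kzC B l).homology j ≃ₗ[A]
      (B.X j ⧸ (LinearMap.range (B.d i j).hom ⊔
        (Ideal.span {a | a ∈ l}) • (⊤ : Submodule A (B.X j))))) := by
  obtain ⟨θ, hθ⟩ := exists_theta B hB l i j hij hj
  have hk : Subsingleton ((kzC B l).X (j + 1)) := hB.kzC l (j + 1) (by omega)
  exact ⟨(h0Equiv (kzC B l) i j (j + 1) hij rfl hk).symm ≪≫ₗ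
    Submodule.Quotient.equiv _ _ θ hθ⟩

end Theta

section Single

variable (Q : Type u) [AddCommGroup Q] [Module A Q]

/-- the complex with `Q` in degree zero -/
noncomputable abbrev sg : CochainComplex (ModuleCat.{u} A) ℤ :=
  (CochainComplex.singleFunctor (ModuleCat.{u} A) 0).obj (ModuleCat.of A Q)

/-- the degree zero term -/
noncomputable def sgE : (sg (A := A) Q).X 0 ≃ₗ[A] Q :=
  (HomologicalComplex.singleObjXSelf (ComplexShape.up ℤ) 0 (ModuleCat.of A Q)).toLinearEquiv

lemma sg_subsingleton (n : ℤ) (hn : n ≠ 0) : Subsingleton ((sg (A := A) Q).X n) := by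
  have h : Limits.IsZero ((sg (A := A) Q).X n) :=
    HomologicalComplex.isZero_single_obj_X (ComplexShape.up ℤ) 0 (ModuleCat.of A Q) n hn
  exact ⟨fun x y => by
    have e := h.eq_of_src (𝟙 _) 0
    have hx : x = 0 := congrArg (fun f => f.hom x) e
    have hy : y = 0 := congrArg (fun f => f.hom y) e
    rw [hx, hy]⟩

lemma nonPos_sg : NonPos (sg (A := A) Q) := fun n hn => sg_subsingleton Q n (by omega)

lemma kills_sg {a : A} (h : ∀ q : Q, a • q = 0) : Kills a (sg (A := A) Q) := by
  intro n x
  by_cases hn : n = 0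
  · subst hn
    apply (sgE Q).injective
    rw [map_smul, h, map_zero]
  · haveI := sg_subsingleton (A := A) Q n hn
    exact Subsingleton.elim _ _

theorem h0_sg (l : List A) :
    Nonempty ((kzC (sg (A := A) Q) l).homology 0 ≃ₗ[A]
      (Q ⧸ (Ideal.span {a | a ∈ l}) • (⊤ : Submodule A Q))) := by
  obtain ⟨e⟩ := exists_h0 (sg (A := A) Q) (nonPos_sg Q) l (-1) 0 (by norm_num) le_rfl
  have hd : LinearMap.range ((sg (A := A) Q).d (-1) 0).hom = ⊥ := by
    rw [LinearMap.range_eq_bot]
    rfl
  rw [hd, bot_sup_eq] at e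
  refine ⟨e ≪≫ₗ Submodule.Quotient.equiv _ _ (sgE Q) ?_⟩
  rw [Submodule.map_smul'', Submodule.map_top, LinearEquiv.range]

theorem h0_koszul (l : List A) :
    Nonempty ((kzC (sg (A := A) A) l).homology 0 ≃ₗ[A] (A ⧸ Ideal.span {a | a ∈ l})) := by
  obtain ⟨e⟩ := h0_sg (A := A) A l
  have h : (Ideal.span {a | a ∈ l}) • (⊤ : Submodule A A) = Ideal.span {a | a ∈ l} := by
    rw [smul_eq_mul, Ideal.mul_top]
  exact ⟨e ≪≫ₗ Submodule.quotEquivOfEq _ _ h⟩

end Single

end Groth.Agent.H46.KzCone
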