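import Mathlib
import Groth.Agent.H46.KzH0

/-!
# The augmentation of an acyclic complex in nonpositive degrees is a quasi-isomorphism (helper46)
-/

set_option autoImplicit false

namespace Groth.Agent.H46.KzCone

open CategoryTheory

universe u

variable {A : Type u} [CommRing A]

section Aug

variable (L : CochainComplex (ModuleCat.{u} A) ℤ) (hL : NonPos L)

/-- the class map in degree zero -/
noncomputable def cls0 : L.X 0 →ₗ[A] L.homology 0 := cls L 0 1 (by norm_num) (hL 1 one_pos)

lemma cls0_surjective : Function.Surjective (cls0 L hL) := cls_surjective L 0 1 _ _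

lemma ker_cls0 (i : ℤ) (hi : i + 1 = 0) :
    LinearMap.ker (cls0 L hL) = LinearMap.range (L.d i 0).hom := ker_cls L i 0 1 hi _ _

/-- the augmentation -/
noncomputable def aug : L ⟶ sg (A := A) (L.homology 0) :=
  HomologicalComplex.mkHomToSingle (ModuleCat.ofHom (cls0 L hL)) (by
    intro i hi
    have hi' : i + 1 = 0 := hi
    apply ModuleCat.hom_ext
    apply LinearMap.ext
    intro y
    have h : (L.d i 0).hom y ∈ LinearMap.ker (cls0 L hL) := by
      rw [ker_cls0 L hL i hi']
      exact ⟨y, rfl⟩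
    exact h)

lemma aug_f_zero (x : L.X 0) :
    sgE (A := A) (L.homology 0) (((aug L hL).f 0).hom x) = cls0 L hL x := by
  have h : (aug L hL).f 0 = ModuleCat.ofHom (cls0 L hL) ≫
      (HomologicalComplex.singleObjXSelf (ComplexShape.up ℤ) 0
        (ModuleCat.of A (L.homology 0))).inv :=
    HomologicalComplex.mkHomToSingle_f _ _
  rw [h]
  change (HomologicalComplex.singleObjXSelf (ComplexShape.up ℤ) 0
      (ModuleCat.of A (L.homology 0))).hom.hom
    ((HomologicalComplex.singleObjXSelf (ComplexShape.up ℤ) 0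
      (ModuleCat.of A (L.homology 0))).inv.hom (cls0 L hL x)) = cls0 L hL x
  have h2 := congrArg (fun f => f.hom (cls0 L hL x))
    (HomologicalComplex.singleObjXSelf (ComplexShape.up ℤ) 0
      (ModuleCat.of A (L.homology 0))).inv_hom_id
  exact h2

theorem qis_aug (hA : Acyc L) : Qis (aug L hL) := by
  rw [qis_iff]
  constructor
  · intro i j k hij hjk x hx hy
    by_cases hj : j = 0
    · subst hj
      obtain ⟨y, hy⟩ := hy
      have h0 : ((aug L hL).f 0).hom x = 0 := by
        rw [hy]
        rfl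
      have h1 : cls0 L hL x = 0 := by
        rw [← aug_f_zero, h0, map_zero]
      have h2 : x ∈ LinearMap.ker (cls0 L hL) := h1
      rw [ker_cls0 L hL i hij] at h2
      obtain ⟨x₁, hx₁⟩ := h2
      exact ⟨x₁, hx₁.symm⟩
    · obtain ⟨y, hy⟩ := (isZero_homology_iff L i j k hij hjk).1 (hA j hj) x hx
      exact ⟨y, hy.symm⟩
  · intro i j k hij hjk y hy
    by_cases hj : j = 0
    · subst hj
      obtain ⟨x, hx⟩ := cls0_surjective L hL (sgE (A := A) (L.homology 0) y)
      haveI : Subsingleton (L.X k) := hL k (by omega)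
      refine ⟨x, Subsingleton.elim _ _, 0, ?_⟩
      rw [map_zero, add_zero]
      apply (sgE (A := A) (L.homology 0)).injective
      rw [aug_f_zero, hx]
    · haveI := sg_subsingleton (A := A) (L.homology 0) j hj
      exact ⟨0, by rw [map_zero], 0, Subsingleton.elim _ _⟩

end Aug

section Transfer

/-- isomorphic modules give isomorphic single complexes -/
noncomputable def sgIso {Q Q' : Type u} [AddCommGroup Q] [Module A Q] [AddCommGroup Q']
    [Module A Q'] (e : Q ≃ₗ[A] Q') : sg (A := A) Q ≅ sg (A := A) Q' :=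
  (CochainComplex.singleFunctor (ModuleCat.{u} A) 0).mapIso e.toModuleIso

theorem acyc_kzC_quot (l₁ l₂ : List A) (h1 : Acyc (kzC (sg (A := A) A) l₁))
    (h12 : Acyc (kzC (kzC (sg (A := A) A) l₁) l₂)) :
    Acyc (kzC (sg (A := A) (A ⧸ Ideal.span {a | a ∈ l₁})) l₂) := by
  have hL : NonPos (kzC (sg (A := A) A) l₁) := (nonPos_sg A).kzC l₁
  have hq := qis_kzCMap _ (qis_aug _ hL h1) l₂
  have h2 := h12.of_qis _ hq
  obtain ⟨e⟩ := h0_koszul (A := A) l₁
  obtain ⟨e'⟩ := kzC_iso_of_iso (sgIso e) l₂
  exact h2.of_iso e'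

end Transfer

end Groth.Agent.H46.KzCone
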