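import Mathlib
import Groth.Agent.H82.TorLib
import Groth.Agent.H46.KzAug

/-!
# An acyclic complex of projectives in nonpositive degrees computes Tor (helper46)
-/

set_option autoImplicit false
set_option linter.style.haveILetI false

namespace Groth.Agent.H46.KzCone

open CategoryTheory

universe u

variable {A : Type u} [CommRing A]

section Res

variable (K : CochainComplex (ModuleCat.{u} A) ℤ)

/-- the chain complex `n ↦ K^{-n}` -/
noncomputable def resCx : ChainComplex (ModuleCat.{u} A) ℕ :=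
  K.restriction ComplexShape.embeddingDownNat

lemma resCx_d (m n : ℕ) : (resCx K).d m n = K.d (-(m : ℤ)) (-(n : ℤ)) := rfl

variable (hL : NonPos K) (hA : Acyc K)

include hA in
lemma resCx_exactAt_succ (n : ℕ) : (resCx K).ExactAt (n + 1) := by
  rw [HomologicalComplex.exactAt_iff' _ (n + 1 + 1) (n + 1) n (by simp) (by simp),
    ShortComplex.moduleCat_exact_iff]
  intro x hx
  have hne : (-((n + 1 : ℕ) : ℤ)) ≠ 0 := by
    push_cast
    omega
  exact (isZero_homology_iff K (-((n + 1 + 1 : ℕ) : ℤ)) (-((n + 1 : ℕ) : ℤ)) (-(n : ℤ))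
    (by push_cast; ring) (by push_cast; ring)).1 (hA _ hne) x hx

/-- the class map on `K^{-0}` -/
noncomputable def clsN : (resCx K).X 0 →ₗ[A] K.homology (-((0 : ℕ) : ℤ)) :=
  cls K (-((0 : ℕ) : ℤ)) (-((0 : ℕ) : ℤ) + 1) rfl (hL _ (by simp))

lemma clsN_surjective : Function.Surjective (clsN K hL) := cls_surjective K _ _ _ _

lemma ker_clsN : LinearMap.ker (clsN K hL) = LinearMap.range ((resCx K).d 1 0).hom :=
  ker_cls K (-((1 : ℕ) : ℤ)) (-((0 : ℕ) : ℤ)) (-((0 : ℕ) : ℤ) + 1) (by simp) rfl _

/-- the augmentation of the chain complex -/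
noncomputable def piHom : resCx K ⟶ (ChainComplex.single₀ (ModuleCat.{u} A)).obj
    (ModuleCat.of A (K.homology (-((0 : ℕ) : ℤ)))) :=
  (ChainComplex.toSingle₀Equiv _ _).symm ⟨ModuleCat.ofHom (clsN K hL), by
    apply ModuleCat.hom_ext
    apply LinearMap.ext
    intro y
    have h : ((resCx K).d 1 0).hom y ∈ LinearMap.ker (clsN K hL) := by
      rw [ker_clsN]
      exact ⟨y, rfl⟩
    exact h⟩

lemma piHom_f_zero : (piHom K hL).f 0 = ModuleCat.ofHom (clsN K hL) :=
  ChainComplex.toSingle₀Equiv_symm_apply_f_zero _ _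

include hA in
lemma quasiIso_piHom : QuasiIso (piHom K hL) := ⟨fun n => by
  cases n with
  | zero =>
    rw [ChainComplex.quasiIsoAt₀_iff, ShortComplex.quasiIso_iff_of_zeros' _
      ((resCx K).shape 0 0 (by simp)) rfl rfl]
    constructor
    · rw [ShortComplex.moduleCat_exact_iff_range_eq_ker]
      change LinearMap.range ((resCx K).d 1 0).hom = LinearMap.ker ((piHom K hL).f 0).hom
      rw [piHom_f_zero]
      exact (ker_clsN K hL).symm
    · change Epi ((piHom K hL).f 0)
      rw [piHom_f_zero]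
      exact (ModuleCat.epi_iff_surjective _).2 (clsN_surjective K hL)
  | succ n =>
    rw [quasiIsoAt_iff_exactAt']
    · exact resCx_exactAt_succ K hA n
    · exact ChainComplex.exactAt_succ_single_obj _ _⟩

variable (hP : ∀ n, Projective (K.X n))

/-- the projective resolution of `H^0(K)` -/
noncomputable def projRes : ProjectiveResolution (ModuleCat.of A (K.homology (-((0 : ℕ) : ℤ)))) :=
  haveI := quasiIso_piHom K hL hA
  { complex := resCx K
    projective := fun n => hP _
    π := piHom K hL }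

open MonoidalCategory in
include hL hA hP in
/-- `Tor_{m+1}(H^0(K), Y) ≅ H^{-(m+1)}(K ⊗ Y)` -/
theorem tor_iso (Y : ModuleCat.{u} A) (m : ℕ) :
    Nonempty (((Tor (ModuleCat.{u} A) (m + 1)).obj
        (ModuleCat.of A (K.homology (-((0 : ℕ) : ℤ))))).obj Y ≅
      (((tensorRight Y).mapHomologicalComplex (ComplexShape.up ℤ)).obj K).homology
        (-((m + 1 : ℕ) : ℤ))) := by
  obtain ⟨e1⟩ := Groth.Agent.H82.TorLib.nonempty_tor_iso_U (projRes K hL hA hP) (m + 1) Y
  let GK := ((tensorRight Y).mapHomologicalComplex (ComplexShape.up ℤ)).obj K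
  have e2 : (Groth.Agent.H82.TorLib.U (projRes K hL hA hP) (m + 1)).obj Y ≅
      (GK.restriction ComplexShape.embeddingDownNat).homology (m + 1) := Iso.refl _
  let e3 := GK.restrictionHomologyIso ComplexShape.embeddingDownNat (m + 1 + 1) (m + 1) m
    (by simp) (by simp) (i' := -((m + 1 + 1 : ℕ) : ℤ)) (j' := -((m + 1 : ℕ) : ℤ))
    (k' := -((m : ℕ) : ℤ)) rfl rfl rfl
    (by rw [CochainComplex.prev]; push_cast; ring) (by rw [CochainComplex.next]; push_cast; ring)
  exact ⟨e1 ≪≫ e2 ≪≫ e3⟩

end Res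

end Groth.Agent.H46.KzCone
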