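import Mathlib
import Groth.Prelude.Def_LCI2
import Groth.Agent.H46.KzRes
import Groth.Agent.H46.ExtPowCyclic

/-!
# `Tor` of two quotients by Koszul-regular sequences with a common part (helper46)
-/

set_option autoImplicit false
set_option linter.style.haveILetI false

namespace Groth.Agent.H46.KzCone

open CategoryTheory MonoidalCategory

universe u

variable {A : Type u} [CommRing A]

section Proj

/-- all terms are projective modules -/
def ModProj (L : CochainComplex (ModuleCat.{u} A) ℤ) : Prop :=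
  ∀ n : ℤ, Module.Projective A (L.X n)

lemma ModProj.cone {L : CochainComplex (ModuleCat.{u} A) ℤ} (h : ModProj L) (a : A) :
    ModProj (cc L a) := fun n => by
  haveI := h (n + 1)
  haveI := h n
  change Module.Projective A (L.X (n + 1) × L.X n)
  infer_instance

lemma ModProj.kzC {B : CochainComplex (ModuleCat.{u} A) ℤ} (h : ModProj B) (l : List A) :
    ModProj (kzC B l) := by
  induction l with
  | nil => exact h
  | cons a l ih => exact ih.cone a

lemma modProj_sg : ModProj (sg (A := A) A) := fun n => by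
  by_cases hn : n = 0
  · subst hn
    exact Module.Projective.of_equiv (sgE (A := A) A).symm
  · haveI := sg_subsingleton (A := A) A n hn
    infer_instance

lemma ModProj.projective {L : CochainComplex (ModuleCat.{u} A) ℤ} (h : ModProj L) (n : ℤ) :
    Projective (L.X n) :=
  (IsProjective.iff_projective (L.X n)).1 (h n)

end Proj

section Fiber

variable (Hm : ℤ → Type u) [∀ n, AddCommGroup (Hm n)] [∀ n, Module A (Hm n)]

lemma castH_symm_apply {a b : ℤ} (h : a = b) (x : Hm a) :
    (castH (A := A) Hm h).symm (castH (A := A) Hm h x) = x :=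
  (castH (A := A) Hm h).symm_apply_apply x

/-- a product of modules, all but one fibre of which vanish -/
noncomputable def piFiber {ι : Type} (φ : ι → ℕ) (m : ℕ)
    (hz : ∀ k : ℤ, k ≠ 0 → Subsingleton (Hm k)) :
    (∀ i' : ι, Hm (-(m : ℤ) + φ i')) ≃ₗ[A] ({i' // φ i' = m} → Hm 0) where
  toFun F := fun p => castH (A := A) Hm (by rw [p.2]; simp) (F p.1)
  map_add' F G := by
    funext p
    simp only [Pi.add_apply, map_add]
  map_smul' c F := by
    funext p
    simp only [Pi.smul_apply, map_smul, RingHom.id_apply]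
  invFun G := fun i' =>
    if h : φ i' = m then (castH (A := A) Hm (by rw [h]; simp)).symm (G ⟨i', h⟩) else 0
  left_inv F := by
    funext i'
    by_cases h : φ i' = m
    · simp only [dif_pos h]
      exact (castH (A := A) Hm _).symm_apply_apply _
    · haveI : Subsingleton (Hm (-(m : ℤ) + φ i')) := hz _ (by
        intro h0
        apply h
        omega)
      exact Subsingleton.elim _ _
  right_inv G := by
    funext p
    obtain ⟨i', h⟩ := p
    simp only [dif_pos h]
    exact (castH (A := A) Hm _).apply_symm_apply _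

end Fiber

section Main

variable (f g h : List A)

lemma acyc_of_koszulRegular {l : List A} (hl : LCI.IsKoszulRegularSeq A l) :
    Acyc (kzC (sg (A := A) A) l) := by
  obtain ⟨e⟩ := kzM_iso_kzC (sg (A := A) A) l
  have h0 : Acyc (kzM (sg (A := A) A) l) := by
    rw [← koszul_eq]
    exact hl
  exact h0.of_iso e

/-- the comparison of the base: `A[0] ⊗ Y ≅ Y[0]` -/
noncomputable def baseIso (Y : Type u) [AddCommGroup Y] [Module A Y] :
    ((tensorRight (ModuleCat.of A Y)).mapHomologicalComplex (ComplexShape.up ℤ)).obj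
      (sg (A := A) A) ≅ sg (A := A) Y :=
  (HomologicalComplex.singleMapHomologicalComplex (tensorRight (ModuleCat.of A Y))
    (ComplexShape.up ℤ) 0).app (ModuleCat.of A A) ≪≫
    (CochainComplex.singleFunctor (ModuleCat.{u} A) 0).mapIso (λ_ (ModuleCat.of A Y))

lemma tensor_kzC_iso (Y : Type u) [AddCommGroup Y] [Module A Y] (l : List A) :
    Nonempty (((tensorRight (ModuleCat.of A Y)).mapHomologicalComplex (ComplexShape.up ℤ)).obj
      (kzC (sg (A := A) A) l) ≅ kzC (sg (A := A) Y) l) := by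
  obtain ⟨e1⟩ := kzM_iso_kzC (sg (A := A) A) l
  obtain ⟨e2⟩ := map_kzM (tensorRight (ModuleCat.of A Y)) (sg (A := A) A) l
  obtain ⟨e3⟩ := kzM_iso_kzC
    (((tensorRight (ModuleCat.of A Y)).mapHomologicalComplex (ComplexShape.up ℤ)).obj
      (sg (A := A) A)) l
  obtain ⟨e4⟩ := kzC_iso_of_iso (baseIso (A := A) Y) l
  exact ⟨((tensorRight (ModuleCat.of A Y)).mapHomologicalComplex (ComplexShape.up ℤ)).mapIso
    e1.symm ≪≫ e2 ≪≫ e3 ≪≫ e4⟩

variable (hfg : LCI.IsKoszulRegularSeq A (f ++ g)) (hfh : LCI.IsKoszulRegularSeq A (f ++ h))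
  (hfgh : LCI.IsKoszulRegularSeq A (f ++ g ++ h))

/-- the complex `K(g) ⊗ A/(f, h)` -/
noncomputable abbrev NN : CochainComplex (ModuleCat.{u} A) ℤ :=
  kzC (sg (A := A) (A ⧸ Ideal.span {x | x ∈ f ++ h})) g

include hfh hfgh in
lemma acyc_NN : Acyc (NN f g h) := by
  apply acyc_kzC_quot (f ++ h) g (acyc_of_koszulRegular hfh)
  have h1 : Acyc (kzC (sg (A := A) A) (f ++ g ++ h)) := acyc_of_koszulRegular hfgh
  rw [List.append_assoc, kzC_append, kzC_append] at h1
  rw [kzC_append]
  obtain ⟨e⟩ := swapAll (kzC (sg (A := A) A) h) f g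
  exact h1.of_iso e

lemma nh_NN {a : A} (ha : a ∈ f) : NH (NN f g h) a := by
  apply Kills.nh
  apply Kills.kzC
  apply kills_sg
  intro q
  obtain ⟨b, rfl⟩ := Ideal.Quotient.mk_surjective q
  change Ideal.Quotient.mk _ a * Ideal.Quotient.mk _ b = 0
  have : Ideal.Quotient.mk (Ideal.span {x | x ∈ f ++ h}) a = 0 :=
    Ideal.Quotient.eq_zero_iff_mem.2 (Ideal.subset_span (List.mem_append_left h ha))
  rw [this, zero_mul]

lemma cyclic_NN : ExtPowCyclic.IsCyclic (A := A) ((NN f g h).homology 0) := by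
  obtain ⟨e⟩ := h0_sg (A := A) (A ⧸ Ideal.span {x | x ∈ f ++ h}) g
  have h1 : ExtPowCyclic.IsCyclic (A := A) ((A ⧸ Ideal.span {x | x ∈ f ++ h}) ⧸
      (Ideal.span {a | a ∈ g}) • (⊤ : Submodule A (A ⧸ Ideal.span {x | x ∈ f ++ h}))) :=
    (ExtPowCyclic.isCyclic_quot _).of_surjective (Submodule.mkQ _) (Submodule.mkQ_surjective _)
  exact h1.of_surjective e.symm.toLinearMap e.symm.surjective

include hfg hfh hfgh in
/-- the computation of the higher Tor modules -/
theorem tor_succ (m : ℕ) :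
    Nonempty ((((Tor (ModuleCat.{u} A) (m + 1)).obj
        (ModuleCat.of A (A ⧸ Ideal.span {x | x ∈ f ++ g}))).obj
        (ModuleCat.of A (A ⧸ Ideal.span {x | x ∈ f ++ h})) : ModuleCat.{u} A) ≃ₗ[A]
      (Fin (f.length.choose (m + 1)) → (NN f g h).homology 0)) := by
  classical
  let K := kzC (sg (A := A) A) (f ++ g)
  have hL : NonPos K := (nonPos_sg A).kzC _
  have hA : Acyc K := acyc_of_koszulRegular hfg
  have hP : ∀ n, Projective (K.X n) := fun n => (modProj_sg.kzC (f ++ g)).projective n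
  obtain ⟨t⟩ := tor_iso K hL hA hP (ModuleCat.of A (A ⧸ Ideal.span {x | x ∈ f ++ h})) m
  obtain ⟨e0⟩ := h0_koszul (A := A) (f ++ g)
  let e0' : K.homology (-((0 : ℕ) : ℤ)) ≃ₗ[A] (A ⧸ Ideal.span {x | x ∈ f ++ g}) := e0
  let t0 := ((Tor (ModuleCat.{u} A) (m + 1)).mapIso e0'.toModuleIso).app
    (ModuleCat.of A (A ⧸ Ideal.span {x | x ∈ f ++ h}))
  obtain ⟨e1⟩ := tensor_kzC_iso (A := A) (A ⧸ Ideal.span {x | x ∈ f ++ h}) (f ++ g)
  have hEq : kzC (sg (A := A) (A ⧸ Ideal.span {x | x ∈ f ++ h})) (f ++ g) = kzC (NN f g h) f :=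
    kzC_append _ f g
  let t1 := (HomologicalComplex.homologyFunctor _ _ (-((m + 1 : ℕ) : ℤ))).mapIso
    (e1 ≪≫ eqToIso hEq)
  obtain ⟨ι, hfin, φ, hcard, he⟩ := kz_homology (NN f g h) f (fun y hy => nh_NN f g h hy)
  obtain ⟨e2⟩ := he (-((m + 1 : ℕ) : ℤ))
  have hz : ∀ k : ℤ, k ≠ 0 → Subsingleton ((NN f g h).homology k) := fun k hk =>
    ModuleCat.subsingleton_of_isZero (acyc_NN f g h hfh hfgh k hk)
  let e3 := piFiber (A := A) (fun n => (NN f g h).homology n) φ (m + 1) hz
  let e4 : {i' // φ i' = m + 1} ≃ Fin (f.length.choose (m + 1)) :=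
    Finite.equivFinOfCardEq (hcard (m + 1))
  exact ⟨(t0.symm ≪≫ t ≪≫ t1).toLinearEquiv ≪≫ₗ e2 ≪≫ₗ e3 ≪≫ₗ
    LinearEquiv.funCongrLeft A _ e4.symm⟩

end Main

end Groth.Agent.H46.KzCone
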