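import Groth.Agent.H46.GammaTower

/-!
# Local cohomology `RΓ_I` on `D(A)` over a Noetherian ring (helper46)

Consequences of `GammaTower.isCech_Rgamma`:
* `isIso_ε_of_torsion` : `RΓ_I K ⟶ K` is an isomorphism when `K` has `I`-power torsion cohomology;
* `nonempty_rgamma_rgamma_iso` : `RΓ_J (RΓ_I K) ≅ RΓ_{I+J} K`;
* `isPowerTorsion_Rgamma` : `RΓ_I K` has `I`-power torsion cohomology;
* `bijective_comp_ε` : `Hom(T, RΓ_I K) ≃ Hom(T, K)` for `T` with `I`-power torsion cohomology;
* `rgammaAdj` : `RΓ_I` is right adjoint to the inclusion of such objects.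
-/

set_option autoImplicit false
set_option linter.unusedSectionVars false
universe u
open CategoryTheory CategoryTheory.Limits Pretriangulated DerCA
attribute [local instance] HasDerivedCategory.standard

namespace Groth.Agent.H46.LCDerived

open DerivedCategory Groth.Agent.H35.TriChase Groth.Agent.H46.LocD Groth.Agent.H46.CechTower
  Groth.Agent.H46.GammaKInj Groth.Agent.H46.GammaTower

variable {A : Type u} [CommRing A]

lemma isZero_Lf_of_isPowerTorsion (I : Ideal A) (T : Dual.D A)
    (hT : ∀ i : ℤ, LocCoh.IsPowerTorsion I (Dual.HD A T i)) (f : A) (hf : f ∈ I) :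
    IsZero ((Lf (Submonoid.powers f)).obj T) := by
  refine isZero_Lf_of_torsion _ T (fun n x => ?_)
  obtain ⟨k, hk⟩ := hT n x
  exact ⟨f ^ k, ⟨k, rfl⟩, hk _ (Ideal.pow_mem_pow hf k)⟩

lemma isPowerTorsion_of_iso (I : Ideal A) {M N : ModuleCat.{u} A} (e : M ≅ N)
    (hN : LocCoh.IsPowerTorsion I N) : LocCoh.IsPowerTorsion I M := by
  intro m
  obtain ⟨k, hk⟩ := hN (e.hom.hom m)
  refine ⟨k, fun a ha => ?_⟩
  have h1 : e.inv.hom (a • e.hom.hom m) = 0 := by rw [hk a ha, map_zero]
  rw [map_smul] at h1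
  have h2 : e.inv.hom (e.hom.hom m) = m := by
    have := congrArg (fun g => g.hom m) e.hom_inv_id
    exact this
  rwa [h2] at h1

lemma isPowerTorsion_homology_gCx (I : Ideal A) (E : DRing.Cx A) (i : ℤ) :
    LocCoh.IsPowerTorsion I (((gCx I).obj E).homology i) := by
  have hw : ∀ w : ((gCx I).obj E).X i, ∃ k : ℕ, ∀ a ∈ I ^ k, a • w = 0 := by
    rintro ⟨w, k, hk⟩
    exact ⟨k, fun a ha => Subtype.ext (hk a ha)⟩
  intro x
  obtain ⟨z, rfl⟩ := (ModuleCat.epi_iff_surjective (((gCx I).obj E).homologyπ i)).1 inferInstance x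
  obtain ⟨k, hk⟩ := hw ((((gCx I).obj E).iCycles i).hom z)
  refine ⟨k, fun a ha => ?_⟩
  rw [← map_smul]
  have hz : a • z = 0 := by
    apply (ModuleCat.mono_iff_injective (((gCx I).obj E).iCycles i)).1 inferInstance
    rw [map_smul, map_zero]
    exact hk a ha
  rw [hz, map_zero]

section Noeth

variable [IsNoetherianRing A]

lemma exists_list_span (I : Ideal A) : ∃ fs : List A, Ideal.span {x | x ∈ fs} = I := by
  classical
  obtain ⟨s, hs⟩ := (IsNoetherian.noetherian I : I.FG)
  refine ⟨s.toList, ?_⟩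
  rw [← hs]
  congr 1
  ext x
  simp

/-- `RΓ_I K ⟶ K` is an isomorphism when `K` has `I`-power torsion cohomology. -/
theorem isIso_ε_of_torsion (I : Ideal A) [DRing.HasRgammaI I] (K : Dual.D A)
    (hK : ∀ i : ℤ, LocCoh.IsPowerTorsion I (Dual.HD A K i)) :
    IsIso ((DRing.RgammaIε I).app K) := by
  obtain ⟨fs, hfs⟩ := exists_list_span I
  refine IsCech.isIso fs (isCech_Rgamma fs I hfs K) (fun f hf => ?_)
  exact isZero_Lf_of_isPowerTorsion I K hK f (by rw [← hfs]; exact Ideal.subset_span hf)

/-- `RΓ_J (RΓ_I K) ≅ RΓ_{I+J} K`. -/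
theorem nonempty_rgamma_rgamma_iso (I J : Ideal A) [DRing.HasRgammaI I] [DRing.HasRgammaI J]
    [DRing.HasRgammaI (I ⊔ J)] (K : Dual.D A) :
    Nonempty ((DRing.RgammaI J).obj ((DRing.RgammaI I).obj K) ≅ (DRing.RgammaI (I ⊔ J)).obj K) := by
  obtain ⟨fs, hfs⟩ := exists_list_span I
  obtain ⟨gs, hgs⟩ := exists_list_span J
  have h1 := isCech_Rgamma fs I hfs K
  have h2 := isCech_Rgamma gs J hgs ((DRing.RgammaI I).obj K)
  have h3 := IsCech.append fs gs h1 h2
  have hspan : Ideal.span {x | x ∈ gs ++ fs} = I ⊔ J := by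
    rw [← hfs, ← hgs, sup_comm, ← Ideal.span_union]
    congr 1
    ext x
    simp only [List.mem_append, Set.mem_setOf_eq, Set.mem_union]
  have h4 := isCech_Rgamma (gs ++ fs) (I ⊔ J) hspan K
  obtain ⟨e, -⟩ := IsCech.unique (gs ++ fs) h3 h4
  exact ⟨e⟩

/-- `RΓ_I K` has `I`-power torsion cohomology. -/
theorem isPowerTorsion_Rgamma (I : Ideal A) [DRing.HasRgammaI I] (K : Dual.D A) (i : ℤ) :
    LocCoh.IsPowerTorsion I (Dual.HD A ((DRing.RgammaI I).obj K) i) := by
  obtain ⟨E, s, hE, hs, -, -⟩ := Groth.Agent.S0476.result (Q.objPreimage K)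
  haveI := hE
  haveI := hs
  haveI : IsIso (Q.map s) := (DerivedCategory.isIso_Q_map_iff_quasiIso (C := ModuleCat.{u} A) s).2 hs
  let e : K ≅ Q.obj E := (Q.objObjPreimageIso K).symm ≪≫ asIso (Q.map s)
  let j : (DerivedCategory.homologyFunctor (ModuleCat.{u} A) i).obj ((DRing.RgammaI I).obj K) ≅
      ((gCx I).obj E).homology i :=
    (DerivedCategory.homologyFunctor (ModuleCat.{u} A) i).mapIso
      ((DRing.RgammaI I).mapIso e ≪≫ eΓ I E) ≪≫
      (DerivedCategory.homologyFunctorFactors (ModuleCat.{u} A) i).app _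
  exact isPowerTorsion_of_iso I j (isPowerTorsion_homology_gCx I E i)

/-- `Hom(T, RΓ_I K) ≃ Hom(T, K)` for `T` with `I`-power torsion cohomology. -/
theorem bijective_comp_ε (I : Ideal A) [DRing.HasRgammaI I] (T K : Dual.D A)
    (hT : ∀ i : ℤ, LocCoh.IsPowerTorsion I (Dual.HD A T i)) :
    Function.Bijective (fun g : T ⟶ (DRing.RgammaI I).obj K => g ≫ (DRing.RgammaIε I).app K) := by
  obtain ⟨fs, hfs⟩ := exists_list_span I
  refine IsCech.bijective fs (isCech_Rgamma fs I hfs K) T (fun f hf => ?_)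
  exact isZero_Lf_of_isPowerTorsion I T hT f (by rw [← hfs]; exact Ideal.subset_span hf)

/-- the property "all cohomology modules are `I`-power torsion" -/
abbrev PT (I : Ideal A) : ObjectProperty (Dual.D A) :=
  fun L : Dual.D A => ∀ i : ℤ, LocCoh.IsPowerTorsion I (Dual.HD A L i)

/-- `RΓ_I` is right adjoint to the inclusion of the objects with `I`-power torsion cohomology. -/
noncomputable def rgammaAdj (I : Ideal A) [DRing.HasRgammaI I] :
    ObjectProperty.ι (PT I) ⊣ ObjectProperty.lift (PT I) (DRing.RgammaI I)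
      (fun K => isPowerTorsion_Rgamma I K) :=
  Adjunction.mkOfHomEquiv
    { homEquiv := fun T K =>
        (Equiv.ofBijective _ (bijective_comp_ε I T.obj K T.property)).symm.trans
          ((ObjectProperty.fullyFaithfulι (PT I)).homEquiv
            (X := T) (Y := (ObjectProperty.lift (PT I) (DRing.RgammaI I)
              (fun K => isPowerTorsion_Rgamma I K)).obj K)).symm
      homEquiv_naturality_left_symm := by
        intro T' T K f g
        show (f ≫ g).hom ≫ (DRing.RgammaIε I).app K = f.hom ≫ g.hom ≫ (DRing.RgammaIε I).app K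
        rw [ObjectProperty.FullSubcategory.comp_hom, Category.assoc]
      homEquiv_naturality_right := by
        intro T K K' f g
        apply ObjectProperty.hom_ext
        apply (bijective_comp_ε I T.obj K' T.property).1
        show ((Equiv.ofBijective _ (bijective_comp_ε I T.obj K' T.property)).symm (f ≫ g)) ≫
            (DRing.RgammaIε I).app K' =
          (((Equiv.ofBijective _ (bijective_comp_ε I T.obj K T.property)).symm f) ≫
            (DRing.RgammaI I).map g) ≫ (DRing.RgammaIε I).app K'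
        have h1 := (Equiv.ofBijective _ (bijective_comp_ε I T.obj K' T.property)).apply_symm_apply
          (f ≫ g)
        have h2 := (Equiv.ofBijective _ (bijective_comp_ε I T.obj K T.property)).apply_symm_apply f
        have nat := (DRing.RgammaIε I).naturality g
        simp only [Equiv.ofBijective_apply] at h1 h2
        rw [h1, Category.assoc, nat, ← Category.assoc, h2]
        rfl }

end Noeth

end Groth.Agent.H46.LCDerived
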