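import Groth.Agent.S1718
import Groth.Agent.H12.RGamHDI_D
import Groth.Agent.H56.DerCat

/-!
# `RΓ_m(ω) ≅ E[0]` for a normalized dualizing complex (helper46)
-/

set_option autoImplicit false
set_option linter.style.haveILetI false
universe u
open CategoryTheory CategoryTheory.Limits
attribute [local instance] HasDerivedCategory.standard

namespace Groth.Agent.H46.LDC

open DerivedCategory

/-- `RΓ_m(ω) ≅ E[0]` -/
theorem nonempty_Rgamma_dualizing_iso (A : Type u) [CommRing A] [IsLocalRing A] [IsNoetherianRing A]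
    (ω : Dual.D A) (hω : Dual.IsDualizing A ω) (hn : Dual.IsNormalized A ω) (E : Type u)
    [AddCommGroup E] [Module A E] (f : IsLocalRing.ResidueField A →ₗ[A] E)
    (hf : InjHull.IsInjectiveHull f) [DRing.HasRgammaI (IsLocalRing.maximalIdeal A)] :
    Nonempty ((DRing.RgammaI (IsLocalRing.maximalIdeal A)).obj ω ≅ Dual.inD A E) := by
  obtain ⟨⟨e0⟩, hne⟩ := Groth.Agent.S1718.result A ω hω hn E f hf
  set Z := (DRing.RgammaI (IsLocalRing.maximalIdeal A)).obj ω with hZ
  have hz : ∀ i : ℤ, i ≠ 0 → IsZero ((homologyFunctor (ModuleCat.{u} A) i).obj Z) := by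
    intro i hi
    obtain ⟨e⟩ := Groth.Agent.H12.RGamHDI.main (IsLocalRing.maximalIdeal A) ω i
    haveI := hne i hi
    haveI : Subsingleton (Dual.HD A Z i) := e.toEquiv.subsingleton
    exact ModuleCat.isZero_of_subsingleton _
  haveI : Z.IsGE 0 := (isGE_iff Z 0).2 (fun i hi => hz i (by omega))
  haveI : Z.IsLE 0 := (isLE_iff Z 0).2 (fun i hi => hz i (by omega))
  obtain ⟨e1⟩ := Groth.Agent.H56.nonempty_iso_single Z 0
  obtain ⟨e2⟩ := Groth.Agent.H12.RGamHDI.main (IsLocalRing.maximalIdeal A) ω 0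
  let e3 : (homologyFunctor (ModuleCat.{u} A) 0).obj Z ≅ ModuleCat.of A E :=
    (e2.trans e0).toModuleIso
  exact ⟨e1 ≪≫ (singleFunctor (ModuleCat.{u} A) 0).mapIso e3⟩

end Groth.Agent.H46.LDC
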