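import Groth.Agent.H46.LDCa
import Groth.Agent.H46.LDCb

/-!
# Local duality with derived completion (helper46)

`(RHom(K, ω))^∧ ≅ RHom(RΓ_m K, E[0])`.
-/

set_option autoImplicit false
set_option linter.style.haveILetI false
set_option linter.unusedSectionVars false
universe u
open CategoryTheory CategoryTheory.Limits Pretriangulated
attribute [local instance] HasDerivedCategory.standard

namespace Groth.Agent.H46.LDC

open DerivedCategory DRing Groth.Agent.H35 Groth.Agent.H35.TriChase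
  Groth.Agent.H46.LCDerived Groth.Agent.H35.DerCompKos
  Groth.Agent.H35.DerCompKos2 Groth.Agent.H35.DerCompAdj Groth.Agent.H46.GreenleesMay

variable {A : Type u} [CommRing A] [IsNoetherianRing A] (I : Ideal A) [HasRgammaI I]
  [HasDerivedCompletion I]

lemma LO_shift {Y : Dual.D A} (hY : LO I Y) (n : ℤ) : LO I (Y⟦n⟧) := by
  intro L hL x
  let e : (Y⟦n⟧)⟦-n⟧ ≅ Y := (shiftFunctorCompIsoId (Dual.D A) n (-n) (by omega)).app Y
  apply (shiftFunctor (Dual.D A) (-n)).map_injective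
  have h0 : e.inv ≫ x⟦-n⟧' = 0 := hY _ (isDerivedComplete_shift I hL (-n)) _
  rw [Functor.map_zero, ← cancel_epi e.inv, h0, comp_zero]

/-- (c) `RHom(G, N) ≅ RHom(G, N^∧)` when `G` has power torsion cohomology -/
theorem isIso_RHomCx_map_unit (G : DRing.Cx A) [DRing.HasRHomCx G] (hG : PT I (Q.obj G))
    (N : Dual.D A) : IsIso ((DRing.RHomCx G).map (toDerivedCompletion I N)) := by
  obtain ⟨Y, q, δ, hT⟩ := distinguished_cocone_triangle (toDerivedCompletion I N)
  have hY : LO I Y := LO_cone_unit I N q δ hT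
  exact isIso_RHomCx_map G _ q ⟨δ, hT⟩
    (fun n f => hom_PT_LO_eq_zero I hG (LO_shift I hY n) f)

/-- (a) `RHom(K, L)^∧ ≅ RHom(K, L^∧)` -/
theorem nonempty_comp_RHomCx_iso (K : DRing.Cx A) [DRing.HasRHomCx K] (L : Dual.D A) :
    Nonempty (comp I ((DRing.RHomCx K).obj L) ≅ (DRing.RHomCx K).obj (comp I L)) := by
  obtain ⟨h1, h2⟩ := Groth.Agent.S7101.result I (IsNoetherian.noetherian I) K L
  obtain ⟨c, -⟩ := exists_iso_of_bijective I
    ((DRing.RHomCx K).map (toDerivedCompletion I L)) h1 h2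
  exact ⟨c⟩

/-- `RHom(K, ω)^∧ ≅ RHom(G, E₀)` when `G ≅ RΓ_I K` and `E₀ ≅ RΓ_I ω` -/
theorem main (ω E0 : Dual.D A) (hE : Nonempty ((RgammaI I).obj ω ≅ E0))
    (K G : DRing.Cx A) [DRing.HasRHomCx K] [DRing.HasRHomCx G]
    (hG : Nonempty (DRing.toD G ≅ (RgammaI I).obj (DRing.toD K))) :
    Nonempty (comp I ((DRing.RHomCx K).obj ω) ≅ (DRing.RHomCx G).obj E0) := by
  obtain ⟨e⟩ := hG
  obtain ⟨eE⟩ := hE
  obtain ⟨fs, hfs⟩ := exists_list_span I
  have hmem : ∀ f ∈ fs, f ∈ I := fun f hf => by rw [← hfs]; exact Ideal.subset_span hf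
  have hPT : PT I (Q.obj G) := fun i =>
    isPowerTorsion_of_iso I ((homologyFunctor (ModuleCat.{u} A) i).mapIso e)
      (isPowerTorsion_Rgamma I (Q.obj K) i)
  obtain ⟨c1⟩ := nonempty_comp_RHomCx_iso I K ω
  have hC := Groth.Agent.H46.GammaTower.isCech_Rgamma fs I hfs (Q.obj K)
  obtain ⟨c2⟩ := nonempty_iso_RHomCx K G (e.hom ≫ (RgammaIε I).app (Q.obj K)) (comp I ω)
    (fun n => by
      have hL := isDerivedComplete_shift I (isDerivedComplete_comp I ω) n
      have b2 := IsCech.bijective_restrict I fs hmem hC _ hL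
      constructor
      · intro x x' hxx'
        apply b2.1
        show (RgammaIε I).app (Q.obj K) ≫ x = (RgammaIε I).app (Q.obj K) ≫ x'
        have hxx'' : (e.hom ≫ (RgammaIε I).app (Q.obj K)) ≫ x =
          (e.hom ≫ (RgammaIε I).app (Q.obj K)) ≫ x' := hxx'
        rw [Category.assoc, Category.assoc] at hxx''
        exact (cancel_epi e.hom).1 hxx''
      · intro y
        obtain ⟨x, hx⟩ := b2.2 (e.inv ≫ y)
        have hx' : (RgammaIε I).app (Q.obj K) ≫ x = e.inv ≫ y := hx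
        refine ⟨x, ?_⟩
        show (e.hom ≫ (RgammaIε I).app (Q.obj K)) ≫ x = y
        rw [Category.assoc, hx', ← Category.assoc, e.hom_inv_id, Category.id_comp])
  obtain ⟨c3⟩ := exists_iso_comp_Rgamma I ω
  haveI := isIso_RHomCx_map_unit I G hPT ((RgammaI I).obj ω)
  let c4 := asIso ((DRing.RHomCx G).map (toDerivedCompletion I ((RgammaI I).obj ω)))
  exact ⟨c1 ≪≫ c2 ≪≫ (DRing.RHomCx G).mapIso c3.symm ≪≫ c4.symm ≪≫
    (DRing.RHomCx G).mapIso eE⟩

end Groth.Agent.H46.LDC
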