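import Groth.Agent.H46.LCDerived
import Groth.Agent.S1032
import Groth.Agent.S1812
import Groth.Agent.S7057

/-!
# `RΓ_I` and restriction of scalars (helper46)

* `hasRgammaI` : the total right derived functor of `Γ_I` exists (K-injective resolutions).
* `resLocIso` : localising a `B`-module at `φ f` is localising the underlying `A`-module at `f`.
* `exists_res_Lf_iso` : `res (Y_{φ f}) ≅ (res Y)_f` in `D(A)`, compatibly with the localisation maps.
* `IsCech.res` : restriction of scalars preserves iterated fibres of localisation maps.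
* `nonempty_res_Rgamma_iso` : `res (RΓ_{IB} K) ≅ RΓ_I (res K)` for Noetherian rings.
-/

set_option autoImplicit false
set_option linter.unusedSectionVars false
universe u
open CategoryTheory CategoryTheory.Limits Pretriangulated DerCA
attribute [local instance] HasDerivedCategory.standard

namespace Groth.Agent.H46.RgammaRes

open DerivedCategory DRing Groth.Agent.H35.TriChase Groth.Agent.H46.LocD
  Groth.Agent.H46.CechTower Groth.Agent.H46.LCDerived

/-- the total right derived functor of `Γ_I` exists -/
theorem hasRgammaI {A : Type u} [CommRing A] (I : Ideal A) : DRing.HasRgammaI I :=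
  (Groth.Agent.S1032.result (A := ModuleCat.{u} A)
    (fun K => by
      obtain ⟨J, f, hJ, hf, -, -⟩ := Groth.Agent.S0476.result K
      exact ⟨J, f, hJ, hf⟩) (DRing.gammaIKh I)).1


section Res

variable {A B : Type u} [CommRing A] [CommRing B] [Algebra A B]

/-- restriction of scalars along `A → B` -/
noncomputable abbrev resM : ModuleCat.{u} B ⥤ ModuleCat.{u} A :=
  ModuleCat.restrictScalars.{u} (algebraMap A B)

/-- the localisation map of a `B`-module at `φ f`, as an `A`-linear map -/
noncomputable abbrev resUnit (f : A) (N : ModuleCat.{u} B) :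
    (resM (A := A)).obj N ⟶
      (resM (A := A)).obj ((locFunctor (Submonoid.powers (algebraMap A B f))).obj N) :=
  (resM (A := A)).map ((locUnit (Submonoid.powers (algebraMap A B f))).app N)

lemma res_smul_def (L : ModuleCat.{u} B) (a : A) (x : (resM (A := A)).obj L) :
    a • x = (show L from (algebraMap A B a • (show L from x))) := rfl

lemma isLocalizedModule_resUnit (f : A) (N : ModuleCat.{u} B) :
    IsLocalizedModule (Submonoid.powers f) (resUnit f N).hom where
  map_units s := by
    obtain ⟨_, k, rfl⟩ := s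
    have h := IsLocalizedModule.map_units
      (LocalizedModule.mkLinearMap (Submonoid.powers (algebraMap A B f)) N)
      (⟨algebraMap A B f ^ k, k, rfl⟩ : Submonoid.powers (algebraMap A B f))
    rw [Module.End.isUnit_iff] at h ⊢
    have e : ∀ x : LocalizedModule (Submonoid.powers (algebraMap A B f)) N,
        (algebraMap A B (f ^ k)) • x = (algebraMap A B f ^ k) • x := fun x => by rw [map_pow]
    refine ⟨fun x y hxy => h.1 ?_, fun y => ?_⟩
    · show (algebraMap A B f ^ k) • (show LocalizedModule _ N from x) =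
        (algebraMap A B f ^ k) • (show LocalizedModule _ N from y)
      rw [← e, ← e]
      exact hxy
    · obtain ⟨x, hx⟩ := h.2 y
      refine ⟨x, ?_⟩
      show (algebraMap A B (f ^ k)) • (show LocalizedModule _ N from x) = y
      rw [e]
      exact hx
  surj y := by
    obtain ⟨⟨x, ⟨_, k, rfl⟩⟩, hx⟩ := IsLocalizedModule.surj
      (Submonoid.powers (algebraMap A B f))
      (LocalizedModule.mkLinearMap (Submonoid.powers (algebraMap A B f)) N) y
    refine ⟨⟨x, ⟨f ^ k, k, rfl⟩⟩, ?_⟩
    show (algebraMap A B (f ^ k)) • (show LocalizedModule _ N from y) = _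
    rw [map_pow]
    exact hx
  exists_of_eq {x₁ x₂} h := by
    obtain ⟨⟨_, k, rfl⟩, hc⟩ := IsLocalizedModule.exists_of_eq
      (S := Submonoid.powers (algebraMap A B f))
      (f := LocalizedModule.mkLinearMap (Submonoid.powers (algebraMap A B f)) N)
      (x₁ := x₁) (x₂ := x₂) h
    refine ⟨⟨f ^ k, k, rfl⟩, ?_⟩
    show (algebraMap A B (f ^ k)) • (show N from x₁) = (algebraMap A B (f ^ k)) • (show N from x₂)
    rw [map_pow]
    exact hc

/-- `(res N)_f ≅ res (N_{φ f})` -/
noncomputable def resLocIso (f : A) (N : ModuleCat.{u} B) :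
    (locFunctor (Submonoid.powers f)).obj ((resM (A := A)).obj N) ≅
      (resM (A := A)).obj ((locFunctor (Submonoid.powers (algebraMap A B f))).obj N) :=
  haveI := isLocalizedModule_resUnit f N
  (IsLocalizedModule.iso (Submonoid.powers f) (resUnit f N).hom).toModuleIso

lemma locUnit_resLocIso (f : A) (N : ModuleCat.{u} B) :
    (locUnit (Submonoid.powers f)).app ((resM (A := A)).obj N) ≫ (resLocIso f N).hom =
      resUnit f N := by
  haveI := isLocalizedModule_resUnit f N
  ext x
  exact IsLocalizedModule.iso_mk_one (Submonoid.powers f) (resUnit f N).hom x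

lemma resLocIso_naturality (f : A) {N N' : ModuleCat.{u} B} (h : N ⟶ N') :
    (locFunctor (Submonoid.powers f)).map ((resM (A := A)).map h) ≫ (resLocIso f N').hom =
      (resLocIso f N).hom ≫
        (resM (A := A)).map ((locFunctor (Submonoid.powers (algebraMap A B f))).map h) := by
  haveI := isLocalizedModule_resUnit f N'
  have h1 : (locUnit (Submonoid.powers f)).app ((resM (A := A)).obj N) ≫
      ((locFunctor (Submonoid.powers f)).map ((resM (A := A)).map h) ≫ (resLocIso f N').hom) =
      (locUnit (Submonoid.powers f)).app ((resM (A := A)).obj N) ≫ ((resLocIso f N).hom ≫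
        (resM (A := A)).map ((locFunctor (Submonoid.powers (algebraMap A B f))).map h)) := by
    have n1 := (locUnit (Submonoid.powers f)).naturality ((resM (A := A)).map h)
    have n2 := (locUnit (Submonoid.powers (algebraMap A B f))).naturality h
    rw [← Category.assoc, ← n1, Category.assoc, locUnit_resLocIso, ← Category.assoc,
      locUnit_resLocIso]
    show (resM (A := A)).map h ≫ (resM (A := A)).map _ = (resM (A := A)).map _ ≫ (resM (A := A)).map _
    rw [← Functor.map_comp, ← Functor.map_comp]
    exact congrArg (resM (A := A)).map n2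
  apply ModuleCat.hom_ext
  apply IsLocalizedModule.linearMap_ext (Submonoid.powers f)
    (LocalizedModule.mkLinearMap (Submonoid.powers f) ((resM (A := A)).obj N)) (resUnit f N').hom
  exact congrArg ModuleCat.Hom.hom h1

/-- termwise restriction of scalars -/
noncomputable abbrev resCx : DRing.Cx B ⥤ DRing.Cx A :=
  (resM (A := A) (B := B)).mapHomologicalComplex (ComplexShape.up ℤ)

/-- `(res X)_f ≅ res (X_{φ f})` for complexes -/
noncomputable def resLocCxIso (f : A) (X : DRing.Cx B) :
    (locCx (Submonoid.powers f)).obj ((resCx (A := A) (B := B)).obj X) ≅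
      (resCx (A := A) (B := B)).obj ((locCx (Submonoid.powers (algebraMap A B f))).obj X) :=
  HomologicalComplex.Hom.isoOfComponents (fun i => resLocIso f (X.X i))
    (fun i j _ => (resLocIso_naturality f (X.d i j)).symm)

lemma locCxUnit_resLocCxIso (f : A) (X : DRing.Cx B) :
    locCxUnit (Submonoid.powers f) ((resCx (A := A) (B := B)).obj X) ≫ (resLocCxIso f X).hom =
      (resCx (A := A) (B := B)).map (locCxUnit (Submonoid.powers (algebraMap A B f)) X) := by
  ext i : 1
  exact locUnit_resLocIso f (X.X i)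

/-- restriction of scalars on derived categories -/
noncomputable abbrev G : Dual.D B ⥤ Dual.D A := DRing.restrictD (algebraMap A B)

noncomputable abbrev rf : Q ⋙ G (A := A) (B := B) ≅ resCx (A := A) (B := B) ⋙ Q :=
  (ModuleCat.restrictScalars.{u} (algebraMap A B)).mapDerivedCategoryFactors

lemma exists_res_Lf_Q_iso (f : A) (X : DRing.Cx B) :
    ∃ c : (G (A := A)).obj ((Lf (Submonoid.powers (algebraMap A B f))).obj (Q.obj X)) ≅
        (Lf (Submonoid.powers f)).obj ((G (A := A)).obj (Q.obj X)),
      (G (A := A)).map ((ηD (Submonoid.powers (algebraMap A B f))).app (Q.obj X)) ≫ c.hom =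
        (ηD (Submonoid.powers f)).app ((G (A := A)).obj (Q.obj X)) := by
  set S' := Submonoid.powers (algebraMap A B f) with hS'
  set S := Submonoid.powers f with hS
  let a := (G (A := A)).map ((LfFac S').hom.app X)
  let b := (rf (A := A) (B := B)).hom.app ((locCx S').obj X)
  let c := Q.map (resLocCxIso f X).inv
  let d := (LfFac S).inv.app ((resCx (A := A) (B := B)).obj X)
  let e := (Lf S).map ((rf (A := A) (B := B)).inv.app X)
  refine ⟨(G (A := A)).mapIso ((LfFac S').app X) ≪≫ (rf (A := A) (B := B)).app ((locCx S').obj X) ≪≫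
    Q.mapIso (resLocCxIso f X).symm ≪≫ ((LfFac S).app ((resCx (A := A) (B := B)).obj X)).symm ≪≫
    (Lf S).mapIso ((rf (A := A) (B := B)).app X).symm, ?_⟩
  show (G (A := A)).map ((ηD S').app (Q.obj X)) ≫ a ≫ b ≫ c ≫ d ≫ e = _
  have e1 : ∀ {Z : Dual.D A} (h : _ ⟶ Z), (G (A := A)).map ((ηD S').app (Q.obj X)) ≫ a ≫ h =
      (G (A := A)).map (Q.map (locCxUnit S' X)) ≫ h := by
    intro Z h
    rw [← Category.assoc, ← (G (A := A)).map_comp, ηD_app_Q, Category.assoc, Iso.inv_hom_id_app]
    erw [Category.comp_id]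
  have e2 : ∀ {Z : Dual.D A} (h : _ ⟶ Z), (G (A := A)).map (Q.map (locCxUnit S' X)) ≫ b ≫ h =
      (rf (A := A) (B := B)).hom.app X ≫
        Q.map ((resCx (A := A) (B := B)).map (locCxUnit S' X)) ≫ h := by
    intro Z h
    rw [← Category.assoc, ← Category.assoc]
    exact congrArg (fun z => z ≫ h) ((rf (A := A) (B := B)).hom.naturality (locCxUnit S' X))
  have e3 : ∀ {Z : Dual.D A} (h : _ ⟶ Z),
      Q.map ((resCx (A := A) (B := B)).map (locCxUnit S' X)) ≫ c ≫ h =
      Q.map (locCxUnit S ((resCx (A := A) (B := B)).obj X)) ≫ h := by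
    intro Z h
    rw [← Category.assoc, ← Q.map_comp, ← locCxUnit_resLocCxIso, Category.assoc, Iso.hom_inv_id,
      Category.comp_id]
  have e4 : ∀ {Z : Dual.D A} (h : _ ⟶ Z),
      Q.map (locCxUnit S ((resCx (A := A) (B := B)).obj X)) ≫ d ≫ h =
      (ηD S).app (Q.obj ((resCx (A := A) (B := B)).obj X)) ≫ h := by
    intro Z h
    rw [← Category.assoc, ← ηD_app_Q]
  have e5 : (rf (A := A) (B := B)).hom.app X ≫
      (ηD S).app (Q.obj ((resCx (A := A) (B := B)).obj X)) =
      (ηD S).app ((G (A := A)).obj (Q.obj X)) ≫ (Lf S).map ((rf (A := A) (B := B)).hom.app X) :=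
    (ηD S).naturality ((rf (A := A) (B := B)).hom.app X)
  rw [e1, e2, e3, e4, ← Category.assoc, e5, Category.assoc, ← (Lf S).map_comp,
    Iso.hom_inv_id_app]
  exact (congrArg (fun z => (ηD S).app ((G (A := A)).obj (Q.obj X)) ≫ z) ((Lf S).map_id _)).trans
    (Category.comp_id _)

/-- `res (Y_{φ f}) ≅ (res Y)_f`, compatibly with the localisation maps -/
lemma exists_res_Lf_iso (f : A) (Y : Dual.D B) :
    ∃ c : (G (A := A)).obj ((Lf (Submonoid.powers (algebraMap A B f))).obj Y) ≅
        (Lf (Submonoid.powers f)).obj ((G (A := A)).obj Y),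
      (G (A := A)).map ((ηD (Submonoid.powers (algebraMap A B f))).app Y) ≫ c.hom =
        (ηD (Submonoid.powers f)).app ((G (A := A)).obj Y) := by
  let X := Q.objPreimage Y
  let e : Q.obj X ≅ Y := Q.objObjPreimageIso Y
  set S' := Submonoid.powers (algebraMap A B f) with hS'
  set S := Submonoid.powers f with hS
  obtain ⟨c₀, hc₀⟩ : ∃ c : (G (A := A)).obj ((Lf S').obj (Q.obj X)) ≅
        (Lf S).obj ((G (A := A)).obj (Q.obj X)),
      (G (A := A)).map ((ηD S').app (Q.obj X)) ≫ c.hom =
        (ηD S).app ((G (A := A)).obj (Q.obj X)) := exists_res_Lf_Q_iso (A := A) f X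
  refine ⟨(G (A := A)).mapIso ((Lf S').mapIso e.symm) ≪≫ c₀ ≪≫
    (Lf S).mapIso ((G (A := A)).mapIso e), ?_⟩
  show (G (A := A)).map ((ηD S').app Y) ≫ (G (A := A)).map ((Lf S').map e.inv) ≫ c₀.hom ≫
    (Lf S).map ((G (A := A)).map e.hom) = _
  have n1 : (ηD S').app Y ≫ (Lf S').map e.inv = e.inv ≫ (ηD S').app (Q.obj X) :=
    ((ηD S').naturality e.inv).symm
  have n2 : (ηD S).app ((G (A := A)).obj (Q.obj X)) ≫ (Lf S).map ((G (A := A)).map e.hom) =
      (G (A := A)).map e.hom ≫ (ηD S).app ((G (A := A)).obj Y) :=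
    ((ηD S).naturality ((G (A := A)).map e.hom)).symm
  rw [← Category.assoc, ← (G (A := A)).map_comp, n1, (G (A := A)).map_comp, Category.assoc,
    ← Category.assoc ((G (A := A)).map ((ηD S').app (Q.obj X))), hc₀, n2, ← Category.assoc,
    ← (G (A := A)).map_comp, e.inv_hom_id]
  exact (congrArg (fun z => z ≫ (ηD S).app ((G (A := A)).obj Y)) ((G (A := A)).map_id _)).trans
    (Category.id_comp _)

/-- restriction of scalars preserves iterated fibres of localisation maps -/
lemma IsCech.res : ∀ (fs : List A) {X Y : Dual.D B} {p : Y ⟶ X}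
    (_ : IsCech (fs.map (algebraMap A B)) X Y p),
    IsCech fs ((G (A := A)).obj X) ((G (A := A)).obj Y) ((G (A := A)).map p)
  | [], X, Y, p, h => by
    have hp : IsIso p := h
    show IsIso ((G (A := A)).map p)
    infer_instance
  | f :: fs, X, Y, p, h => by
    obtain ⟨Y₁, p₁, p₂, h₁, h₂, rfl⟩ := h
    refine ⟨(G (A := A)).obj Y₁, (G (A := A)).map p₁, (G (A := A)).map p₂, IsCech.res fs h₁, ?_,
      (G (A := A)).map_comp _ _⟩
    obtain ⟨δ, hT⟩ := h₂
    obtain ⟨c, hc⟩ := exists_res_Lf_iso (A := A) f Y₁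
    have hT' := (G (A := A)).map_distinguished _ hT
    have h3 : DT ((G (A := A)).map p₂)
        ((G (A := A)).map ((ηD (Submonoid.powers (algebraMap A B f))).app Y₁)) := ⟨_, hT'⟩
    have h4 := DT.of_iso_right h3 c
    rw [hc] at h4
    exact h4

/-- `res (RΓ_{IB} K) ≅ RΓ_I (res K)` for Noetherian rings -/
theorem nonempty_res_Rgamma_iso [IsNoetherianRing A] [IsNoetherianRing B] (I : Ideal A)
    [HasRgammaI I] [HasRgammaI (I.map (algebraMap A B))] (K : Dual.D B) :
    Nonempty ((G (A := A)).obj ((RgammaI (I.map (algebraMap A B))).obj K) ≅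
      (RgammaI I).obj ((G (A := A)).obj K)) := by
  obtain ⟨fs, hfs⟩ := exists_list_span I
  have hJ : Ideal.span {x | x ∈ fs.map (algebraMap A B)} = I.map (algebraMap A B) := by
    rw [← hfs, Ideal.map_span]
    congr 1
    ext x
    simp only [List.mem_map, Set.mem_setOf_eq, Set.mem_image]
  have h1 := Groth.Agent.H46.GammaTower.isCech_Rgamma (fs.map (algebraMap A B)) _ hJ K
  have h2 := IsCech.res (A := A) fs h1
  have h3 := Groth.Agent.H46.GammaTower.isCech_Rgamma fs I hfs ((G (A := A)).obj K)
  obtain ⟨e, -⟩ := IsCech.unique fs h2 h3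
  exact ⟨e⟩

end Res

end Groth.Agent.H46.RgammaRes
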