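import Groth.Agent.H46.HomInj
import Groth.Agent.H46.LDCa
import Groth.Agent.H46.GreenleesMay
import Groth.Agent.H46.RgammaRes
import Groth.Agent.H87.ComplExact
import Groth.Agent.S7050
import Groth.Agent.S7048
import Groth.Agent.S7096

/-!
# Local duality over a complete local ring (helper46)

`Hom_{D(A)}(K, ω[-i]) ≃ Hom_A(H^i_m(K), E)` for `A` complete local Noetherian.
-/

set_option autoImplicit false
set_option linter.style.haveILetI false
set_option linter.unusedSectionVars false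
universe u v
open CategoryTheory CategoryTheory.Limits Pretriangulated
attribute [local instance] HasDerivedCategory.standard

namespace Groth.Agent.H46.LDC

open DerivedCategory DRing Groth.Agent.H35 Groth.Agent.H35.TriChase
  Groth.Agent.H46.LCDerived Groth.Agent.H35.DerCompKos
  Groth.Agent.H35.DerCompKos2 Groth.Agent.H35.DerCompAdj Groth.Agent.H46.GreenleesMay

section Abstract

variable {C : Type u} [Category.{v} C] [Preadditive C] [HasShift C ℤ]
  [∀ n : ℤ, (shiftFunctor C n).Additive]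

/-- if composition with `u` is bijective on `Hom(T[-n], -)` then composition with `u[n]` is
bijective on `Hom(T, -)` -/
lemma bijective_postcomp_shift {T Y Y' : C} (u : Y ⟶ Y') (n : ℤ)
    (h : Function.Bijective (fun g : T⟦-n⟧ ⟶ Y => g ≫ u)) :
    Function.Bijective (fun g : T ⟶ Y⟦n⟧ => g ≫ u⟦n⟧') := by
  let c := shiftFunctorCompIsoId C n (-n) (by omega)
  let φ : ∀ W : C, (T ⟶ W⟦n⟧) → (T⟦-n⟧ ⟶ W) := fun W f => f⟦-n⟧' ≫ c.hom.app W
  have hφ : ∀ W : C, Function.Bijective (φ W) := by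
    intro W
    constructor
    · intro f f' hff'
      have h1 : f⟦-n⟧' = f'⟦-n⟧' := (cancel_mono (c.hom.app W)).1 hff'
      exact (shiftFunctor C (-n)).map_injective h1
    · intro g
      obtain ⟨f, hf⟩ := (shiftFunctor C (-n)).map_surjective (g ≫ c.inv.app W)
      refine ⟨f, ?_⟩
      show f⟦-n⟧' ≫ c.hom.app W = g
      rw [hf, Category.assoc, Iso.inv_hom_id_app]
      exact Category.comp_id g
  have hnat : (φ Y') ∘ (fun g : T ⟶ Y⟦n⟧ => g ≫ u⟦n⟧') = (fun g : T⟦-n⟧ ⟶ Y => g ≫ u) ∘ (φ Y) := by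
    funext f
    show (f ≫ u⟦n⟧')⟦-n⟧' ≫ c.hom.app Y' = (f⟦-n⟧' ≫ c.hom.app Y) ≫ u
    rw [Functor.map_comp, Category.assoc, Category.assoc]
    congr 1
    exact c.hom.naturality u
  have h2 : Function.Bijective ((φ Y') ∘ (fun g : T ⟶ Y⟦n⟧ => g ≫ u⟦n⟧')) := by
    rw [hnat]
    exact h.comp (hφ Y)
  exact (Function.Bijective.of_comp_iff' (hφ Y') _).1 h2

end Abstract

variable {A : Type u} [CommRing A]

/-- an object with finite cohomology modules over a Noetherian `I`-adically complete ring is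
derived complete -/
theorem isDerivedComplete_of_finite [IsNoetherianRing A] (I : Ideal A) [IsAdicComplete I A]
    (ω : Dual.D A) (hfin : ∀ i : ℤ, Module.Finite A (Dual.HD A ω i)) :
    DRing.IsDerivedComplete I ω :=
  (Groth.Agent.S7050.result I ω).2 (fun i => by
    haveI := hfin i
    haveI := Groth.Agent.H87.ComplExact.isAdicComplete_of_finite I (Dual.HD A ω i)
    exact Groth.Agent.S7048.result I (Dual.HD A ω i))

lemma PT_shift (I : Ideal A) {T : Dual.D A} (hT : PT I T) (n : ℤ) : PT I (T⟦n⟧) := fun j =>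
  isPowerTorsion_of_iso I
    (((homologyFunctor (ModuleCat.{u} A) 0).shiftIso n j (n + j) rfl).app T) (hT (n + j))

/-- local duality: `Hom(K, ω[-i]) ≃ Hom(H^i_I(K), E)` when `ω` is derived complete and
`RΓ_I ω ≅ E[0]` with `E` injective -/
theorem nonempty_hom_linearEquiv [IsNoetherianRing A] (I : Ideal A) (ω : Dual.D A)
    (hω : DRing.IsDerivedComplete I ω) (E : Type u) [AddCommGroup E] [Module A E]
    [Module.Injective A E]
    (hE : ∀ [DRing.HasRgammaI I], Nonempty ((DRing.RgammaI I).obj ω ≅ Dual.inD A E))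
    (K : Dual.D A) (i : ℤ) :
    Nonempty ((K ⟶ ω⟦(-i)⟧) ≃ₗ[A] (Dual2.HDI A I K i →ₗ[A] E)) := by
  haveI : DRing.HasRgammaI I := Groth.Agent.H46.RgammaRes.hasRgammaI I
  haveI : DRing.HasDerivedCompletion I := Groth.Agent.S7096.result I (IsNoetherian.noetherian I)
  obtain ⟨eE⟩ := hE
  obtain ⟨fs, hfs⟩ := exists_list_span I
  have hmem : ∀ f ∈ fs, f ∈ I := fun f hf => by rw [← hfs]; exact Ideal.subset_span hf
  set L : Dual.D A := ω⟦(-i)⟧ with hL
  have hLc : DRing.IsDerivedComplete I L := isDerivedComplete_shift I hω (-i)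
  have hC := Groth.Agent.H46.GammaTower.isCech_Rgamma fs I hfs K
  have b1 : Function.Bijective (fun x : K ⟶ L => (RgammaIε I).app K ≫ x) :=
    IsCech.bijective_restrict I fs hmem hC L hLc
  have hPT : PT I ((RgammaI I).obj K) := isPowerTorsion_Rgamma I K
  have b2 : Function.Bijective (fun g : (RgammaI I).obj K ⟶ ((RgammaI I).obj ω)⟦(-i)⟧ =>
      g ≫ ((RgammaIε I).app ω)⟦(-i)⟧') :=
    bijective_postcomp_shift _ (-i) (bijective_comp_ε I _ ω (PT_shift I hPT _))
  let E1 : (K ⟶ L) ≃ₗ[A] ((RgammaI I).obj K ⟶ L) :=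
    LinearEquiv.ofBijective (Linear.leftComp A L ((RgammaIε I).app K)) b1
  let E2 : ((RgammaI I).obj K ⟶ ((RgammaI I).obj ω)⟦(-i)⟧) ≃ₗ[A] ((RgammaI I).obj K ⟶ L) :=
    LinearEquiv.ofBijective (Linear.rightComp A ((RgammaI I).obj K)
      (((RgammaIε I).app ω)⟦(-i)⟧')) b2
  let E3 : ((RgammaI I).obj K ⟶ ((RgammaI I).obj ω)⟦(-i)⟧) ≃ₗ[A]
      ((RgammaI I).obj K ⟶ (Dual.inD A E)⟦(-i)⟧) :=
    Linear.homCongr A (Iso.refl _) ((shiftFunctor (Dual.D A) (-i)).mapIso eE)
  obtain ⟨E4⟩ := Groth.Agent.H46.HomInj.nonempty_linearEquiv E ((RgammaI I).obj K) i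
  obtain ⟨E5⟩ := Groth.Agent.H12.RGamHDI.main I K i
  exact ⟨E1 ≪≫ₗ E2.symm ≪≫ₗ E3 ≪≫ₗ E4 ≪≫ₗ LinearEquiv.arrowCongr E5 (LinearEquiv.refl A E)⟩

end Groth.Agent.H46.LDC
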