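import Mathlib
import Groth.Prelude.Def_W4c1bouilletffgsL3

set_option linter.style.haveILetI false

/-!
# Elementary facts on the Lie3Mod ideals `I ⊆ J`, `I ⊆ L`: Cramer identities, `L` is the kernel
of an evaluation, `J * L ≤ I`, and `I = J ⊓ L` over domains.
-/

namespace Groth.Agent.H46.L3

open MvPolynomial Lie3Mod

variable (A : Type*) [CommRing A]

theorem Q1_eq : Q1 A = (vh : D A) * L1 A - vg * L2 A + vi * L3 A := by
  simp only [Q1, L1, L2, L3]; ring

theorem Q2_eq : Q2 A = -(ve : D A) * L1 A - vh * L2 A + vb * L3 A := by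
  simp only [Q2, L1, L2, L3]; ring

theorem Q3_eq : Q3 A = -(vf : D A) * L1 A - vi * L2 A + vc * L3 A := by
  simp only [Q3, L1, L2, L3]; ring

theorem L1_mem : L1 A ∈ idL A := Ideal.subset_span (by simp)
theorem L2_mem : L2 A ∈ idL A := Ideal.subset_span (by simp)
theorem L3_mem : L3 A ∈ idL A := Ideal.subset_span (by simp)
theorem Q1_mem : Q1 A ∈ idI A := Ideal.subset_span (by simp)
theorem Q2_mem : Q2 A ∈ idI A := Ideal.subset_span (by simp)
theorem Q3_mem : Q3 A ∈ idI A := Ideal.subset_span (by simp)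
theorem detM_mem : detM A ∈ idJ A := Ideal.subset_span
  (Set.mem_insert_of_mem _ (Set.mem_insert_of_mem _ (Set.mem_insert_of_mem _ rfl)))

theorem idI_le_idL : idI A ≤ idL A := by
  rw [idI, Ideal.span_le]
  rintro p (rfl | rfl | rfl)
  · rw [Q1_eq]
    exact Ideal.add_mem _ (Ideal.sub_mem _ (Ideal.mul_mem_left _ _ (L1_mem A))
      (Ideal.mul_mem_left _ _ (L2_mem A))) (Ideal.mul_mem_left _ _ (L3_mem A))
  · rw [Q2_eq]
    exact Ideal.add_mem _ (Ideal.sub_mem _ (Ideal.mul_mem_left _ _ (L1_mem A))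
      (Ideal.mul_mem_left _ _ (L2_mem A))) (Ideal.mul_mem_left _ _ (L3_mem A))
  · rw [Q3_eq]
    exact Ideal.add_mem _ (Ideal.sub_mem _ (Ideal.mul_mem_left _ _ (L1_mem A))
      (Ideal.mul_mem_left _ _ (L2_mem A))) (Ideal.mul_mem_left _ _ (L3_mem A))

theorem idI_le_idJ : idI A ≤ idJ A := by
  rw [idI, Ideal.span_le]
  rintro p (rfl | rfl | rfl)
  · exact Ideal.subset_span (Set.mem_insert _ _)
  · exact Ideal.subset_span (Set.mem_insert_of_mem _ (Set.mem_insert _ _))
  · exact Ideal.subset_span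
      (Set.mem_insert_of_mem _ (Set.mem_insert_of_mem _ (Set.mem_insert _ _)))

theorem detM_mul_L1 : detM A * L1 A
    = (-((vh : D A) * vc) + vb * vi) * Q1 A + (vg * vc - vi ^ 2) * Q2 A
      + (-(vg * vb) + vh * vi) * Q3 A := by
  simp only [detM, L1, Q1, Q2, Q3]; ring

theorem detM_mul_L2 : detM A * L2 A
    = ((ve : D A) * vc - vb * vf) * Q1 A + (vh * vc + vi * vf) * Q2 A
      - (vh * vb + vi * ve) * Q3 A := by
  simp only [detM, L2, Q1, Q2, Q3]; ring

theorem detM_mul_L3 : detM A * L3 A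
    = ((ve : D A) * vi - vh * vf) * Q1 A + (vh * vi + vg * vf) * Q2 A
      + (-(vh ^ 2) - vg * ve) * Q3 A := by
  simp only [detM, L3, Q1, Q2, Q3]; ring

theorem idJ_mul_idL_le : idJ A * idL A ≤ idI A := by
  rw [idJ, idL, Ideal.span_mul_span', Ideal.span_le]
  rintro _ ⟨q, hq, l, hl, rfl⟩
  rcases hq with rfl | rfl | rfl | rfl
  · exact Ideal.mul_mem_right _ _ (Q1_mem A)
  · exact Ideal.mul_mem_right _ _ (Q2_mem A)
  · exact Ideal.mul_mem_right _ _ (Q3_mem A)
  · have hmem : ∀ a b c : D A, a * Q1 A + b * Q2 A + c * Q3 A ∈ idI A := fun a b c =>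
      Ideal.add_mem _ (Ideal.add_mem _ (Ideal.mul_mem_left _ _ (Q1_mem A))
        (Ideal.mul_mem_left _ _ (Q2_mem A))) (Ideal.mul_mem_left _ _ (Q3_mem A))
    rcases hl with rfl | rfl | rfl
    · show detM A * L1 A ∈ idI A
      rw [detM_mul_L1]; exact hmem _ _ _
    · show detM A * L2 A ∈ idI A
      rw [detM_mul_L2, sub_eq_add_neg, ← neg_mul]; exact hmem _ _ _
    · show detM A * L3 A ∈ idI A
      rw [detM_mul_L3]; exact hmem _ _ _

theorem idJ_eq_sup : idJ A = idI A ⊔ Ideal.span {detM A} := by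
  apply le_antisymm
  · rw [idJ, Ideal.span_le]
    rintro p (rfl | rfl | rfl | rfl)
    · exact Ideal.mem_sup_left (Q1_mem A)
    · exact Ideal.mem_sup_left (Q2_mem A)
    · exact Ideal.mem_sup_left (Q3_mem A)
    · exact Ideal.mem_sup_right (Ideal.subset_span rfl)
  · refine sup_le (idI_le_idJ A) ?_
    rw [Ideal.span_le]
    rintro p rfl
    exact detM_mem A

/-- the evaluation `a ↦ i, f ↦ -b, d ↦ -h`. -/
noncomputable def π : D A →ₐ[A] D A :=
  aeval ![X 8, X 1, X 2, -X 7, X 4, -X 1, X 6, X 7, X 8]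

theorem sub_π_mem (f : D A) : f - π A f ∈ idL A := by
  induction f using MvPolynomial.induction_on with
  | C a => simp [π]
  | add p q hp hq =>
    have : p + q - π A (p + q) = (p - π A p) + (q - π A q) := by rw [map_add]; ring
    rw [this]; exact Ideal.add_mem _ hp hq
  | mul_X p j hp =>
    have e : p * X j - π A (p * X j) = (p - π A p) * X j + π A p * (X j - π A (X j)) := by
      rw [map_mul]; ring
    rw [e]
    refine Ideal.add_mem _ (Ideal.mul_mem_right _ _ hp) (Ideal.mul_mem_left _ _ ?_)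
    fin_cases j
    · have : (X 0 : D A) - π A (X 0) = L1 A := by simp [π, L1]
      rw [show ((⟨0, by decide⟩ : Fin 9)) = 0 from rfl, this]; exact L1_mem A
    · simp [π]
    · simp [π]
    · have : (X 3 : D A) - π A (X 3) = L3 A := by simp [π, L3]
      rw [show ((⟨3, by decide⟩ : Fin 9)) = 3 from rfl, this]; exact L3_mem A
    · simp [π]
    · have : (X 5 : D A) - π A (X 5) = L2 A := by simp [π, L2, add_comm]
      rw [show ((⟨5, by decide⟩ : Fin 9)) = 5 from rfl, this]; exact L2_mem A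
    · simp [π]
    · simp [π]
    · simp [π]

theorem π_of_mem {f : D A} (hf : f ∈ idL A) : π A f = 0 := by
  have : idL A ≤ RingHom.ker (π A).toRingHom := by
    rw [idL, Ideal.span_le]
    rintro p (rfl | rfl | rfl)
    · simp [RingHom.mem_ker, π, L1]
    · simp [RingHom.mem_ker, π, L2]
    · simp [RingHom.mem_ker, π, L3]
  exact RingHom.mem_ker.mp (this hf)

theorem mem_idL_iff (f : D A) : f ∈ idL A ↔ π A f = 0 := by
  refine ⟨π_of_mem A, fun h => ?_⟩
  have := sub_π_mem A f
  rwa [h, sub_zero] at this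

theorem idL_prime [IsDomain A] : (idL A).IsPrime := by
  have : idL A = RingHom.ker (π A).toRingHom := by
    ext f; rw [mem_idL_iff, RingHom.mem_ker]; rfl
  rw [this]
  exact RingHom.ker_isPrime _

theorem detM_notMem_idL [Nontrivial A] : detM A ∉ idL A := by
  intro h
  have h0 := π_of_mem A h
  have h1 : MvPolynomial.eval ![0, 0, 1, 0, 0, 0, 0, 1, 0] (π A (detM A)) = (-1 : A) := by
    simp [π, detM]
  rw [h0, map_zero] at h1
  exact one_ne_zero (neg_eq_zero.mp h1.symm)

theorem C_mem_idL (a : A) (h : (C a : D A) ∈ idL A) : a = 0 := by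
  have h0 := π_of_mem A h
  simpa [π] using h0

theorem idI_eq_inf [IsDomain A] : idI A = idJ A ⊓ idL A := by
  apply le_antisymm
  · exact le_inf (idI_le_idJ A) (idI_le_idL A)
  · rintro f ⟨hJ, hL⟩
    rw [SetLike.mem_coe, idJ_eq_sup] at hJ
    obtain ⟨q, hq, r, hr, rfl⟩ := Submodule.mem_sup.mp hJ
    obtain ⟨p, rfl⟩ := Ideal.mem_span_singleton'.mp hr
    have hpd : p * detM A ∈ idL A := by
      have : p * detM A = (q + p * detM A) - q := by ring
      rw [this]; exact Ideal.sub_mem _ hL (idI_le_idL A hq)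
    haveI := idL_prime A
    have hp : p ∈ idL A :=
      ((Ideal.IsPrime.mem_or_mem inferInstance hpd).resolve_right (detM_notMem_idL A))
    refine Ideal.add_mem _ hq ?_
    rw [mul_comm]
    exact idJ_mul_idL_le A (Ideal.mul_mem_mul (detM_mem A) hp)

end Groth.Agent.H46.L3
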