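import Mathlib
import Groth.Agent.H46.AdjoinFrac

set_option linter.style.haveILetI false
set_option maxSynthPendingDepth 12

/-!
# A nested-polynomial model of the Lie3Mod ideal `J`

Variables (inner to outer): `g, v, u, h, e, t, i, b, c`.
-/

namespace Groth.Agent.H46.L3

open Polynomial Groth.Agent.H46.AF

variable (A : Type*) [CommRing A]

abbrev R0 := A[X]
abbrev R1 := (R0 A)[X]
abbrev R2 := (R1 A)[X]
abbrev R3 := (R2 A)[X]
abbrev R4 := (R3 A)[X]
abbrev R5 := (R4 A)[X]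
abbrev R6 := (R5 A)[X]
abbrev R7 := (R6 A)[X]
abbrev R8 := (R7 A)[X]

/-! ### scroll chain -/

noncomputable def u2 : R2 A := X
noncomputable def vg2 : R2 A := C (X * C X)
noncomputable def I1 : Ideal (R3 A) := adjR (⊥ : Ideal (R2 A)) (u2 A) (vg2 A)

theorem I1_eq : I1 A = Ideal.span {C (u2 A) * X - C (vg2 A)} := by
  simp [I1, adjR]

theorem sc1 : ∀ F, C (u2 A) * F ∈ I1 A → F ∈ I1 A := by
  refine (main_reg ⊥ (u2 A) (vg2 A) ?_ ?_).1
  · intro f hf
    rw [Ideal.mem_bot] at hf ⊢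
    rw [mul_comm] at hf
    exact (mem_nonZeroDivisors_iff_right.mp nzd_X) _ hf
  · refine h2_of_hom (evalRingHom (0 : R1 A)) ⊥ _ (u2 A) (vg2 A) ?_ ?_ ?_
    · rw [bot_sup_eq, Ideal.span_le]
      rintro p rfl
      simp [u2, RingHom.mem_ker]
    · rw [ker_evalRingHom, bot_sup_eq]
      simp [u2]
    · have : evalRingHom (0 : R1 A) (vg2 A) = X * C X := by simp [vg2]
      rw [this]
      exact mul_mem nzd_X (nzd_C nzd_X)

noncomputable def u3 : R3 A := C (u2 A)
noncomputable def g3 : R3 A := C (C (C X))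
noncomputable def v3 : R3 A := C (C X)
noncomputable def h3 : R3 A := X

theorem gen1_eq : C (u2 A) * X - C (vg2 A) = u3 A * h3 A - v3 A * g3 A := by
  simp only [u3, h3, v3, g3, vg2, map_mul]
  try ring

noncomputable def P2 : Ideal (R4 A) :=
  adj (I1 A) (u3 A) (-(v3 A * h3 A)) (g3 A) (-(h3 A) ^ 2)

/-- the ring hom `R2 → A[v]`, `u, g ↦ 0`. -/
noncomputable def θ2 : R2 A →+* A[X] :=
  (mapRingHom (evalRingHom (0 : A))).comp (evalRingHom (0 : R1 A))

theorem sc2 : ∀ F, C (u3 A) * F ∈ P2 A → F ∈ P2 A := by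
  refine (main (I1 A) (u3 A) (-(v3 A * h3 A)) (g3 A) (-(h3 A) ^ 2) (sc1 A) ?_ ?_).1
  · have e : g3 A * -(v3 A * h3 A) - u3 A * -(h3 A) ^ 2
        = h3 A * (C (u2 A) * X - C (vg2 A)) := by
      rw [gen1_eq]; ring
    rw [e, I1_eq]
    exact Ideal.mul_mem_left _ _ (Ideal.subset_span rfl)
  · refine h2_of_hom (mapRingHom (θ2 A)) (I1 A) _ (u3 A) (-(v3 A * h3 A)) ?_ ?_ ?_
    · refine sup_le ?_ ?_
      · rw [I1_eq, Ideal.span_le]
        rintro p rfl
        simp [RingHom.mem_ker, θ2, u2, vg2]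
      · rw [Ideal.span_le]
        rintro p rfl
        simp [RingHom.mem_ker, θ2, u3, u2]
    · rw [ker_mapRingHom, θ2, ker_comp_eval0, ker_mapRingHom, ker_evalRingHom]
      simp only [Ideal.map_sup, Ideal.map_span, Set.image_singleton, map_zero, sub_zero]
      refine sup_le ?_ ?_
      · rw [Ideal.span_le]
        rintro p rfl
        exact Ideal.mem_sup_right (Ideal.subset_span (by simp [u3, u2]))
      · rw [Ideal.span_le]
        rintro p rfl
        exact Ideal.mem_sup_right (Ideal.subset_span (by simp [g3]))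
    · have : mapRingHom (θ2 A) (-(v3 A * h3 A)) = -(C X * X) := by
        simp [θ2, v3, h3]
      rw [this]
      exact nzd_neg (mul_mem (nzd_C nzd_X) nzd_X)

/-! ### main chain -/

noncomputable def x3 : R3 A := g3 A * v3 A - h3 A * u3 A
noncomputable def x4 : R4 A := C (x3 A)
noncomputable def y4 : R4 A := X * C (u3 A) + C (h3 A * v3 A)
noncomputable def δ4 : R4 A := -(C (h3 A ^ 2) + C (g3 A) * X)
noncomputable def t5 : R5 A := X

theorem x3_mem : x3 A ∈ I1 A := by
  rw [I1_eq, gen1_eq]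
  have : x3 A = -(u3 A * h3 A - v3 A * g3 A) := by rw [x3]; ring
  rw [this]
  exact neg_mem (Ideal.subset_span rfl)

theorem x4_mem : x4 A ∈ P2 A :=
  Ideal.mem_sup_left (Ideal.mem_map_of_mem _ (x3_mem A))

theorem y4_mem : y4 A ∈ P2 A := by
  refine Ideal.mem_sup_right (Ideal.subset_span ?_)
  left
  simp only [y4, map_neg, map_mul]
  ring

theorem δ4_mem : δ4 A ∈ P2 A := by
  have : δ4 A = -(C (g3 A) * X - C (-(h3 A) ^ 2)) := by
    simp only [δ4, map_neg, map_pow]
    ring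
  rw [this]
  exact neg_mem (Ideal.mem_sup_right (Ideal.subset_span (by simp)))

theorem P2_le : P2 A ≤ Ideal.span {x4 A, y4 A, δ4 A} := by
  rw [P2, adj]
  refine sup_le ?_ ?_
  · rw [I1_eq, gen1_eq, Ideal.map_span, Set.image_singleton, Ideal.span_le]
    rintro p rfl
    have : C (u3 A * h3 A - v3 A * g3 A) = -(x4 A) := by
      simp only [x4, x3, map_sub, map_mul]; ring
    rw [this]
    exact neg_mem (Ideal.subset_span (by simp))
  · rw [Ideal.span_le]
    rintro p (rfl | rfl)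
    · have : C (u3 A) * X - C (-(v3 A * h3 A)) = y4 A := by
        simp only [y4, map_neg, map_mul]; ring
      rw [this]
      exact Ideal.subset_span (by simp)
    · have : C (g3 A) * X - C (-(h3 A) ^ 2) = -(δ4 A) := by
        simp only [δ4, map_neg, map_pow]; ring
      rw [this]
      exact neg_mem (Ideal.subset_span (by simp))

theorem x3_nzd : x3 A ∈ nonZeroDivisors (R3 A) := by
  refine nzd_of_coeff _ 1 ?_
  have e : x3 A = C (C (C X) * C X) - C (u2 A) * X := by
    simp only [x3, g3, v3, h3, u3, map_mul]; ring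
  have : (x3 A).coeff 1 = -(u2 A) := by
    rw [e]; simp [coeff_C]
  rw [this]
  exact nzd_neg nzd_X

noncomputable def J1 : Ideal (R6 A) := adjR (⊥ : Ideal (R5 A)) (t5 A) (C (x4 A))

theorem J1_eq : J1 A = Ideal.span {C (t5 A) * X - C (C (x4 A))} := by
  simp [J1, adjR]

theorem m1 : (∀ F, C (t5 A) * F ∈ J1 A → F ∈ J1 A) ∧
    (∀ f, C f ∈ J1 A → f ∈ (⊥ : Ideal (R5 A))) ∧
    ((⊥ : Ideal (R5 A)).IsPrime → (J1 A).IsPrime) := by
  refine main_reg ⊥ (t5 A) (C (x4 A)) ?_ ?_
  · intro f hf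
    rw [Ideal.mem_bot] at hf ⊢
    rw [mul_comm] at hf
    exact (mem_nonZeroDivisors_iff_right.mp nzd_X) _ hf
  · refine h2_of_hom (evalRingHom (0 : R4 A)) ⊥ _ (t5 A) (C (x4 A)) ?_ ?_ ?_
    · rw [bot_sup_eq, Ideal.span_le]
      rintro p rfl
      simp [t5, RingHom.mem_ker]
    · rw [ker_evalRingHom, bot_sup_eq]
      simp [t5]
    · have : evalRingHom (0 : R4 A) (C (x4 A)) = x4 A := by simp
      rw [this]
      exact nzd_C (x3_nzd A)

noncomputable def J2 : Ideal (R7 A) := adjR (J1 A) (C (t5 A)) (C (C (y4 A)))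

/-- `R5 → (R3 ⧸ I1)[e]`, `t ↦ 0`. -/
noncomputable def θy : R5 A →+* (R3 A ⧸ I1 A)[X] :=
  (mapRingHom (Ideal.Quotient.mk (I1 A))).comp (evalRingHom (0 : R4 A))

theorem m2 : (∀ F, C (C (t5 A)) * F ∈ J2 A → F ∈ J2 A) ∧
    (∀ f, C f ∈ J2 A → f ∈ J1 A) ∧
    ((J1 A).IsPrime → (J2 A).IsPrime) := by
  refine main_reg (J1 A) (C (t5 A)) (C (C (y4 A))) (m1 A).1 ?_
  refine h2_of_hom (mapRingHom (θy A)) (J1 A) _ (C (t5 A)) (C (C (y4 A))) ?_ ?_ ?_
  · refine sup_le ?_ ?_
    · rw [J1_eq, Ideal.span_le]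
      rintro p rfl
      have h0 : Ideal.Quotient.mk (I1 A) (x3 A) = 0 :=
        Ideal.Quotient.eq_zero_iff_mem.mpr (x3_mem A)
      simp [RingHom.mem_ker, θy, t5, x4, h0]
    · rw [Ideal.span_le]
      rintro p rfl
      simp [RingHom.mem_ker, θy, t5]
  · rw [ker_mapRingHom, θy, ker_comp_eval0, ker_mapRingHom, Ideal.mk_ker, I1_eq, gen1_eq]
    simp only [Ideal.map_sup, Ideal.map_span, Set.image_singleton]
    refine sup_le ?_ ?_
    · rw [Ideal.span_le]
      rintro p rfl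
      exact Ideal.mem_sup_right (Ideal.subset_span (by simp [t5]))
    · rw [Ideal.span_le]
      rintro p rfl
      have e : C (C (C (u3 A * h3 A - v3 A * g3 A)))
          = (C (t5 A) * X - C (C (x4 A))) - C (t5 A) * X := by
        simp only [x4, x3, map_sub, map_mul]; ring
      rw [e]
      refine Ideal.sub_mem _ (Ideal.mem_sup_left ?_) (Ideal.mem_sup_right ?_)
      · rw [J1_eq]; exact Ideal.subset_span rfl
      · exact Ideal.mul_mem_right _ _ (Ideal.subset_span rfl)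
  · have : mapRingHom (θy A) (C (C (y4 A)))
        = C (C (Ideal.Quotient.mk (I1 A) (u3 A)) * X
            + C (Ideal.Quotient.mk (I1 A) (h3 A * v3 A))) := by
      simp [θy, y4]
    rw [this]
    refine nzd_C (nzd_of_coeff _ 1 ?_)
    have : (C (Ideal.Quotient.mk (I1 A) (u3 A)) * X
        + C (Ideal.Quotient.mk (I1 A) (h3 A * v3 A))).coeff 1
        = Ideal.Quotient.mk (I1 A) (u3 A) := by
      simp [coeff_C]
    rw [this]
    exact nzd_mk_of (I1 A) (u3 A) (sc1 A)

/-! ### the last (non-regular) step -/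

noncomputable def g7 : R7 A := C (C (C (C (g3 A))))
noncomputable def v7 : R7 A := C (C (C (C (v3 A))))
noncomputable def u7 : R7 A := C (C (C (C (u3 A))))
noncomputable def h7 : R7 A := C (C (C (C (h3 A))))
noncomputable def e7 : R7 A := C (C (C X))
noncomputable def t7 : R7 A := C (C (t5 A))
noncomputable def i7 : R7 A := C X
noncomputable def b7 : R7 A := X
noncomputable def z7 : R7 A := v7 A * i7 A - u7 A * b7 A + u7 A * v7 A
noncomputable def s7 : R7 A :=
  -(e7 A * i7 A ^ 2) - 2 * h7 A * i7 A * b7 A + g7 A * b7 A ^ 2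
    + v7 A * (h7 A * i7 A - g7 A * b7 A)
noncomputable def δ7 : R7 A := C (C (C (δ4 A)))
noncomputable def J3 : Ideal (R8 A) := adj (J2 A) (t7 A) (z7 A) (δ7 A) (s7 A)

theorem δ7_eq : δ7 A = -(h7 A ^ 2 + g7 A * e7 A) := by
  simp only [δ7, δ4, h7, g7, e7, map_neg, map_add, map_pow, map_mul]

theorem Cgen1_eq : C (C (t5 A) * X - C (C (x4 A)))
    = t7 A * i7 A - (g7 A * v7 A - h7 A * u7 A) := by
  simp only [t7, i7, x4, x3, g7, v7, h7, u7, map_sub, map_mul]

theorem gen2_eq : C (C (t5 A)) * X - C (C (C (y4 A)))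
    = t7 A * b7 A - (e7 A * u7 A + h7 A * v7 A) := by
  simp only [t7, b7, y4, e7, u7, h7, v7, map_add, map_mul]

theorem Cgen1_mem : C (C (t5 A) * X - C (C (x4 A))) ∈ J2 A := by
  refine Ideal.mem_sup_left (Ideal.mem_map_of_mem _ ?_)
  rw [J1_eq]; exact Ideal.subset_span rfl

theorem gen2_mem : C (C (t5 A)) * X - C (C (C (y4 A))) ∈ J2 A :=
  Ideal.mem_sup_right (Ideal.subset_span rfl)

/-- `R5 → R4 ⧸ P2`, `t ↦ 0`. -/
noncomputable def θ3 : R5 A →+* (R4 A ⧸ P2 A) :=
  (Ideal.Quotient.mk (P2 A)).comp (evalRingHom (0 : R4 A))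

theorem m3 : (∀ F, C (t7 A) * F ∈ J3 A → F ∈ J3 A) ∧
    (∀ f, C f ∈ J3 A → f ∈ J2 A) ∧
    ((J2 A).IsPrime → (J3 A).IsPrime) := by
  refine main (J2 A) (t7 A) (z7 A) (δ7 A) (s7 A) (m2 A).1 ?_ ?_
  · have e : δ7 A * z7 A - t7 A * s7 A
        = (e7 A * i7 A + h7 A * b7 A - h7 A * v7 A) * C (C (t5 A) * X - C (C (x4 A)))
          + (h7 A * i7 A - g7 A * b7 A + g7 A * v7 A) * (C (C (t5 A)) * X - C (C (C (y4 A)))) := by
      rw [Cgen1_eq, gen2_eq, δ7_eq, z7, s7]; ring
    rw [e]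
    exact Ideal.add_mem _ (Ideal.mul_mem_left _ _ (Cgen1_mem A))
      (Ideal.mul_mem_left _ _ (gen2_mem A))
  · have hx : Ideal.Quotient.mk (P2 A) (x4 A) = 0 := Ideal.Quotient.eq_zero_iff_mem.mpr (x4_mem A)
    have hy : Ideal.Quotient.mk (P2 A) (y4 A) = 0 := Ideal.Quotient.eq_zero_iff_mem.mpr (y4_mem A)
    refine h2_of_hom (mapRingHom (mapRingHom (θ3 A))) (J2 A) _ (t7 A) (z7 A) ?_ ?_ ?_
    · rw [J2, adjR, J1_eq, Ideal.map_span, Set.image_singleton]
      refine sup_le (sup_le ?_ ?_) ?_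
      · rw [Ideal.span_le]
        rintro p rfl
        simp [RingHom.mem_ker, θ3, t5, hx]
      · rw [Ideal.span_le]
        rintro p rfl
        simp [RingHom.mem_ker, θ3, t5, hy]
      · rw [Ideal.span_le]
        rintro p rfl
        simp [RingHom.mem_ker, θ3, t5, t7]
    · rw [ker_mapRingHom, ker_mapRingHom, θ3, ker_comp_eval0, Ideal.mk_ker]
      simp only [Ideal.map_sup, Ideal.map_span, Set.image_singleton]
      refine sup_le ?_ ?_
      · rw [Ideal.span_le]
        rintro p rfl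
        exact Ideal.mem_sup_right (Ideal.subset_span (by simp [t7, t5]))
      · refine le_trans (Ideal.map_mono (Ideal.map_mono (Ideal.map_mono (P2_le A)))) ?_
        simp only [Ideal.map_span, Set.image_insert_eq, Set.image_singleton]
        rw [Ideal.span_le]
        rintro p (rfl | rfl | rfl)
        · have e : C (C (C (x4 A))) = t7 A * i7 A - C (C (t5 A) * X - C (C (x4 A))) := by
            rw [Cgen1_eq]
            simp only [x4, x3, g7, v7, h7, u7, map_sub, map_mul]; ring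
          rw [e]
          refine Ideal.sub_mem _ (Ideal.mem_sup_right ?_) (Ideal.mem_sup_left (Cgen1_mem A))
          exact Ideal.mul_mem_right _ _ (Ideal.subset_span (by simp))
        · have e : C (C (C (y4 A))) = t7 A * b7 A - (C (C (t5 A)) * X - C (C (C (y4 A)))) := by
            rw [gen2_eq]
            simp only [y4, e7, u7, h7, v7, map_add, map_mul]; ring
          rw [e]
          refine Ideal.sub_mem _ (Ideal.mem_sup_right ?_) (Ideal.mem_sup_left (gen2_mem A))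
          exact Ideal.mul_mem_right _ _ (Ideal.subset_span (by simp))
        · exact Ideal.mem_sup_right (Ideal.subset_span (by simp [δ7]))
    · refine nzd_of_coeff _ 1 ?_
      have hc : (mapRingHom (mapRingHom (θ3 A)) (z7 A)).coeff 1
          = -(C (Ideal.Quotient.mk (P2 A) (C (u3 A)))) := by
        simp [z7, v7, i7, u7, b7, θ3, coeff_C]
      rw [hc]
      exact nzd_neg (nzd_C (nzd_mk_of (P2 A) (C (u3 A)) (sc2 A)))

theorem J3_nzd : ∀ F, C (t7 A) * F ∈ J3 A → F ∈ J3 A := (m3 A).1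

theorem J3_inj : ∀ f : R5 A, C (C (C f)) ∈ J3 A → f = 0 := by
  intro f hf
  have h1 := (m3 A).2.1 _ hf
  have h2 := (m2 A).2.1 _ h1
  have h3 := (m1 A).2.1 _ h2
  simpa using h3

theorem J3_prime [IsDomain A] : (J3 A).IsPrime :=
  (m3 A).2.2 ((m2 A).2.2 ((m1 A).2.2 Ideal.isPrime_bot))

end Groth.Agent.H46.L3
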