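import Mathlib
import Groth.Prelude.Def_W4c1bouilletffgsL3
import Groth.Agent.H46.Lie3Model

set_option linter.style.haveILetI false
set_option maxSynthPendingDepth 12

/-!
# Transport of the model results to `Lie3Mod.D A = MvPolynomial (Fin 9) A`
-/

namespace Groth.Agent.H46.L3

open Groth.Agent.H46.AF

variable (A : Type*) [CommRing A]

noncomputable def g8 : R8 A := Polynomial.C (g7 A)
noncomputable def v8 : R8 A := Polynomial.C (v7 A)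
noncomputable def u8 : R8 A := Polynomial.C (u7 A)
noncomputable def h8 : R8 A := Polynomial.C (h7 A)
noncomputable def e8 : R8 A := Polynomial.C (e7 A)
noncomputable def t8 : R8 A := Polynomial.C (t7 A)
noncomputable def i8 : R8 A := Polynomial.C (i7 A)
noncomputable def b8 : R8 A := Polynomial.C (b7 A)
noncomputable def c8 : R8 A := Polynomial.X

/-- the map `D → R8`. -/
noncomputable def Ψ : Lie3Mod.D A →ₐ[A] R8 A :=
  MvPolynomial.aeval ![u8 A + i8 A, b8 A, c8 A, t8 A - h8 A, e8 A, v8 A - b8 A, g8 A, h8 A, i8 A]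

open MvPolynomial in
noncomputable def ψ0 : R0 A →+* Lie3Mod.D A := Polynomial.eval₂RingHom MvPolynomial.C (X 6)
open MvPolynomial in
noncomputable def ψ1 : R1 A →+* Lie3Mod.D A := Polynomial.eval₂RingHom (ψ0 A) (X 1 + X 5)
open MvPolynomial in
noncomputable def ψ2 : R2 A →+* Lie3Mod.D A := Polynomial.eval₂RingHom (ψ1 A) (X 0 - X 8)
open MvPolynomial in
noncomputable def ψ3 : R3 A →+* Lie3Mod.D A := Polynomial.eval₂RingHom (ψ2 A) (X 7)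
open MvPolynomial in
noncomputable def ψ4 : R4 A →+* Lie3Mod.D A := Polynomial.eval₂RingHom (ψ3 A) (X 4)
open MvPolynomial in
noncomputable def ψ5 : R5 A →+* Lie3Mod.D A := Polynomial.eval₂RingHom (ψ4 A) (X 3 + X 7)
open MvPolynomial in
noncomputable def ψ6 : R6 A →+* Lie3Mod.D A := Polynomial.eval₂RingHom (ψ5 A) (X 8)
open MvPolynomial in
noncomputable def ψ7 : R7 A →+* Lie3Mod.D A := Polynomial.eval₂RingHom (ψ6 A) (X 1)
open MvPolynomial in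
noncomputable def ψ8 : R8 A →+* Lie3Mod.D A := Polynomial.eval₂RingHom (ψ7 A) (X 2)

section vals
open MvPolynomial

@[simp] theorem ψ8_g : ψ8 A (g8 A) = X 6 := by
  simp [ψ8, ψ7, ψ6, ψ5, ψ4, ψ3, ψ2, ψ1, ψ0, g8, g7, g3]
@[simp] theorem ψ8_v : ψ8 A (v8 A) = X 1 + X 5 := by
  simp [ψ8, ψ7, ψ6, ψ5, ψ4, ψ3, ψ2, ψ1, v8, v7, v3]
@[simp] theorem ψ8_u : ψ8 A (u8 A) = X 0 - X 8 := by
  simp [ψ8, ψ7, ψ6, ψ5, ψ4, ψ3, ψ2, u8, u7, u3, u2]
@[simp] theorem ψ8_h : ψ8 A (h8 A) = X 7 := by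
  simp [ψ8, ψ7, ψ6, ψ5, ψ4, ψ3, h8, h7, h3]
@[simp] theorem ψ8_e : ψ8 A (e8 A) = X 4 := by
  simp [ψ8, ψ7, ψ6, ψ5, ψ4, e8, e7]
@[simp] theorem ψ8_t : ψ8 A (t8 A) = X 3 + X 7 := by
  simp [ψ8, ψ7, ψ6, ψ5, t8, t7, t5]
@[simp] theorem ψ8_i : ψ8 A (i8 A) = X 8 := by
  simp [ψ8, ψ7, ψ6, i8, i7]
@[simp] theorem ψ8_b : ψ8 A (b8 A) = X 1 := by
  simp [ψ8, ψ7, b8, b7]
@[simp] theorem ψ8_c : ψ8 A (c8 A) = X 2 := by
  simp [ψ8, c8]

theorem ψ8_Ψ (p : Lie3Mod.D A) : ψ8 A (Ψ A p) = p := by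
  have h : (ψ8 A).comp (Ψ A).toRingHom = RingHom.id _ := by
    refine MvPolynomial.ringHom_ext ?_ ?_
    · intro a
      simp [Ψ, ψ8, ψ7, ψ6, ψ5, ψ4, ψ3, ψ2, ψ1, ψ0, Polynomial.algebraMap_apply]
    · intro j
      fin_cases j <;> simp [Ψ]
  exact RingHom.congr_fun h p

end vals

section ideals
open Polynomial

theorem Ψ_Q1 : Ψ A (Lie3Mod.Q1 A) = C (C (C (t5 A) * X - C (C (x4 A)))) := by
  rw [Cgen1_eq]
  simp only [Ψ, Lie3Mod.Q1, Lie3Mod.va, Lie3Mod.vh, Lie3Mod.vd, Lie3Mod.vi, Lie3Mod.vf,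
    Lie3Mod.vg, Lie3Mod.vb, map_add, map_sub, map_mul, MvPolynomial.aeval_X]
  simp only [u8, i8, b8, c8, t8, h8, e8, v8, g8, map_sub, map_mul, Matrix.cons_val]
  ring

theorem Ψ_Q2 : Ψ A (Lie3Mod.Q2 A) = C (C (C (t5 A)) * X - C (C (C (y4 A)))) := by
  rw [gen2_eq]
  simp only [Ψ, Lie3Mod.Q2, Lie3Mod.va, Lie3Mod.vh, Lie3Mod.vd, Lie3Mod.vi, Lie3Mod.vf,
    Lie3Mod.ve, Lie3Mod.vb, map_add, map_sub, map_mul, MvPolynomial.aeval_X]
  simp only [u8, i8, b8, c8, t8, h8, e8, v8, g8, map_sub, map_add, map_mul, Matrix.cons_val]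
  ring

theorem Ψ_Q3 : Ψ A (Lie3Mod.Q3 A) = C (t7 A) * X - C (z7 A) := by
  simp only [Ψ, Lie3Mod.Q3, Lie3Mod.va, Lie3Mod.vh, Lie3Mod.vd, Lie3Mod.vi, Lie3Mod.vf,
    Lie3Mod.vc, Lie3Mod.vb, map_add, map_sub, map_mul, MvPolynomial.aeval_X]
  simp only [u8, i8, b8, c8, t8, h8, e8, v8, g8, z7, map_sub, map_add, map_mul, Matrix.cons_val]
  ring

theorem Ψ_detM : Ψ A (Lie3Mod.detM A) = C (δ7 A) * X - C (s7 A) := by
  rw [δ7_eq]
  simp only [Ψ, Lie3Mod.detM, Lie3Mod.va, Lie3Mod.vh, Lie3Mod.vd, Lie3Mod.vi, Lie3Mod.vf,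
    Lie3Mod.vc, Lie3Mod.vb, Lie3Mod.vg, Lie3Mod.ve, map_add, map_sub, map_mul, map_neg, map_pow,
    MvPolynomial.aeval_X]
  simp only [u8, i8, b8, c8, t8, h8, e8, v8, g8, s7, map_sub, map_add, map_mul, map_neg,
    map_pow, map_ofNat, Matrix.cons_val]
  ring

theorem Ψ_L3 : Ψ A (Lie3Mod.L3 A) = C (t7 A) := by
  simp only [Ψ, Lie3Mod.L3, Lie3Mod.vd, Lie3Mod.vh, map_add, MvPolynomial.aeval_X]
  simp only [t8, h8, Matrix.cons_val]
  ring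

theorem Ψ_le : Lie3Mod.idJ A ≤ Ideal.comap (Ψ A) (J3 A) := by
  rw [Lie3Mod.idJ, Ideal.span_le]
  rintro p (rfl | rfl | rfl | rfl)
  · rw [SetLike.mem_coe, Ideal.mem_comap, Ψ_Q1]
    exact Ideal.mem_sup_left (Ideal.mem_map_of_mem _ (Cgen1_mem A))
  · rw [SetLike.mem_coe, Ideal.mem_comap, Ψ_Q2]
    exact Ideal.mem_sup_left (Ideal.mem_map_of_mem _ (gen2_mem A))
  · rw [SetLike.mem_coe, Ideal.mem_comap, Ψ_Q3]
    exact Ideal.mem_sup_right (Ideal.subset_span (by simp))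
  · rw [SetLike.mem_coe, Ideal.mem_comap, Ψ_detM]
    exact Ideal.mem_sup_right (Ideal.subset_span (by simp))

theorem ψ8_le : J3 A ≤ Ideal.comap (ψ8 A) (Lie3Mod.idJ A) := by
  rw [J3, adj]
  refine sup_le ?_ ?_
  · rw [Ideal.map_le_iff_le_comap, J2, adjR]
    refine sup_le ?_ ?_
    · rw [Ideal.map_le_iff_le_comap, J1_eq, Ideal.span_le]
      rintro p rfl
      rw [SetLike.mem_coe, Ideal.mem_comap, Ideal.mem_comap, Ideal.mem_comap, ← Ψ_Q1, ψ8_Ψ]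
      exact Ideal.subset_span (by simp [Lie3Mod.idJ])
    · rw [Ideal.span_le]
      rintro p rfl
      rw [SetLike.mem_coe, Ideal.mem_comap, Ideal.mem_comap, ← Ψ_Q2, ψ8_Ψ]
      exact Ideal.subset_span (by simp [Lie3Mod.idJ])
  · rw [Ideal.span_le]
    rintro p (rfl | rfl)
    · rw [SetLike.mem_coe, Ideal.mem_comap, ← Ψ_Q3, ψ8_Ψ]
      exact Ideal.subset_span (by simp [Lie3Mod.idJ])
    · rw [SetLike.mem_coe, Ideal.mem_comap, ← Ψ_detM, ψ8_Ψ]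
      exact Ideal.subset_span (by simp [Lie3Mod.idJ])

theorem mem_idJ_iff (f : Lie3Mod.D A) : f ∈ Lie3Mod.idJ A ↔ Ψ A f ∈ J3 A := by
  constructor
  · intro hf; exact Ψ_le A hf
  · intro hf
    have := ψ8_le A hf
    rwa [Ideal.mem_comap, ψ8_Ψ] at this

/-- Key lemma: `L3 = d + h` is a non-zero-divisor modulo `J`, over any commutative ring. -/
theorem L3_nzd (f : Lie3Mod.D A) (hf : Lie3Mod.L3 A * f ∈ Lie3Mod.idJ A) : f ∈ Lie3Mod.idJ A := by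
  rw [mem_idJ_iff] at hf ⊢
  rw [map_mul, Ψ_L3] at hf
  exact J3_nzd A _ hf

theorem idJ_prime [IsDomain A] : (Lie3Mod.idJ A).IsPrime := by
  have : Lie3Mod.idJ A = Ideal.comap (Ψ A) (J3 A) := by
    ext f; rw [mem_idJ_iff, Ideal.mem_comap]
  rw [this]
  haveI := J3_prime A
  exact Ideal.comap_isPrime _ _

theorem L3_notMem [Nontrivial A] : Lie3Mod.L3 A ∉ Lie3Mod.idJ A := by
  intro h
  rw [mem_idJ_iff, Ψ_L3] at h
  have := J3_inj A (t5 A) h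
  exact Polynomial.X_ne_zero this

theorem C_mem_idJ (a : A) (h : (MvPolynomial.C a : Lie3Mod.D A) ∈ Lie3Mod.idJ A) : a = 0 := by
  rw [mem_idJ_iff] at h
  have e : Ψ A (MvPolynomial.C a) = C (C (C (C (C (C (C (C (C a)))))))) := by
    simp [Ψ, Polynomial.algebraMap_apply]
  rw [e] at h
  have := J3_inj A _ h
  simpa using this

end ideals

end Groth.Agent.H46.L3
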