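import Mathlib.AlgebraicGeometry.AffineTransitionLimit
import Mathlib.AlgebraicGeometry.ResidueField

/-!
# Sections over preimages of affine opens in a cofiltered limit of schemes
-/

set_option autoImplicit false
universe u
open CategoryTheory CategoryTheory.Limits AlgebraicGeometry

namespace Groth.Agent.H46

variable {I : Type u} [SmallCategory I] (D : I ⥤ Scheme.{u}) (c : Cone D) (hc : IsLimit c)

set_option backward.defeqAttrib.useBackward true in
set_option backward.isDefEq.respectTransparency false in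
open Scheme.Opens in
include hc in
/-- A section of the limit over the preimage of an affine open `V ⊆ D i` comes from a section over the
preimage of `V` at some stage `j ⟶ i`. -/
theorem exists_appLE_eq [IsCofiltered I] [∀ {i j} (f : i ⟶ j), IsAffineHom (D.map f)]
    (i : I) (V : (D.obj i).Opens) (hV : IsAffineOpen V) (r : Γ(c.pt, c.π.app i ⁻¹ᵁ V)) :
    ∃ (j : Over i) (u : Γ(D.obj j.left, D.map j.hom ⁻¹ᵁ V))
      (h : c.π.app i ⁻¹ᵁ V ≤ c.π.app j.left ⁻¹ᵁ D.map j.hom ⁻¹ᵁ V),
      r = (c.π.app j.left).appLE (D.map j.hom ⁻¹ᵁ V) (c.π.app i ⁻¹ᵁ V) h u := by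
  have (j : _) : IsAffine ((opensDiagram D i V).op.obj j).unop := hV.preimage _
  have (j : _) : IsAffine ((opensDiagram D i V).obj j) := hV.preimage _
  obtain ⟨⟨j⟩, s, hs⟩ := (Types.jointly_surjective_of_isColimit (isColimitOfPreserves
    (Scheme.Γ ⋙ forget _) (isLimitOpensCone D c hc i V).op) ((c.π.app i ⁻¹ᵁ V).topIso.inv r))
  obtain ⟨s, rfl⟩ := (D.map j.hom ⁻¹ᵁ V).topIso.symm.commRingCatIsoToRingEquiv.surjective s
  have h : c.π.app j.left ⁻¹ᵁ D.map j.hom ⁻¹ᵁ V = c.π.app i ⁻¹ᵁ V := congr($(c.w j.hom) ⁻¹ᵁ V)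
  refine ⟨j, s, h.ge, ?_⟩
  convert!
    show r = ((topIso _).inv ≫ ((opensCone D c i V).π.app j).appTop ≫ (topIso _).hom) s from
      (c.π.app i ⁻¹ᵁ V).topIso.commRingCatIsoToRingEquiv.symm_apply_eq.mp hs.symm using 3
  simp [Scheme.Hom.app_eq_appLE, Scheme.Hom.resLE_appLE]

/-- Evaluation of a pulled-back section. -/
theorem evaluation_appLE {X Y : Scheme.{u}} (f : X ⟶ Y) (V : Y.Opens) (U : X.Opens)
    (e : U ≤ f ⁻¹ᵁ V) (x : X) (hx : x ∈ U) (hfx : f x ∈ V) (u : Γ(Y, V)) :
    X.evaluation U x hx (f.appLE V U e u) =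
      f.residueFieldMap x (Y.evaluation V (f x) hfx u) := by
  rw [Scheme.evaluation_naturality_apply f x hfx u]
  unfold Scheme.Hom.appLE Scheme.evaluation
  simp only [CommRingCat.comp_apply]
  congr 1
  exact TopCat.Presheaf.germ_res_apply X.presheaf (homOfLE e) x hx _

end Groth.Agent.H46
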