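import Groth.Agent.H46.ExtCech
import Groth.Agent.H35.TriChase

/-!
# Localisation at a submonoid as an endofunctor of `D(A)` (helper46)

* `Lf S : D(A) ⥤ D(A)`, induced by the exact functor `DerCA.locFunctor S`; `LfFac`.
* `ηD S : 𝟭 ⟶ Lf S`, with `ηD_app_Q : ηD.app (Q X) = Q(X → X_S) ≫ LfFac.inv`.
* `isIso_ηD_app_Lf` : `ηD` is an isomorphism on `Lf S Z`.
* `isZero_Lf_of_torsion` : `Lf S T = 0` when every cohomology class of `T` is `S`-torsion.
* `hom_Lf_eq_zero` : if `Lf S T = 0` then every map `T ⟶ Lf S Z` vanishes.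
-/

set_option autoImplicit false
set_option linter.unusedSectionVars false
universe u
open CategoryTheory CategoryTheory.Limits Pretriangulated DerCA
attribute [local instance] HasDerivedCategory.standard

namespace Groth.Agent.H46.LocD

open DerivedCategory

variable {A : Type u} [CommRing A] (S : Submonoid A)

instance : PreservesFiniteLimits (locFunctor S) :=
  (locFunctor S).preservesFiniteLimits_of_preservesHomology

instance : PreservesFiniteColimits (locFunctor S) :=
  (locFunctor S).preservesFiniteColimits_of_preservesHomology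

/-- localisation on `D(A)` -/
noncomputable abbrev Lf : Dual.D A ⥤ Dual.D A := (locFunctor S).mapDerivedCategory

noncomputable abbrev LfFac : Q ⋙ Lf S ≅ locCx S ⋙ Q := (locFunctor S).mapDerivedCategoryFactors

/-- the localisation maps of complexes as a natural transformation -/
noncomputable def locCxUnitNat : 𝟭 (DRing.Cx A) ⟶ locCx S where
  app K := locCxUnit S K
  naturality K L g := by
    ext n : 1
    exact (locUnit S).naturality (g.f n)

/-- the localisation maps `X ⟶ X_S` on `D(A)` -/
noncomputable def ηD : 𝟭 (Dual.D A) ⟶ Lf S :=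
  Localization.liftNatTrans Q (HomologicalComplex.quasiIso (ModuleCat.{u} A) (ComplexShape.up ℤ))
    Q (locCx S ⋙ Q) (𝟭 _) (Lf S)
    ((Functor.leftUnitor Q).inv ≫ Functor.whiskerRight (locCxUnitNat S) Q)

lemma ηD_app_Q (X : DRing.Cx A) :
    (ηD S).app (Q.obj X) = Q.map (locCxUnit S X) ≫ (LfFac S).inv.app X := by
  have h := Localization.liftNatTrans_app Q
    (HomologicalComplex.quasiIso (ModuleCat.{u} A) (ComplexShape.up ℤ))
    Q (locCx S ⋙ Q) (𝟭 _) (Lf S)
    ((Functor.leftUnitor Q).inv ≫ Functor.whiskerRight (locCxUnitNat S) Q) X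
  refine h.trans ?_
  show (Functor.rightUnitor Q).hom.app X ≫ ((Functor.leftUnitor Q).inv.app X ≫
    Q.map (locCxUnit S X)) ≫ (LfFac S).inv.app X = _
  simp

lemma isIso_app_iff_of_iso {C D : Type*} [Category C] [Category D] {F G : C ⥤ D} (τ : F ⟶ G)
    {X Y : C} (e : X ≅ Y) : IsIso (τ.app X) ↔ IsIso (τ.app Y) := by
  have nat : τ.app X ≫ G.map e.hom = F.map e.hom ≫ τ.app Y := (τ.naturality e.hom).symm
  constructor
  · intro h
    have : τ.app Y = F.map e.inv ≫ τ.app X ≫ G.map e.hom := by
      rw [nat, ← Category.assoc, ← F.map_comp, e.inv_hom_id, F.map_id, Category.id_comp]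
    rw [this]
    infer_instance
  · intro h
    have : τ.app X = F.map e.hom ≫ τ.app Y ≫ G.map e.inv := by
      rw [← Category.assoc, ← nat, Category.assoc, ← G.map_comp, e.hom_inv_id, G.map_id,
        Category.comp_id]
    rw [this]
    infer_instance

/-- the localisation map of a localised complex is an isomorphism -/
lemma isIso_locCxUnit_locCx (X : DRing.Cx A) : IsIso (locCxUnit S ((locCx S).obj X)) := by
  have hcomp : ∀ n : ℤ, IsIso ((locCxUnit S ((locCx S).obj X)).f n) := by
    intro n
    rw [ConcreteCategory.isIso_iff_bijective]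
    exact Groth.Agent.H46.mkLinearMap_localizedModule_bijective S (X.X n)
  exact HomologicalComplex.Hom.isIso_of_components _

lemma isIso_ηD_app_Lf (Z : Dual.D A) : IsIso ((ηD S).app ((Lf S).obj Z)) := by
  let X := Q.objPreimage Z
  let e : (Lf S).obj Z ≅ Q.obj ((locCx S).obj X) :=
    (Lf S).mapIso (Q.objObjPreimageIso Z).symm ≪≫ (LfFac S).app X
  rw [isIso_app_iff_of_iso (ηD S) e, ηD_app_Q]
  haveI := isIso_locCxUnit_locCx S X
  infer_instance

lemma subsingleton_localizedModule_of_torsion (M : Type u) [AddCommGroup M] [Module A M]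
    (h : ∀ x : M, ∃ s ∈ S, s • x = 0) : Subsingleton (LocalizedModule S M) := by
  refine ⟨fun a b => ?_⟩
  suffices h0 : ∀ y : LocalizedModule S M, y = 0 by rw [h0 a, h0 b]
  intro y
  induction y using LocalizedModule.induction_on with
  | h x t =>
    obtain ⟨s, hs, hsx⟩ := h x
    rw [← LocalizedModule.zero_mk t, LocalizedModule.mk_eq]
    exact ⟨⟨s, hs⟩, by
      rw [smul_zero, smul_zero]
      show s • (t : A) • x = 0
      rw [smul_comm, hsx, smul_zero]⟩

/-- `(Q X)_S = 0` when every cohomology class of `X` is `S`-torsion. -/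
lemma isZero_Lf_Q_of_torsion (X : DRing.Cx A)
    (h : ∀ (n : ℤ) (x : X.homology n), ∃ s ∈ S, s • x = 0) : IsZero ((Lf S).obj (Q.obj X)) := by
  refine IsZero.of_iso ?_ ((LfFac S).app X)
  have hacy : ∀ n, ((locCx S).obj X).ExactAt n := by
    intro n
    rw [HomologicalComplex.exactAt_iff_isZero_homology]
    refine IsZero.of_iso ?_ (Groth.Agent.H46.homologyLocIso S X n)
    haveI : Subsingleton ((locFunctor S).obj (X.homology n)) :=
      subsingleton_localizedModule_of_torsion S (X.homology n) (h n)
    exact ModuleCat.isZero_of_subsingleton _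
  show IsZero (Q.obj ((locCx S).obj X))
  haveI : ((locCx S).obj X).IsLE 0 := by
    rw [CochainComplex.isLE_iff]
    intro i _
    exact hacy i
  haveI : ((locCx S).obj X).IsGE 1 := by
    rw [CochainComplex.isGE_iff]
    intro i _
    exact hacy i
  exact DerivedCategory.TStructure.t.isZero (Q.obj ((locCx S).obj X)) 0 1 (by omega)

/-- `T_S = 0` when every cohomology class of `T` is `S`-torsion. -/
lemma isZero_Lf_of_torsion (T : Dual.D A)
    (h : ∀ (n : ℤ) (x : Dual.HD A T n), ∃ s ∈ S, s • x = 0) : IsZero ((Lf S).obj T) := by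
  let X := Q.objPreimage T
  let e : Q.obj X ≅ T := Q.objObjPreimageIso T
  refine IsZero.of_iso (isZero_Lf_Q_of_torsion S X ?_) ((Lf S).mapIso e.symm)
  intro n x
  let j : (DerivedCategory.homologyFunctor (ModuleCat.{u} A) n).obj T ≅ X.homology n :=
    (DerivedCategory.homologyFunctor (ModuleCat.{u} A) n).mapIso e.symm ≪≫
      (DerivedCategory.homologyFunctorFactors (ModuleCat.{u} A) n).app X
  obtain ⟨s, hs, hsx⟩ := h n (j.inv.hom x)
  refine ⟨s, hs, ?_⟩
  have h1 : j.hom.hom (s • j.inv.hom x) = 0 := by rw [hsx, map_zero]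
  rw [map_smul] at h1
  have h2 : j.hom.hom (j.inv.hom x) = x := by
    have := congrArg (fun g => g.hom x) j.inv_hom_id
    exact this
  rwa [h2] at h1

/-- maps from an object with `T_S = 0` to a localised object vanish -/
lemma hom_Lf_eq_zero {T Z : Dual.D A} (hT : IsZero ((Lf S).obj T)) (g : T ⟶ (Lf S).obj Z) :
    g = 0 := by
  haveI := isIso_ηD_app_Lf S Z
  have nat : g ≫ (ηD S).app ((Lf S).obj Z) = (ηD S).app T ≫ (Lf S).map g :=
    (ηD S).naturality g
  rw [hT.eq_of_tgt ((ηD S).app T) 0, zero_comp] at nat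
  rw [← cancel_mono ((ηD S).app ((Lf S).obj Z)), nat, zero_comp]

end Groth.Agent.H46.LocD
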