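import Mathlib

/-!
# Local-étale over a ring with finite spectrum is étale (helper46)

If `B` is étale over `V`, `Spec V` is finite and `T = B_P` for a prime `P` of `B`, then `T` is
étale over `V`: `Spec B` is finite, so `B_P = B_f` for a suitable `f ∉ P`.
-/

universe u

namespace Groth.Agent.H46.LocEtFin

theorem exists_away_of_finite {B : Type u} [CommRing B] [Finite (PrimeSpectrum B)]
    (P : Ideal B) [hP : P.IsPrime] :
    ∃ f : B, f ∉ P ∧ ∀ Q : PrimeSpectrum B, f ∉ Q.asIdeal → Q.asIdeal ≤ P := by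
  classical
  have hchoose : ∀ Q : PrimeSpectrum B, ∃ a : B, a ∉ P ∧ (¬ Q.asIdeal ≤ P → a ∈ Q.asIdeal) := by
    intro Q
    by_cases h : Q.asIdeal ≤ P
    · exact ⟨1, fun h1 => hP.ne_top ((Ideal.eq_top_iff_one _).2 h1), fun h' => absurd h h'⟩
    · obtain ⟨a, haQ, haP⟩ := Set.not_subset.1 h
      exact ⟨a, haP, fun _ => haQ⟩
  choose a haP haQ using hchoose
  haveI := Fintype.ofFinite (PrimeSpectrum B)
  refine ⟨∏ Q, a Q, ?_, ?_⟩
  · intro h
    obtain ⟨Q, -, hQ⟩ := (hP.prod_mem_iff).1 h
    exact haP Q hQ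
  · intro Q hQ
    by_contra h
    exact hQ (Ideal.mem_of_dvd _ (Finset.dvd_prod_of_mem a (Finset.mem_univ Q)) (haQ Q h))

theorem isLocalization_away_atPrime {B : Type u} [CommRing B] (P : Ideal B) [hP : P.IsPrime]
    (f : B) (hfP : f ∉ P) (hf : ∀ Q : PrimeSpectrum B, f ∉ Q.asIdeal → Q.asIdeal ≤ P) :
    IsLocalization P.primeCompl (Localization.Away f) := by
  refine IsLocalization.of_le (Submonoid.powers f) P.primeCompl ?_ ?_
  · rintro _ ⟨n, rfl⟩
    exact fun h => hfP (hP.mem_of_pow_mem n h)
  · intro r hr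
    by_contra hu
    obtain ⟨m, hm, hrm⟩ := exists_max_ideal_of_mem_nonunits hu
    set Q : PrimeSpectrum B := ⟨m.comap (algebraMap B (Localization.Away f)), inferInstance⟩
    have hfQ : f ∉ Q.asIdeal := by
      intro h
      have h1 : algebraMap B (Localization.Away f) f ∈ m := h
      have h2 : IsUnit (algebraMap B (Localization.Away f) f) :=
        IsLocalization.Away.algebraMap_isUnit f
      exact hm.ne_top (Ideal.eq_top_of_isUnit_mem _ h1 h2)
    exact hr (hf Q hfQ hrm)

theorem etale_of_isLocalization_atPrime {V B T : Type u} [CommRing V] [CommRing B] [CommRing T]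
    [Algebra V B] [Algebra B T] [Algebra V T] [IsScalarTower V B T]
    [Finite (PrimeSpectrum V)] [Algebra.Etale V B]
    (P : Ideal B) [hP : P.IsPrime] [IsLocalization.AtPrime T P] : Algebra.Etale V T := by
  haveI : Algebra.QuasiFinite V B := inferInstance
  haveI : Finite (PrimeSpectrum B) := Algebra.QuasiFinite.finite_primeSpectrum V B
  obtain ⟨f, hfP, hf⟩ := exists_away_of_finite P
  haveI : IsLocalization P.primeCompl (Localization.Away f) :=
    isLocalization_away_atPrime P f hfP hf
  let e : Localization.Away f ≃ₐ[B] T := IsLocalization.algEquiv P.primeCompl _ _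
  exact Algebra.Etale.of_equiv (e.restrictScalars V)

end Groth.Agent.H46.LocEtFin
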