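import Groth.Agent.H46.DiffQR

/-!
# Monomial basis of the principal parts of a differentially smooth algebra (helper46)
-/

namespace Groth.Agent.H46.MonBasis

open Groth.Agent.H46.SymGr Groth.Agent.H46.DiffQR
open scoped TensorProduct

universe u v

section theta

variable {B : Type u} [CommRing B] {M : Type v} [AddCommGroup M] [Module B M]
  {ι : Type} [Fintype ι] [DecidableEq ι] (b : Module.Basis ι B M)

/-- the linear form `M → B[X_i]` sending the basis to the variables -/
noncomputable def Llin : M →ₗ[B] MvPolynomial ι B :=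
  b.constr B (fun i => (MvPolynomial.X i : MvPolynomial ι B))

theorem Llin_basis (i : ι) : Llin b (b i) = MvPolynomial.X i :=
  b.constr_basis B _ i

/-- the multilinear map `w ↦ ∏ L(w_i)` -/
noncomputable def ThetaML (ι' : Type u) [Fintype ι'] :
    MultilinearMap B (fun _ : ι' => M) (MvPolynomial ι B) :=
  (MultilinearMap.mkPiAlgebra B ι' (MvPolynomial ι B)).compLinearMap (fun _ => Llin b)

theorem ThetaML_apply (ι' : Type u) [Fintype ι'] (w : ι' → M) :
    ThetaML b ι' w = ∏ i, Llin b (w i) := by
  unfold ThetaML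
  rw [MultilinearMap.compLinearMap_apply, MultilinearMap.mkPiAlgebra_apply]

/-- coefficient extraction on symmetric powers -/
noncomputable def Theta (ι' : Type u) [Fintype ι'] :
    SymmetricPower B ι' M →ₗ[B] MvPolynomial ι B :=
  symLift (ThetaML b ι') (by
    intro e w
    rw [ThetaML_apply, ThetaML_apply]
    exact Equiv.prod_comp e (fun i => Llin b (w i)))

theorem Theta_tprod (ι' : Type u) [Fintype ι'] (w : ι' → M) :
    Theta b ι' (SymmetricPower.tprod B w) = ∏ i, Llin b (w i) := by
  unfold Theta
  rw [symLift_tprod, ThetaML_apply]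

/-- the symmetric monomials in a basis span the symmetric power -/
theorem span_tprod_basis (ι' : Type u) [Fintype ι'] :
    Submodule.span B (Set.range fun κ : ι' → ι =>
      SymmetricPower.tprod B (fun j => b (κ j))) = ⊤ := by
  set N := Submodule.span B (Set.range fun κ : ι' → ι =>
      SymmetricPower.tprod B (fun j => b (κ j))) with hN
  have h1 : N.mkQ.compMultilinearMap (SymmetricPower.tprod B (ι := ι') (M := M)) = 0 := by
    apply multilinear_ext_of_span (Set.range b) b.span_eq
    intro x hx
    choose κ hκ using hx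
    have hx' : x = fun j => b (κ j) := funext fun j => (hκ j).symm
    rw [hx']
    show N.mkQ (SymmetricPower.tprod B (fun j => b (κ j))) = 0
    rw [Submodule.mkQ_apply, Submodule.Quotient.mk_eq_zero]
    exact Submodule.subset_span ⟨κ, rfl⟩
  rw [eq_top_iff, ← SymmetricPower.span_tprod_eq_top, Submodule.span_le]
  rintro _ ⟨w, rfl⟩
  have h2 : N.mkQ (SymmetricPower.tprod B w) = 0 := congrArg (fun f => f w) h1
  rw [Submodule.mkQ_apply, Submodule.Quotient.mk_eq_zero] at h2
  exact h2

end theta

section kappa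

theorem exists_kappa {ι : Type} [Fintype ι] [DecidableEq ι] {ι' : Type u} [Fintype ι']
    (p : ι → ℕ) (h : ∑ i, p i = Fintype.card ι') :
    ∃ κ : ι' → ι, ∀ (N : Type u) [CommMonoid N] (f : ι → N),
      ∏ j, f (κ j) = ∏ i, f i ^ p i := by
  classical
  have hcard : Fintype.card (Σ i : ι, Fin (p i)) = Fintype.card ι' := by
    rw [Fintype.card_sigma, ← h]
    simp
  let e : (Σ i : ι, Fin (p i)) ≃ ι' := Fintype.equivOfCardEq hcard
  refine ⟨fun j => (e.symm j).1, ?_⟩
  intro N _ f
  rw [← Equiv.prod_comp e (fun j => f (e.symm j).1)]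
  simp only [Equiv.symm_apply_apply]
  rw [Fintype.prod_sigma]
  refine Finset.prod_congr rfl fun i _ => ?_
  simp only [Finset.prod_const, Finset.card_univ, Fintype.card_fin]

end kappa

section concrete

variable (A B : Type u) [CommRing A] [CommRing B] [Algebra A B]
  {ι : Type} [Fintype ι] [DecidableEq ι] (z : ι → B)

/-- `ζ_i = 1 ⊗ z_i - z_i ⊗ 1` -/
noncomputable def zeta (i : ι) : B ⊗[A] B := (1 : B) ⊗ₜ[A] z i - z i ⊗ₜ[A] (1 : B)

theorem zeta_mem (i : ι) : zeta A B z i ∈ KaehlerDifferential.ideal A B :=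
  KaehlerDifferential.one_smul_sub_smul_one_mem_ideal A (z i)

/-- evaluation of polynomials at the `ζ_i` -/
noncomputable def Phi : MvPolynomial ι B →ₐ[B] B ⊗[A] B := MvPolynomial.aeval (zeta A B z)

/-- the monomial `ζ^d` -/
noncomputable def Z (d : ι →₀ ℕ) : B ⊗[A] B := ∏ i, zeta A B z i ^ d i

theorem Z_mem (d : ι →₀ ℕ) : Z A B z d ∈ KaehlerDifferential.ideal A B ^ (∑ i, d i) := by
  unfold Z
  rw [← Finset.prod_pow_eq_pow_sum]
  exact Ideal.prod_mem_prod (fun i _ => Ideal.pow_mem_pow (zeta_mem A B z i) _)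

theorem Phi_monomial (d : ι →₀ ℕ) (c : B) :
    Phi A B z (MvPolynomial.monomial d c) = c • Z A B z d := by
  unfold Phi Z
  rw [MvPolynomial.aeval_monomial, Finsupp.prod_fintype _ _ (fun i => pow_zero _),
    Algebra.smul_def]

theorem Phi_eq_sum (F : MvPolynomial ι B) :
    Phi A B z F = ∑ d ∈ F.support, MvPolynomial.coeff d F • Z A B z d := by
  conv_lhs => rw [F.as_sum]
  rw [map_sum]
  exact Finset.sum_congr rfl fun d _ => Phi_monomial A B z d _

theorem smul_mem_pow (c : B) {y : B ⊗[A] B} {n : ℕ}
    (hy : y ∈ KaehlerDifferential.ideal A B ^ n) : c • y ∈ KaehlerDifferential.ideal A B ^ n := by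
  rw [Algebra.smul_def]
  exact Ideal.mul_mem_left _ _ hy

theorem sum_eq_of_isHomogeneous {F : MvPolynomial ι B} {j : ℕ} (hF : F.IsHomogeneous j)
    {d : ι →₀ ℕ} (hd : d ∈ F.support) : ∑ i, d i = j := by
  have h : d.degree = j := by
    rw [Finsupp.degree_eq_weight_one]
    exact hF (MvPolynomial.mem_support_iff.1 hd)
  rw [← h, Finsupp.degree_eq_sum]

theorem Phi_mem (F : MvPolynomial ι B) (j : ℕ) (hF : F.IsHomogeneous j) :
    Phi A B z F ∈ KaehlerDifferential.ideal A B ^ j := by
  rw [Phi_eq_sum]
  refine Ideal.sum_mem _ fun d hd => smul_mem_pow A B _ ?_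
  rw [← sum_eq_of_isHomogeneous B hF hd]
  exact Z_mem A B z d

/-- the `B`-linear quotient map `B ⊗ B → (B ⊗ B)/I^(n+1)` -/
noncomputable def Q (n : ℕ) :
    B ⊗[A] B →ₗ[B] (B ⊗[A] B) ⧸ (KaehlerDifferential.ideal A B) ^ (n + 1) :=
  (Submodule.mkQ ((KaehlerDifferential.ideal A B) ^ (n + 1))).restrictScalars B

theorem Q_eq_zero_iff (n : ℕ) (x : B ⊗[A] B) :
    Q A B n x = 0 ↔ x ∈ (KaehlerDifferential.ideal A B) ^ (n + 1) :=
  Submodule.Quotient.mk_eq_zero _

theorem valI_zetaProd (ι' : Type u) [Fintype ι'] (x : ι' → B) :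
    valI A B (Fintype.card ι') (PP16.zetaProd A B x) =
      Q A B (Fintype.card ι') (∏ j, ((1 : B) ⊗ₜ[A] x j - x j ⊗ₜ[A] (1 : B))) := rfl

variable (hB : PP16.IsDiffSmooth A B) (b : Module.Basis ι B Ω[B⁄A])
  (hb : ∀ i, b i = KaehlerDifferential.D A B (z i))

include hB hb in
theorem lin_step (ι' : Type u) [Fintype ι'] (F : MvPolynomial ι B)
    (hF : F.IsHomogeneous (Fintype.card ι'))
    (h : Phi A B z F ∈ KaehlerDifferential.ideal A B ^ (Fintype.card ι' + 1)) : F = 0 := by
  classical
  obtain ⟨φ, hφ1, hφ2⟩ := hB.2 ι'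
  have hφ : φ = phi A B ι' := eq_phi_of_pinned A B ι' φ hφ1
  rw [hφ] at hφ2
  have hκ : ∀ d ∈ F.support, ∃ κ : ι' → ι, ∀ (N : Type u) [CommMonoid N] (f : ι → N),
      ∏ j, f (κ j) = ∏ i, f i ^ d i :=
    fun d hd => exists_kappa (fun i => d i) (sum_eq_of_isHomogeneous B hF hd)
  choose κ hκ using hκ
  let T : (ι →₀ ℕ) → SymmetricPower B ι' Ω[B⁄A] := fun d =>
    if hd : d ∈ F.support then
      SymmetricPower.tprod B (fun j => KaehlerDifferential.D A B (z (κ d hd j))) else 0
  have hT : ∀ d (hd : d ∈ F.support), T d =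
      SymmetricPower.tprod B (fun j => KaehlerDifferential.D A B (z (κ d hd j))) :=
    fun d hd => dif_pos hd
  let t : SymmetricPower B ι' Ω[B⁄A] := ∑ d ∈ F.support, MvPolynomial.coeff d F • T d
  have c1 : Theta b ι' t = F := by
    show Theta b ι' (∑ d ∈ F.support, MvPolynomial.coeff d F • T d) = F
    rw [map_sum]
    conv_rhs => rw [F.as_sum]
    refine Finset.sum_congr rfl fun d hd => ?_
    rw [map_smul, hT d hd, Theta_tprod]
    have h1 : ∀ j, Llin b (KaehlerDifferential.D A B (z (κ d hd j))) =
        MvPolynomial.X (κ d hd j) := fun j => by rw [← hb, Llin_basis]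
    simp_rw [h1]
    rw [hκ d hd (MvPolynomial ι B) (fun i => MvPolynomial.X i), MvPolynomial.monomial_eq,
      Finsupp.prod_fintype _ _ (fun i => pow_zero _), MvPolynomial.smul_eq_C_mul]
  have c2 : valI A B (Fintype.card ι') (phi A B ι' t) = Q A B (Fintype.card ι') (Phi A B z F) := by
    show valI A B (Fintype.card ι') (phi A B ι' (∑ d ∈ F.support, MvPolynomial.coeff d F • T d)) = _
    rw [map_sum, map_sum, Phi_eq_sum, map_sum]
    refine Finset.sum_congr rfl fun d hd => ?_
    rw [map_smul, map_smul, map_smul, hT d hd, phi_tprod_D, valI_zetaProd]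
    congr 2
    exact hκ d hd (B ⊗[A] B) (fun i => zeta A B z i)
  have h3 : phi A B ι' t = 0 := by
    apply valI_injective A B
    rw [c2, map_zero, Q_eq_zero_iff]
    exact h
  have h4 : t = 0 := hφ2.1 (by rw [h3, map_zero])
  rw [← c1, h4, map_zero]

include hb in
theorem span_step (ι' : Type u) [Fintype ι'] (x : B ⊗[A] B)
    (hx : x ∈ KaehlerDifferential.ideal A B ^ Fintype.card ι') :
    ∃ F : MvPolynomial ι B, F.IsHomogeneous (Fintype.card ι') ∧
      x - Phi A B z F ∈ KaehlerDifferential.ideal A B ^ (Fintype.card ι' + 1) := by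
  classical
  let xc : PP16.grI A B (Fintype.card ι') := Submodule.Quotient.mk ⟨x, hx⟩
  obtain ⟨t, ht⟩ := phi_surjective A B ι' xc
  have hspan : t ∈ Submodule.span B (Set.range fun κ : ι' → ι =>
      SymmetricPower.tprod B (fun j => b (κ j))) := by
    rw [span_tprod_basis]; trivial
  obtain ⟨a, ha⟩ := (Submodule.mem_span_range_iff_exists_fun B).1 hspan
  refine ⟨∑ κ : ι' → ι, a κ • ∏ j, (MvPolynomial.X (κ j) : MvPolynomial ι B), ?_, ?_⟩
  · apply MvPolynomial.IsHomogeneous.sum
    intro κ _
    have h1 := MvPolynomial.IsHomogeneous.prod Finset.univ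
      (fun j => (MvPolynomial.X (κ j) : MvPolynomial ι B)) (fun _ => 1)
      (fun j _ => MvPolynomial.isHomogeneous_X B (κ j))
    rw [MvPolynomial.smul_eq_C_mul]
    have h2 := (MvPolynomial.isHomogeneous_C ι (a κ)).mul h1
    simpa using h2
  · have h1 : valI A B (Fintype.card ι') (phi A B ι' t) = Q A B (Fintype.card ι') x := by
      rw [ht]; rfl
    have h2 : valI A B (Fintype.card ι') (phi A B ι' t) = Q A B (Fintype.card ι')
        (Phi A B z (∑ κ : ι' → ι, a κ • ∏ j, (MvPolynomial.X (κ j) : MvPolynomial ι B))) := by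
      rw [← ha, map_sum, map_sum, map_sum, map_sum]
      refine Finset.sum_congr rfl fun κ _ => ?_
      rw [map_smul, map_smul, map_smul, map_smul]
      congr 1
      have h3 : (fun j => b (κ j)) = fun j => KaehlerDifferential.D A B (z (κ j)) :=
        funext fun j => hb _
      rw [h3, phi_tprod_D, valI_zetaProd, map_prod (Phi A B z)]
      congr 1
      refine Finset.prod_congr rfl fun j _ => ?_
      unfold Phi
      rw [MvPolynomial.aeval_X]
      rfl
    have h3 : Q A B (Fintype.card ι') (x - Phi A B z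
        (∑ κ : ι' → ι, a κ • ∏ j, (MvPolynomial.X (κ j) : MvPolynomial ι B))) = 0 := by
      rw [map_sub, ← h1, ← h2, sub_self]
    exact (Q_eq_zero_iff A B _ _).1 h3

include hB hb in
theorem main_lin (m : ℕ) (F : MvPolynomial ι B) (hdeg : ∀ d ∈ F.support, ∑ i, d i ≤ m)
    (h : Phi A B z F ∈ KaehlerDifferential.ideal A B ^ (m + 1)) : F = 0 := by
  classical
  have key : ∀ k, MvPolynomial.homogeneousComponent k F = 0 := by
    intro k
    induction k using Nat.strong_induction_on with
    | _ k ih =>
      by_cases hk : m < k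
      · ext d
        rw [MvPolynomial.coeff_homogeneousComponent, MvPolynomial.coeff_zero]
        split_ifs with hd
        · by_contra hne
          have h1 := hdeg d (MvPolynomial.mem_support_iff.2 hne)
          rw [Finsupp.degree_eq_sum] at hd
          omega
        · rfl
      · rw [not_lt] at hk
        by_cases hkN : F.totalDegree < k
        · exact MvPolynomial.homogeneousComponent_eq_zero _ _ hkN
        · rw [not_lt] at hkN
          have hsum := MvPolynomial.sum_homogeneousComponent F
          have hmem : k ∈ Finset.range (F.totalDegree + 1) := Finset.mem_range.2 (by omega)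
          have h1 : Phi A B z F = Phi A B z (MvPolynomial.homogeneousComponent k F) +
              ∑ j ∈ (Finset.range (F.totalDegree + 1)).erase k,
                Phi A B z (MvPolynomial.homogeneousComponent j F) := by
            conv_lhs => rw [← hsum]
            rw [map_sum]
            exact (Finset.add_sum_erase _
              (fun j => Phi A B z (MvPolynomial.homogeneousComponent j F)) hmem).symm
          have h2 : ∑ j ∈ (Finset.range (F.totalDegree + 1)).erase k,
              Phi A B z (MvPolynomial.homogeneousComponent j F) ∈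
                KaehlerDifferential.ideal A B ^ (k + 1) := by
            refine Ideal.sum_mem _ fun j hj => ?_
            rcases Nat.lt_or_gt_of_ne (Finset.ne_of_mem_erase hj) with hjk | hjk
            · rw [ih j hjk, map_zero]; exact zero_mem _
            · exact Ideal.pow_le_pow_right (by omega) (Phi_mem A B z _ j
                (MvPolynomial.homogeneousComponent_isHomogeneous j F))
          have h3 : Phi A B z (MvPolynomial.homogeneousComponent k F) ∈
              KaehlerDifferential.ideal A B ^ (k + 1) := by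
            have h4 : Phi A B z (MvPolynomial.homogeneousComponent k F) = Phi A B z F -
                ∑ j ∈ (Finset.range (F.totalDegree + 1)).erase k,
                  Phi A B z (MvPolynomial.homogeneousComponent j F) := by
              rw [h1]; ring
            rw [h4]
            exact sub_mem (Ideal.pow_le_pow_right (by omega) h) h2
          have hc : Fintype.card (ULift.{u} (Fin k)) = k := by simp
          apply lin_step A B z hB b hb (ULift.{u} (Fin k))
          · rw [hc]; exact MvPolynomial.homogeneousComponent_isHomogeneous k F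
          · rw [hc]; exact h3
  rw [← MvPolynomial.sum_homogeneousComponent F]
  exact Finset.sum_eq_zero fun k _ => key k

include hb in
theorem main_span (k : ℕ) (x : B ⊗[A] B) :
    ∃ F : MvPolynomial ι B, (∀ d ∈ F.support, ∑ i, d i < k) ∧
      x - Phi A B z F ∈ KaehlerDifferential.ideal A B ^ k := by
  induction k with
  | zero => exact ⟨0, by simp, by simp⟩
  | succ k ih =>
    obtain ⟨F, hF1, hF2⟩ := ih
    have hc : Fintype.card (ULift.{u} (Fin k)) = k := by simp
    obtain ⟨G, hG1, hG2⟩ := span_step A B z b hb (ULift.{u} (Fin k)) (x - Phi A B z F)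
      (by rw [hc]; exact hF2)
    rw [hc] at hG1 hG2
    refine ⟨F + G, ?_, ?_⟩
    · intro d hd
      rcases Finset.mem_union.1 (MvPolynomial.support_add hd) with h | h
      · exact Nat.lt_succ_of_lt (hF1 d h)
      · have := sum_eq_of_isHomogeneous B hG1 h
        omega
    · rw [map_add, ← sub_sub]
      exact hG2

omit [DecidableEq ι] in
/-- **S3817**: the monomials `ζ^p`, `|p| ≤ m`, form a basis of `P^m`. -/
theorem monomial_basis (hB : PP16.IsDiffSmooth A B)
    (hz : ∃ b : Module.Basis ι B Ω[B⁄A], ∀ i, b i = KaehlerDifferential.D A B (z i)) (m : ℕ) :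
    ∃ b : Module.Basis {p : ι → ℕ // ∑ i, p i ≤ m} B (PP16.P m A B),
      ∀ p, b p = ∏ i, (PP16.dn m A B (z i) - algebraMap B (PP16.P m A B) (z i)) ^ (p.1 i) := by
  classical
  obtain ⟨b, hb⟩ := hz
  let v : {p : ι → ℕ // ∑ i, p i ≤ m} → PP16.P m A B := fun p =>
    ∏ i, (PP16.dn m A B (z i) - algebraMap B (PP16.P m A B) (z i)) ^ (p.1 i)
  let E : {p : ι → ℕ // ∑ i, p i ≤ m} → (ι →₀ ℕ) := fun q => Finsupp.equivFunOnFinite.symm q.1
  have hE : Function.Injective E := fun q q' h =>
    Subtype.ext (Finsupp.equivFunOnFinite.symm.injective h)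
  have hEsum : ∀ q, ∑ i, (E q) i = ∑ i, q.1 i := fun q => rfl
  have hv : ∀ p, v p = Q A B m (Z A B z (E p)) := by
    intro p
    show ∏ i, (PP16.dn m A B (z i) - algebraMap B (PP16.P m A B) (z i)) ^ (p.1 i) =
      Ideal.Quotient.mk _ (∏ i, zeta A B z i ^ (E p) i)
    rw [map_prod]
    refine Finset.prod_congr rfl fun i _ => ?_
    rw [map_pow]
    congr 1
  have hli : LinearIndependent B v := by
    rw [linearIndependent_iff]
    intro l hl
    let F : MvPolynomial ι B := ∑ q ∈ l.support, MvPolynomial.monomial (E q) (l q)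
    have hcoef : ∀ q, MvPolynomial.coeff (E q) F = l q := by
      intro q
      show MvPolynomial.coeff (E q) (∑ q ∈ l.support, MvPolynomial.monomial (E q) (l q)) = _
      rw [MvPolynomial.coeff_sum]
      simp_rw [MvPolynomial.coeff_monomial]
      rw [Finset.sum_eq_single q]
      · simp
      · intro q' _ hne
        rw [if_neg (fun h => hne (hE h))]
      · intro hq
        rw [if_pos rfl]
        exact Finsupp.notMem_support_iff.1 hq
    have hsupp : ∀ d ∈ F.support, ∑ i, d i ≤ m := by
      intro d hd
      have h1 := MvPolynomial.support_sum hd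
      obtain ⟨q, hq, hdq⟩ := Finset.mem_biUnion.1 h1
      have h2 : d = E q := by
        have h3 := MvPolynomial.support_monomial_subset hdq
        simpa using h3
      rw [h2, hEsum]
      exact q.2
    have hPhi : Q A B m (Phi A B z F) = Finsupp.linearCombination B v l := by
      rw [Finsupp.linearCombination_apply, Finsupp.sum]
      show Q A B m (Phi A B z (∑ q ∈ l.support, MvPolynomial.monomial (E q) (l q))) = _
      rw [map_sum, map_sum]
      refine Finset.sum_congr rfl fun q _ => ?_
      rw [Phi_monomial, hv q, map_smul]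
    have hmem : Phi A B z F ∈ KaehlerDifferential.ideal A B ^ (m + 1) := by
      rw [← Q_eq_zero_iff, hPhi, hl]
    have hF0 : F = 0 := main_lin A B z hB b hb m F hsupp hmem
    ext q
    rw [← hcoef q, hF0]
    simp
  have hsp : ⊤ ≤ Submodule.span B (Set.range v) := by
    intro y _
    obtain ⟨x, rfl⟩ := Ideal.Quotient.mk_surjective y
    obtain ⟨F, hF1, hF2⟩ := main_span A B z b hb (m + 1) x
    have hx : Ideal.Quotient.mk (KaehlerDifferential.ideal A B ^ (m + 1)) x =
        Q A B m (Phi A B z F) := by
      have h1 : Q A B m (x - Phi A B z F) = 0 := (Q_eq_zero_iff A B m _).2 hF2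
      rw [map_sub, sub_eq_zero] at h1
      exact h1
    rw [hx, Phi_eq_sum, map_sum]
    refine Submodule.sum_mem _ fun d hd => ?_
    have hd' : ∑ i, d i ≤ m := Nat.lt_succ_iff.1 (hF1 d hd)
    have h2 : Q A B m (MvPolynomial.coeff d F • Z A B z d) =
        MvPolynomial.coeff d F • v ⟨⇑d, hd'⟩ := by
      rw [hv, map_smul]
      congr 2
    rw [h2]
    exact Submodule.smul_mem _ _ (Submodule.subset_span ⟨_, rfl⟩)
  exact ⟨Module.Basis.mk hli hsp, fun p => by rw [Module.Basis.mk_apply]⟩

end concrete

end Groth.Agent.H46.MonBasis
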