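import Mathlib
import Groth.Agent.H79.CIPres

/-!
# `dim B - μ(ker (B → A))` is independent of the regular local cover `B → A` (helper46)

* `spanFinrank_map_le` : generators map to generators;
* `spanFinrank_quot_succ` : `μ(K/(x)) + 1 = μ(K)` for `x ∈ K \ 𝔪²`, `K ⊆ 𝔪`;
* `mu_sub_dim_surj` : for a surjection `φ : P → R` of regular local rings and `K ⊇ ker φ` proper,
  `μ(K) - μ(𝔪_P) = μ(φ K) - μ(𝔪_R)`;
* `mu_sub_dim_of_complete`, `mu_sub_dim_of_cplEquiv`, `main`.
-/

set_option autoImplicit false
set_option linter.style.haveILetI false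
set_option linter.unusedVariables false

universe u

open IsLocalRing

namespace Groth.Agent.H46.MuDim

lemma spanFinrank_map_le {P R : Type*} [CommRing P] [CommRing R] (φ : P →+* R) (K : Ideal P)
    (hK : K.FG) : (K.map φ).spanFinrank ≤ K.spanFinrank := by
  obtain ⟨T, hTcard, hTspan⟩ := Submodule.FG.exists_span_finset_card_eq_spanFinrank (p := K) hK
  have h1 : K.map φ = Ideal.span (φ '' (T : Set P)) := by
    rw [← Ideal.map_span]
    congr 1
    exact hTspan.symm
  rw [h1]
  calc (Ideal.span (φ '' (T : Set P))).spanFinrank ≤ (φ '' (T : Set P)).ncard :=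
        Submodule.spanFinrank_span_le_ncard_of_finite (T.finite_toSet.image _)
    _ ≤ (T : Set P).ncard := Set.ncard_image_le T.finite_toSet
    _ = T.card := Set.ncard_coe_finset T
    _ = K.spanFinrank := hTcard

lemma spanFinrank_map_of_bijective {P R : Type*} [CommRing P] [CommRing R] (φ : P →+* R)
    (hφ : Function.Bijective φ) (K : Ideal P) (hK : K.FG) :
    (K.map φ).spanFinrank = K.spanFinrank := by
  refine le_antisymm (spanFinrank_map_le φ K hK) ?_
  let e := RingEquiv.ofBijective φ hφ
  have h1 : (K.map φ).map (e.symm : R →+* P) = K := by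
    rw [Ideal.map_map]
    have : ((e.symm : R →+* P).comp φ) = RingHom.id P := by
      ext a
      exact e.symm_apply_apply a
    rw [this, Ideal.map_id]
  calc K.spanFinrank = ((K.map φ).map (e.symm : R →+* P)).spanFinrank := by rw [h1]
    _ ≤ (K.map φ).spanFinrank := spanFinrank_map_le _ _ (hK.map φ)

theorem spanFinrank_quot_succ {P : Type*} [CommRing P] [IsLocalRing P] [IsNoetherianRing P]
    (K : Ideal P) (hK : K ≤ maximalIdeal P) (x : P) (hxK : x ∈ K)
    (hx2 : x ∉ maximalIdeal P ^ 2) :
    (K.map (Ideal.Quotient.mk (Ideal.span {x}))).spanFinrank + 1 = K.spanFinrank := by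
  classical
  set π := Ideal.Quotient.mk (Ideal.span {x}) with hπ
  have hπs : Function.Surjective π := Ideal.Quotient.mk_surjective
  have hxK' : Ideal.span {x} ≤ K := (Ideal.span_singleton_le_iff_mem _).mpr hxK
  have hcomap : ∀ L : Ideal P, (L.map π).comap π = L ⊔ Ideal.span {x} := by
    intro L
    rw [Ideal.comap_map_of_surjective π hπs, ← RingHom.ker_eq_comap_bot, hπ, Ideal.mk_ker]
  apply le_antisymm
  · -- `μ(K̄) + 1 ≤ μ(K)`
    obtain ⟨T, hTcard, hTspan⟩ :=
      Submodule.FG.exists_span_finset_card_eq_spanFinrank (p := K) K.fg_of_isNoetherianRing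
    have hxT : x ∈ Submodule.span P (T : Set P) := hTspan ▸ hxK
    obtain ⟨a, -, ha⟩ := Submodule.mem_span_finset.1 hxT
    have hex : ∃ t₀ ∈ T, a t₀ ∉ maximalIdeal P := by
      by_contra hcon
      push Not at hcon
      apply hx2
      rw [← ha, pow_two]
      refine Ideal.sum_mem _ (fun t ht => ?_)
      rw [smul_eq_mul]
      refine Ideal.mul_mem_mul (hcon t ht) (hK ?_)
      rw [← hTspan]
      exact Submodule.subset_span ht
    obtain ⟨t₀, ht₀, hat₀⟩ := hex
    have hu : IsUnit (a t₀) := by
      by_contra h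
      exact hat₀ ((mem_maximalIdeal _).2 h)
    set T' := T.erase t₀ with hT'
    have hsum : x = a t₀ * t₀ + ∑ t ∈ T', a t * t := by
      rw [← ha, ← Finset.add_sum_erase T _ ht₀]
      simp only [smul_eq_mul, hT']
    have hπt₀ : π t₀ ∈ Ideal.span (π '' (T' : Set P)) := by
      have h0 : π x = 0 := by
        rw [hπ, Ideal.Quotient.eq_zero_iff_mem]
        exact Ideal.mem_span_singleton_self x
      have h1 : π (a t₀) * π t₀ = - ∑ t ∈ T', π (a t) * π t := by
        have := congrArg π hsum
        rw [h0, map_add, map_mul, map_sum] at this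
        simp only [map_mul] at this
        exact eq_neg_of_add_eq_zero_left this.symm
      have hu' : IsUnit (π (a t₀)) := hu.map π
      have h2 : π t₀ = hu'.unit⁻¹ * (- ∑ t ∈ T', π (a t) * π t) := by
        rw [← h1, ← mul_assoc, IsUnit.val_inv_mul, one_mul]
      rw [h2]
      refine Ideal.mul_mem_left _ _ (Ideal.neg_mem_iff _ |>.2 (Ideal.sum_mem _ (fun t ht => ?_)))
      exact Ideal.mul_mem_left _ _ (Ideal.subset_span ⟨t, Finset.mem_coe.2 ht, rfl⟩)
    have hKbar : K.map π = Ideal.span (π '' (T' : Set P)) := by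
      have h1 : K.map π = Ideal.span (π '' (T : Set P)) := by
        rw [← Ideal.map_span]
        congr 1
        exact hTspan.symm
      rw [h1]
      apply le_antisymm
      · rw [Ideal.span_le]
        rintro _ ⟨t, ht, rfl⟩
        by_cases htt : t = t₀
        · rw [htt]; exact hπt₀
        · exact Ideal.subset_span ⟨t, Finset.mem_coe.2 (Finset.mem_erase.2 ⟨htt, ht⟩), rfl⟩
      · exact Ideal.span_mono (Set.image_mono (Finset.coe_subset.2 (Finset.erase_subset _ _)))
    have hcard : T'.card + 1 = T.card := Finset.card_erase_add_one ht₀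
    have h3 : (K.map π).spanFinrank ≤ T'.card := by
      rw [hKbar]
      calc (Ideal.span (π '' (T' : Set P))).spanFinrank ≤ (π '' (T' : Set P)).ncard :=
            Submodule.spanFinrank_span_le_ncard_of_finite (T'.finite_toSet.image _)
        _ ≤ (T' : Set P).ncard := Set.ncard_image_le T'.finite_toSet
        _ = T'.card := Set.ncard_coe_finset T'
    omega
  · -- `μ(K) ≤ μ(K̄) + 1`
    obtain ⟨Tb, hTbcard, hTbspan⟩ :=
      Submodule.FG.exists_span_finset_card_eq_spanFinrank (p := K.map π)
        (K.map π).fg_of_isNoetherianRing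
    let g : P ⧸ Ideal.span {x} → P := Function.surjInv hπs
    have hg : ∀ b, π (g b) = b := Function.surjInv_eq hπs
    set S' : Finset P := Tb.image g with hS'
    have himg : π '' (S' : Set P) = (Tb : Set (P ⧸ Ideal.span {x})) := by
      ext b
      constructor
      · rintro ⟨s, hs, rfl⟩
        obtain ⟨t, ht, rfl⟩ := Finset.mem_image.1 (Finset.mem_coe.1 hs)
        rw [hg]; exact Finset.mem_coe.2 ht
      · intro hb
        exact ⟨g b, Finset.mem_coe.2 (Finset.mem_image.2 ⟨b, Finset.mem_coe.1 hb, rfl⟩), hg b⟩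
    have hL : (Ideal.span (S' : Set P)).map π = K.map π := by
      rw [Ideal.map_span, himg]
      exact hTbspan
    have hKeq : K = Ideal.span ((S' : Set P) ∪ {x}) := by
      have h1 := hcomap K
      have h2 := hcomap (Ideal.span (S' : Set P))
      rw [hL, h1, sup_eq_left.2 hxK'] at h2
      rw [h2, Ideal.span_union]
    have h4 : K.spanFinrank ≤ ((S' : Set P) ∪ {x}).ncard := by
      conv_lhs => rw [hKeq]
      exact Submodule.spanFinrank_span_le_ncard_of_finite
        (S'.finite_toSet.union (Set.finite_singleton x))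
    have h5 : ((S' : Set P) ∪ {x}).ncard ≤ S'.card + 1 := by
      calc ((S' : Set P) ∪ {x}).ncard ≤ (S' : Set P).ncard + ({x} : Set P).ncard :=
            Set.ncard_union_le _ _
        _ = S'.card + 1 := by rw [Set.ncard_coe_finset, Set.ncard_singleton]
    have h6 : S'.card ≤ Tb.card := Finset.card_image_le
    omega

/-- Surjection `φ : P → R` of regular local rings, `K ⊇ ker φ` proper:
`μ(K) - dim P = μ(φ K) - dim R`. -/
theorem mu_sub_dim_surj :
    ∀ (d : ℕ) (P : Type u) [CommRing P] [IsRegularLocalRing P],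
      (maximalIdeal P).spanFinrank = d →
      ∀ (R : Type u) [CommRing R] [IsRegularLocalRing R] (φ : P →+* R),
        Function.Surjective φ → ∀ (K : Ideal P), RingHom.ker φ ≤ K → K ≠ ⊤ →
          (K.spanFinrank : ℤ) - d =
            ((K.map φ).spanFinrank : ℤ) - ((maximalIdeal R).spanFinrank : ℤ) := by
  have hiso : ∀ (d : ℕ) (P : Type u) [CommRing P] [IsRegularLocalRing P],
      (maximalIdeal P).spanFinrank = d →
      ∀ (R : Type u) [CommRing R] [IsRegularLocalRing R] (φ : P →+* R),
        Function.Bijective φ → ∀ (K : Ideal P),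
          (K.spanFinrank : ℤ) - d =
            ((K.map φ).spanFinrank : ℤ) - ((maximalIdeal R).spanFinrank : ℤ) := by
    intro d P _ _ hd R _ _ φ hbij K
    have h1 := spanFinrank_map_of_bijective φ hbij K K.fg_of_isNoetherianRing
    have h2 := spanFinrank_map_of_bijective φ hbij (maximalIdeal P)
      (maximalIdeal P).fg_of_isNoetherianRing
    have h3 : (maximalIdeal P).map φ = maximalIdeal R :=
      IsLocalRing.map_ringEquiv_maximalIdeal (RingEquiv.ofBijective φ hbij)
    rw [h3] at h2
    rw [h1, h2, hd]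
  intro d
  induction d with
  | zero =>
    intro P _ _ h0 R _ _ φ hφ K hJK hKtop
    have hbot : maximalIdeal P = ⊥ :=
      (Submodule.spanFinrank_eq_zero_iff_eq_bot (maximalIdeal P).fg_of_isNoetherianRing).mp h0
    have hker : RingHom.ker φ = ⊥ :=
      le_bot_iff.mp (hbot ▸ le_maximalIdeal (RingHom.ker_ne_top φ))
    have hbij : Function.Bijective φ := ⟨(RingHom.injective_iff_ker_eq_bot φ).2 hker, hφ⟩
    exact hiso 0 P h0 R φ hbij K
  | succ d ih =>
    intro P _ _ hd R _ _ φ hφ K hJK hKtop
    by_cases hker : RingHom.ker φ = ⊥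
    · have hbij : Function.Bijective φ := ⟨(RingHom.injective_iff_ker_eq_bot φ).2 hker, hφ⟩
      exact hiso (d + 1) P hd R φ hbij K
    have hregq : IsRegularLocalRing (P ⧸ RingHom.ker φ) :=
      IsRegularLocalRing.of_ringEquiv (RingHom.quotientKerEquivOfSurjective hφ).symm
    obtain ⟨x, hxJ, hx2⟩ :=
      Groth.Agent.H9.exists_mem_notMem_sq P (RingHom.ker φ) (RingHom.ker_ne_top φ) hker hregq
    have hKm : K ≤ maximalIdeal P := le_maximalIdeal hKtop
    have hxK : x ∈ K := hJK hxJ
    have hxm : x ∈ maximalIdeal P := hKm hxK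
    obtain ⟨hP₁, hμ⟩ := Groth.Agent.H9.regular_quotient_spanFinrank P x hxm hx2 d hd
    haveI := hP₁
    have hxK' : Ideal.span {x} ≤ K := (Ideal.span_singleton_le_iff_mem _).mpr hxK
    have hK₁top : K.map (Ideal.Quotient.mk (Ideal.span {x})) ≠ ⊤ :=
      Groth.Agent.H9.map_mk_ne_top hxK' hKtop
    have hφx : ∀ a : P, a ∈ Ideal.span {x} → φ a = 0 := by
      intro a ha
      have : a ∈ RingHom.ker φ := ((Ideal.span_singleton_le_iff_mem _).mpr hxJ) ha
      exact this
    have hsurj₁ : Function.Surjective (Ideal.Quotient.lift (Ideal.span {x}) φ hφx) :=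
      Ideal.Quotient.lift_surjective_of_surjective _ hφx hφ
    have hker₁ : RingHom.ker (Ideal.Quotient.lift (Ideal.span {x}) φ hφx) ≤
        K.map (Ideal.Quotient.mk (Ideal.span {x})) := by
      intro a₁ ha₁
      obtain ⟨a, rfl⟩ := Ideal.Quotient.mk_surjective a₁
      rw [RingHom.mem_ker, Ideal.Quotient.lift_mk] at ha₁
      exact Ideal.mem_map_of_mem _ (hJK ha₁)
    have h1 := ih (P ⧸ Ideal.span {x}) hμ R
      (Ideal.Quotient.lift (Ideal.span {x}) φ hφx) hsurj₁
      (K.map (Ideal.Quotient.mk (Ideal.span {x}))) hker₁ hK₁top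
    have h2 : (K.map (Ideal.Quotient.mk (Ideal.span {x}))).map
        (Ideal.Quotient.lift (Ideal.span {x}) φ hφx) = K.map φ := by
      rw [Ideal.map_map]
      congr 1
    rw [h2] at h1
    have h3 := spanFinrank_quot_succ K hKm x hxK hx2
    rw [← h1, ← h3]
    push_cast
    ring

/-- Two complete regular presentations of the same local ring. -/
theorem mu_sub_dim_of_complete {R S A : Type u} [CommRing R] [CommRing S] [CommRing A]
    [IsLocalRing A] [IsRegularLocalRing R] [IsRegularLocalRing S]
    [IsAdicComplete (maximalIdeal R) R] [IsAdicComplete (maximalIdeal S) S]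
    (f : R →+* A) (g : S →+* A) (hf : Function.Surjective f) (hg : Function.Surjective g) :
    ((maximalIdeal R).spanFinrank : ℤ) - ((RingHom.ker f).spanFinrank : ℤ) =
      ((maximalIdeal S).spanFinrank : ℤ) - ((RingHom.ker g).spanFinrank : ℤ) := by
  haveI : IsLocalHom f := IsLocalHom.of_surjective f hf
  haveI : IsLocalHom g := IsLocalHom.of_surjective g hg
  obtain ⟨hloc, hnoeth, hcompl⟩ := Groth.Agent.S2841.result f g hf hg
  haveI := hloc
  haveI := hcompl
  obtain ⟨Λ, hΛ, n, F, hΛ', hF⟩ := Groth.Agent.S0580.result (f.pullback g)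
    (maximalIdeal _).fg_of_isNoetherianRing
  haveI hP : IsRegularLocalRing (MvPowerSeries (Fin n) Λ) :=
    Groth.Agent.H79.CIPres.isRegularLocalRing_of_field_or_cohen Λ hΛ' n
  let pR : (f.pullback g) →+* R := RingHom.pullbackFst f g
  let pS : (f.pullback g) →+* S := RingHom.pullbackSnd f g
  have hpR : Function.Surjective pR := RingHom.surjective_pullbackFst_of_surjective f g hg
  have hpS : Function.Surjective pS := RingHom.surjective_pullbackSnd_of_surjective f g hf
  let φR : MvPowerSeries (Fin n) Λ →+* R := pR.comp F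
  let φS : MvPowerSeries (Fin n) Λ →+* S := pS.comp F
  have hφR : Function.Surjective φR := hpR.comp hF
  have hφS : Function.Surjective φS := hpS.comp hF
  have hcomm : f.comp φR = g.comp φS := by
    change (f.comp pR).comp F = (g.comp pS).comp F
    rw [RingHom.pullback_comm_sq f g]
  set K : Ideal (MvPowerSeries (Fin n) Λ) := RingHom.ker (f.comp φR) with hK
  have hKtop : K ≠ ⊤ := RingHom.ker_ne_top _
  have hKR : RingHom.ker φR ≤ K := fun x hx => by
    rw [hK, RingHom.mem_ker, RingHom.comp_apply, (RingHom.mem_ker).mp hx, map_zero]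
  have hKS : RingHom.ker φS ≤ K := fun x hx => by
    rw [hK, hcomm, RingHom.mem_ker, RingHom.comp_apply, (RingHom.mem_ker).mp hx, map_zero]
  have hmapR : K.map φR = RingHom.ker f := by
    rw [hK, ← RingHom.comap_ker, Ideal.map_comap_of_surjective φR hφR]
  have hmapS : K.map φS = RingHom.ker g := by
    rw [hK, hcomm, ← RingHom.comap_ker, Ideal.map_comap_of_surjective φS hφS]
  have h1 := mu_sub_dim_surj _ (MvPowerSeries (Fin n) Λ) rfl R φR hφR K hKR hKtop
  have h2 := mu_sub_dim_surj _ (MvPowerSeries (Fin n) Λ) rfl S φS hφS K hKS hKtop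
  rw [hmapR] at h1
  rw [hmapS] at h2
  linarith

section Cpl

variable {R : Type u} [CommRing R] [IsRegularLocalRing R]

/-- `μ(I·R̂) = μ(I)` and `μ(𝔪_R̂) = μ(𝔪_R)`. -/
theorem spanFinrank_cpl (I : Ideal R) :
    (I.map (algebraMap R (EGA4.Cpl R))).spanFinrank = I.spanFinrank := by
  haveI hN : IsNoetherianRing (EGA4.Cpl R) :=
    Groth.Agent.Lead.isNoetherianRing_adicCompletion (maximalIdeal R)
      (maximalIdeal R).fg_of_isNoetherianRing
  haveI : Module.Flat R (EGA4.Cpl R) := AdicCompletion.flat_of_isNoetherian _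
  exact Groth.Agent.H79.CIPres.spanFinrank_map_eq_of_flat I I.fg_of_isNoetherianRing

theorem spanFinrank_maximalIdeal_cpl :
    (maximalIdeal (EGA4.Cpl R)).spanFinrank = (maximalIdeal R).spanFinrank := by
  have h := spanFinrank_cpl (maximalIdeal R)
  rwa [← AdicCompletion.maximalIdeal_eq_map] at h

end Cpl

/-- **Keystone**: `dim R - μ(I)` only depends on the completion of `R/I`. -/
theorem mu_sub_dim_of_cplEquiv {R B : Type u} [CommRing R] [CommRing B] [IsRegularLocalRing R]
    [IsRegularLocalRing B] (I : Ideal R) (J : Ideal B) (hI : I ≠ ⊤) (hJ : J ≠ ⊤)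
    [IsLocalRing (R ⧸ I)] [IsLocalRing (B ⧸ J)]
    (e : EGA4.Cpl (R ⧸ I) ≃+* EGA4.Cpl (B ⧸ J)) :
    ((maximalIdeal R).spanFinrank : ℤ) - (I.spanFinrank : ℤ) =
      ((maximalIdeal B).spanFinrank : ℤ) - (J.spanFinrank : ℤ) := by
  haveI : IsNoetherianRing (EGA4.Cpl R) :=
    Groth.Agent.Lead.isNoetherianRing_adicCompletion (maximalIdeal R)
      (maximalIdeal R).fg_of_isNoetherianRing
  haveI : IsNoetherianRing (EGA4.Cpl B) :=
    Groth.Agent.Lead.isNoetherianRing_adicCompletion (maximalIdeal B)
      (maximalIdeal B).fg_of_isNoetherianRing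
  haveI : IsRegularLocalRing (EGA4.Cpl R) := (Groth.Agent.S0548.result R).mp inferInstance
  haveI : IsRegularLocalRing (EGA4.Cpl B) := (Groth.Agent.S0548.result B).mp inferInstance
  obtain ⟨f, hf, hfk⟩ := Groth.Agent.H79.CIPres.exists_cpl_surjective I hI
  obtain ⟨g, hg, hgk⟩ := Groth.Agent.H79.CIPres.exists_cpl_surjective J hJ
  have h := mu_sub_dim_of_complete ((e : _ →+* _).comp f) g (e.surjective.comp hf) hg
  have hk : RingHom.ker ((e : EGA4.Cpl (R ⧸ I) →+* EGA4.Cpl (B ⧸ J)).comp f) = RingHom.ker f := by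
    ext x
    rw [RingHom.mem_ker, RingHom.mem_ker, RingHom.comp_apply]
    change e (f x) = 0 ↔ _
    rw [map_eq_zero_iff e e.injective]
  rw [hk, hfk, hgk, spanFinrank_cpl, spanFinrank_cpl, spanFinrank_maximalIdeal_cpl,
    spanFinrank_maximalIdeal_cpl] at h
  exact h

/-- `dim B - μ(ker (B → A))` does not depend on the regular local cover `B → A`. -/
theorem main (A : Type u) [CommRing A] [IsLocalRing A] [IsNoetherianRing A] (B B' : Type u)
    [CommRing B] [CommRing B'] [IsRegularLocalRing B] [IsRegularLocalRing B'] (f : B →+* A)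
    (hf : Function.Surjective f) (f' : B' →+* A) (hf' : Function.Surjective f') (d d' : ℕ)
    (hd : ringKrullDim B = d) (hd' : ringKrullDim B' = d') :
    (d : ℤ) - ((RingHom.ker f).spanFinrank : ℤ) = (d' : ℤ) - ((RingHom.ker f').spanFinrank : ℤ) := by
  have hI : RingHom.ker f ≠ ⊤ := RingHom.ker_ne_top f
  have hI' : RingHom.ker f' ≠ ⊤ := RingHom.ker_ne_top f'
  haveI : Nontrivial (B ⧸ RingHom.ker f) := Ideal.Quotient.nontrivial_iff.mpr hI
  haveI : IsLocalRing (B ⧸ RingHom.ker f) := inferInstance
  haveI : Nontrivial (B' ⧸ RingHom.ker f') := Ideal.Quotient.nontrivial_iff.mpr hI'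
  haveI : IsLocalRing (B' ⧸ RingHom.ker f') := inferInstance
  let e₀ : (B ⧸ RingHom.ker f) ≃+* (B' ⧸ RingHom.ker f') :=
    (RingHom.quotientKerEquivOfSurjective hf).trans
      (RingHom.quotientKerEquivOfSurjective hf').symm
  obtain ⟨e⟩ := Groth.Agent.H15.FormEq.nonempty_cplEquiv e₀
  have h := mu_sub_dim_of_cplEquiv (RingHom.ker f) (RingHom.ker f') hI hI' e
  have hB : ((maximalIdeal B).spanFinrank : WithBot ℕ∞) = ringKrullDim B :=
    IsRegularLocalRing.spanFinrank_maximalIdeal
  have hB' : ((maximalIdeal B').spanFinrank : WithBot ℕ∞) = ringKrullDim B' :=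
    IsRegularLocalRing.spanFinrank_maximalIdeal
  rw [hd] at hB
  rw [hd'] at hB'
  have e1 : (maximalIdeal B).spanFinrank = d := by exact_mod_cast hB
  have e2 : (maximalIdeal B').spanFinrank = d' := by exact_mod_cast hB'
  rw [e1, e2] at h
  exact h

end Groth.Agent.H46.MuDim
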