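import Groth.Agent.H46.MonBasis
import Groth.Agent.S3820

/-!
# Principal parts as truncated polynomial rings (helper46)
-/

namespace Groth.Agent.H46.PPFrac

open Groth.Agent.H46.MonBasis
open scoped TensorProduct

universe u

section general

variable (A B : Type u) [CommRing A] [CommRing B] [Algebra A B]
  {ι : Type} [Fintype ι] [DecidableEq ι] (z : ι → B)

/-- the truncated Taylor map `B[U] → P^n` -/
noncomputable def tay (n : ℕ) : MvPolynomial ι B →ₐ[B] PP16.P n A B :=
  MvPolynomial.aeval (fun i => PP16.dn n A B (z i) - algebraMap B (PP16.P n A B) (z i))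

theorem tay_eq (n : ℕ) (F : MvPolynomial ι B) :
    tay A B z n F = Ideal.Quotient.mk _ (Phi A B z F) := by
  have h := MvPolynomial.comp_aeval_apply (σ := ι) (R := B)
    (f := zeta A B z)
    (Ideal.Quotient.mkₐ B ((KaehlerDifferential.ideal A B) ^ (n + 1))) F
  unfold tay Phi
  rw [← Ideal.Quotient.mkₐ_eq_mk B, h]
  congr 1

variable (hB : PP16.IsDiffSmooth A B) (b : Module.Basis ι B Ω[B⁄A])
  (hb : ∀ i, b i = KaehlerDifferential.D A B (z i))

include hb in
theorem tay_surjective (n : ℕ) : Function.Surjective (tay A B z n) := by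
  intro y
  obtain ⟨x, rfl⟩ := Ideal.Quotient.mk_surjective y
  obtain ⟨F, -, hF2⟩ := main_span A B z b hb (n + 1) x
  refine ⟨F, ?_⟩
  rw [tay_eq]
  exact (Ideal.Quotient.eq.2 hF2).symm

include hB hb in
theorem ker_tay (n : ℕ) :
    RingHom.ker (tay A B z n).toRingHom =
      (Ideal.span (Set.range (MvPolynomial.X : ι → MvPolynomial ι B))) ^ (n + 1) := by
  classical
  ext F
  rw [RingHom.mem_ker]
  show tay A B z n F = 0 ↔ F ∈ MvPolynomial.idealOfVars ι B ^ (n + 1)
  rw [tay_eq, Ideal.Quotient.eq_zero_iff_mem, MvPolynomial.mem_pow_idealOfVars_iff]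
  constructor
  · intro h d hd
    by_contra hlt
    rw [not_le, Nat.lt_succ_iff] at hlt
    let Flow : MvPolynomial ι B :=
      ∑ d ∈ F.support.filter (fun d => d.degree ≤ n), MvPolynomial.monomial d (MvPolynomial.coeff d F)
    let Fhigh : MvPolynomial ι B :=
      ∑ d ∈ F.support.filter (fun d => ¬ d.degree ≤ n),
        MvPolynomial.monomial d (MvPolynomial.coeff d F)
    have hF : F = Flow + Fhigh := by
      conv_lhs => rw [F.as_sum]
      exact (Finset.sum_filter_add_sum_filter_not _ _ _).symm
    have hhigh : Phi A B z Fhigh ∈ KaehlerDifferential.ideal A B ^ (n + 1) := by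
      show Phi A B z (∑ d ∈ F.support.filter (fun d => ¬ d.degree ≤ n),
        MvPolynomial.monomial d (MvPolynomial.coeff d F)) ∈ _
      rw [map_sum]
      refine Ideal.sum_mem _ fun d' hd' => ?_
      rw [Phi_monomial]
      refine smul_mem_pow A B _ ?_
      have h1 := (Finset.mem_filter.1 hd').2
      rw [not_le, Finsupp.degree_eq_sum] at h1
      exact Ideal.pow_le_pow_right h1 (Z_mem A B z d')
    have hlow : Phi A B z Flow ∈ KaehlerDifferential.ideal A B ^ (n + 1) := by
      have h1 : Phi A B z Flow = Phi A B z F - Phi A B z Fhigh := by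
        rw [hF, map_add, add_sub_cancel_right]
      rw [h1]
      exact sub_mem h hhigh
    have hdeg : ∀ d' ∈ Flow.support, ∑ i, d' i ≤ n := by
      intro d' hd'
      have h1 := MvPolynomial.support_sum hd'
      obtain ⟨q, hq, hdq⟩ := Finset.mem_biUnion.1 h1
      have h2 : d' = q := by
        have h3 := MvPolynomial.support_monomial_subset hdq
        simpa using h3
      rw [h2, ← Finsupp.degree_eq_sum]
      exact (Finset.mem_filter.1 hq).2
    have h0 : Flow = 0 := main_lin A B z hB b hb n Flow hdeg hlow
    have hc : MvPolynomial.coeff d Flow = MvPolynomial.coeff d F := by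
      show MvPolynomial.coeff d (∑ d ∈ F.support.filter (fun d => d.degree ≤ n),
        MvPolynomial.monomial d (MvPolynomial.coeff d F)) = _
      rw [MvPolynomial.coeff_sum]
      simp_rw [MvPolynomial.coeff_monomial]
      rw [Finset.sum_ite_eq' , if_pos (Finset.mem_filter.2 ⟨hd, hlt⟩)]
    rw [h0, MvPolynomial.coeff_zero] at hc
    exact (MvPolynomial.mem_support_iff.1 hd) hc.symm
  · intro h
    rw [Phi_eq_sum]
    refine Ideal.sum_mem _ fun d hd => smul_mem_pow A B _ ?_
    have h1 := h d hd
    rw [Finsupp.degree_eq_sum] at h1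
    exact Ideal.pow_le_pow_right h1 (Z_mem A B z d)

end general

section frac

variable (k : Type u) [Field k] (r : ℕ)

local notation "Pk" => MvPolynomial (Fin r) k
local notation "KK" => FractionRing (MvPolynomial (Fin r) k)

instance formallySmooth_frac : Algebra.FormallySmooth k (FractionRing (MvPolynomial (Fin r) k)) := by
  haveI : Algebra.FormallyEtale (MvPolynomial (Fin r) k) (FractionRing (MvPolynomial (Fin r) k)) :=
    Algebra.FormallyEtale.of_isLocalization (nonZeroDivisors (MvPolynomial (Fin r) k))
  exact Algebra.FormallySmooth.comp k (MvPolynomial (Fin r) k) _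

/-- the basis `dT_i` of the differentials of the fraction field -/
noncomputable def fracBasis : Module.Basis (Fin r) (FractionRing (MvPolynomial (Fin r) k))
    Ω[FractionRing (MvPolynomial (Fin r) k)⁄k] :=
  (KaehlerDifferential.mvPolynomialBasis k (Fin r)).ofIsLocalizedModule
    (FractionRing (MvPolynomial (Fin r) k)) (nonZeroDivisors (MvPolynomial (Fin r) k))
    (KaehlerDifferential.map k k (MvPolynomial (Fin r) k) (FractionRing (MvPolynomial (Fin r) k)))

theorem fracBasis_apply (i : Fin r) :
    fracBasis k r i = KaehlerDifferential.D k (FractionRing (MvPolynomial (Fin r) k))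
      (algebraMap (MvPolynomial (Fin r) k) (FractionRing (MvPolynomial (Fin r) k))
        (MvPolynomial.X i)) := by
  unfold fracBasis
  rw [Module.Basis.ofIsLocalizedModule_apply, KaehlerDifferential.mvPolynomialBasis_apply,
    KaehlerDifferential.map_D]

end frac

end Groth.Agent.H46.PPFrac
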