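import Groth.Agent.S3811

/-!
# Principal parts along a section (helper46)
-/

namespace Groth.Agent.H46.PPSection

open scoped TensorProduct

universe u

section aug

variable (n : ℕ) (A B : Type u) [CommRing A] [CommRing B] [Algebra A B]

/-- the augmentation `P^n → B` -/
noncomputable def eps : PP16.P n A B →ₐ[B] B :=
  Ideal.Quotient.liftₐ ((KaehlerDifferential.ideal A B) ^ (n + 1))
    (Algebra.TensorProduct.lmul'' A (S := B)) (by
      intro x hx
      exact Ideal.pow_le_self (Nat.succ_ne_zero n) hx)

theorem eps_mk (x : B ⊗[A] B) :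
    eps n A B (Ideal.Quotient.mk _ x) = Algebra.TensorProduct.lmul' A x := rfl

theorem mem_augIdeal_iff (x : PP16.P n A B) : x ∈ PP16.augIdeal n A B ↔ eps n A B x = 0 := by
  constructor
  · intro hx
    unfold PP16.augIdeal at hx
    rw [Ideal.mem_map_iff_of_surjective _ Ideal.Quotient.mk_surjective] at hx
    obtain ⟨r, hr, rfl⟩ := hx
    rw [eps_mk]
    exact hr
  · intro hx
    obtain ⟨r, rfl⟩ := Ideal.Quotient.mk_surjective x
    rw [eps_mk] at hx
    exact Ideal.mem_map_of_mem _ hx

/-- the projection of `P^n` onto its augmentation ideal -/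
noncomputable def proj : PP16.P n A B →ₗ[B] PP16.P n A B :=
  LinearMap.id - (Algebra.linearMap B (PP16.P n A B)) ∘ₗ (eps n A B).toLinearMap

theorem proj_apply (x : PP16.P n A B) :
    proj n A B x = x - algebraMap B (PP16.P n A B) (eps n A B x) := rfl

theorem proj_mem (x : PP16.P n A B) : proj n A B x ∈ PP16.augIdeal n A B := by
  rw [mem_augIdeal_iff, proj_apply, map_sub, AlgHom.commutes, Algebra.algebraMap_self_apply,
    sub_self]

theorem proj_of_mem {x : PP16.P n A B} (hx : x ∈ PP16.augIdeal n A B) : proj n A B x = x := by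
  rw [proj_apply, (mem_augIdeal_iff n A B x).1 hx, map_zero, sub_zero]

/-- an element of the augmentation ideal lies in `K • P^n` iff it lies in `K • T^n` -/
theorem mem_smul_augIdeal_iff (K : Ideal B) {t : PP16.P n A B} (ht : t ∈ PP16.augIdeal n A B) :
    t ∈ K.map (algebraMap B (PP16.P n A B)) ↔
      t ∈ K • (PP16.augIdeal n A B).restrictScalars B := by
  constructor
  · intro h
    have h1 : t ∈ K • (⊤ : Submodule B (PP16.P n A B)) := by
      rw [Ideal.smul_top_eq_map]
      exact h
    have h2 : ∀ x ∈ K • (⊤ : Submodule B (PP16.P n A B)),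
        proj n A B x ∈ K • (PP16.augIdeal n A B).restrictScalars B := by
      intro x hx
      refine Submodule.smul_induction_on hx ?_ ?_
      · intro i hi p _
        rw [map_smul]
        exact Submodule.smul_mem_smul hi (proj_mem n A B p)
      · intro x y hx hy
        rw [map_add]
        exact add_mem hx hy
    have h3 := h2 t h1
    rwa [proj_of_mem n A B ht] at h3
  · intro h
    refine Submodule.smul_induction_on h ?_ ?_
    · intro i hi p _
      rw [Algebra.smul_def]
      exact Ideal.mul_mem_right _ _ (Ideal.mem_map_of_mem _ hi)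
    · intro x y hx hy
      exact add_mem hx hy

theorem mul_mem_smul_augIdeal (K : Ideal B) (p : PP16.P n A B) {x : PP16.P n A B}
    (hx : x ∈ K • (PP16.augIdeal n A B).restrictScalars B) :
    p * x ∈ K • (PP16.augIdeal n A B).restrictScalars B := by
  refine Submodule.smul_induction_on hx ?_ ?_
  · intro i hi t ht
    rw [mul_smul_comm]
    exact Submodule.smul_mem_smul hi (Ideal.mul_mem_left _ p ht)
  · intro x y hx hy
    rw [mul_add]
    exact add_mem hx hy

theorem dn_sub_mem_augIdeal (b : B) :
    PP16.dn n A B b - algebraMap B (PP16.P n A B) b ∈ PP16.augIdeal n A B := by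
  rw [mem_augIdeal_iff, map_sub, AlgHom.commutes, Algebra.algebraMap_self_apply]
  show Algebra.TensorProduct.lmul' A ((1 : B) ⊗ₜ[A] b) - b = 0
  rw [Algebra.TensorProduct.lmul'_apply_tmul, one_mul, sub_self]

theorem augIdeal_eq_span :
    PP16.augIdeal n A B = Ideal.span (Set.range fun b : B =>
      PP16.dn n A B b - algebraMap B (PP16.P n A B) b) := by
  unfold PP16.augIdeal
  have h := congrArg (Ideal.map (Ideal.Quotient.mk ((KaehlerDifferential.ideal A B) ^ (n + 1))))
    (KaehlerDifferential.span_range_eq_ideal A B)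
  rw [← h, Ideal.map_span]
  congr 1
  ext x
  constructor
  · rintro ⟨_, ⟨b, rfl⟩, rfl⟩
    exact ⟨b, by rw [map_sub]; rfl⟩
  · rintro ⟨b, rfl⟩
    exact ⟨_, ⟨b, rfl⟩, by rw [map_sub]; rfl⟩

end aug

section main

variable (R SY SX : Type u) [CommRing R] [CommRing SY] [CommRing SX] [Algebra R SY]
  [Algebra R SX] [Algebra SY SX] [IsScalarTower R SY SX] (σ : SX →ₐ[R] R) (n : ℕ)

theorem dn_mem_iff (c : SX) :
    PP16.dn n R SX c ∈ (RingHom.ker σ.toRingHom).map (algebraMap SX (PP16.P n R SX)) ↔
      c ∈ RingHom.ker σ.toRingHom ^ (n + 1) := by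
  have h := (Groth.Agent.S3811.result n R SX σ).2
  have h1 : c ∈ RingHom.ker ((Ideal.Quotient.mk ((RingHom.ker σ).map
      (algebraMap SX (PP16.P n R SX)))).comp (PP16.dn n R SX).toRingHom) ↔
      c ∈ RingHom.ker σ ^ (n + 1) := by rw [h]
  rw [RingHom.mem_ker, RingHom.comp_apply, Ideal.Quotient.eq_zero_iff_mem] at h1
  exact h1

theorem map_gen (b : SY) :
    PP16.map n R SY R SX (PP16.dn n R SY b - algebraMap SY (PP16.P n R SY) b) =
      PP16.dn n R SX (algebraMap SY SX b) -
        algebraMap SX (PP16.P n R SX) (algebraMap SY SX b) := by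
  rw [map_sub, PP16.map_dn, PP16.map_algebraMap]

theorem gen_shift (b : SY) (r : R) :
    PP16.dn n R SY (b - algebraMap R SY r) - algebraMap SY (PP16.P n R SY) (b - algebraMap R SY r) =
      PP16.dn n R SY b - algebraMap SY (PP16.P n R SY) b := by
  rw [map_sub, map_sub, AlgHom.commutes, ← IsScalarTower.algebraMap_apply]
  ring

/-- **S13936** (with `e = n + 1`). -/
theorem main :
    (∀ y ∈ PP16.augIdeal n R SY,
        PP16.map n R SY R SX y ∈
          RingHom.ker σ.toRingHom • (PP16.augIdeal n R SX).restrictScalars SX) ↔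
      (∀ b : SY, algebraMap SY SX b ∈ RingHom.ker σ.toRingHom →
        algebraMap SY SX b ∈ RingHom.ker σ.toRingHom ^ (n + 1)) := by
  constructor
  · intro h b hb
    have h1 := h _ (dn_sub_mem_augIdeal n R SY b)
    rw [map_gen] at h1
    have h2 := (mem_smul_augIdeal_iff n R SX (RingHom.ker σ.toRingHom)
      (dn_sub_mem_augIdeal n R SX (algebraMap SY SX b))).2 h1
    have h3 : algebraMap SX (PP16.P n R SX) (algebraMap SY SX b) ∈
        (RingHom.ker σ.toRingHom).map (algebraMap SX (PP16.P n R SX)) :=
      Ideal.mem_map_of_mem _ hb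
    have h4 := add_mem h2 h3
    rw [sub_add_cancel] at h4
    exact (dn_mem_iff R SX σ n _).1 h4
  · intro h y hy
    rw [augIdeal_eq_span] at hy
    induction hy using Submodule.span_induction with
    | mem y hy =>
      obtain ⟨b, rfl⟩ := hy
      set r : R := σ (algebraMap SY SX b) with hr
      beta_reduce
      rw [← gen_shift R SY n b r, map_gen]
      set c : SX := algebraMap SY SX (b - algebraMap R SY r) with hc
      have hcI : c ∈ RingHom.ker σ.toRingHom := by
        rw [RingHom.mem_ker, hc, map_sub, ← IsScalarTower.algebraMap_apply]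
        show σ (algebraMap SY SX b - algebraMap R SX r) = 0
        rw [map_sub, AlgHom.commutes, Algebra.algebraMap_self_apply, hr, sub_self]
      have hc2 := h _ hcI
      rw [← hc] at hc2
      have h2 := (dn_mem_iff R SX σ n c).2 hc2
      have h3 : algebraMap SX (PP16.P n R SX) c ∈
          (RingHom.ker σ.toRingHom).map (algebraMap SX (PP16.P n R SX)) :=
        Ideal.mem_map_of_mem _ hcI
      exact (mem_smul_augIdeal_iff n R SX (RingHom.ker σ.toRingHom)
        (dn_sub_mem_augIdeal n R SX c)).1 (sub_mem h2 h3)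
    | zero => rw [map_zero]; exact zero_mem _
    | add x y _ _ hx hy => rw [map_add]; exact add_mem hx hy
    | smul p x _ hx =>
      rw [smul_eq_mul, map_mul]
      exact mul_mem_smul_augIdeal n R SX _ _ hx

end main

end Groth.Agent.H46.PPSection
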