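import Mathlib

/-!
# Power series with non-negative integer coefficients: supports

`NN F` : all coefficients of `F` are `≥ 0`;  `Pos F w` : the coefficient at `w` is `> 0`.
For such series the support of a product is the Minkowski sum of the supports, etc.
-/

namespace Groth.Agent.H46.PS

open MvPowerSeries Finset

variable {σ : Type*}

/-- All coefficients are non-negative. -/
def NN (F : MvPowerSeries σ ℤ) : Prop := ∀ w, 0 ≤ coeff w F

/-- The coefficient at `w` is positive. -/
def Pos (F : MvPowerSeries σ ℤ) (w : σ →₀ ℕ) : Prop := 0 < coeff w F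

theorem nn_zero : NN (0 : MvPowerSeries σ ℤ) := fun w => by simp

theorem nn_one : NN (1 : MvPowerSeries σ ℤ) := fun w => by
  classical
  rw [coeff_one]
  split_ifs <;> simp

theorem pos_one_iff (w : σ →₀ ℕ) : Pos (1 : MvPowerSeries σ ℤ) w ↔ w = 0 := by
  classical
  unfold Pos
  rw [coeff_one]
  split_ifs with h <;> simp [h]

theorem nn_add {F G : MvPowerSeries σ ℤ} (hF : NN F) (hG : NN G) : NN (F + G) := fun w => by
  rw [map_add]
  exact add_nonneg (hF w) (hG w)

theorem nn_mul {F G : MvPowerSeries σ ℤ} (hF : NN F) (hG : NN G) : NN (F * G) := fun w => by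
  classical
  rw [coeff_mul]
  exact Finset.sum_nonneg (fun p _ => mul_nonneg (hF _) (hG _))

theorem nn_sum {ι : Type*} (s : Finset ι) (F : ι → MvPowerSeries σ ℤ) (h : ∀ i ∈ s, NN (F i)) :
    NN (∑ i ∈ s, F i) := fun w => by
  rw [map_sum]
  exact Finset.sum_nonneg (fun i hi => h i hi w)

theorem nn_prod {ι : Type*} (s : Finset ι) (F : ι → MvPowerSeries σ ℤ) (h : ∀ i ∈ s, NN (F i)) :
    NN (∏ i ∈ s, F i) := by
  classical
  induction s using Finset.induction_on with
  | empty => simpa using nn_one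
  | insert a s ha ih =>
    rw [Finset.prod_insert ha]
    exact nn_mul (h a (Finset.mem_insert_self _ _))
      (ih (fun i hi => h i (Finset.mem_insert_of_mem hi)))

theorem nn_pow {F : MvPowerSeries σ ℤ} (hF : NN F) (k : ℕ) : NN (F ^ k) := by
  induction k with
  | zero => simpa using nn_one
  | succ k ih => rw [pow_succ]; exact nn_mul ih hF

theorem pos_add_iff {F G : MvPowerSeries σ ℤ} (hF : NN F) (hG : NN G) (w : σ →₀ ℕ) :
    Pos (F + G) w ↔ Pos F w ∨ Pos G w := by
  unfold Pos
  rw [map_add]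
  have h1 := hF w
  have h2 := hG w
  constructor
  · intro h
    by_contra hcon
    push Not at hcon
    omega
  · rintro (h | h) <;> omega

theorem pos_mul_iff {F G : MvPowerSeries σ ℤ} (hF : NN F) (hG : NN G) (w : σ →₀ ℕ) :
    Pos (F * G) w ↔ ∃ w₁ w₂, w₁ + w₂ = w ∧ Pos F w₁ ∧ Pos G w₂ := by
  classical
  unfold Pos
  rw [coeff_mul, Finset.sum_pos_iff_of_nonneg (fun p _ => mul_nonneg (hF _) (hG _))]
  constructor
  · rintro ⟨p, hp, hpos⟩
    refine ⟨p.1, p.2, Finset.HasAntidiagonal.mem_antidiagonal.mp hp, ?_, ?_⟩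
    · rcases (hF p.1).eq_or_lt with h | h
      · rw [← h, zero_mul] at hpos
        exact absurd hpos (lt_irrefl _)
      · exact h
    · rcases (hG p.2).eq_or_lt with h | h
      · rw [← h, mul_zero] at hpos
        exact absurd hpos (lt_irrefl _)
      · exact h
  · rintro ⟨w₁, w₂, hw, h1, h2⟩
    exact ⟨(w₁, w₂), Finset.HasAntidiagonal.mem_antidiagonal.mpr hw, mul_pos h1 h2⟩

theorem pos_sum_iff {ι : Type*} (s : Finset ι) (F : ι → MvPowerSeries σ ℤ)
    (h : ∀ i ∈ s, NN (F i)) (w : σ →₀ ℕ) :
    Pos (∑ i ∈ s, F i) w ↔ ∃ i ∈ s, Pos (F i) w := by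
  unfold Pos
  rw [map_sum, Finset.sum_pos_iff_of_nonneg (fun i hi => h i hi w)]

theorem pos_prod_iff {ι : Type*} (s : Finset ι) (F : ι → MvPowerSeries σ ℤ)
    (h : ∀ i ∈ s, NN (F i)) (w : σ →₀ ℕ) :
    Pos (∏ i ∈ s, F i) w ↔
      ∃ g : ι → (σ →₀ ℕ), ∑ i ∈ s, g i = w ∧ ∀ i ∈ s, Pos (F i) (g i) := by
  classical
  induction s using Finset.induction_on generalizing w with
  | empty =>
    simp only [Finset.prod_empty, Finset.sum_empty, Finset.notMem_empty, false_imp_iff,
      implies_true, and_true, exists_const]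
    rw [pos_one_iff]
    exact eq_comm
  | insert a s ha ih =>
    rw [Finset.prod_insert ha,
      pos_mul_iff (h a (Finset.mem_insert_self _ _))
        (nn_prod s F (fun i hi => h i (Finset.mem_insert_of_mem hi)))]
    constructor
    · rintro ⟨w₁, w₂, hw, h1, h2⟩
      obtain ⟨g, hg, hgp⟩ := (ih (fun i hi => h i (Finset.mem_insert_of_mem hi)) w₂).mp h2
      refine ⟨Function.update g a w₁, ?_, ?_⟩
      · rw [Finset.sum_insert ha, Function.update_self]
        have hsum : ∑ x ∈ s, Function.update g a w₁ x = ∑ x ∈ s, g x :=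
          Finset.sum_congr rfl (fun i hi => by
            rw [Function.update_of_ne]
            rintro rfl
            exact ha hi)
        rw [hsum, hg, hw]
      · intro i hi
        rcases Finset.mem_insert.mp hi with rfl | hi'
        · rw [Function.update_self]; exact h1
        · have hne : i ≠ a := by
            rintro rfl
            exact ha hi'
          rw [Function.update_of_ne hne]
          exact hgp i hi'
    · rintro ⟨g, hg, hgp⟩
      refine ⟨g a, ∑ i ∈ s, g i, ?_, hgp a (Finset.mem_insert_self _ _), ?_⟩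
      · rw [← hg, Finset.sum_insert ha]
      · exact (ih (fun i hi => h i (Finset.mem_insert_of_mem hi)) _).mpr
          ⟨g, rfl, fun i hi => hgp i (Finset.mem_insert_of_mem hi)⟩

/-! ### Two variables -/

/-- The exponent vector `(u, v)`. -/
noncomputable def E (u v : ℕ) : Fin 2 →₀ ℕ := Finsupp.single 0 u + Finsupp.single 1 v

@[simp] theorem E_zero (u v : ℕ) : E u v 0 = u := by simp [E]

@[simp] theorem E_one (u v : ℕ) : E u v 1 = v := by simp [E]

theorem eq_E (w : Fin 2 →₀ ℕ) : w = E (w 0) (w 1) := by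
  ext i
  fin_cases i <;> simp

theorem E_add (u v u' v' : ℕ) : E u v + E u' v' = E (u + u') (v + v') := by
  ext i
  fin_cases i <;> simp

theorem E_inj {u v u' v' : ℕ} : E u v = E u' v' ↔ u = u' ∧ v = v' := by
  constructor
  · intro h
    have h0 := DFunLike.congr_fun h 0
    have h1 := DFunLike.congr_fun h 1
    simp at h0 h1
    exact ⟨h0, h1⟩
  · rintro ⟨rfl, rfl⟩; rfl

/-- Coefficient of a monomial term `k · y^u z^v`. -/
theorem coeff_term (k u v : ℕ) (w : Fin 2 →₀ ℕ) :
    coeff w ((k : MvPowerSeries (Fin 2) ℤ) * X 0 ^ u * X 1 ^ v) =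
      if w = E u v then (k : ℤ) else 0 := by
  classical
  rw [X_pow_eq, X_pow_eq, mul_assoc, monomial_mul_monomial, one_mul]
  have : (k : MvPowerSeries (Fin 2) ℤ) = C ((k : ℕ) : ℤ) := by simp
  rw [this, coeff_C_mul, coeff_monomial]
  unfold E
  split_ifs <;> simp

end Groth.Agent.H46.PS
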