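import Mathlib

/-!
# `A/(∏ f_i) → ∏ A/(f_i)` for pairwise relatively prime `f_i` (helper46)

For a commutative ring `A` that is a decomposition monoid (e.g. a UFD) and pairwise relatively
prime `f_i`, the length of the cokernel of `A/(∏ f_i) → ∏ A/(f_i)` is the sum over `k` of the
lengths of `A/(∏_{i<k} f_i, f_k)`.
-/

namespace Groth.Agent.H46.ProdQuot

universe u

variable {A : Type u} [CommRing A] {n : ℕ} (f : Fin n → A)

/-- The target `∏ A/(f_i)`. -/
abbrev Y : Type u := (i : Fin n) → A ⧸ Ideal.span {f i}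

/-- The vectors whose first `k` coordinates come from a common element of `A`. -/
def Z (k : ℕ) : Submodule A (Y f) where
  carrier := {y | ∃ a : A, ∀ i : Fin n, i.val < k → y i = Ideal.Quotient.mk _ a}
  add_mem' := by
    rintro y y' ⟨a, ha⟩ ⟨a', ha'⟩
    exact ⟨a + a', fun i hi => by rw [Pi.add_apply, ha i hi, ha' i hi, map_add]⟩
  zero_mem' := ⟨0, fun i _ => by rw [Pi.zero_apply, map_zero]⟩
  smul_mem' := by
    rintro c y ⟨a, ha⟩
    refine ⟨c * a, fun i hi => ?_⟩
    rw [Pi.smul_apply, ha i hi, map_mul]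
    rfl

theorem mem_Z {k : ℕ} {y : Y f} :
    y ∈ Z f k ↔ ∃ a : A, ∀ i : Fin n, i.val < k → y i = Ideal.Quotient.mk _ a := Iff.rfl

theorem Z_zero : Z f 0 = ⊤ := by
  rw [eq_top_iff]
  intro y _
  exact ⟨0, fun i hi => absurd hi (Nat.not_lt_zero _)⟩

theorem Z_anti {k l : ℕ} (h : k ≤ l) : Z f l ≤ Z f k := by
  rintro y ⟨a, ha⟩
  exact ⟨a, fun i hi => ha i (lt_of_lt_of_le hi h)⟩

/-- The partial product `∏_{i < k} f_i`. -/
noncomputable def FP (k : ℕ) : A := ∏ i ∈ Finset.univ.filter (fun i : Fin n => i.val < k), f i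

variable [DecompositionMonoid A]

theorem FP_dvd (hcop : ∀ i j, i ≠ j → IsRelPrime (f i) (f j)) (k : ℕ) (a : A)
    (h : ∀ i : Fin n, i.val < k → f i ∣ a) : FP f k ∣ a := by
  apply Finset.prod_dvd_of_isRelPrime
  · intro i _ j _ hij
    exact hcop i j hij
  · intro i hi
    exact h i (Finset.mem_filter.1 hi).2

theorem step (hcop : ∀ i j, i ≠ j → IsRelPrime (f i) (f j)) (k : Fin n) :
    Module.length A (Y f ⧸ Z f (k.val + 1)) =
      Module.length A (A ⧸ Ideal.span ({FP f k.val, f k} : Set A)) +
        Module.length A (Y f ⧸ Z f k.val) := by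
  classical
  -- the map `c ↦ [c · e_k]`
  let e : A →ₗ[A] Y f :=
    (LinearMap.single A (fun i => A ⧸ Ideal.span {f i}) k).comp (Submodule.mkQ (Ideal.span {f k}))
  have he_k : ∀ c : A, e c k = Ideal.Quotient.mk _ c := by
    intro c
    simp [e]
  have he_ne : ∀ (c : A) (i : Fin n), i ≠ k → e c i = 0 := by
    intro c i hi
    simp [e, hi]
  have hker : Ideal.span ({FP f k.val, f k} : Set A) ≤
      LinearMap.ker ((Submodule.mkQ (Z f (k.val + 1))).comp e) := by
    rw [Ideal.span_le, Set.insert_subset_iff, Set.singleton_subset_iff]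
    refine ⟨?_, ?_⟩
    · -- `FP · e_k ∈ Z (k+1)` with common element `FP`
      show FP f k.val ∈ LinearMap.ker _
      rw [LinearMap.mem_ker, LinearMap.comp_apply, Submodule.mkQ_apply,
        Submodule.Quotient.mk_eq_zero]
      refine ⟨FP f k.val, fun i hi => ?_⟩
      by_cases hik : i = k
      · subst hik; exact he_k _
      · rw [he_ne _ i hik, eq_comm, Ideal.Quotient.eq_zero_iff_mem, Ideal.mem_span_singleton]
        exact Finset.dvd_prod_of_mem f (Finset.mem_filter.2 ⟨Finset.mem_univ i, by
          have : i.val ≠ k.val := fun h => hik (Fin.ext h)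
          omega⟩)
    · show f k ∈ LinearMap.ker _
      rw [LinearMap.mem_ker, LinearMap.comp_apply, Submodule.mkQ_apply,
        Submodule.Quotient.mk_eq_zero]
      have : e (f k) = 0 := by
        ext i
        by_cases hik : i = k
        · subst hik
          rw [he_k, Pi.zero_apply, Ideal.Quotient.eq_zero_iff_mem]
          exact Ideal.mem_span_singleton_self _
        · rw [he_ne _ i hik]; rfl
      rw [this]; exact zero_mem _
  let ι : (A ⧸ Ideal.span ({FP f k.val, f k} : Set A)) →ₗ[A] (Y f ⧸ Z f (k.val + 1)) :=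
    Submodule.liftQ _ ((Submodule.mkQ (Z f (k.val + 1))).comp e) hker
  let π : (Y f ⧸ Z f (k.val + 1)) →ₗ[A] (Y f ⧸ Z f k.val) :=
    Submodule.factor (Z_anti f (Nat.le_succ k.val))
  have hι : ∀ c : A, ι (Submodule.Quotient.mk c) = Submodule.Quotient.mk (e c) := fun c => rfl
  refine Module.length_eq_add_of_exact ι π ?_ ?_ ?_
  · -- injective
    rw [← LinearMap.ker_eq_bot, LinearMap.ker_eq_bot']
    intro x hx
    obtain ⟨c, rfl⟩ := Submodule.Quotient.mk_surjective _ x
    rw [hι, Submodule.Quotient.mk_eq_zero] at hx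
    obtain ⟨a, ha⟩ := hx
    rw [Submodule.Quotient.mk_eq_zero]
    have h1 : FP f k.val ∣ a := by
      apply FP_dvd f hcop
      intro i hi
      have hik : i ≠ k := fun h => by rw [h] at hi; omega
      have := ha i (by omega)
      rw [he_ne _ i hik, eq_comm, Ideal.Quotient.eq_zero_iff_mem, Ideal.mem_span_singleton] at this
      exact this
    have h2 : f k ∣ c - a := by
      have := ha k (by omega)
      rw [he_k, Ideal.Quotient.eq, Ideal.mem_span_singleton] at this
      exact this
    obtain ⟨u, hu⟩ := h1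
    obtain ⟨v, hv⟩ := h2
    show c ∈ Ideal.span ({FP f k.val, f k} : Set A)
    rw [Ideal.mem_span_pair]
    exact ⟨u, v, by linear_combination -hu - hv⟩
  · exact Submodule.factor_surjective _
  · -- exact
    intro y
    constructor
    · intro hy
      obtain ⟨y, rfl⟩ := Submodule.Quotient.mk_surjective _ y
      have hy' : y ∈ Z f k.val := by
        have : π (Submodule.Quotient.mk y) = Submodule.Quotient.mk y := rfl
        rw [this, Submodule.Quotient.mk_eq_zero] at hy
        exact hy
      obtain ⟨a, ha⟩ := hy'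
      obtain ⟨b, hb⟩ := Ideal.Quotient.mk_surjective (y k)
      refine ⟨Submodule.Quotient.mk (b - a), ?_⟩
      rw [hι, eq_comm, Submodule.Quotient.eq]
      refine ⟨a, fun i hi => ?_⟩
      rw [Pi.sub_apply]
      by_cases hik : i = k
      · subst hik
        rw [he_k, ← hb, ← map_sub]
        congr 1; ring
      · have hlt : i.val < k.val := by
          have : i.val ≠ k.val := fun h => hik (Fin.ext h)
          omega
        rw [he_ne _ i hik, sub_zero, ha i hlt]
    · rintro ⟨x, rfl⟩
      obtain ⟨c, rfl⟩ := Submodule.Quotient.mk_surjective _ x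
      rw [hι]
      have : π (Submodule.Quotient.mk (e c)) = Submodule.Quotient.mk (e c) := rfl
      rw [this, Submodule.Quotient.mk_eq_zero]
      refine ⟨0, fun i hi => ?_⟩
      have hik : i ≠ k := fun h => by rw [h] at hi; omega
      rw [he_ne _ i hik, map_zero]

theorem length_quot_Z (hcop : ∀ i j, i ≠ j → IsRelPrime (f i) (f j)) (k : ℕ) (hk : k ≤ n) :
    Module.length A (Y f ⧸ Z f k) =
      ∑ j ∈ Finset.univ.filter (fun j : Fin n => j.val < k),
        Module.length A (A ⧸ Ideal.span ({FP f j.val, f j} : Set A)) := by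
  classical
  induction k with
  | zero =>
    rw [Z_zero]
    simp
  | succ k ih =>
    have hkn : k < n := hk
    have hstep := step f hcop ⟨k, hkn⟩
    simp only at hstep
    rw [hstep, ih (by omega)]
    have : Finset.univ.filter (fun j : Fin n => j.val < k + 1) =
        insert ⟨k, hkn⟩ (Finset.univ.filter (fun j : Fin n => j.val < k)) := by
      ext j
      simp only [Finset.mem_filter, Finset.mem_univ, true_and, Finset.mem_insert, Fin.ext_iff]
      omega
    rw [this, Finset.sum_insert (by simp)]

end Groth.Agent.H46.ProdQuot
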