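import Mathlib
import Groth.Prelude.Def_CAlgX
import Groth.Prelude.Def_PP16
import Groth.Agent.H59.KRegFF
import Groth.Agent.H87.QRegLoc
import Groth.Agent.S3824

/-!
# Faithfully flat descent of locally quasi-regular ideals (helper46)

Port of helper59's descent skeleton for Koszul-regular ideals (`H59.KRegFF`) to quasi-regular
sequences, using helper87's localisation lemma and helper19's independence of generators (S3824).
-/

namespace Groth.Agent.H46.QRDesc

universe u

open Groth.Agent.H59.Kosz MvPolynomial

section Basic

variable {R : Type u} [CommRing R] {r : ℕ}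

theorem qr_of_span_eq_top (f : Fin r → R) (h : Ideal.span (Set.range f) = ⊤) :
    CAlgX.IsQuasiRegular f := by
  intro n P _ _ d
  rw [h]; trivial

theorem span_range_comp {S : Type u} [CommRing S] (ψ : R →+* S) (f : Fin r → R) :
    Ideal.span (Set.range fun i => ψ (f i)) = (Ideal.span (Set.range f)).map ψ := by
  rw [Ideal.map_span, ← Set.range_comp]; rfl

theorem qr_of_faithfullyFlat {S : Type u} [CommRing S] [Algebra R S] [Module.FaithfullyFlat R S]
    (f : Fin r → R) (h : CAlgX.IsQuasiRegular (fun i => algebraMap R S (f i))) :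
    CAlgX.IsQuasiRegular f := by
  intro n P hP hev d
  have hspan := span_range_comp (algebraMap R S) f
  have h1 := h n (MvPolynomial.map (algebraMap R S) P) (hP.map _) (by
    rw [hspan, ← Ideal.map_pow]
    have := Ideal.mem_map_of_mem (algebraMap R S) hev
    rwa [Groth.Agent.H87.QRegLoc.map_eval'] at this) d
  rw [hspan, coeff_map] at h1
  rw [← Ideal.comap_map_eq_self_of_faithfullyFlat (B := S) (Ideal.span (Set.range f))]
  exact h1

theorem qr_of_forall_maximal (f : Fin r → R)
    (H : ∀ (𝔪 : Ideal R) [𝔪.IsMaximal],
      CAlgX.IsQuasiRegular (fun i => algebraMap R (Localization.AtPrime 𝔪) (f i))) :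
    CAlgX.IsQuasiRegular f := by
  intro n P hP hev d
  apply Ideal.mem_of_localization_maximal
  intro 𝔪 h𝔪
  haveI := h𝔪
  have hspan := span_range_comp (algebraMap R (Localization.AtPrime 𝔪)) f
  have h1 := H 𝔪 n (MvPolynomial.map (algebraMap R (Localization.AtPrime 𝔪)) P) (hP.map _) (by
    rw [hspan, ← Ideal.map_pow]
    have := Ideal.mem_map_of_mem (algebraMap R (Localization.AtPrime 𝔪)) hev
    rwa [Groth.Agent.H87.QRegLoc.map_eval'] at this) d
  rw [hspan, coeff_map] at h1
  exact h1

/-- A quasi-regular sequence of length `s` generating a proper ideal cannot be replaced by fewer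
generators. -/
theorem le_of_qr {s : ℕ} (φ : Fin s → R) (hφ : CAlgX.IsQuasiRegular φ) (a : Fin r → R)
    (hspan : Ideal.span (Set.range φ) = Ideal.span (Set.range a))
    (hne : Ideal.span (Set.range φ) ≠ ⊤) : s ≤ r := by
  classical
  set J := Ideal.span (Set.range φ) with hJ
  have ha : ∀ k, ∃ c : Fin s → R, ∑ j, c j * φ j = a k := fun k =>
    Ideal.mem_span_range_iff_exists_fun.1 (hspan ▸ Ideal.subset_span ⟨k, rfl⟩ : a k ∈ J)
  have hφa : ∀ j, ∃ dd : Fin r → R, ∑ k, dd k * a k = φ j := fun j =>
    Ideal.mem_span_range_iff_exists_fun.1 (hspan ▸ Ideal.subset_span ⟨j, rfl⟩)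
  choose c hc using ha
  choose dd hdd using hφa
  -- the relation matrix
  have hrel : ∀ j l, (∑ k, dd j k * c k l) - (if j = l then 1 else 0) ∈ J := by
    intro j l
    set e : Fin s → R := fun l => (∑ k, dd j k * c k l) - (if j = l then 1 else 0) with he
    set P : MvPolynomial (Fin s) R := ∑ l, C (e l) * X l with hP
    have hPhom : P.IsHomogeneous 1 := by
      apply MvPolynomial.IsHomogeneous.sum
      intro l _
      exact (isHomogeneous_C_mul_X (e l) l)
    have hPev : MvPolynomial.eval φ P = 0 := by
      rw [hP, map_sum]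
      simp only [map_mul, eval_C, eval_X, he, sub_mul, Finset.sum_sub_distrib]
      have h1 : ∑ l, (∑ k, dd j k * c k l) * φ l = φ j := by
        simp_rw [Finset.sum_mul]
        rw [Finset.sum_comm]
        rw [← hdd j]
        refine Finset.sum_congr rfl fun k _ => ?_
        rw [← hc k, Finset.mul_sum]
        refine Finset.sum_congr rfl fun l _ => by ring
      rw [h1]
      simp
    have h2 := hφ 1 P hPhom (by rw [hPev]; exact zero_mem _) (Finsupp.single l 1)
    have hcoeff : P.coeff (Finsupp.single l 1) = e l := by
      rw [hP, coeff_sum]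
      rw [Finset.sum_eq_single l]
      · rw [coeff_C_mul, coeff_X, if_pos rfl, mul_one]
      · intro l' _ hl'
        rw [coeff_C_mul, coeff_X, if_neg, mul_zero]
        intro h
        apply hl'
        exact Finsupp.single_left_injective (one_ne_zero) h
      · intro h; exact absurd (Finset.mem_univ l) h
    rw [hcoeff] at h2
    exact h2
  haveI : Nontrivial (R ⧸ J) := Ideal.Quotient.nontrivial_iff.2 hne
  let D : Matrix (Fin s) (Fin r) (R ⧸ J) := fun j k => Ideal.Quotient.mk J (dd j k)
  let Cm : Matrix (Fin r) (Fin s) (R ⧸ J) := fun k l => Ideal.Quotient.mk J (c k l)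
  have hDC : D * Cm = 1 := by
    ext j l
    rw [Matrix.mul_apply, Matrix.one_apply]
    have := hrel j l
    rw [← Ideal.Quotient.eq_zero_iff_mem, map_sub, sub_eq_zero, map_sum] at this
    simp only [map_mul] at this
    rw [this]
    split_ifs <;> simp
  have hsurj : Function.Surjective (Matrix.toLin' D) := by
    intro y
    refine ⟨Matrix.toLin' Cm y, ?_⟩
    rw [← LinearMap.comp_apply, ← Matrix.toLin'_mul, hDC, Matrix.toLin'_one]
    rfl
  exact le_of_fin_surjective (R ⧸ J) (Matrix.toLin' D) hsurj

end Basic

section Away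

variable {B : Type u} [CommRing B]

/-- passing from a basic open neighbourhood to the local ring -/
theorem qr_atPrime_of_away (J : Ideal B) (q : Ideal B) [q.IsPrime]
    (h : B) (hq : h ∉ q) {n : ℕ} (φ : Fin n → Localization.Away h)
    (hφ : CAlgX.IsQuasiRegular φ)
    (hspan : Ideal.span (Set.range φ) = J.map (algebraMap B (Localization.Away h))) :
    ∃ φ' : Fin n → Localization.AtPrime q, CAlgX.IsQuasiRegular φ' ∧
      J.map (algebraMap B (Localization.AtPrime q)) = Ideal.span (Set.range φ') := by
  have hle : Submonoid.powers h ≤ q.primeCompl := Submonoid.powers_le.mpr hq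
  letI : Algebra (Localization.Away h) (Localization.AtPrime q) :=
    IsLocalization.localizationAlgebraOfSubmonoidLe (Localization.Away h)
      (Localization.AtPrime q) (Submonoid.powers h) q.primeCompl hle
  haveI : IsScalarTower B (Localization.Away h) (Localization.AtPrime q) :=
    IsLocalization.localization_isScalarTower_of_submonoid_le (Localization.Away h)
      (Localization.AtPrime q) (Submonoid.powers h) q.primeCompl hle
  haveI : IsLocalization (q.primeCompl.map (algebraMap B (Localization.Away h)))
      (Localization.AtPrime q) :=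
    IsLocalization.isLocalization_of_submonoid_le (Localization.Away h)
      (Localization.AtPrime q) (Submonoid.powers h) q.primeCompl hle
  refine ⟨fun i => algebraMap (Localization.Away h) (Localization.AtPrime q) (φ i),
    Groth.Agent.H87.QRegLoc.isQuasiRegular_of_isLocalization
      (q.primeCompl.map (algebraMap B (Localization.Away h))) φ hφ, ?_⟩
  rw [span_range_comp, hspan, Ideal.map_map,
    ← IsScalarTower.algebraMap_eq B (Localization.Away h) (Localization.AtPrime q)]

/-- `CQ J q n`: near `q`, `J` is generated by a quasi-regular sequence of length `n`. -/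
def CQ (J : Ideal B) (q : Ideal B) (n : ℕ) : Prop :=
  ∃ h : B, h ∉ q ∧ ∃ φ : Fin n → Localization.Away h, CAlgX.IsQuasiRegular φ ∧
    Ideal.span (Set.range φ) = J.map (algebraMap B (Localization.Away h))

theorem CQ.atPrime {J : Ideal B} {q : Ideal B} [q.IsPrime] {n : ℕ} (h : CQ J q n) :
    ∃ φ' : Fin n → Localization.AtPrime q, CAlgX.IsQuasiRegular φ' ∧
      J.map (algebraMap B (Localization.AtPrime q)) = Ideal.span (Set.range φ') := by
  obtain ⟨h₁, hh₁, φ, hφ, hspan⟩ := h
  exact qr_atPrime_of_away J q h₁ hh₁ φ hφ hspan

/-- a locally quasi-regular ideal is finitely generated -/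
theorem fg_of_locallyQR {J : Ideal B} (h : PP16.IsLocallyQuasiRegular B J) : J.FG := by
  classical
  set t : Set B := {g | (J.map (algebraMap B (Localization.Away g))).FG} with ht
  apply Ideal.fg_of_localizationSpan t ?_ (fun g => g.2)
  by_contra hne
  obtain ⟨m, hm, hle⟩ := Ideal.exists_le_maximal _ hne
  haveI := hm.isPrime
  by_cases hJm : J ≤ m
  · obtain ⟨g, hg, r, φ, -, hspan⟩ := h m hJm
    apply hg
    apply hle
    apply Ideal.subset_span
    show (J.map (algebraMap B (Localization.Away g))).FG
    rw [← hspan]
    exact ⟨Finset.univ.image φ, by simp⟩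
  · obtain ⟨x, hxJ, hxm⟩ := SetLike.not_le_iff_exists.mp hJm
    apply hxm
    apply hle
    apply Ideal.subset_span
    show (J.map (algebraMap B (Localization.Away x))).FG
    have : J.map (algebraMap B (Localization.Away x)) = ⊤ :=
      Ideal.eq_top_of_isUnit_mem _ (Ideal.mem_map_of_mem _ hxJ)
        (IsLocalization.Away.algebraMap_isUnit x)
    rw [this]
    exact ⟨{1}, by simp⟩

end Away

end Groth.Agent.H46.QRDesc
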