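import Groth.Agent.H46.SymGrJ
import Groth.Agent.H46.QRDesc
import Groth.Agent.H46.ChainCount

/-!
# Locally quasi-regular ideals and symmetric powers: local data (helper46)
-/

namespace Groth.Agent.H46.QRSym

open Groth.Agent.H46.SymGr Groth.Agent.H46.SymGrJ

universe u

section mon

variable {ι : Type*} [Fintype ι] {r : ℕ}

/-- the exponent vector of a family of indices -/
noncomputable def mon (κ : ι → Fin r) : Fin r →₀ ℕ := ∑ i, Finsupp.single (κ i) 1

theorem mon_apply (κ : ι → Fin r) (j : Fin r) : mon κ j = Fintype.card {i // κ i = j} := by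
  classical
  unfold mon
  rw [Finsupp.finsetSum_apply]
  simp_rw [Finsupp.single_apply]
  rw [Finset.sum_boole, Fintype.card_subtype]
  simp

theorem degree_mon (κ : ι → Fin r) : (mon κ).degree = Fintype.card ι := by
  unfold mon
  rw [map_sum]
  simp [Finsupp.degree_single]

theorem exists_perm_of_mon_eq (κ κ' : ι → Fin r) (h : mon κ = mon κ') :
    ∃ σ : Equiv.Perm ι, ∀ i, κ' (σ i) = κ i := by
  classical
  apply Groth.Agent.H46.Chain.exists_equiv_of_card_fiber κ κ'
  intro c
  rw [← mon_apply, ← mon_apply, h]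

theorem tprod_comp_eq_of_mon_eq {ι : Type u} [Fintype ι] {R : Type u} [CommRing R] {M : Type*}
    [AddCommGroup M] [Module R M] (t : Fin r → M) (κ κ' : ι → Fin r) (h : mon κ = mon κ') :
    SymmetricPower.tprod R (fun i => t (κ i)) = SymmetricPower.tprod R (fun i => t (κ' i)) := by
  obtain ⟨σ, hσ⟩ := exists_perm_of_mon_eq κ κ' h
  rw [← SymmetricPower.tprod_equiv σ (fun i => t (κ' i))]
  congr 1
  funext i
  rw [hσ]

theorem prod_comp_eq {R : Type*} [CommRing R] (f : Fin r → R) (κ : ι → Fin r) :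
    ∏ i, f (κ i) = (mon κ).prod (fun j e => f j ^ e) := by
  classical
  unfold mon
  rw [← Finsupp.prod_finsetSum_index (by simp) (by intro a b c; rw [pow_add])]
  refine Finset.prod_congr rfl fun i _ => ?_
  rw [Finsupp.prod_single_index (by simp), pow_one]

theorem exists_kappa_of_degree (d : Fin r →₀ ℕ) (h : d.degree = Fintype.card ι) :
    ∃ κ : ι → Fin r, mon κ = d := by
  classical
  have hcard : Fintype.card (Σ j : Fin r, Fin (d j)) = Fintype.card ι := by
    rw [Fintype.card_sigma, ← h, Finsupp.degree_eq_sum]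
    simp
  let e : (Σ j : Fin r, Fin (d j)) ≃ ι := Fintype.equivOfCardEq hcard
  refine ⟨fun i => (e.symm i).1, ?_⟩
  ext j
  rw [mon_apply]
  have e2 : {i // (e.symm i).1 = j} ≃ Fin (d j) :=
    (e.symm.subtypeEquiv (p := fun i => (e.symm i).1 = j) (q := fun x => x.1 = j)
      (fun i => Iff.rfl)).trans (Equiv.sigmaSubtype j)
  rw [Fintype.card_congr e2, Fintype.card_fin]

end mon

section localdata

variable {R : Type u} [CommRing R] {J : Ideal R}

/-- local data: lifts to `J` of a quasi-regular generating sequence over `D(g)` -/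
structure LocalData (J : Ideal R) (g : R) (r : ℕ) (f' : Fin r → ↥J) : Prop where
  qr : CAlgX.IsQuasiRegular (fun j => algebraMap R (Localization.Away g) (f' j))
  span : Ideal.span (Set.range fun j => algebraMap R (Localization.Away g) (f' j)) =
    J.map (algebraMap R (Localization.Away g))

theorem exists_localData (h : PP16.IsLocallyQuasiRegular R J) (P : Ideal R) [P.IsPrime]
    (hJP : J ≤ P) : ∃ (g : R) (_ : g ∉ P) (r : ℕ) (f' : Fin r → ↥J), LocalData J g r f' := by
  classical
  obtain ⟨g, hg, r, f, hf, hspan⟩ := h P hJP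
  have hmem : ∀ j, f j ∈ J.map (algebraMap R (Localization.Away g)) := by
    intro j; rw [← hspan]; exact Ideal.subset_span ⟨j, rfl⟩
  have hex : ∀ j, ∃ x : ↥J × ↥(Submonoid.powers g),
      f j * algebraMap R (Localization.Away g) x.2 = algebraMap R (Localization.Away g) x.1 :=
    fun j => (IsLocalization.mem_map_algebraMap_iff (Submonoid.powers g) _).1 (hmem j)
  choose a ha using hex
  let G : R := ∏ k, ((a k).2 : R)
  have hGu : IsUnit (algebraMap R (Localization.Away g) G) := by
    rw [map_prod]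
    exact IsUnit.prod_univ_iff.2 fun k => IsLocalization.map_units _ (a k).2
  let f' : Fin r → ↥J := fun j =>
    ⟨(∏ k ∈ Finset.univ.erase j, ((a k).2 : R)) * ((a j).1 : R), J.mul_mem_left _ (a j).1.2⟩
  have hf' : ∀ j, algebraMap R (Localization.Away g) (f' j) =
      algebraMap R (Localization.Away g) G * f j := by
    intro j
    show algebraMap R (Localization.Away g)
      ((∏ k ∈ Finset.univ.erase j, ((a k).2 : R)) * ((a j).1 : R)) = _
    rw [map_mul, ← ha j, ← mul_assoc, mul_comm _ (f j), mul_assoc, ← map_mul,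
      mul_comm (f j)]
    congr 2
    rw [mul_comm]
    exact Finset.mul_prod_erase Finset.univ (fun k => ((a k).2 : R)) (Finset.mem_univ j)
  have hspan' : Ideal.span (Set.range fun j => algebraMap R (Localization.Away g) (f' j)) =
      Ideal.span (Set.range f) := by
    apply le_antisymm
    · rw [Ideal.span_le]
      rintro _ ⟨j, rfl⟩
      show algebraMap R (Localization.Away g) (f' j) ∈ _
      rw [hf']
      exact Ideal.mul_mem_left _ _ (Ideal.subset_span ⟨j, rfl⟩)
    · rw [Ideal.span_le]
      rintro _ ⟨j, rfl⟩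
      obtain ⟨u, hu⟩ := hGu
      have : f j = (↑u⁻¹ : Localization.Away g) * algebraMap R (Localization.Away g) (f' j) := by
        rw [hf', ← hu, ← mul_assoc, Units.inv_mul, one_mul]
      rw [this]
      exact Ideal.mul_mem_left _ _ (Ideal.subset_span ⟨j, rfl⟩)
  refine ⟨g, hg, r, f', ?_, hspan'.trans hspan⟩
  exact Groth.Agent.S3824.result f _ hf hspan'

theorem LocalData.clear {g : R} {r : ℕ} {f' : Fin r → ↥J} (hd : LocalData J g r f')
    (x : R) (hx : x ∈ J) : ∃ (N : ℕ) (a : Fin r → R), g ^ N * x = ∑ j, a j * (f' j : R) := by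
  classical
  have h1 : algebraMap R (Localization.Away g) x ∈
      Ideal.span (Set.range fun j => algebraMap R (Localization.Away g) (f' j)) := by
    rw [hd.span]; exact Ideal.mem_map_of_mem _ hx
  rw [Ideal.mem_span_range_iff_exists_fun] at h1
  obtain ⟨c, hc⟩ := h1
  obtain ⟨b, hb⟩ := IsLocalization.exist_integer_multiples (Submonoid.powers g) Finset.univ c
  choose a' ha' using fun j => hb j (Finset.mem_univ j)
  obtain ⟨n, hn⟩ := (Submonoid.mem_powers_iff _ _).1 b.2
  have h2 : algebraMap R (Localization.Away g) ((b : R) * x - ∑ j, a' j * (f' j : R)) = 0 := by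
    rw [map_sub, map_mul, ← hc, map_sum, Finset.mul_sum, sub_eq_zero]
    refine Finset.sum_congr rfl fun j _ => ?_
    rw [map_mul, ha' j, Algebra.smul_def, mul_assoc]
  rw [IsLocalization.map_eq_zero_iff (Submonoid.powers g)] at h2
  obtain ⟨m, hm⟩ := h2
  obtain ⟨k, hk⟩ := (Submonoid.mem_powers_iff _ _).1 m.2
  refine ⟨k + n, fun j => g ^ k * a' j, ?_⟩
  rw [← hk, mul_sub, sub_eq_zero, ← hn] at hm
  rw [pow_add, mul_assoc, hm, Finset.mul_sum]
  refine Finset.sum_congr rfl fun j _ => by ring

theorem LocalData.clear' {g : R} {r : ℕ} {f' : Fin r → ↥J} (hd : LocalData J g r f')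
    (x : R) (hx : x ∈ J) :
    ∃ N₀ : ℕ, ∀ N, N₀ ≤ N → ∃ a : Fin r → R, g ^ N * x = ∑ j, a j * (f' j : R) := by
  obtain ⟨N₀, a, ha⟩ := hd.clear x hx
  refine ⟨N₀, fun N hN => ⟨fun j => g ^ (N - N₀) * a j, ?_⟩⟩
  have : g ^ N = g ^ (N - N₀) * g ^ N₀ := by rw [← pow_add]; congr 1; omega
  rw [this, mul_assoc, ha, Finset.mul_sum]
  refine Finset.sum_congr rfl fun j _ => by ring

theorem eval_map_algebraMap {S : Type*} [CommRing S] [Algebra R S] {σ : Type*}
    (f : σ → R) (F : MvPolynomial σ R) :
    MvPolynomial.eval (fun j => algebraMap R S (f j)) (MvPolynomial.map (algebraMap R S) F) =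
      algebraMap R S (MvPolynomial.eval f F) := by
  induction F using MvPolynomial.induction_on with
  | C a => simp
  | add p q hp hq => simp only [map_add, hp, hq]
  | mul_X p i hp => simp only [map_mul, MvPolynomial.map_X, MvPolynomial.eval_X, hp]

theorem LocalData.coeff_mem {g : R} {r : ℕ} {f' : Fin r → ↥J} (hd : LocalData J g r f')
    (n : ℕ) (F : MvPolynomial (Fin r) R) (hF : F.IsHomogeneous n)
    (hev : MvPolynomial.eval (fun j => (f' j : R)) F ∈ J ^ (n + 1)) (d : Fin r →₀ ℕ) :
    ∃ N : ℕ, g ^ N * F.coeff d ∈ J := by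
  have h1 := hd.qr n (MvPolynomial.map (algebraMap R (Localization.Away g)) F) (hF.map _)
    (by
      rw [eval_map_algebraMap, hd.span, ← Ideal.map_pow]
      exact Ideal.mem_map_of_mem _ hev) d
  rw [MvPolynomial.coeff_map, hd.span,
    IsLocalization.mem_map_algebraMap_iff (Submonoid.powers g)] at h1
  obtain ⟨⟨a, s⟩, has⟩ := h1
  obtain ⟨n₁, hn₁⟩ := (Submonoid.mem_powers_iff _ _).1 s.2
  have h2 : algebraMap R (Localization.Away g) (F.coeff d * (s : R) - (a : R)) = 0 := by
    rw [map_sub, map_mul, sub_eq_zero]; exact has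
  rw [IsLocalization.map_eq_zero_iff (Submonoid.powers g)] at h2
  obtain ⟨m, hm⟩ := h2
  obtain ⟨k, hk⟩ := (Submonoid.mem_powers_iff _ _).1 m.2
  refine ⟨k + n₁, ?_⟩
  rw [← hk, mul_sub, sub_eq_zero, ← hn₁] at hm
  have : g ^ (k + n₁) * F.coeff d = g ^ k * (a : R) := by
    rw [← hm, pow_add]; ring
  rw [this]
  exact J.mul_mem_left _ a.2

end localdata

end Groth.Agent.H46.QRSym
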