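import Groth.Agent.H46.QRSym1

/-!
# Locally quasi-regular ideals: `Sym^n(J/J²) → J^n/J^(n+1)` is injective (helper46)
-/

namespace Groth.Agent.H46.QRSym

open Groth.Agent.H46.SymGr Groth.Agent.H46.SymGrJ

universe u

section inj

variable {R : Type u} [CommRing R] {J : Ideal R}

theorem exists_pow_smul_eq_zero {g : R} {r : ℕ} {f' : Fin r → ↥J} (hd : LocalData J g r f')
    (ι : Type u) [Fintype ι] [Nonempty ι] (s : SymmetricPower R ι J.Cotangent)
    (hs : phiJ R J ι s = 0) : ∃ N : ℕ, g ^ N • s = 0 := by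
  classical
  set n := Fintype.card ι with hn
  -- step 1: represent `s`
  have hsmem : s ∈ Submodule.span R (Set.range (SymmetricPower.tprod R (ι := ι)
      (M := J.Cotangent))) := by
    rw [SymmetricPower.span_tprod_eq_top]; trivial
  rw [Submodule.mem_span_set'] at hsmem
  obtain ⟨m, c, w, hsum⟩ := hsmem
  choose wk hwk using fun k => (w k).2
  let x : Fin m → ι → ↥J := fun k i => outJ R J (wk k i)
  have hx : ∀ k i, J.toCotangent (x k i) = wk k i := fun k i => toCotangent_outJ R J _
  -- step 2: clear denominators uniformly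
  choose N₀ hN₀ using fun k i => hd.clear' (x k i : R) (x k i).2
  let M : ℕ := ∑ k, ∑ i, N₀ k i
  have hM : ∀ k i, N₀ k i ≤ M := by
    intro k i
    calc N₀ k i ≤ ∑ i, N₀ k i :=
          Finset.single_le_sum (f := fun i => N₀ k i) (fun _ _ => Nat.zero_le _) (Finset.mem_univ i)
      _ ≤ M := Finset.single_le_sum (f := fun k => ∑ i, N₀ k i) (fun _ _ => Nat.zero_le _)
          (Finset.mem_univ k)
  choose a ha using fun k i => hN₀ k i M (hM k i)
  -- step 3
  let t : Fin r → J.Cotangent := fun j => J.toCotangent (f' j)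
  have h3 : ∀ k i, g ^ M • wk k i = ∑ j, a k i j • t j := by
    intro k i
    rw [← hx k i, ← map_smul]
    simp_rw [t, ← map_smul]
    rw [← map_sum]
    congr 1
    apply Subtype.ext
    rw [Submodule.coe_sum]
    simp only [Submodule.coe_smul, smul_eq_mul]
    exact ha k i
  -- step 4
  let T : (ι → Fin r) → SymmetricPower R ι J.Cotangent := fun κ =>
    SymmetricPower.tprod R (fun i => t (κ i))
  have h4 : ∀ k, (g ^ M) ^ n • SymmetricPower.tprod R (wk k) =
      ∑ κ : ι → Fin r, (∏ i, a k i (κ i)) • T κ := by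
    intro k
    have e1 : (g ^ M) ^ n • SymmetricPower.tprod R (wk k) =
        SymmetricPower.tprod R (fun i => g ^ M • wk k i) := by
      rw [MultilinearMap.map_smul_univ, Finset.prod_const, Finset.card_univ]
    rw [e1]
    simp_rw [h3]
    rw [MultilinearMap.map_sum]
    refine Finset.sum_congr rfl fun κ _ => ?_
    rw [MultilinearMap.map_smul_univ]
  -- step 5
  let C : (ι → Fin r) → R := fun κ => ∑ k, c k * ∏ i, a k i (κ i)
  have h5 : (g ^ M) ^ n • s = ∑ κ : ι → Fin r, C κ • T κ := by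
    rw [← hsum, Finset.smul_sum]
    have : ∀ k, (g ^ M) ^ n • c k • ((w k : SymmetricPower R ι J.Cotangent)) =
        ∑ κ : ι → Fin r, (c k * ∏ i, a k i (κ i)) • T κ := by
      intro k
      rw [smul_comm, ← hwk k, h4 k, Finset.smul_sum]
      refine Finset.sum_congr rfl fun κ _ => ?_
      rw [smul_smul]
    simp_rw [this]
    rw [Finset.sum_comm]
    refine Finset.sum_congr rfl fun κ _ => ?_
    rw [← Finset.sum_smul]
  -- step 6
  let F : MvPolynomial (Fin r) R := ∑ κ : ι → Fin r, MvPolynomial.monomial (mon κ) (C κ)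
  have hF : F.IsHomogeneous n := by
    apply MvPolynomial.IsHomogeneous.sum
    intro κ _
    exact MvPolynomial.isHomogeneous_monomial _ (degree_mon κ)
  have hevF : MvPolynomial.eval (fun j => (f' j : R)) F =
      ∑ κ : ι → Fin r, C κ * ∏ i, (f' (κ i) : R) := by
    show MvPolynomial.eval _ (∑ κ : ι → Fin r, MvPolynomial.monomial (mon κ) (C κ)) = _
    rw [map_sum]
    refine Finset.sum_congr rfl fun κ _ => ?_
    rw [MvPolynomial.eval_monomial, prod_comp_eq (fun j => (f' j : R)) κ]
  -- step 7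
  have h7 : MvPolynomial.eval (fun j => (f' j : R)) F ∈ J ^ (n + 1) := by
    have e1 : phiJ R J ι ((g ^ M) ^ n • s) = 0 := by rw [map_smul, hs, smul_zero]
    rw [h5, map_sum] at e1
    have e2 : ∀ κ : ι → Fin r, phiJ R J ι (C κ • T κ) =
        Submodule.Quotient.mk (C κ • prodJ R J (fun i => f' (κ i))) := by
      intro κ
      rw [map_smul]
      show C κ • phiJ R J ι (SymmetricPower.tprod R (fun i => J.toCotangent (f' (κ i)))) = _
      rw [phiJ_tprod, zetaJ_eq, Submodule.Quotient.mk_smul]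
    simp_rw [e2] at e1
    have hms : ∑ κ : ι → Fin r, (Submodule.Quotient.mk (C κ • prodJ R J (fun i => f' (κ i))) :
        PP16.grJ R J (Fintype.card ι)) =
        Submodule.Quotient.mk (∑ κ : ι → Fin r, C κ • prodJ R J (fun i => f' (κ i))) :=
      (map_sum (Submodule.mkQ _) _ _).symm
    rw [hms, Submodule.Quotient.mk_eq_zero, Submodule.mem_comap] at e1
    rw [hevF]
    have e3 : (((J ^ Fintype.card ι).subtype)
        (∑ κ : ι → Fin r, C κ • prodJ R J (fun i => f' (κ i)))) =
        ∑ κ : ι → Fin r, C κ * ∏ i, (f' (κ i) : R) := by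
      rw [map_sum]
      refine Finset.sum_congr rfl fun κ _ => ?_
      rfl
    rw [e3] at e1
    exact e1
  -- step 8
  choose Nd hNd using fun d => hd.coeff_mem n F hF h7 d
  let D : Finset (Fin r →₀ ℕ) := Finset.univ.image (fun κ : ι → Fin r => mon κ)
  let N' : ℕ := ∑ d ∈ D, Nd d
  have hN' : ∀ d ∈ D, g ^ N' * F.coeff d ∈ J := by
    intro d hdD
    have hle : Nd d ≤ N' := Finset.single_le_sum (f := Nd) (fun _ _ => Nat.zero_le _) hdD
    have : g ^ N' * F.coeff d = g ^ (N' - Nd d) * (g ^ Nd d * F.coeff d) := by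
      rw [← mul_assoc, ← pow_add]; congr 2; omega
    rw [this]
    exact J.mul_mem_left _ (hNd d)
  have hcoeff : ∀ d, F.coeff d = ∑ κ ∈ Finset.univ.filter (fun κ : ι → Fin r => mon κ = d), C κ := by
    intro d
    show MvPolynomial.coeff d (∑ κ : ι → Fin r, MvPolynomial.monomial (mon κ) (C κ)) = _
    rw [MvPolynomial.coeff_sum, Finset.sum_filter]
    refine Finset.sum_congr rfl fun κ _ => ?_
    rw [MvPolynomial.coeff_monomial]
  -- step 9
  let Td : (Fin r →₀ ℕ) → SymmetricPower R ι J.Cotangent := fun d =>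
    if h : ∃ κ : ι → Fin r, mon κ = d then T h.choose else 0
  have hTd : ∀ κ, T κ = Td (mon κ) := by
    intro κ
    have hex : ∃ κ' : ι → Fin r, mon κ' = mon κ := ⟨κ, rfl⟩
    show T κ = if h : ∃ κ' : ι → Fin r, mon κ' = mon κ then T h.choose else 0
    rw [dif_pos hex]
    exact tprod_comp_eq_of_mon_eq t κ hex.choose hex.choose_spec.symm
  have h9 : ∑ κ : ι → Fin r, C κ • T κ = ∑ d ∈ D, F.coeff d • Td d := by
    simp_rw [hTd]
    rw [← Finset.sum_fiberwise_of_maps_to (s := Finset.univ) (t := D)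
      (g := fun κ : ι → Fin r => mon κ) (fun κ _ => Finset.mem_image_of_mem _ (Finset.mem_univ κ))]
    refine Finset.sum_congr rfl fun d _ => ?_
    rw [hcoeff d, Finset.sum_smul]
    refine Finset.sum_congr rfl fun κ hκ => ?_
    rw [(Finset.mem_filter.1 hκ).2]
  -- step 10
  refine ⟨N' + M * n, ?_⟩
  rw [pow_add, pow_mul, mul_smul, h5, h9, Finset.smul_sum]
  refine Finset.sum_eq_zero fun d hdD => ?_
  rw [smul_smul]
  exact smul_sym_eq_zero R J ι (hN' d hdD) _

/-- injectivity of the canonical map for a locally quasi-regular ideal -/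
theorem phiJ_injective_of_locallyQR (h : PP16.IsLocallyQuasiRegular R J)
    (ι : Type u) [Fintype ι] [Nonempty ι] : Function.Injective (phiJ R J ι) := by
  rw [injective_iff_map_eq_zero]
  intro s hs
  by_contra hne
  have htor : Ideal.torsionOf R _ s ≠ ⊤ := by
    rw [Ne, Ideal.torsionOf_eq_top_iff]; exact hne
  obtain ⟨P, hPmax, hle⟩ := Ideal.exists_le_maximal _ htor
  haveI := hPmax.isPrime
  by_cases hJP : J ≤ P
  · obtain ⟨g, hg, r, f', hd⟩ := exists_localData h P hJP
    obtain ⟨N, hN⟩ := exists_pow_smul_eq_zero hd ι s hs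
    have : g ^ N ∈ P := hle ((Ideal.mem_torsionOf_iff _ _).2 hN)
    exact hg (hPmax.isPrime.mem_of_pow_mem N this)
  · obtain ⟨a, haJ, haP⟩ := Set.not_subset.1 hJP
    exact haP (hle ((Ideal.mem_torsionOf_iff _ _).2 (smul_sym_eq_zero R J ι haJ s)))

end inj

end Groth.Agent.H46.QRSym
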