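import Groth.Agent.H46.QRSym2

/-!
# Locally quasi-regular ideals: the conormal module is projective (helper46)
-/

namespace Groth.Agent.H46.QRSym

open Groth.Agent.H46.SymGr Groth.Agent.H46.SymGrJ

universe u

section proj

variable {R : Type u} [CommRing R] {J : Ideal R}

theorem mk_smul_cot (a : R) (n : J.Cotangent) : (Ideal.Quotient.mk J a) • n = a • n := by
  rw [← Ideal.Quotient.algebraMap_eq, algebraMap_smul]

/-- the localized classes of the local generators -/
noncomputable def bfam {r : ℕ} (f' : Fin r → ↥J) (S : Submonoid (R ⧸ J)) (j : Fin r) :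
    LocalizedModule S J.Cotangent :=
  LocalizedModule.mkLinearMap S J.Cotangent (J.toCotangent (f' j))

theorem span_bfam {g : R} {r : ℕ} {f' : Fin r → ↥J} (hd : LocalData J g r f')
    (S : Submonoid (R ⧸ J)) (hgS : Ideal.Quotient.mk J g ∈ S) :
    ⊤ ≤ Submodule.span (Localization S) (Set.range (bfam f' S)) := by
  intro y _
  induction y using LocalizedModule.induction_on with
  | h n s =>
    obtain ⟨x, rfl⟩ := J.toCotangent_surjective n
    obtain ⟨M, a, ha⟩ := hd.clear (x : R) x.2
    let u : S := ⟨(Ideal.Quotient.mk J g) ^ M, pow_mem hgS M⟩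
    have h1 : u • J.toCotangent x = ∑ j, (Ideal.Quotient.mk J (a j)) • J.toCotangent (f' j) := by
      show ((Ideal.Quotient.mk J g) ^ M) • J.toCotangent x = _
      rw [← map_pow, mk_smul_cot]
      simp_rw [mk_smul_cot, ← map_smul]
      rw [← map_sum]
      congr 1
      apply Subtype.ext
      rw [Submodule.coe_sum]
      simp only [Submodule.coe_smul, smul_eq_mul]
      exact ha
    rw [← LocalizedModule.mk_cancel_common_left u s, h1]
    have h2 : LocalizedModule.mk (∑ j, (Ideal.Quotient.mk J (a j)) • J.toCotangent (f' j)) (u * s) =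
        (Localization.mk (1 : R ⧸ J) (u * s)) •
          ∑ j, (algebraMap (R ⧸ J) (Localization S) (Ideal.Quotient.mk J (a j))) • bfam f' S j := by
      simp_rw [algebraMap_smul]
      unfold bfam
      simp_rw [← map_smul]
      rw [← map_sum, LocalizedModule.mkLinearMap_apply, LocalizedModule.mk_smul_mk, one_smul,
        mul_one]
    rw [h2]
    apply Submodule.smul_mem
    apply Submodule.sum_mem
    intro j _
    apply Submodule.smul_mem
    exact Submodule.subset_span ⟨j, rfl⟩

theorem linearIndependent_bfam {g : R} {r : ℕ} {f' : Fin r → ↥J} (hd : LocalData J g r f')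
    (S : Submonoid (R ⧸ J)) (hgS : Ideal.Quotient.mk J g ∈ S) :
    LinearIndependent (Localization S) (bfam f' S) := by
  classical
  rw [Fintype.linearIndependent_iff]
  intro l hl j₀
  obtain ⟨u, hu⟩ := IsLocalization.exist_integer_multiples S Finset.univ l
  choose c' hc' using fun j => hu j (Finset.mem_univ j)
  have h1 : LocalizedModule.mkLinearMap S J.Cotangent (∑ j, c' j • J.toCotangent (f' j)) = 0 := by
    rw [map_sum]
    simp_rw [map_smul]
    have : ∀ j, c' j • LocalizedModule.mkLinearMap S J.Cotangent (J.toCotangent (f' j)) =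
        (u : R ⧸ J) • (l j • bfam f' S j) := by
      intro j
      rw [← algebraMap_smul (Localization S) (c' j), hc' j, smul_assoc]
      rfl
    simp_rw [this]
    rw [← Finset.smul_sum, hl, smul_zero]
  rw [IsLocalizedModule.eq_zero_iff S] at h1
  obtain ⟨v, hv⟩ := h1
  obtain ⟨v₀, hv₀⟩ := Ideal.Quotient.mk_surjective (v : R ⧸ J)
  choose e he using fun j => Ideal.Quotient.mk_surjective (c' j)
  have h2 : ∑ j, (v₀ * e j) * (f' j : R) ∈ J ^ 2 := by
    have h3 : J.toCotangent (∑ j, (v₀ * e j) • f' j) = 0 := by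
      rw [map_sum]
      simp_rw [map_smul, mul_smul]
      rw [← Finset.smul_sum, ← mk_smul_cot, hv₀]
      simp_rw [← mk_smul_cot (e _), he]
      exact hv
    rw [Ideal.toCotangent_eq_zero] at h3
    have h4 : ((∑ j, (v₀ * e j) • f' j : ↥J) : R) = ∑ j, (v₀ * e j) * (f' j : R) := by
      rw [Submodule.coe_sum]
      simp only [Submodule.coe_smul, smul_eq_mul]
    rwa [h4] at h3
  let F : MvPolynomial (Fin r) R := ∑ j, MvPolynomial.monomial (Finsupp.single j 1) (v₀ * e j)
  have hF : F.IsHomogeneous 1 := by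
    apply MvPolynomial.IsHomogeneous.sum
    intro j _
    exact MvPolynomial.isHomogeneous_monomial _ (Finsupp.degree_single j 1)
  have hev : MvPolynomial.eval (fun j => (f' j : R)) F ∈ J ^ (1 + 1) := by
    show MvPolynomial.eval _ (∑ j, MvPolynomial.monomial (Finsupp.single j 1) (v₀ * e j)) ∈ _
    rw [map_sum]
    have hterm : ∀ j, MvPolynomial.eval (fun j => (f' j : R))
        (MvPolynomial.monomial (Finsupp.single j 1) (v₀ * e j)) = (v₀ * e j) * (f' j : R) := by
      intro j
      rw [MvPolynomial.eval_monomial, Finsupp.prod_single_index (by simp), pow_one]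
    simp_rw [hterm]
    exact h2
  obtain ⟨N, hN⟩ := hd.coeff_mem 1 F hF hev (Finsupp.single j₀ 1)
  have hcoeff : F.coeff (Finsupp.single j₀ 1) = v₀ * e j₀ := by
    show MvPolynomial.coeff _ (∑ j, MvPolynomial.monomial (Finsupp.single j 1) (v₀ * e j)) = _
    rw [MvPolynomial.coeff_sum]
    simp_rw [MvPolynomial.coeff_monomial]
    rw [Finset.sum_eq_single j₀]
    · simp
    · intro j _ hj
      rw [if_neg]
      intro h
      exact hj (Finsupp.single_left_injective one_ne_zero h)
    · intro h; exact absurd (Finset.mem_univ j₀) h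
  rw [hcoeff] at hN
  -- conclude
  have h5 : (Ideal.Quotient.mk J g) ^ N * ((v : R ⧸ J) * c' j₀) = 0 := by
    rw [← hv₀, ← he j₀, ← map_pow, ← map_mul, ← map_mul, Ideal.Quotient.eq_zero_iff_mem]
    exact hN
  have h6 : algebraMap (R ⧸ J) (Localization S) ((Ideal.Quotient.mk J g) ^ N * (v : R ⧸ J)) *
      (algebraMap (R ⧸ J) (Localization S) (u : R ⧸ J) * l j₀) = 0 := by
    rw [← Algebra.smul_def (u : R ⧸ J), ← hc' j₀, ← map_mul, mul_assoc, h5, map_zero]
  have hu1 : IsUnit (algebraMap (R ⧸ J) (Localization S)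
      ((Ideal.Quotient.mk J g) ^ N * (v : R ⧸ J))) :=
    IsLocalization.map_units _ (⟨_, S.mul_mem (pow_mem hgS N) v.2⟩ : S)
  have hu2 : IsUnit (algebraMap (R ⧸ J) (Localization S) (u : R ⧸ J)) :=
    IsLocalization.map_units _ u
  exact (hu2.mul_right_eq_zero).1 ((hu1.mul_right_eq_zero).1 h6)

/-- basis of the localized conormal module -/
noncomputable def basisOfLocalData {g : R} {r : ℕ} {f' : Fin r → ↥J} (hd : LocalData J g r f')
    (S : Submonoid (R ⧸ J)) (hgS : Ideal.Quotient.mk J g ∈ S) :
    Module.Basis (Fin r) (Localization S) (LocalizedModule S J.Cotangent) :=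
  Module.Basis.mk (linearIndependent_bfam hd S hgS) (span_bfam hd S hgS)

theorem projective_cotangent_of_locallyQR (h : PP16.IsLocallyQuasiRegular R J) :
    Module.Projective (R ⧸ J) J.Cotangent := by
  let sset : Set (R ⧸ J) := {t | ∃ (g : R) (r : ℕ) (f' : Fin r → ↥J),
    LocalData J g r f' ∧ t = Ideal.Quotient.mk J g}
  have hkey : ∀ 𝔪 : Ideal (R ⧸ J), 𝔪.IsPrime → ∃ t ∈ sset, t ∉ 𝔪 := by
    intro 𝔪 h𝔪
    have : (𝔪.comap (Ideal.Quotient.mk J)).IsPrime := Ideal.comap_isPrime _ _
    have hJP : J ≤ 𝔪.comap (Ideal.Quotient.mk J) := by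
      intro x hx
      rw [Ideal.mem_comap, Ideal.Quotient.eq_zero_iff_mem.2 hx]
      exact zero_mem _
    obtain ⟨g, hg, r, f', hd⟩ := exists_localData h _ hJP
    exact ⟨Ideal.Quotient.mk J g, ⟨g, r, f', hd, rfl⟩, hg⟩
  have hspan : Ideal.span sset = ⊤ := by
    by_contra hne
    obtain ⟨𝔪, h𝔪, hle⟩ := Ideal.exists_le_maximal _ hne
    obtain ⟨t, ht, htm⟩ := hkey 𝔪 h𝔪.isPrime
    exact htm (hle (Ideal.subset_span ht))
  have : Module.FinitePresentation (R ⧸ J) J.Cotangent := by
    apply Module.FinitePresentation.of_localizationSpan sset hspan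
    rintro ⟨t, g, r, f', hd, rfl⟩
    let b := basisOfLocalData hd (Submonoid.powers (Ideal.Quotient.mk J g))
      (Submonoid.mem_powers _)
    have : Module.Free (Localization.Away (Ideal.Quotient.mk J g))
        (LocalizedModule.Away (Ideal.Quotient.mk J g) J.Cotangent) := Module.Free.of_basis b
    have : Module.Finite (Localization.Away (Ideal.Quotient.mk J g))
        (LocalizedModule.Away (Ideal.Quotient.mk J g) J.Cotangent) := Module.Finite.of_basis b
    exact Module.finitePresentation_of_projective _ _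
  apply Module.projective_of_localization_maximal
  intro 𝔪 h𝔪
  obtain ⟨t, ⟨g, r, f', hd, rfl⟩, htm⟩ := hkey 𝔪 h𝔪.isPrime
  let b := basisOfLocalData hd 𝔪.primeCompl htm
  have : Module.Free (Localization.AtPrime 𝔪) (LocalizedModule 𝔪.primeCompl J.Cotangent) :=
    Module.Free.of_basis b
  exact Module.Projective.of_free

end proj

end Groth.Agent.H46.QRSym
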