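import Groth.Agent.H46.QRSym3

/-!
# Projective conormal module: local generators (helper46)
-/

namespace Groth.Agent.H46.QRSym

open Groth.Agent.H46.SymGr Groth.Agent.H46.SymGrJ

universe u

section gen

variable {R : Type u} [CommRing R] {J : Ideal R}

/-- Step 1: a local basis of the conormal module consisting of classes of elements of `J`. -/
theorem exists_local_basis (hfg : J.FG) (hproj : Module.Projective (R ⧸ J) J.Cotangent)
    (P : Ideal R) [P.IsPrime] (hJP : J ≤ P) :
    ∃ (g : R) (_ : g ∉ P) (r : ℕ) (f' : Fin r → ↥J)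
      (b : Module.Basis (Fin r) (Localization.Away (Ideal.Quotient.mk J g))
        (LocalizedModule.Away (Ideal.Quotient.mk J g) J.Cotangent)),
      ∀ j, b j = LocalizedModule.mkLinearMap (Submonoid.powers (Ideal.Quotient.mk J g)) J.Cotangent
        (J.toCotangent (f' j)) := by
  classical
  have : Module.Finite R ↥J := Module.Finite.iff_fg.2 hfg
  have : Module.Finite R J.Cotangent :=
    inferInstanceAs (Module.Finite R (↥J ⧸ (J • ⊤ : Submodule R ↥J)))
  have : Module.Finite (R ⧸ J) J.Cotangent := Module.Finite.of_restrictScalars_finite R _ _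
  have : Module.FinitePresentation (R ⧸ J) J.Cotangent :=
    Module.finitePresentation_of_projective _ _
  let Pb : Ideal (R ⧸ J) := P.map (Ideal.Quotient.mk J)
  have hker : RingHom.ker (Ideal.Quotient.mk J) ≤ P := by rw [Ideal.mk_ker]; exact hJP
  have hPb : Pb.IsPrime := Ideal.map_isPrime_of_surjective Ideal.Quotient.mk_surjective hker
  have hcomap : Pb.comap (Ideal.Quotient.mk J) = P := by
    rw [Ideal.comap_map_of_surjective _ Ideal.Quotient.mk_surjective, ← RingHom.ker_eq_comap_bot,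
      sup_eq_left]
    exact hker
  have : Module.Free (Localization.AtPrime Pb) (LocalizedModule Pb.primeCompl J.Cotangent) :=
    Module.free_of_flat_of_isLocalRing
  let b₀ := Module.Free.chooseBasis (Localization.AtPrime Pb)
    (LocalizedModule Pb.primeCompl J.Cotangent)
  obtain ⟨gb, hgb, b', -⟩ := Module.FinitePresentation.exists_basis_localizedModule_powers
    Pb.primeCompl (LocalizedModule.mkLinearMap Pb.primeCompl J.Cotangent)
    (Localization.AtPrime Pb) b₀
  obtain ⟨g, rfl⟩ := Ideal.Quotient.mk_surjective gb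
  have hg : g ∉ P := by
    intro hgP
    exact hgb (Ideal.mem_map_of_mem _ hgP)
  let I := Module.Free.ChooseBasisIndex (Localization.AtPrime Pb)
    (LocalizedModule Pb.primeCompl J.Cotangent)
  let e : I ≃ Fin (Fintype.card I) := Fintype.equivFin I
  let b₁ := b'.reindex e
  -- numerators
  choose xs hxs using fun j => IsLocalizedModule.surj
    (Submonoid.powers (Ideal.Quotient.mk J g))
    (LocalizedModule.mkLinearMap (Submonoid.powers (Ideal.Quotient.mk J g)) J.Cotangent) (b₁ j)
  let w : Fin (Fintype.card I) → Localization.Away (Ideal.Quotient.mk J g) := fun j =>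
    algebraMap (R ⧸ J) _ ((xs j).2 : R ⧸ J)
  have hw : ∀ j, IsUnit (w j) := fun j => IsLocalization.map_units _ (xs j).2
  let b₂ := b₁.isUnitSMul hw
  choose f' hf' using fun j => J.toCotangent_surjective (xs j).1
  refine ⟨g, hg, Fintype.card I, f', b₂, fun j => ?_⟩
  rw [hf' j, ← hxs j]
  show b₁.isUnitSMul hw j = _
  rw [Module.Basis.isUnitSMul_apply]
  show algebraMap (R ⧸ J) _ ((xs j).2 : R ⧸ J) • b₁ j = _
  rw [algebraMap_smul]
  rfl

/-- Step 2: every element of `J` is, up to a power of `g`, a combination of the `f'` modulo `J²`. -/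
theorem exists_comb_mod_sq {g : R} {r : ℕ} {f' : Fin r → ↥J}
    (b : Module.Basis (Fin r) (Localization.Away (Ideal.Quotient.mk J g))
      (LocalizedModule.Away (Ideal.Quotient.mk J g) J.Cotangent))
    (hb : ∀ j, b j = LocalizedModule.mkLinearMap (Submonoid.powers (Ideal.Quotient.mk J g))
      J.Cotangent (J.toCotangent (f' j)))
    (y : R) (hy : y ∈ J) :
    ∃ (M : ℕ) (a : Fin r → R), g ^ M * y - ∑ j, a j * (f' j : R) ∈ J ^ 2 := by
  classical
  set S := Submonoid.powers (Ideal.Quotient.mk J g) with hS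
  set yb : J.Cotangent := J.toCotangent ⟨y, hy⟩ with hyb
  have h1 : LocalizedModule.mkLinearMap S J.Cotangent yb =
      ∑ j, b.repr (LocalizedModule.mkLinearMap S J.Cotangent yb) j • b j :=
    (b.sum_repr _).symm
  set l : Fin r → Localization.Away (Ideal.Quotient.mk J g) :=
    fun j => b.repr (LocalizedModule.mkLinearMap S J.Cotangent yb) j with hl
  obtain ⟨u, hu⟩ := IsLocalization.exist_integer_multiples S Finset.univ l
  choose c' hc' using fun j => hu j (Finset.mem_univ j)
  have h2 : LocalizedModule.mkLinearMap S J.Cotangent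
      ((u : R ⧸ J) • yb - ∑ j, c' j • J.toCotangent (f' j)) = 0 := by
    rw [map_sub, map_smul, map_sum, h1, Finset.smul_sum, sub_eq_zero]
    refine Finset.sum_congr rfl fun j _ => ?_
    rw [map_smul, ← hb j, ← algebraMap_smul (Localization.Away (Ideal.Quotient.mk J g)) (c' j),
      hc' j, smul_assoc]
  rw [IsLocalizedModule.eq_zero_iff S] at h2
  obtain ⟨v, hv⟩ := h2
  obtain ⟨n1, hn1⟩ := (Submonoid.mem_powers_iff _ _).1 u.2
  obtain ⟨n2, hn2⟩ := (Submonoid.mem_powers_iff _ _).1 v.2
  choose e he using fun j => Ideal.Quotient.mk_surjective (c' j)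
  refine ⟨n2 + n1, fun j => g ^ n2 * e j, ?_⟩
  have h3 : J.toCotangent ((g ^ (n2 + n1)) • (⟨y, hy⟩ : ↥J) - ∑ j, (g ^ n2 * e j) • f' j) = 0 := by
    rw [map_sub, map_smul, map_sum]
    simp_rw [map_smul, mul_smul]
    rw [← Finset.smul_sum, pow_add, mul_smul, ← smul_sub, ← mk_smul_cot, ← mk_smul_cot (g ^ n1),
      map_pow, map_pow, hn1, hn2]
    simp_rw [← mk_smul_cot (e _), he]
    exact hv
  rw [Ideal.toCotangent_eq_zero] at h3
  have h4 : (((g ^ (n2 + n1)) • (⟨y, hy⟩ : ↥J) - ∑ j, (g ^ n2 * e j) • f' j : ↥J) : R) =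
      g ^ (n2 + n1) * y - ∑ j, g ^ n2 * e j * (f' j : R) := by
    rw [Submodule.coe_sub, Submodule.coe_sum]
    simp only [Submodule.coe_smul, smul_eq_mul]
  rwa [h4] at h3

theorem exists_comb_mod_sq' {g : R} {r : ℕ} {f' : Fin r → ↥J}
    (b : Module.Basis (Fin r) (Localization.Away (Ideal.Quotient.mk J g))
      (LocalizedModule.Away (Ideal.Quotient.mk J g) J.Cotangent))
    (hb : ∀ j, b j = LocalizedModule.mkLinearMap (Submonoid.powers (Ideal.Quotient.mk J g))
      J.Cotangent (J.toCotangent (f' j)))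
    (y : R) (hy : y ∈ J) :
    ∃ M₀ : ℕ, ∀ M, M₀ ≤ M → ∃ a : Fin r → R, g ^ M * y - ∑ j, a j * (f' j : R) ∈ J ^ 2 := by
  obtain ⟨M₀, a, ha⟩ := exists_comb_mod_sq b hb y hy
  refine ⟨M₀, fun M hM => ⟨fun j => g ^ (M - M₀) * a j, ?_⟩⟩
  have : g ^ M * y - ∑ j, g ^ (M - M₀) * a j * (f' j : R) =
      g ^ (M - M₀) * (g ^ M₀ * y - ∑ j, a j * (f' j : R)) := by
    have hp : g ^ M = g ^ (M - M₀) * g ^ M₀ := by rw [← pow_add]; congr 1; omega
    rw [mul_sub, Finset.mul_sum, hp]
    congr 1
    · ring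
    · refine Finset.sum_congr rfl fun j _ => by ring
  rw [this]
  exact Ideal.mul_mem_left _ _ ha

/-- Step 3: the determinant trick. -/
theorem exists_mul_mem_span (hfg : J.FG) {g : R} {r : ℕ} {f' : Fin r → ↥J}
    (h : ∀ y ∈ J, ∃ M₀ : ℕ, ∀ M, M₀ ≤ M → ∃ a : Fin r → R,
      g ^ M * y - ∑ j, a j * (f' j : R) ∈ J ^ 2) :
    ∃ (G : R) (K : ℕ), G - g ^ K ∈ J ∧
      ∀ x ∈ J, G * x ∈ Ideal.span (Set.range fun j => (f' j : R)) := by
  classical
  obtain ⟨p, ys, hys⟩ := Submodule.fg_iff_exists_fin_generating_family.1 hfg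
  have hysJ : ∀ k, ys k ∈ J := fun k => hys ▸ Submodule.subset_span ⟨k, rfl⟩
  choose M₀ hM₀ using fun k => h (ys k) (hysJ k)
  let M : ℕ := ∑ k, M₀ k
  have hM : ∀ k, M₀ k ≤ M := fun k =>
    Finset.single_le_sum (f := M₀) (fun _ _ => Nat.zero_le _) (Finset.mem_univ k)
  choose a ha using fun k => hM₀ k M (hM k)
  -- write the error terms in terms of the generators
  have hsq : ∀ k, ∃ bk : Fin p → R, (∀ l, bk l ∈ J) ∧
      g ^ M * ys k - ∑ j, a k j * (f' j : R) = ∑ l, bk l * ys l := by
    intro k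
    have h1 := ha k
    rw [pow_two] at h1
    have h2 : g ^ M * ys k - ∑ j, a k j * (f' j : R) ∈ J • Submodule.span R (Set.range ys) := by
      rw [hys]; exact h1
    rw [Submodule.mem_ideal_smul_span_iff_exists_sum] at h2
    obtain ⟨c, hc, hsum⟩ := h2
    refine ⟨fun l => c l, hc, ?_⟩
    rw [← hsum, Finsupp.sum_fintype _ _ (by simp)]
    simp [smul_eq_mul]
  choose bm hbmJ hbm using hsq
  let Am : Matrix (Fin p) (Fin p) R := (g ^ M) • (1 : Matrix (Fin p) (Fin p) R) - Matrix.of bm
  have hA : ∀ k, (Am.mulVec ys) k ∈ Ideal.span (Set.range fun j => (f' j : R)) := by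
    intro k
    have : (Am.mulVec ys) k = ∑ j, a k j * (f' j : R) := by
      show (((g ^ M) • (1 : Matrix (Fin p) (Fin p) R) - Matrix.of bm).mulVec ys) k = _
      rw [Matrix.sub_mulVec, Matrix.smul_mulVec, Matrix.one_mulVec]
      show g ^ M * ys k - ∑ l, bm k l * ys l = _
      rw [← hbm k]; ring
    rw [this]
    exact Ideal.sum_mem _ fun j _ => Ideal.mul_mem_left _ _ (Ideal.subset_span ⟨j, rfl⟩)
  have hdet : ∀ k, Am.det * ys k ∈ Ideal.span (Set.range fun j => (f' j : R)) := by
    intro k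
    have h1 : (Am.adjugate * Am).mulVec ys = Am.det • ys := by
      rw [Matrix.adjugate_mul, Matrix.smul_mulVec, Matrix.one_mulVec]
    have h2 : Am.det * ys k = (Am.adjugate.mulVec (Am.mulVec ys)) k := by
      rw [Matrix.mulVec_mulVec, h1]; rfl
    rw [h2]
    show ∑ l, Am.adjugate k l * (Am.mulVec ys) l ∈ _
    exact Ideal.sum_mem _ fun l _ => Ideal.mul_mem_left _ _ (hA l)
  refine ⟨Am.det, M * p, ?_, ?_⟩
  · rw [← Ideal.Quotient.eq, RingHom.map_det]
    have : (Ideal.Quotient.mk J).mapMatrix Am =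
        ((Ideal.Quotient.mk J) (g ^ M)) • (1 : Matrix (Fin p) (Fin p) (R ⧸ J)) := by
      ext k l
      simp only [RingHom.mapMatrix_apply, Matrix.map_apply, Am, Matrix.sub_apply,
        Matrix.smul_apply, Matrix.of_apply, map_sub, map_mul, smul_eq_mul]
      rw [Ideal.Quotient.eq_zero_iff_mem.2 (hbmJ k l), sub_zero]
      by_cases hkl : k = l
      · subst hkl; simp
      · simp [hkl]
    rw [this, Matrix.det_smul, Matrix.det_one, mul_one, Fintype.card_fin, ← map_pow, ← pow_mul]
  · intro x hx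
    rw [← hys] at hx
    induction hx using Submodule.span_induction with
    | mem z hz =>
      obtain ⟨k, rfl⟩ := hz
      exact hdet k
    | zero => rw [mul_zero]; exact zero_mem _
    | add z z' _ _ hz hz' => rw [mul_add]; exact add_mem hz hz'
    | smul c z _ hz =>
      rw [smul_eq_mul, mul_left_comm]; exact Ideal.mul_mem_left _ _ hz

end gen

end Groth.Agent.H46.QRSym
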