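import Groth.Agent.H46.QRSym4

/-!
# Symmetric-power criterion for locally quasi-regular ideals (helper46)
-/

namespace Groth.Agent.H46.QRSym

open Groth.Agent.H46.SymGr Groth.Agent.H46.SymGrJ

universe u

section theta

variable {R : Type u} [CommRing R] {J : Ideal R} {g : R} {r : ℕ}
  (b : Module.Basis (Fin r) (Localization.Away (Ideal.Quotient.mk J g))
      (LocalizedModule.Away (Ideal.Quotient.mk J g) J.Cotangent))

/-- coordinates of the localized class -/
noncomputable def lam (j : Fin r) (w : J.Cotangent) : Localization.Away (Ideal.Quotient.mk J g) :=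
  b.coord j (LocalizedModule.mkLinearMap (Submonoid.powers (Ideal.Quotient.mk J g)) J.Cotangent w)

theorem lam_add (j : Fin r) (w w' : J.Cotangent) : lam b j (w + w') = lam b j w + lam b j w' := by
  unfold lam; rw [map_add, map_add]

theorem lam_smul (j : Fin r) (c : R) (w : J.Cotangent) :
    lam b j (c • w) = algebraMap R (Localization.Away (Ideal.Quotient.mk J g)) c * lam b j w := by
  unfold lam
  rw [← mk_smul_cot, map_smul, ← algebraMap_smul (Localization.Away (Ideal.Quotient.mk J g))
    (Ideal.Quotient.mk J c), map_smul, smul_eq_mul,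
    IsScalarTower.algebraMap_apply R (R ⧸ J) (Localization.Away (Ideal.Quotient.mk J g)),
    Ideal.Quotient.algebraMap_eq]

/-- the linear form attached to a class -/
noncomputable def Llin : J.Cotangent →ₗ[R]
    MvPolynomial (Fin r) (Localization.Away (Ideal.Quotient.mk J g)) where
  toFun w := ∑ j, MvPolynomial.C (lam b j w) * MvPolynomial.X j
  map_add' w w' := by
    simp_rw [lam_add, map_add, add_mul]
    rw [Finset.sum_add_distrib]
  map_smul' c w := by
    simp_rw [lam_smul, map_mul, mul_assoc]
    rw [← Finset.mul_sum, RingHom.id_apply,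
      ← algebraMap_smul (Localization.Away (Ideal.Quotient.mk J g)) c, MvPolynomial.smul_eq_C_mul]

theorem Llin_apply (w : J.Cotangent) :
    Llin b w = ∑ j, MvPolynomial.C (lam b j w) * MvPolynomial.X j := rfl

/-- the multilinear map `w ↦ ∏ L(w_i)` -/
noncomputable def ThetaML (ι : Type u) [Fintype ι] :
    MultilinearMap R (fun _ : ι => J.Cotangent)
      (MvPolynomial (Fin r) (Localization.Away (Ideal.Quotient.mk J g))) :=
  (MultilinearMap.mkPiAlgebra R ι
    (MvPolynomial (Fin r) (Localization.Away (Ideal.Quotient.mk J g)))).compLinearMap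
    (fun _ => Llin b)

theorem ThetaML_apply (ι : Type u) [Fintype ι] (w : ι → J.Cotangent) :
    ThetaML b ι w = ∏ i, Llin b (w i) := by
  unfold ThetaML
  rw [MultilinearMap.compLinearMap_apply, MultilinearMap.mkPiAlgebra_apply]

/-- coefficient extraction on symmetric powers -/
noncomputable def Theta (ι : Type u) [Fintype ι] :
    SymmetricPower R ι J.Cotangent →ₗ[R]
      MvPolynomial (Fin r) (Localization.Away (Ideal.Quotient.mk J g)) :=
  symLift (ThetaML b ι) (by
    intro e w
    rw [ThetaML_apply, ThetaML_apply]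
    exact Equiv.prod_comp e (fun i => Llin b (w i)))

theorem Theta_tprod (ι : Type u) [Fintype ι] (w : ι → J.Cotangent) :
    Theta b ι (SymmetricPower.tprod R w) = ∏ i, Llin b (w i) := by
  unfold Theta
  rw [symLift_tprod, ThetaML_apply]

variable {f' : Fin r → ↥J}
  (hb : ∀ j, b j = LocalizedModule.mkLinearMap (Submonoid.powers (Ideal.Quotient.mk J g))
      J.Cotangent (J.toCotangent (f' j)))

include hb in
theorem Llin_t (j : Fin r) : Llin b (J.toCotangent (f' j)) = MvPolynomial.X j := by
  classical
  rw [Llin_apply]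
  have : ∀ i, lam b i (J.toCotangent (f' j)) = if i = j then 1 else 0 := by
    intro i
    unfold lam
    rw [← hb j, Module.Basis.coord_apply, Module.Basis.repr_self, Finsupp.single_apply]
    simp [eq_comm]
  simp_rw [this]
  rw [Finset.sum_eq_single j]
  · simp
  · intro i _ hij; simp [hij]
  · intro h; exact absurd (Finset.mem_univ j) h

include hb in
theorem Theta_T (ι : Type u) [Fintype ι] (κ : ι → Fin r) :
    Theta b ι (SymmetricPower.tprod R (fun i => J.toCotangent (f' (κ i)))) =
      MvPolynomial.monomial (mon κ) 1 := by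
  rw [Theta_tprod]
  simp_rw [Llin_t b hb]
  rw [prod_comp_eq (fun j => (MvPolynomial.X j :
    MvPolynomial (Fin r) (Localization.Away (Ideal.Quotient.mk J g)))) κ, MvPolynomial.monomial_eq,
    map_one, one_mul]

end theta

section main

variable {R : Type u} [CommRing R] {J : Ideal R}

theorem qr_of_symGr (hfg : J.FG) (hproj : Module.Projective (R ⧸ J) J.Cotangent)
    (hsym : PP16.SymGrBijective R J) (P : Ideal R) [P.IsPrime] (hJP : J ≤ P) :
    ∃ g' : R, g' ∉ P ∧ ∃ (r : ℕ) (f : Fin r → Localization.Away g'),
      CAlgX.IsQuasiRegular f ∧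
        Ideal.span (Set.range f) = J.map (algebraMap R (Localization.Away g')) := by
  classical
  obtain ⟨g, hg, r, f', b, hb⟩ := exists_local_basis hfg hproj P hJP
  obtain ⟨G, K, hGK, hG⟩ := exists_mul_mem_span hfg (fun y hy => exists_comb_mod_sq' b hb y hy)
  have hGP : G ∉ P := by
    intro hGP
    have : g ^ K ∈ P := by
      have h1 : g ^ K = G - (G - g ^ K) := by ring
      rw [h1]
      exact P.sub_mem hGP (hJP hGK)
    exact hg (Ideal.IsPrime.mem_of_pow_mem inferInstance K this)
  set g' : R := g * G with hg'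
  have hg'P : g' ∉ P := fun h => (Ideal.IsPrime.mem_or_mem inferInstance h).elim hg hGP
  set ψ : R →+* Localization.Away g' := algebraMap R (Localization.Away g') with hψ
  have hu' : IsUnit (ψ g') := IsLocalization.Away.algebraMap_isUnit (S := Localization.Away g') g'
  have hu'' : IsUnit (ψ g * ψ G) := by rw [← map_mul]; exact hu'
  have hug : IsUnit (ψ g) := isUnit_of_mul_isUnit_left hu''
  have huG : IsUnit (ψ G) := isUnit_of_mul_isUnit_right hu''
  have hupow : ∀ x ∈ Submonoid.powers g', IsUnit (ψ x) := fun x hx =>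
    IsLocalization.map_units (Localization.Away g') (⟨x, hx⟩ : Submonoid.powers g')
  have hspan : Ideal.span (Set.range fun j => ψ (f' j)) = J.map ψ := by
    apply le_antisymm
    · rw [Ideal.span_le]
      rintro _ ⟨j, rfl⟩
      exact Ideal.mem_map_of_mem _ (f' j).2
    · rw [Ideal.map_le_iff_le_comap]
      intro x hx
      rw [Ideal.mem_comap]
      have h1 : ψ (G * x) ∈ Ideal.span (Set.range fun j => ψ (f' j)) := by
        have h2 := Ideal.mem_map_of_mem ψ (hG x hx)
        rw [Ideal.map_span, ← Set.range_comp] at h2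
        exact h2
      rw [map_mul] at h1
      obtain ⟨uG, huG'⟩ := huG
      have h3 : ψ x = (↑uG⁻¹ : Localization.Away g') * (ψ G * ψ x) := by
        rw [← huG', ← mul_assoc, Units.inv_mul, one_mul]
      rw [h3]
      exact Ideal.mul_mem_left _ _ h1
  refine ⟨g', hg'P, r, fun j => ψ (f' j), ?_, hspan⟩
  intro n Pf hPf hev d
  rw [hspan] at hev ⊢
  rcases n with _ | n
  · -- degree zero
    have htd : Pf.totalDegree = 0 := Nat.le_zero.1 hPf.totalDegree_le
    rw [MvPolynomial.totalDegree_eq_zero_iff_eq_C] at htd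
    rw [htd, MvPolynomial.eval_C, zero_add, pow_one] at hev
    rw [htd, MvPolynomial.coeff_C]
    split_ifs
    · exact hev
    · exact zero_mem _
  · -- positive degree
    let ι := ULift.{u} (Fin (n + 1))
    have hcard : Fintype.card ι = n + 1 := by
      rw [Fintype.card_ulift, Fintype.card_fin]
    obtain ⟨φ, hφ, hφbij⟩ := hsym ι
    by_cases hdsupp : d ∈ Pf.support
    swap
    · rw [MvPolynomial.notMem_support_iff.1 hdsupp]; exact zero_mem _
    -- clear denominators
    obtain ⟨bb, hbb⟩ := IsLocalization.exist_integer_multiples (Submonoid.powers g') Pf.support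
      (fun d => Pf.coeff d)
    have hall : ∀ d', ∃ y : R, ψ y = ψ (bb : R) * Pf.coeff d' := by
      intro d'
      by_cases hd' : d' ∈ Pf.support
      · obtain ⟨y, hy⟩ := hbb d' hd'
        exact ⟨y, by rw [hy, Algebra.smul_def]⟩
      · exact ⟨0, by rw [MvPolynomial.notMem_support_iff.1 hd', mul_zero, map_zero]⟩
    choose ad had using hall
    let F : MvPolynomial (Fin r) R := ∑ d' ∈ Pf.support, MvPolynomial.monomial d' (ad d')
    have hdegsupp : ∀ d' ∈ Pf.support, d'.degree = n + 1 := by
      intro d' hd'
      rw [Finsupp.degree_eq_weight_one]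
      exact hPf (MvPolynomial.mem_support_iff.1 hd')
    have hFhom : F.IsHomogeneous (n + 1) := by
      apply MvPolynomial.IsHomogeneous.sum
      intro d' hd'
      exact MvPolynomial.isHomogeneous_monomial _ (hdegsupp d' hd')
    have hFcoeff : ∀ d', F.coeff d' = if d' ∈ Pf.support then ad d' else 0 := by
      intro d'
      show MvPolynomial.coeff d' (∑ d'' ∈ Pf.support, MvPolynomial.monomial d'' (ad d'')) = _
      rw [MvPolynomial.coeff_sum]
      simp_rw [MvPolynomial.coeff_monomial]
      rw [Finset.sum_ite_eq']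
    have hmapF : MvPolynomial.map ψ F = MvPolynomial.C (ψ (bb : R)) * Pf := by
      ext d'
      rw [MvPolynomial.coeff_map, hFcoeff, MvPolynomial.coeff_C_mul]
      split_ifs with h
      · exact had d'
      · rw [MvPolynomial.notMem_support_iff.1 h, mul_zero, map_zero]
    have hevF : ψ (MvPolynomial.eval (fun j => (f' j : R)) F) ∈ (J ^ (n + 1 + 1)).map ψ := by
      rw [← eval_map_algebraMap, hmapF, map_mul, MvPolynomial.eval_C, Ideal.map_pow]
      exact Ideal.mul_mem_left _ _ hev
    rw [IsLocalization.mem_map_algebraMap_iff (Submonoid.powers g')] at hevF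
    obtain ⟨⟨aa, ss⟩, hass⟩ := hevF
    have h0 : ψ (MvPolynomial.eval (fun j => (f' j : R)) F * (ss : R) - (aa : R)) = 0 := by
      rw [map_sub, map_mul, sub_eq_zero]; exact hass
    rw [IsLocalization.map_eq_zero_iff (Submonoid.powers g')] at h0
    obtain ⟨mm, hmm⟩ := h0
    set G' : R := (mm : R) * (ss : R) with hG'
    have hG'pow : G' ∈ Submonoid.powers g' := Submonoid.mul_mem _ mm.2 ss.2
    have hG'ev : G' * MvPolynomial.eval (fun j => (f' j : R)) F ∈ J ^ (n + 1 + 1) := by
      rw [mul_sub, sub_eq_zero] at hmm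
      have : G' * MvPolynomial.eval (fun j => (f' j : R)) F = (mm : R) * (aa : R) := by
        rw [← hmm, hG']; ring
      rw [this]
      exact Ideal.mul_mem_left _ _ aa.2
    -- the symmetric tensor
    have hκ : ∀ d', ∃ κ : ι → Fin r, d' ∈ Pf.support → mon κ = d' := by
      intro d'
      by_cases hd' : d' ∈ Pf.support
      · obtain ⟨κ, hκ⟩ := exists_kappa_of_degree (ι := ι) d' (by rw [hdegsupp d' hd', hcard])
        exact ⟨κ, fun _ => hκ⟩
      · exact ⟨fun _ => ⟨0, by
          by_contra hr
          have hr0 : r = 0 := by omega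
          subst hr0
          have hd0 : d.degree = 0 := by
            rw [Finsupp.degree_eq_sum]; simp
          rw [hdegsupp d hdsupp] at hd0
          omega⟩, fun h => absurd h hd'⟩
    choose κd hκd using hκ
    let sT : SymmetricPower R ι J.Cotangent := ∑ d' ∈ Pf.support,
      ad d' • SymmetricPower.tprod R (fun i => J.toCotangent (f' (κd d' i)))
    have hevsum : MvPolynomial.eval (fun j => (f' j : R)) F =
        ∑ d' ∈ Pf.support, ad d' * ∏ i, (f' (κd d' i) : R) := by
      show MvPolynomial.eval _ (∑ d' ∈ Pf.support, MvPolynomial.monomial d' (ad d')) = _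
      rw [map_sum]
      refine Finset.sum_congr rfl fun d' hd' => ?_
      rw [MvPolynomial.eval_monomial, prod_comp_eq (fun j => (f' j : R)) (κd d'), hκd d' hd']
    have hφ0 : φ (G' • sT) = 0 := by
      rw [map_smul, map_sum]
      simp_rw [map_smul, hφ, zetaJ_eq, ← Submodule.Quotient.mk_smul]
      have hms : ∑ d' ∈ Pf.support,
          (Submodule.Quotient.mk (ad d' • prodJ R J (fun i => f' (κd d' i))) :
            PP16.grJ R J (Fintype.card ι)) =
          Submodule.Quotient.mk (∑ d' ∈ Pf.support, ad d' • prodJ R J (fun i => f' (κd d' i))) :=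
        (map_sum (Submodule.mkQ _) _ _).symm
      rw [hms, ← Submodule.Quotient.mk_smul, Submodule.Quotient.mk_eq_zero, Submodule.mem_comap]
      have e3 : ((J ^ Fintype.card ι).subtype)
          (G' • ∑ d' ∈ Pf.support, ad d' • prodJ R J (fun i => f' (κd d' i))) =
          G' * ∑ d' ∈ Pf.support, ad d' * ∏ i, (f' (κd d' i) : R) := by
        rw [map_smul, map_sum, smul_eq_mul]
        congr 1
      rw [e3, ← hevsum, hcard]
      exact hG'ev
    have hsT0 : G' • sT = 0 := hφbij.1 (by rw [hφ0, map_zero])
    -- extract the coefficient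
    have hΘ : Theta b ι (G' • sT) = 0 := by rw [hsT0, map_zero]
    rw [map_smul, map_sum] at hΘ
    have hterm : ∀ d' ∈ Pf.support, Theta b ι (ad d' • SymmetricPower.tprod R
        (fun i => J.toCotangent (f' (κd d' i)))) =
        MvPolynomial.monomial d' (algebraMap R (Localization.Away (Ideal.Quotient.mk J g)) (ad d')) := by
      intro d' hd'
      rw [map_smul, Theta_T b hb, hκd d' hd', MvPolynomial.smul_monomial,
        Algebra.algebraMap_eq_smul_one]
    rw [Finset.sum_congr rfl hterm, Finset.smul_sum] at hΘ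
    have hcoef := congrArg (MvPolynomial.coeff d) hΘ
    rw [MvPolynomial.coeff_sum, MvPolynomial.coeff_zero] at hcoef
    simp_rw [MvPolynomial.smul_monomial, MvPolynomial.coeff_monomial] at hcoef
    rw [Finset.sum_ite_eq', if_pos hdsupp, Algebra.smul_def, ← map_mul,
      IsScalarTower.algebraMap_apply R (R ⧸ J) (Localization.Away (Ideal.Quotient.mk J g)),
      Ideal.Quotient.algebraMap_eq,
      IsLocalization.map_eq_zero_iff (Submonoid.powers (Ideal.Quotient.mk J g))] at hcoef
    obtain ⟨m', hm'⟩ := hcoef
    obtain ⟨k, hk⟩ := (Submonoid.mem_powers_iff _ _).1 m'.2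
    rw [← hk, ← map_pow, ← map_mul, Ideal.Quotient.eq_zero_iff_mem] at hm'
    -- conclude
    have h5 : ψ (g ^ k * (G' * ad d)) ∈ J.map ψ := Ideal.mem_map_of_mem _ hm'
    rw [map_mul, map_mul, had d, map_pow] at h5
    have hunit : IsUnit (ψ g ^ k * (ψ G' * ψ (bb : R))) :=
      (hug.pow k).mul ((hupow G' hG'pow).mul (hupow _ bb.2))
    obtain ⟨uu, huu⟩ := hunit
    have h6 : Pf.coeff d = (↑uu⁻¹ : Localization.Away g') *
        (ψ g ^ k * (ψ G' * (ψ (bb : R) * Pf.coeff d))) := by
      have : ψ g ^ k * (ψ G' * (ψ (bb : R) * Pf.coeff d)) = (uu : Localization.Away g') * Pf.coeff d := by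
        rw [huu]; ring
      rw [this, ← mul_assoc, Units.inv_mul, one_mul]
    rw [h6]
    exact Ideal.mul_mem_left _ _ h5

/-- **S3826**: locally quasi-regular ideals via symmetric powers of the conormal module. -/
theorem isLocallyQuasiRegular_iff (R : Type u) [CommRing R] (J : Ideal R) :
    PP16.IsLocallyQuasiRegular R J ↔
      J.FG ∧ Module.Projective (R ⧸ J) J.Cotangent ∧ PP16.SymGrBijective R J := by
  constructor
  · intro h
    refine ⟨Groth.Agent.H46.QRDesc.fg_of_locallyQR h, projective_cotangent_of_locallyQR h, ?_⟩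
    intro ι _ _
    exact ⟨phiJ R J ι, fun x => phiJ_tprod R J ι x, phiJ_injective_of_locallyQR h ι,
      phiJ_surjective R J ι⟩
  · rintro ⟨hfg, hproj, hsym⟩ P _ hJP
    exact qr_of_symGr hfg hproj hsym P hJP

end main

end Groth.Agent.H46.QRSym
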