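import Mathlib

/-!
# `0 → Hom_A(A/I, E) → E → Hom_A(I, E) → 0` for an injective module `E` (helper46)

(generalising helper12's `RHomQuotA` from principal ideals generated by a nonzerodivisor)
-/

set_option autoImplicit false
universe u
open CategoryTheory CategoryTheory.Limits

namespace Groth.Agent.H46.QuotTri

section Mod

variable {A : Type u} [CommRing A] (I : Ideal A)

/-- the quotient map -/
abbrev qm : A →+* A ⧸ I := Ideal.Quotient.mk I

/-- restriction of scalars -/
noncomputable abbrev Fr : ModuleCat.{u} (A ⧸ I) ⥤ ModuleCat.{u} A :=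
  ModuleCat.restrictScalars.{u} (qm I)

/-- coextension of scalars -/
noncomputable abbrev Gc : ModuleCat.{u} A ⥤ ModuleCat.{u} (A ⧸ I) :=
  ModuleCat.coextendScalars.{u, u, u} (qm I)

/-- the adjunction -/
noncomputable abbrev adjM : Fr I ⊣ Gc I := ModuleCat.restrictCoextendScalarsAdj.{u, u, u} (qm I)

instance : (Gc I).Additive := (adjM I).right_adjoint_additive

/-- `A/I` as an `A`-module by restriction -/
noncomputable abbrev Bres : ModuleCat.{u} A :=
  (ModuleCat.restrictScalars.{u} (qm I)).obj (ModuleCat.of _ (A ⧸ I))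

/-- view an element of the quotient in the restricted module -/
def toRes (s : A ⧸ I) : Bres I := s

theorem smul_toRes (a : A) (s : A ⧸ I) : a • toRes I s = toRes I (qm I a * s) := rfl

theorem apply_mk (E : ModuleCat.{u} A) (g' : Bres I →ₗ[A] E) (a : A) :
    g' (toRes I (qm I a)) = a • g' (toRes I 1) := by
  have h : toRes I (qm I a) = a • toRes I 1 := by
    rw [smul_toRes, mul_one]
  rw [h, map_smul]

theorem counit_apply (E : ModuleCat.{u} A) (g : (ModuleCat.coextendScalars.{u, u, u} (qm I)).obj E) :
    ((adjM I).counit.app E).hom g =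
      (ModuleCat.CoextendScalars.equiv (qm I) E g) (toRes I 1) := rfl

/-- the functor `Hom_A(I, -)` -/
noncomputable def homI : ModuleCat.{u} A ⥤ ModuleCat.{u} A where
  obj E := ModuleCat.of A (I →ₗ[A] E)
  map g := ModuleCat.ofHom (LinearMap.compRight A g.hom)
  map_id E := by
    ext h x
    rfl
  map_comp g g' := by
    ext h x
    rfl

instance : (homI I).Additive where
  map_add := by
    intro E E' g g'
    ext h
    rfl

/-- `e ↦ (x ↦ x • e)` -/
noncomputable def evLin (E : ModuleCat.{u} A) : E →ₗ[A] (I →ₗ[A] E) where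
  toFun e := (LinearMap.toSpanSingleton A E e).comp I.subtype
  map_add' e e' := by
    ext x
    simp
  map_smul' a e := by
    ext x
    simp [smul_smul, mul_comm]

theorem evLin_apply (E : ModuleCat.{u} A) (e : E) (x : I) : evLin I E e x = (x : A) • e := by
  simp [evLin]

/-- the natural transformation `𝟭 ⟶ Hom_A(I, -)` -/
noncomputable def evI : 𝟭 (ModuleCat.{u} A) ⟶ homI I where
  app E := ModuleCat.ofHom (evLin I E)
  naturality E E' g := by
    ext e
    apply LinearMap.ext
    intro x
    show evLin I E' (g.hom e) x = g.hom (evLin I E e x)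
    rw [evLin_apply, evLin_apply, map_smul]

theorem counit_comp_ev (E : ModuleCat.{u} A) : (adjM I).counit.app E ≫ (evI I).app E = 0 := by
  ext g
  apply LinearMap.ext
  intro x
  let g₀ : (ModuleCat.coextendScalars.{u, u, u} (qm I)).obj E := g
  show evLin I E (((adjM I).counit.app E).hom g₀) x = 0
  rw [evLin_apply, counit_apply, ← apply_mk]
  have h0 : (qm I (x : A) : A ⧸ I) = 0 := Ideal.Quotient.eq_zero_iff_mem.2 x.2
  rw [h0]
  exact map_zero (ModuleCat.CoextendScalars.equiv (qm I) E g₀)

/-- the map `A/I → E` attached to an element killed by `I` -/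
noncomputable def lq (E : ModuleCat.{u} A) (e : E) (he : ∀ x ∈ I, x • e = 0) :
    (A ⧸ I) →ₗ[A] E :=
  Submodule.liftQ I (LinearMap.toSpanSingleton A E e) (by
    intro x hx
    rw [LinearMap.mem_ker, LinearMap.toSpanSingleton_apply]
    exact he x hx)

theorem lq_mk (E : ModuleCat.{u} A) (e : E) (he : ∀ x ∈ I, x • e = 0) (b : A) :
    lq I E e he (Ideal.Quotient.mk I b) = b • e := by
  show LinearMap.toSpanSingleton A E e b = b • e
  rw [LinearMap.toSpanSingleton_apply]

/-- the same, for the restricted structure -/
noncomputable def ofTorsion (E : ModuleCat.{u} A) (e : E) (he : ∀ x ∈ I, x • e = 0) :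
    Bres I →ₗ[A] E where
  toFun s := lq I E e he s
  map_add' := fun s t => map_add (lq I E e he) s t
  map_smul' := fun a s => by
    obtain ⟨b, hb⟩ : ∃ b : A, toRes I (qm I b) = s := by
      obtain ⟨b, hb⟩ := Ideal.Quotient.mk_surjective (s : A ⧸ I)
      exact ⟨b, hb⟩
    rw [← hb, smul_toRes, ← map_mul]
    show lq I E e he (qm I (a * b)) = a • lq I E e he (qm I b)
    rw [lq_mk, lq_mk, mul_smul]

theorem ofTorsion_one (E : ModuleCat.{u} A) (e : E) (he : ∀ x ∈ I, x • e = 0) :
    ofTorsion I E e he (toRes I 1) = e := by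
  show lq I E e he (qm I 1) = e
  rw [lq_mk, one_smul]

theorem shortExact_counit (E : ModuleCat.{u} A) [Injective E] :
    (ShortComplex.mk ((adjM I).counit.app E) ((evI I).app E) (counit_comp_ev I E)).ShortExact where
  exact := by
    rw [ShortComplex.moduleCat_exact_iff]
    intro e he
    have he' : ∀ x ∈ I, x • e = 0 := by
      intro x hx
      have h1 : evLin I E e ⟨x, hx⟩ = 0 := by
        have h2 : evLin I E e = 0 := he
        rw [h2]
        rfl
      rwa [evLin_apply] at h1
    refine ⟨(ModuleCat.CoextendScalars.equiv (qm I) E).symm (ofTorsion I E e he'), ?_⟩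
    exact ofTorsion_one I E e he'
  mono_f := by
    rw [ModuleCat.mono_iff_injective]
    refine (injective_iff_map_eq_zero ((adjM I).counit.app E).hom).2 (fun g hg => ?_)
    let g₀ : (ModuleCat.coextendScalars.{u, u, u} (qm I)).obj E := g
    have hg₀ : (ModuleCat.CoextendScalars.equiv (qm I) E g₀) (toRes I 1) = 0 := hg
    have h0 : g₀ = 0 := by
      apply (ModuleCat.CoextendScalars.equiv (qm I) E).injective
      rw [map_zero]
      ext s
      obtain ⟨b, hb⟩ : ∃ b : A, toRes I (qm I b) = s := by
        obtain ⟨b, hb⟩ := Ideal.Quotient.mk_surjective (s : A ⧸ I)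
        exact ⟨b, hb⟩
      have := apply_mk I E (ModuleCat.CoextendScalars.equiv (qm I) E g₀) b
      rw [hg₀, smul_zero, hb] at this
      exact this
    exact h0
  epi_g := by
    rw [ModuleCat.epi_iff_surjective]
    intro h
    let h' : I →ₗ[A] E := h
    let m : ModuleCat.of A I ⟶ ModuleCat.of A A := ModuleCat.ofHom I.subtype
    haveI : Mono m := by
      rw [ModuleCat.mono_iff_injective]
      exact Subtype.val_injective
    let hh : ModuleCat.of A I ⟶ E := ModuleCat.ofHom h'
    have hk : m ≫ Injective.factorThru hh m = hh := Injective.comp_factorThru hh m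
    refine ⟨(Injective.factorThru hh m).hom (1 : A), ?_⟩
    apply LinearMap.ext
    intro x
    show evLin I E ((Injective.factorThru hh m).hom (1 : A)) x = h' x
    rw [evLin_apply, ← map_smul]
    have h1 : (Injective.factorThru hh m).hom (m.hom x) = hh.hom x :=
      congrArg (fun t => t.hom x) hk
    have h2 : ((x : A) • (1 : A) : A) = m.hom x := by
      show (x : A) * 1 = (x : A)
      rw [mul_one]
    show (Injective.factorThru hh m).hom ((x : A) • (1 : A)) = h' x
    rw [h2, h1]
    rfl

end Mod

end Groth.Agent.H46.QuotTri
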