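import Groth.Agent.H46.QuotTriA
import Groth.Agent.H5.KInj.DerivedAdj
import Groth.Agent.H46.GammaKInj
import Groth.Agent.H46.TorsInj
import Groth.Agent.H56.InjAmp2
import Groth.Prelude.Def_DDual2

/-!
# The triangle `RHom_A(A/I, ω) → ω → RHom_A(I, ω)` (helper46)
-/

set_option autoImplicit false
set_option linter.style.haveILetI false
set_option linter.unusedSectionVars false
universe u
open CategoryTheory CategoryTheory.Limits DerivedCategory Pretriangulated

namespace Groth.Agent.H46.QuotTri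

attribute [local instance] HasDerivedCategory.standard

variable {A : Type u} [CommRing A] (I : Ideal A)

/-- `Hom_A(I, -)` on complexes -/
noncomputable abbrev homICx : DRing.Cx A ⥤ DRing.Cx A :=
  (homI I).mapHomologicalComplex (ComplexShape.up ℤ)

/-- `J ⟶ Hom_A(I, J)` -/
noncomputable def evCx (J : DRing.Cx A) : J ⟶ (homICx I).obj J where
  f n := (evI I).app (J.X n)
  comm' i j _ := ((evI I).naturality (J.d i j)).symm

/-- the short complex `Hom_A(A/I, J) → J → Hom_A(I, J)` of complexes -/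
noncomputable def SCx (J : DRing.Cx A) : ShortComplex (DRing.Cx A) :=
  ShortComplex.mk ((H5.KInjDer.adjC (adjM I) (ComplexShape.up ℤ)).counit.app J) (evCx I J) (by
    ext n : 1
    exact counit_comp_ev I (J.X n))

theorem shortExact_SCx (J : DRing.Cx A) [∀ n, Injective (J.X n)] : (SCx I J).ShortExact :=
  HomologicalComplex.shortExact_of_degreewise_shortExact _
    (fun n => shortExact_counit I (J.X n))

/-- `RHom_A(A/I, ω)` computed by a K-injective model -/
theorem nonempty_z (R : Dual.D A ⥤ Dual.D (A ⧸ I)) (adj : DRing.restrictD (qm I) ⊣ R)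
    (ω : Dual.D A) (J : DRing.Cx A) [J.IsKInjective] (e : Q.obj J ≅ ω) :
    Nonempty (Q.obj (((Fr I).mapHomologicalComplex (ComplexShape.up ℤ)).obj
      (((Gc I).mapHomologicalComplex (ComplexShape.up ℤ)).obj J)) ≅
      (DRing.restrictD (qm I)).obj (R.obj ω)) := by
  let X : CochainComplex (ModuleCat.{u} A) ℤ ⥤ Dual.D (A ⧸ I) :=
    (Gc I).mapHomologicalComplex (ComplexShape.up ℤ) ⋙ Q
  have hX := H5.KInjDer.inverts_map_Q (A := ModuleCat.{u} (A ⧸ I)) (Gc I)
  haveI := (H5.KInjDer.derives X hX).hasPointwiseRightDerivedFunctor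
  let RG := X.totalRightDerived Q (H5.KInjDer.Wq (ModuleCat.{u} A))
  let α : X ⟶ Q ⋙ RG := X.totalRightDerivedUnit Q (H5.KInjDer.Wq (ModuleCat.{u} A))
  obtain ⟨adjD, -⟩ := H5.KInjDer.exists_derivedAdj (adjM I) RG α
  let uniq : R ≅ RG := adj.rightAdjointUniq adjD
  haveI : IsIso (α.app J) := H5.KInjDer.isIso_app_of_isKInjective X hX α J
  let GJ := ((Gc I).mapHomologicalComplex (ComplexShape.up ℤ)).obj J
  exact ⟨((Fr I).mapDerivedCategoryFactors.app GJ).symm ≪≫
      (DRing.restrictD (qm I)).mapIso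
        ((asIso (α.app J)) ≪≫ RG.mapIso e ≪≫ (uniq.app ω).symm)⟩

end Groth.Agent.H46.QuotTri
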