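import Groth.Agent.H46.QuotTriB
import Groth.Agent.H46.HomInj

/-!
# `RHom_A(I, ω) ≅ Hom_A(I, E)[0]` for an ideal of finite length (helper46)
-/

set_option autoImplicit false
set_option linter.style.haveILetI false
set_option linter.unusedSectionVars false
universe u
open CategoryTheory CategoryTheory.Limits DerivedCategory Pretriangulated

namespace Groth.Agent.H46.QuotTri

attribute [local instance] HasDerivedCategory.standard

open Groth.Agent.H46.GammaKInj

variable {A : Type u} [CommRing A]

/-- a finite length module over a local ring is killed by a power of the maximal ideal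
(copied from helper71's `NITChain`) -/
lemma exists_pow_kill_of_isFiniteLength [IsLocalRing A] {M : Type*}
    [AddCommGroup M] [Module A M] (h : IsFiniteLength A M) :
    ∃ n : ℕ, ∀ a ∈ IsLocalRing.maximalIdeal A ^ n, ∀ x : M, a • x = 0 := by
  obtain ⟨hN, hA⟩ := isFiniteLength_iff_isNoetherian_isArtinian.1 h
  let f : ℕ →o (Submodule A M)ᵒᵈ :=
    ⟨fun n => OrderDual.toDual (IsLocalRing.maximalIdeal A ^ n • (⊤ : Submodule A M)),
      fun a b hab => by
      show IsLocalRing.maximalIdeal A ^ b • (⊤ : Submodule A M) ≤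
        IsLocalRing.maximalIdeal A ^ a • ⊤
      exact Submodule.smul_mono_left (Ideal.pow_le_pow_right hab)⟩
  obtain ⟨n, hn⟩ := IsArtinian.monotone_stabilizes f
  have h1 : IsLocalRing.maximalIdeal A ^ n • (⊤ : Submodule A M) =
      IsLocalRing.maximalIdeal A ^ (n + 1) • ⊤ :=
    congrArg OrderDual.ofDual (hn (n + 1) (Nat.le_succ n))
  have h2 : IsLocalRing.maximalIdeal A ^ n • (⊤ : Submodule A M) = ⊥ := by
    apply Submodule.eq_bot_of_le_smul_of_le_jacobson_bot (IsLocalRing.maximalIdeal A) _
      (IsNoetherian.noetherian _) _ (IsLocalRing.maximalIdeal_le_jacobson _)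
    conv_lhs => rw [h1, pow_succ', mul_smul]
  refine ⟨n, fun a ha x => ?_⟩
  have : a • x ∈ IsLocalRing.maximalIdeal A ^ n • (⊤ : Submodule A M) :=
    Submodule.smul_mem_smul ha Submodule.mem_top
  rw [h2] at this
  exact (Submodule.mem_bot _).1 this

/-- lifting an isomorphism in `D(A)` with K-injective target to a quasi-isomorphism -/
lemma exists_quasiIso_of_iso (G S : DRing.Cx A) [S.IsKInjective] (φ : Q.obj G ≅ Q.obj S) :
    ∃ a : G ⟶ S, QuasiIso a := by
  obtain ⟨ψ, hψ⟩ := (CochainComplex.IsKInjective.Qh_map_bijective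
    ((HomotopyCategory.quotient _ _).obj G) S).surjective
    ((quotientCompQhIso (ModuleCat.{u} A)).hom.app G ≫ φ.hom ≫
      (quotientCompQhIso (ModuleCat.{u} A)).inv.app S)
  obtain ⟨a, rfl⟩ := (HomotopyCategory.quotient _ _).map_surjective ψ
  refine ⟨a, ?_⟩
  have nat := (quotientCompQhIso (ModuleCat.{u} A)).hom.naturality a
  have h1 : Q.map a = φ.hom := by
    have h2 : (HomotopyCategory.quotient (ModuleCat.{u} A) (ComplexShape.up ℤ) ⋙ Qh).map a =
        Qh.map ((HomotopyCategory.quotient (ModuleCat.{u} A) (ComplexShape.up ℤ)).map a) := rfl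
    rw [← cancel_epi ((quotientCompQhIso (ModuleCat.{u} A)).hom.app G), ← nat, h2, hψ,
      Category.assoc, Category.assoc, Iso.inv_hom_id_app, Category.comp_id]
  have h3 : IsIso (Q.map a) := by
    rw [h1]
    infer_instance
  exact (isIso_Q_map_iff_quasiIso _ a).1 h3

variable (I : Ideal A)

/-- `Hom_A(I, Γ_m J) → Hom_A(I, J)` is an isomorphism of complexes when `I` has finite length -/
lemma isIso_homICx_gι [IsLocalRing A] (hIl : IsFiniteLength A I) (J : DRing.Cx A) :
    IsIso ((homICx I).map (gι (IsLocalRing.maximalIdeal A) J)) := by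
  obtain ⟨c, hc⟩ := exists_pow_kill_of_isFiniteLength hIl
  haveI : ∀ n, IsIso (((homICx I).map (gι (IsLocalRing.maximalIdeal A) J)).f n) := by
    intro n
    rw [ConcreteCategory.isIso_iff_bijective]
    constructor
    · intro h h' hhh'
      apply LinearMap.ext
      intro x
      apply Subtype.ext
      exact congrArg (fun t : I →ₗ[A] (J.X n) => t x) hhh'
    · intro h
      let h' : I →ₗ[A] (J.X n) := h
      have hmem : ∀ x : I, h' x ∈ DRing.torsionSub (IsLocalRing.maximalIdeal A) (J.X n) := by
        intro x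
        refine ⟨c, fun a ha => ?_⟩
        rw [← map_smul, hc a ha x, map_zero]
      refine ⟨LinearMap.codRestrict _ h' hmem, ?_⟩
      apply LinearMap.ext
      intro x
      rfl
  exact HomologicalComplex.Hom.isIso_of_components _

/-- `RHom_A(I, ω) ≅ Hom_A(I, E)[0]` -/
theorem nonempty_w [IsLocalRing A] [IsNoetherianRing A] (hIl : IsFiniteLength A I)
    [DRing.HasRgammaI (IsLocalRing.maximalIdeal A)]
    (J : DRing.Cx A) (a : ℤ) [J.IsStrictlyGE a] (hinj : ∀ n, Module.Injective A (J.X n))
    (E : Type u) [AddCommGroup E] [Module A E] [Module.Injective A E]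
    (eE : (DRing.RgammaI (IsLocalRing.maximalIdeal A)).obj (Q.obj J) ≅ Dual.inD A E) :
    Nonempty (Q.obj ((homICx I).obj J) ≅ Dual.inD A (I →ₗ[A] E)) := by
  haveI : ∀ n, Injective (J.X n) := fun n =>
    haveI := hinj n
    Module.injective_object_of_injective_module A (J.X n)
  haveI : J.IsKInjective := CochainComplex.isKInjective_of_injective J a
  set G : DRing.Cx A := (gCx (IsLocalRing.maximalIdeal A)).obj J with hG
  haveI : Injective (ModuleCat.of A E) := Module.injective_object_of_injective_module A E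
  haveI : ∀ n, Injective ((Groth.Agent.H46.HomInj.sCx (ModuleCat.of A E)).X n) :=
    Groth.Agent.H46.HomInj.injective_sCx_X (ModuleCat.of A E)
  haveI : (Groth.Agent.H46.HomInj.sCx (ModuleCat.of A E)).IsStrictlyGE 0 := by
    rw [CochainComplex.isStrictlyGE_iff]
    intro i hi
    exact Groth.Agent.H46.HomInj.isZero_sCx_X _ i (Or.inl hi)
  haveI : (Groth.Agent.H46.HomInj.sCx (ModuleCat.of A E)).IsKInjective :=
    CochainComplex.isKInjective_of_injective _ 0
  -- `G` is K-injective
  haveI : G.IsStrictlyGE a := by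
    rw [CochainComplex.isStrictlyGE_iff]
    intro i hi
    exact Functor.map_isZero (DRing.gammaI (IsLocalRing.maximalIdeal A))
      (J.isZero_of_isStrictlyGE a i hi)
  haveI : ∀ n, Injective (G.X n) := fun n => by
    haveI := hinj n
    haveI : Module.Injective A (DRing.torsionSub (IsLocalRing.maximalIdeal A) (J.X n)) :=
      Groth.Agent.H46.TorsInj.injective_torsionSub (IsLocalRing.maximalIdeal A) (J.X n)
    exact Module.injective_object_of_injective_module A _
  haveI : G.IsKInjective := CochainComplex.isKInjective_of_injective G a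
  -- the quasi-isomorphism `G ⟶ E[0]`
  let φ : Q.obj G ≅ Q.obj (Groth.Agent.H46.HomInj.sCx (ModuleCat.of A E)) :=
    (eΓ (IsLocalRing.maximalIdeal A) J).symm ≪≫ eE ≪≫
      (singleFunctorIsoCompQ (ModuleCat.{u} A) 0).app (ModuleCat.of A E)
  obtain ⟨α, hα⟩ := exists_quasiIso_of_iso G _ φ
  have hα' := (CochainComplex.IsKInjective.quasiIso_iff α).1 hα
  have h1 : IsIso (((homICx I) ⋙ Q).map α) :=
    H5.KInjDer.inverts_map_Q (A := ModuleCat.{u} A) (homI I) α hα'
  haveI : IsIso (Q.map ((homICx I).map α)) := h1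
  haveI := isIso_homICx_gι I hIl J
  let c := (HomologicalComplex.singleMapHomologicalComplex (homI I) (ComplexShape.up ℤ) 0).app
    (ModuleCat.of A E)
  exact ⟨(Q.mapIso (asIso ((homICx I).map (gι (IsLocalRing.maximalIdeal A) J)))).symm ≪≫
    asIso (Q.map ((homICx I).map α)) ≪≫ Q.mapIso c ≪≫
    ((singleFunctorIsoCompQ (ModuleCat.{u} A) 0).app ((homI I).obj (ModuleCat.of A E))).symm⟩

end Groth.Agent.H46.QuotTri
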