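import Groth.Agent.H46.QuotTriC
import Groth.Agent.H46.LDCa
import Groth.Agent.H46.RgammaRes

/-!
# The triangle `RHom_A(A/I, ω) → ω → Hom_A(I, E)[0]` for an ideal of finite length (helper46)
-/

set_option autoImplicit false
set_option linter.style.haveILetI false
set_option linter.unusedSectionVars false
universe u
open CategoryTheory CategoryTheory.Limits DerivedCategory Pretriangulated

namespace Groth.Agent.H46.QuotTri

attribute [local instance] HasDerivedCategory.standard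

theorem aux1 {C : Type*} [Category C] {X Y Z W : C} (a : X ⟶ Y) (b : Y ⟶ Z) (e : Z ≅ W) :
    (a ≫ b ≫ e.hom) ≫ e.inv = a ≫ b := by
  simp

theorem aux3 {C : Type*} [Category C] [HasShift C ℤ] {X Y Z W : C} (a : X ⟶ Y)
    (b : Y ⟶ Z⟦(1 : ℤ)⟧) (z : Z ≅ W) :
    (a ≫ b ≫ z.hom⟦(1 : ℤ)⟧') ≫ z.inv⟦(1 : ℤ)⟧' = a ≫ b := by
  rw [Category.assoc, Category.assoc, ← Functor.map_comp, z.hom_inv_id,
    CategoryTheory.Functor.map_id, Category.comp_id]

theorem main (A : Type u) [CommRing A] [IsLocalRing A] [IsNoetherianRing A] (ω : Dual.D A)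
    (hω : Dual.IsDualizing A ω) (hn : Dual.IsNormalized A ω) (I : Ideal A)
    (hIl : IsFiniteLength A I) (E : Type u) [AddCommGroup E] [Module A E]
    (e : IsLocalRing.ResidueField A →ₗ[A] E) (he : InjHull.IsInjectiveHull e)
    (R : Dual.D A ⥤ Dual.D (A ⧸ I)) (adj : DRing.restrictD (Ideal.Quotient.mk I) ⊣ R) :
    ∃ (u : (DRing.restrictD (Ideal.Quotient.mk I)).obj (R.obj ω) ⟶ ω)
      (v : ω ⟶ Dual.inD A (I →ₗ[A] E))
      (w : Dual.inD A (I →ₗ[A] E) ⟶
        ((DRing.restrictD (Ideal.Quotient.mk I)).obj (R.obj ω))⟦(1 : ℤ)⟧),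
      Triangle.mk u v w ∈ distinguishedTriangles := by
  haveI : DRing.HasRgammaI (IsLocalRing.maximalIdeal A) :=
    Groth.Agent.H46.RgammaRes.hasRgammaI _
  haveI : Module.Injective A E := he.isInjective
  obtain ⟨a, b, hab⟩ := hω.finite_injective_dimension
  have hamp : DRing.HasInjAmplitudeIn A a b ω := by
    apply Groth.Agent.H56.hasInjAmplitudeIn_of_cyclic
    intro I' i hi
    haveI := hab (A ⧸ I') i hi
    exact (Groth.Agent.H56.single_hom_shift_vanishing_iff (ModuleCat.of A (A ⧸ I')) ω i).1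
      (fun φ => Subsingleton.elim _ _)
  obtain ⟨J, hJ, hinjJ, ⟨eJ⟩⟩ := hamp
  haveI : J.IsStrictlyGE a := by
    rw [CochainComplex.isStrictlyGE_iff]
    intro i hi
    exact hJ i (Or.inl hi)
  haveI : ∀ n, Injective (J.X n) := fun n =>
    haveI := hinjJ n
    Module.injective_object_of_injective_module A (J.X n)
  haveI : J.IsKInjective := CochainComplex.isKInjective_of_injective J a
  obtain ⟨eE0⟩ := Groth.Agent.H46.LDC.nonempty_Rgamma_dualizing_iso A ω hω hn E e he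
  let eE : (DRing.RgammaI (IsLocalRing.maximalIdeal A)).obj (Q.obj J) ≅ Dual.inD A E :=
    (DRing.RgammaI (IsLocalRing.maximalIdeal A)).mapIso eJ ≪≫ eE0
  obtain ⟨z⟩ := nonempty_z I R adj ω J eJ
  obtain ⟨w⟩ := nonempty_w I hIl J a hinjJ E eE
  have hSE := shortExact_SCx I J
  have hdist := DerivedCategory.triangleOfSES_distinguished hSE
  refine ⟨z.inv ≫ Q.map (SCx I J).f ≫ eJ.hom, eJ.inv ≫ Q.map (SCx I J).g ≫ w.hom,
    w.inv ≫ triangleOfSESδ hSE ≫ z.hom⟦(1 : ℤ)⟧', ?_⟩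
  refine isomorphic_distinguished _ hdist _ (Triangle.isoMk _ _ z.symm eJ.symm w.symm ?_ ?_ ?_)
  · exact aux1 _ _ _
  · show (eJ.inv ≫ Q.map (SCx I J).g ≫ w.hom) ≫ w.inv = eJ.inv ≫ Q.map (SCx I J).g
    exact aux1 _ _ _
  · show (w.inv ≫ triangleOfSESδ hSE ≫ z.hom⟦(1 : ℤ)⟧') ≫ z.inv⟦(1 : ℤ)⟧' =
      w.inv ≫ triangleOfSESδ hSE
    exact aux3 _ _ _

end Groth.Agent.H46.QuotTri
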