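import Groth.Agent.H33.RHomCxKInj
import Groth.Agent.H35.DerCompKos2
import Groth.Agent.H35.DTenExact
import Groth.Agent.H5.FilKInj.Fib
import Groth.Agent.H6.QCoprod

/-!
# `RHom(K, -)` is weakly triangulated and `A`-linear (helper46)

For an arbitrary complex `K` with `DRing.HasRHomCx K`, the functor `G := DRing.RHomCx K` is computed
on K-injective complexes by `Hom•(K, -)` (helper33's `unitIso`).  We deduce:
* `exists_kinj_model` : a composable pair extending to a distinguished triangle is modelled by a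
  degreewise split short exact sequence of K-injective complexes;
* `shortExact_map_homCxFunctor` : `Hom•(K, -)` preserves degreewise split short exact sequences;
* `θ`, `θ_nat` : `G X ≅ Q(Hom•(K, I))` for `X ≅ Q I`, `I` K-injective, naturally;
* `DT_map` : `G` sends composable pairs extending to distinguished triangles to such pairs;
* `map_smul_id` : `G (a • 𝟙) = a • 𝟙`; `isZero_obj`;
* `isConeMul_map`, `isKos_map` : `G` commutes with iterated cones of multiplications.
No `CommShift` structure is constructed.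
-/

set_option autoImplicit false
set_option linter.unusedSectionVars false
universe u
open CategoryTheory CategoryTheory.Limits MonoidalCategory Pretriangulated
open CochainComplex.HomComplex
attribute [local instance] HasDerivedCategory.standard

namespace Groth.Agent.H46.RHomCxTri

open Groth.Agent.H35.TriChase Groth.Agent.H35.DerCompKos Groth.Agent.H33.RHomCxKInj
open DerivedCategory

variable {A : Type u} [CommRing A]

/-- the middle term of a degreewise split short exact sequence with K-injective ends is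
K-injective. -/
theorem isKInjective_X₂_of_split (S : ShortComplex (DRing.Cx A))
    (σ : ∀ n : ℤ, (S.map (HomologicalComplex.eval (ModuleCat.{u} A)
      (ComplexShape.up ℤ) n)).Splitting)
    [S.X₁.IsKInjective] [S.X₃.IsKInjective] : S.X₂.IsKInjective := by
  rw [CochainComplex.isKInjective_iff_rightOrthogonal]
  exact ObjectProperty.ext_of_isTriangulatedClosed₂ _ _
    (Groth.Agent.H5.FilKInj.distinguished_of_split S σ)
    (CochainComplex.IsKInjective.rightOrthogonal S.X₁)
    (CochainComplex.IsKInjective.rightOrthogonal S.X₃)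

/-- A pair extending to a distinguished triangle is modelled by a degreewise split short exact
sequence of K-injective complexes. -/
lemma exists_kinj_model {a b c : Dual.D A} (p : a ⟶ b) (q : b ⟶ c) (h : DT p q) :
    ∃ (S : ShortComplex (DRing.Cx A))
      (_ : ∀ n : ℤ, (S.map (HomologicalComplex.eval (ModuleCat.{u} A)
        (ComplexShape.up ℤ) n)).Splitting)
      (_ : S.X₁.IsKInjective) (_ : S.X₂.IsKInjective) (_ : S.X₃.IsKInjective)
      (e₁ : a ≅ Q.obj S.X₁) (e₂ : b ≅ Q.obj S.X₂) (e₃ : c ≅ Q.obj S.X₃),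
      p ≫ e₂.hom = e₁.hom ≫ Q.map S.f ∧ q ≫ e₃.hom = e₂.hom ≫ Q.map S.g := by
  obtain ⟨r, hT⟩ := h
  obtain ⟨Y, hY, ⟨ea'⟩⟩ := Groth.Agent.H6.QCoprod.exists_model a
  obtain ⟨X, hX, ⟨eX'⟩⟩ := Groth.Agent.H6.QCoprod.exists_model (c⟦(-1 : ℤ)⟧)
  let ea : a ≅ Q.obj Y := ea'.symm
  let eX : c⟦(-1 : ℤ)⟧ ≅ Q.obj X := eX'.symm
  haveI := hY
  haveI := hX
  have hT' := inv_rot_of_distTriang _ hT
  obtain ⟨f, hf⟩ := Groth.Agent.H6.QCoprod.exists_lift X Y
    (eX.inv ≫ (Triangle.mk p q r).invRotate.mor₁ ≫ ea.hom)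
  have hT'' : Q.mapTriangle.obj (CochainComplex.mappingCone.triangle f) ∈ distTriang _ :=
    (DerivedCategory.mem_distTriang_iff _).2 ⟨X, Y, f, ⟨Iso.refl _⟩⟩
  let e := isoTriangleOfIso₁₂ _ _ hT' hT'' eX ea (by
    show (Triangle.mk p q r).invRotate.mor₁ ≫ ea.hom = eX.hom ≫ Q.map f
    rw [hf, Iso.hom_inv_id_assoc]
    rfl)
  let e₁ : a ≅ Q.obj Y := Triangle.π₂.mapIso e
  let e₂ : b ≅ Q.obj (CochainComplex.mappingCone f) := Triangle.π₃.mapIso e
  let e₁' : c⟦(-1 : ℤ)⟧ ≅ Q.obj X := Triangle.π₁.mapIso e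
  let e₃ : c ≅ Q.obj (X⟦(1 : ℤ)⟧) :=
    ((shiftEquiv (Dual.D A) (1 : ℤ)).counitIso.app c).symm ≪≫
      (shiftFunctor (Dual.D A) (1 : ℤ)).mapIso e₁' ≪≫
      ((Q.commShiftIso (1 : ℤ)).app X).symm
  have h₁ : (CochainComplex.mappingCone.triangleRotateShortComplex f).X₁.IsKInjective := hY
  have h₃ : (CochainComplex.mappingCone.triangleRotateShortComplex f).X₃.IsKInjective :=
    (inferInstance : (X⟦(1 : ℤ)⟧).IsKInjective)
  have h₂ : (CochainComplex.mappingCone.triangleRotateShortComplex f).X₂.IsKInjective :=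
    isKInjective_X₂_of_split _
      (CochainComplex.mappingCone.triangleRotateShortComplexSplitting f)
  refine ⟨CochainComplex.mappingCone.triangleRotateShortComplex f,
    CochainComplex.mappingCone.triangleRotateShortComplexSplitting f, h₁, h₂, h₃,
    e₁, e₂, e₃, e.hom.comm₂, ?_⟩
  have c3 := e.hom.comm₃
  have c3' : (q ≫ (shiftEquiv (Dual.D A) (1 : ℤ)).counitIso.inv.app c) ≫
      (shiftFunctor (Dual.D A) (1 : ℤ)).map e₁'.hom =
      e₂.hom ≫ Q.map (CochainComplex.mappingCone.triangle f).mor₃ ≫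
        (Q.commShiftIso (1 : ℤ)).hom.app X := c3
  refine (Category.assoc _ _ _).symm.trans ((Category.assoc _ _ _).symm.trans
    ((congrArg (fun z => z ≫ (Q.commShiftIso (1 : ℤ)).inv.app X) c3').trans ?_))
  exact Groth.Agent.H35.DTenExact.comm_aux₂ _ _ ((Q.commShiftIso (1 : ℤ)).app X)

lemma homCxMap_zero (K : DRing.Cx A) (L L' : DRing.Cx A) :
    DRing.homCxMap K (0 : L ⟶ L') = 0 := by
  refine HomologicalComplex.hom_ext _ _ (fun i => ModuleCat.hom_ext
    (LinearMap.ext (fun (z : Cochain K L i) => ?_)))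
  show z.comp (Cochain.ofHom (0 : L ⟶ L')) (add_zero i) = 0
  rw [Cochain.ofHom_zero, Cochain.comp_zero]

instance (K : DRing.Cx A) : (DRing.homCxFunctor K).PreservesZeroMorphisms :=
  ⟨fun L L' => homCxMap_zero K L L'⟩

lemma inv_nat_aux {C : Type*} [Category C] {X X' Y Y' : C} (u : X ⟶ Y) (u' : X' ⟶ Y')
    [IsIso u] [IsIso u'] (g : X ⟶ X') (h : Y ⟶ Y') (nat : g ≫ u' = u ≫ h) :
    h ≫ inv u' = inv u ≫ g := by
  rw [IsIso.comp_inv_eq, Category.assoc, IsIso.eq_inv_comp, nat]

/-- `Hom•(K, -)` preserves degreewise split short exact sequences. -/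
theorem shortExact_map_homCxFunctor (K : DRing.Cx A) (S : ShortComplex (DRing.Cx A))
    (σ : ∀ n : ℤ, (S.map (HomologicalComplex.eval (ModuleCat.{u} A)
      (ComplexShape.up ℤ) n)).Splitting) : (S.map (DRing.homCxFunctor K)).ShortExact := by
  obtain ⟨r, s, fr, sg, hid⟩ : ∃ (r : ∀ p, S.X₂.X p ⟶ S.X₁.X p) (s : ∀ p, S.X₃.X p ⟶ S.X₂.X p),
      (∀ p, S.f.f p ≫ r p = 𝟙 (S.X₁.X p)) ∧ (∀ p, s p ≫ S.g.f p = 𝟙 (S.X₃.X p)) ∧
      (∀ p, r p ≫ S.f.f p + S.g.f p ≫ s p = 𝟙 (S.X₂.X p)) :=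
    ⟨fun p => (σ p).r, fun p => (σ p).s, fun p => (σ p).f_r, fun p => (σ p).s_g,
      fun p => (σ p).id⟩
  rw [HomologicalComplex.shortExact_iff_degreewise_shortExact]
  intro n
  have hmono : Mono ((S.map (DRing.homCxFunctor K)).map (HomologicalComplex.eval (ModuleCat.{u} A)
      (ComplexShape.up ℤ) n)).f := by
    rw [ModuleCat.mono_iff_injective]
    intro (z : Cochain K S.X₁ n) (z' : Cochain K S.X₁ n) hz
    have hz' : z.comp (Cochain.ofHom S.f) (add_zero n) = z'.comp (Cochain.ofHom S.f) (add_zero n) :=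
      hz
    refine Cochain.ext _ _ (fun p q hpq => ?_)
    have h1 := Cochain.congr_v hz' p q hpq
    rw [Cochain.comp_zero_cochain_v, Cochain.comp_zero_cochain_v, Cochain.ofHom_v] at h1
    have h2 : (z.v p q hpq ≫ S.f.f q) ≫ r q = (z'.v p q hpq ≫ S.f.f q) ≫ r q := by rw [h1]
    rwa [Category.assoc, Category.assoc, fr, Category.comp_id, Category.comp_id] at h2
  have hepi : Epi ((S.map (DRing.homCxFunctor K)).map (HomologicalComplex.eval (ModuleCat.{u} A)
      (ComplexShape.up ℤ) n)).g := by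
    rw [ModuleCat.epi_iff_surjective]
    intro (w : Cochain K S.X₃ n)
    refine ⟨(Cochain.mk (fun p q hpq => w.v p q hpq ≫ s q) : Cochain K S.X₂ n), ?_⟩
    show (Cochain.mk (fun p q hpq => w.v p q hpq ≫ s q) : Cochain K S.X₂ n).comp
      (Cochain.ofHom S.g) (add_zero n) = w
    refine Cochain.ext _ _ (fun p q hpq => ?_)
    rw [Cochain.comp_zero_cochain_v, Cochain.ofHom_v, Cochain.mk_v, Category.assoc, sg,
      Category.comp_id]
  have hex : ((S.map (DRing.homCxFunctor K)).map (HomologicalComplex.eval (ModuleCat.{u} A)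
      (ComplexShape.up ℤ) n)).Exact := by
    rw [ShortComplex.moduleCat_exact_iff]
    intro (z : Cochain K S.X₂ n) hz
    have hz' : z.comp (Cochain.ofHom S.g) (add_zero n) = 0 := hz
    refine ⟨(Cochain.mk (fun p q hpq => z.v p q hpq ≫ r q) : Cochain K S.X₁ n), ?_⟩
    show (Cochain.mk (fun p q hpq => z.v p q hpq ≫ r q) : Cochain K S.X₁ n).comp
      (Cochain.ofHom S.f) (add_zero n) = z
    refine Cochain.ext _ _ (fun p q hpq => ?_)
    have h1 := Cochain.congr_v hz' p q hpq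
    rw [Cochain.comp_zero_cochain_v, Cochain.ofHom_v, Cochain.zero_v] at h1
    rw [Cochain.comp_zero_cochain_v, Cochain.ofHom_v, Cochain.mk_v, Category.assoc]
    have h2 : r q ≫ S.f.f q = 𝟙 _ - S.g.f q ≫ s q := by
      rw [← hid q, add_sub_cancel_right]
    rw [h2, Preadditive.comp_sub, Category.comp_id, ← Category.assoc, h1, zero_comp, sub_zero]
  exact ShortComplex.ShortExact.mk' hex hmono hepi

section G

variable (K : DRing.Cx A) [DRing.HasRHomCx K]

/-- naturality of helper33's `unitIso`. -/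
lemma unitIso_nat {I I' : DRing.Cx A} [I.IsKInjective] [I'.IsKInjective] (f : I ⟶ I') :
    (DRing.RHomCx K).map (Q.map f) ≫ (unitIso K I').hom =
      (unitIso K I).hom ≫ Q.map (DRing.homCxMap K f) := by
  haveI := isIso_unit_app K I
  haveI := isIso_unit_app K I'
  have nat := ((DRing.homCxQ K).totalRightDerivedUnit DerivedCategory.Q
      (HomologicalComplex.quasiIso (ModuleCat.{u} A) (ComplexShape.up ℤ))).naturality f
  show (DRing.RHomCx K).map (Q.map f) ≫ inv (((DRing.homCxQ K).totalRightDerivedUnit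
      DerivedCategory.Q (HomologicalComplex.quasiIso (ModuleCat.{u} A)
        (ComplexShape.up ℤ))).app I') =
    inv (((DRing.homCxQ K).totalRightDerivedUnit DerivedCategory.Q
      (HomologicalComplex.quasiIso (ModuleCat.{u} A) (ComplexShape.up ℤ))).app I) ≫
      Q.map (DRing.homCxMap K f)
  exact inv_nat_aux _ _ _ _ nat

/-- For `I` K-injective and `a ≅ Q I`: `RHom(K, a) ≅ Q(Hom•(K, I))`. -/
noncomputable def θ {a : Dual.D A} {I : DRing.Cx A} [I.IsKInjective] (e : a ≅ Q.obj I) :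
    (DRing.RHomCx K).obj a ≅ Q.obj (DRing.homCx K I) :=
  (DRing.RHomCx K).mapIso e ≪≫ unitIso K I

lemma θ_hom {a : Dual.D A} {I : DRing.Cx A} [I.IsKInjective] (e : a ≅ Q.obj I) :
    (θ K e).hom = (DRing.RHomCx K).map e.hom ≫ (unitIso K I).hom := rfl

lemma θ_nat {a a' : Dual.D A} {I I' : DRing.Cx A} [I.IsKInjective] [I'.IsKInjective]
    (e : a ≅ Q.obj I) (e' : a' ≅ Q.obj I') (p : a ⟶ a') (f : I ⟶ I')
    (hpf : p ≫ e'.hom = e.hom ≫ Q.map f) :
    (DRing.RHomCx K).map p ≫ (θ K e').hom = (θ K e).hom ≫ Q.map (DRing.homCxMap K f) := by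
  rw [θ_hom, θ_hom, Category.assoc, ← unitIso_nat, ← Category.assoc, ← Category.assoc,
    ← Functor.map_comp, ← Functor.map_comp, hpf]

/-- `RHom(K, -)` sends pairs extending to distinguished triangles to such pairs. -/
theorem DT_map {a b c : Dual.D A} (p : a ⟶ b) (q : b ⟶ c) (h : DT p q) :
    DT ((DRing.RHomCx K).map p) ((DRing.RHomCx K).map q) := by
  obtain ⟨S, σ, h₁, h₂, h₃, e₁, e₂, e₃, c1, c2⟩ := exists_kinj_model p q h
  haveI := h₁
  haveI := h₂
  haveI := h₃
  have hS' : (S.map (DRing.homCxFunctor K)).ShortExact := shortExact_map_homCxFunctor K S σ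
  have n1 := θ_nat K e₁ e₂ p S.f c1
  have n2 := θ_nat K e₂ e₃ q S.g c2
  have hd := DerivedCategory.triangleOfSES_distinguished hS'
  refine ⟨(θ K e₃).hom ≫ DerivedCategory.triangleOfSESδ hS' ≫
    (θ K e₁).inv⟦(1 : ℤ)⟧', isomorphic_distinguished _ hd _ ?_⟩
  refine Triangle.isoMk _ _ (θ K e₁) (θ K e₂) (θ K e₃) ?_ ?_ ?_
  · exact n1
  · exact n2
  · exact Groth.Agent.H35.DTenExact.comm₃_aux _ _ _ _

omit [DRing.HasRHomCx K] in
lemma homCxMap_smul_id (r : A) (I : DRing.Cx A) :
    DRing.homCxMap K (r • 𝟙 I) = r • 𝟙 (DRing.homCx K I) := by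
  refine HomologicalComplex.hom_ext _ _ (fun i => ModuleCat.hom_ext
    (LinearMap.ext (fun (z : Cochain K I i) => ?_)))
  show z.comp (Cochain.ofHom (r • 𝟙 I)) (add_zero i) = r • z
  refine Cochain.ext _ _ (fun p q hpq => ?_)
  rw [Cochain.comp_zero_cochain_v, Cochain.ofHom_v, Cochain.smul_v,
    HomologicalComplex.smul_f_apply, HomologicalComplex.id_f, Linear.comp_smul, Category.comp_id]

/-- `RHom(K, -)` is `A`-linear on scalar multiples of identities. -/
theorem map_smul_id (r : A) (X : Dual.D A) :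
    (DRing.RHomCx K).map (r • 𝟙 X) = r • 𝟙 ((DRing.RHomCx K).obj X) := by
  obtain ⟨I, hI, ⟨e'⟩⟩ := Groth.Agent.H6.QCoprod.exists_model X
  haveI := hI
  let e : X ≅ Q.obj I := e'.symm
  have hpf : (r • 𝟙 X) ≫ e.hom = e.hom ≫ Q.map (r • 𝟙 I) := by
    rw [Functor.map_smul, CategoryTheory.Functor.map_id, Linear.smul_comp, Linear.comp_smul,
      Category.id_comp, Category.comp_id]
  have h := θ_nat K e e (r • 𝟙 X) (r • 𝟙 I) hpf
  rw [homCxMap_smul_id, Functor.map_smul (F := DerivedCategory.Q),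
    CategoryTheory.Functor.map_id, Linear.comp_smul, Category.comp_id] at h
  rw [← cancel_mono (θ K e).hom, h, Linear.smul_comp, Category.id_comp]

theorem isZero_obj {X : Dual.D A} (hX : IsZero X) : IsZero ((DRing.RHomCx K).obj X) := by
  rw [IsZero.iff_id_eq_zero]
  have h1 : 𝟙 X = (0 : A) • 𝟙 X := by rw [zero_smul]; exact hX.eq_of_src _ _
  have h2 := map_smul_id K 0 X
  rw [← h1, CategoryTheory.Functor.map_id, zero_smul] at h2
  exact h2

theorem isConeMul_map {f : A} {Z Z' : Dual.D A} (h : IsConeMul f Z Z') :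
    IsConeMul f ((DRing.RHomCx K).obj Z) ((DRing.RHomCx K).obj Z') := by
  obtain ⟨p, d, hT⟩ := h
  obtain ⟨r, hr⟩ := DT_map K (f • 𝟙 Z) p ⟨d, hT⟩
  rw [map_smul_id K] at hr
  exact ⟨_, r, hr⟩

theorem isKos_map (l : List A) : ∀ {Z Z' : Dual.D A},
    IsKos l Z Z' → IsKos l ((DRing.RHomCx K).obj Z) ((DRing.RHomCx K).obj Z') := by
  induction l with
  | nil => intro Z Z' ⟨e⟩; exact ⟨(DRing.RHomCx K).mapIso e⟩
  | cons f l ih =>
    intro Z Z' ⟨Z₁, h₁, h'⟩
    exact ⟨_, isConeMul_map K h₁, ih h'⟩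

end G

end Groth.Agent.H46.RHomCxTri
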