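import Mathlib

/-!
# Rado's theorem for vector families and the base covering theorem (Edmonds / Rado–Horn)

* `rado` : a finite family of finite sets of vectors has a linearly independent transversal
  as soon as every subfamily spans a subspace of dimension at least its size.
* `covering` : vectors `x e` with multiplicities `w e` can be covered by `k` independent sets,
  each `e` used exactly `w e` times, as soon as `w(B) ≤ k · dim span x(B)` for all `B`.
* `covering_bases` : if moreover `w(E) = k · dim V`, all the independent sets are bases.
* `sum_card_inter` : double counting for multisets of finsets.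
-/

namespace Groth.Agent.H46.Rado

open Module

section rado

variable {K : Type*} [Field K] {W : Type*} [AddCommGroup W] [Module K W] [FiniteDimensional K W]

/-- The set of vectors covered by an index set. -/
def cov {ι : Type*} (A : ι → Finset W) (J : Finset ι) : Set W := ⋃ i ∈ J, (A i : Set W)

theorem mem_cov {ι : Type*} {A : ι → Finset W} {J : Finset ι} {w : W} :
    w ∈ cov A J ↔ ∃ i ∈ J, w ∈ A i := by
  simp [cov]

theorem rado_aux {ι : Type*} [Fintype ι] [DecidableEq ι] [DecidableEq W] :
    ∀ (s : ℕ) (A : ι → Finset W), (∑ i, (A i).card = s) →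
    (∀ J : Finset ι, J.card ≤ finrank K (Submodule.span K (cov A J))) →
    ∃ f : ι → W, (∀ i, f i ∈ A i) ∧ LinearIndependent K f := by
  intro s
  induction s using Nat.strong_induction_on with
  | _ s ih =>
  intro A hs h
  by_cases hall : ∀ i, (A i).card ≤ 1
  · -- all singletons
    have hne : ∀ i, (A i).Nonempty := by
      intro i
      by_contra hemp
      rw [Finset.not_nonempty_iff_eq_empty] at hemp
      have := h {i}
      have hc : cov A {i} = ∅ := by
        ext w
        simp [mem_cov, hemp]
      rw [hc] at this
      simp at this
    choose f hf using hne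
    refine ⟨f, hf, ?_⟩
    have hAi : ∀ i, A i = {f i} := by
      intro i
      have h1 : (A i).card = 1 := le_antisymm (hall i) (Finset.card_pos.mpr ⟨f i, hf i⟩)
      obtain ⟨a, ha⟩ := Finset.card_eq_one.mp h1
      have : f i = a := by
        have := hf i
        rw [ha] at this
        simpa using this
      rw [ha, this]
    rw [linearIndependent_iff_card_le_finrank_span]
    have := h Finset.univ
    have hcov : cov A Finset.univ = Set.range f := by
      ext w
      rw [mem_cov]
      constructor
      · rintro ⟨i, -, hi⟩
        rw [hAi i] at hi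
        exact ⟨i, (Finset.mem_singleton.mp hi).symm⟩
      · rintro ⟨i, rfl⟩
        exact ⟨i, Finset.mem_univ _, hf i⟩
    rw [hcov] at this
    simpa [Set.finrank] using this
  · push Not at hall
    obtain ⟨i₀, hi₀⟩ := hall
    obtain ⟨u, hu, v, hv, huv⟩ := Finset.one_lt_card.mp hi₀
    have key : (∀ J : Finset ι, J.card ≤
          finrank K (Submodule.span K (cov (Function.update A i₀ ((A i₀).erase u)) J))) ∨
        (∀ J : Finset ι, J.card ≤
          finrank K (Submodule.span K (cov (Function.update A i₀ ((A i₀).erase v)) J))) := by
      by_contra hcon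
      push Not at hcon
      obtain ⟨⟨J, hJ⟩, ⟨J', hJ'⟩⟩ := hcon
      -- i₀ belongs to both
      have hmemJ : ∀ (a : W) (J : Finset ι),
          finrank K (Submodule.span K (cov (Function.update A i₀ ((A i₀).erase a)) J)) < J.card →
          i₀ ∈ J := by
        intro a J hJ
        by_contra hnot
        have : cov (Function.update A i₀ ((A i₀).erase a)) J = cov A J := by
          ext w
          rw [mem_cov, mem_cov]
          constructor
          · rintro ⟨i, hi, hw⟩
            have hne : i ≠ i₀ := by rintro rfl; exact hnot hi
            rw [Function.update_of_ne hne] at hw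
            exact ⟨i, hi, hw⟩
          · rintro ⟨i, hi, hw⟩
            have hne : i ≠ i₀ := by rintro rfl; exact hnot hi
            refine ⟨i, hi, ?_⟩
            rw [Function.update_of_ne hne]
            exact hw
        rw [this] at hJ
        exact absurd (h J) (not_le.mpr hJ)
      have h0J := hmemJ u J hJ
      have h0J' := hmemJ v J' hJ'
      set P := Submodule.span K (cov (Function.update A i₀ ((A i₀).erase u)) J) with hP
      set Q := Submodule.span K (cov (Function.update A i₀ ((A i₀).erase v)) J') with hQ
      have h1 : Submodule.span K (cov A (J ∪ J')) ≤ P ⊔ Q := by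
        rw [Submodule.span_le]
        intro w hw
        rw [mem_cov] at hw
        obtain ⟨i, hi, hw⟩ := hw
        by_cases hii : i = i₀
        · subst hii
          by_cases hwu : w = u
          · -- w = u ≠ v
            apply (le_sup_right : Q ≤ P ⊔ Q)
            apply Submodule.subset_span
            rw [mem_cov]
            refine ⟨i, h0J', ?_⟩
            rw [Function.update_self]
            rw [Finset.mem_erase]
            exact ⟨by rw [hwu]; exact huv, hw⟩
          · apply (le_sup_left : P ≤ P ⊔ Q)
            apply Submodule.subset_span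
            rw [mem_cov]
            refine ⟨i, h0J, ?_⟩
            rw [Function.update_self]
            rw [Finset.mem_erase]
            exact ⟨hwu, hw⟩
        · rcases Finset.mem_union.mp hi with hi | hi
          · apply (le_sup_left : P ≤ P ⊔ Q)
            apply Submodule.subset_span
            rw [mem_cov]
            refine ⟨i, hi, ?_⟩
            rw [Function.update_of_ne hii]
            exact hw
          · apply (le_sup_right : Q ≤ P ⊔ Q)
            apply Submodule.subset_span
            rw [mem_cov]
            refine ⟨i, hi, ?_⟩
            rw [Function.update_of_ne hii]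
            exact hw
      have h2 : Submodule.span K (cov A ((J ∩ J').erase i₀)) ≤ P ⊓ Q := by
        rw [Submodule.span_le]
        intro w hw
        rw [mem_cov] at hw
        obtain ⟨i, hi, hw⟩ := hw
        rw [Finset.mem_erase, Finset.mem_inter] at hi
        obtain ⟨hii, hiJ, hiJ'⟩ := hi
        refine ⟨?_, ?_⟩
        · apply Submodule.subset_span
          rw [mem_cov]
          refine ⟨i, hiJ, ?_⟩
          rw [Function.update_of_ne hii]
          exact hw
        · apply Submodule.subset_span
          rw [mem_cov]
          refine ⟨i, hiJ', ?_⟩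
          rw [Function.update_of_ne hii]
          exact hw
      have e1 := (h (J ∪ J')).trans (Submodule.finrank_mono h1)
      have e2 := (h ((J ∩ J').erase i₀)).trans (Submodule.finrank_mono h2)
      have e3 := Submodule.finrank_sup_add_finrank_inf_eq P Q
      have e4 := Finset.card_union_add_card_inter J J'
      have e5 : ((J ∩ J').erase i₀).card = (J ∩ J').card - 1 :=
        Finset.card_erase_of_mem (Finset.mem_inter.mpr ⟨h0J, h0J'⟩)
      have e6 : 0 < (J ∩ J').card := Finset.card_pos.mpr ⟨i₀, Finset.mem_inter.mpr ⟨h0J, h0J'⟩⟩
      omega
    have hlt : ∀ a ∈ A i₀, ∑ i, ((Function.update A i₀ ((A i₀).erase a)) i).card < s := by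
      intro a ha
      rw [← hs]
      apply Finset.sum_lt_sum
      · intro i _
        by_cases hii : i = i₀
        · subst hii
          rw [Function.update_self]
          exact Finset.card_erase_le
        · rw [Function.update_of_ne hii]
      · refine ⟨i₀, Finset.mem_univ _, ?_⟩
        rw [Function.update_self]
        exact Finset.card_erase_lt_of_mem ha
    have hsub : ∀ a, ∀ i, (Function.update A i₀ ((A i₀).erase a)) i ⊆ A i := by
      intro a i
      by_cases hii : i = i₀
      · subst hii
        rw [Function.update_self]
        exact Finset.erase_subset _ _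
      · rw [Function.update_of_ne hii]
    rcases key with hk | hk
    · obtain ⟨f, hf, hfl⟩ := ih _ (hlt u hu) _ rfl hk
      exact ⟨f, fun i => hsub u i (hf i), hfl⟩
    · obtain ⟨f, hf, hfl⟩ := ih _ (hlt v hv) _ rfl hk
      exact ⟨f, fun i => hsub v i (hf i), hfl⟩

/-- **Rado's theorem** for families of finite sets of vectors. -/
theorem rado {ι : Type*} [Fintype ι] [DecidableEq ι] [DecidableEq W] (A : ι → Finset W)
    (h : ∀ J : Finset ι, J.card ≤ finrank K (Submodule.span K (cov A J))) :
    ∃ f : ι → W, (∀ i, f i ∈ A i) ∧ LinearIndependent K f :=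
  rado_aux _ A rfl h

end rado

section covering

variable {K : Type*} [Field K] {V : Type*} [AddCommGroup V] [Module K V] [FiniteDimensional K V]

/-- **Base covering theorem** (Edmonds; Rado–Horn for vector families). -/
theorem covering {E : Type*} [Fintype E] [DecidableEq E] (x : E → V) (w : E → ℕ) (k : ℕ)
    (h : ∀ B : Finset E,
      ∑ e ∈ B, w e ≤ k * finrank K (Submodule.span K (x '' (B : Set E)))) :
    ∃ I : Fin k → Finset E, (∀ t, LinearIndependent K (fun e : I t => x e)) ∧
      ∀ e, (Finset.univ.filter (fun t => e ∈ I t)).card = w e := by
  classical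
  let A : (Σ e : E, Fin (w e)) → Finset (Fin k → V) :=
    fun i => Finset.univ.image (fun t : Fin k => Pi.single t (x i.1))
  have hA : ∀ J : Finset (Σ e : E, Fin (w e)),
      J.card ≤ finrank K (Submodule.span K (cov A J)) := by
    intro J
    set B : Finset E := J.image Sigma.fst with hB
    have h1 : J.card ≤ ∑ e ∈ B, w e := by
      have hsub : J ⊆ B.sigma (fun e => (Finset.univ : Finset (Fin (w e)))) := by
        intro i hi
        rw [Finset.mem_sigma]
        exact ⟨Finset.mem_image_of_mem _ hi, Finset.mem_univ _⟩
      calc J.card ≤ (B.sigma (fun e => (Finset.univ : Finset (Fin (w e))))).card :=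
            Finset.card_le_card hsub
        _ = ∑ e ∈ B, w e := by rw [Finset.card_sigma]; simp
    set S : Submodule K V := Submodule.span K (x '' (B : Set E)) with hS
    have h2 : k * finrank K S ≤ finrank K (Submodule.span K (cov A J)) := by
      let Φ : (Fin k → S) →ₗ[K] (Fin k → V) :=
        LinearMap.pi (fun t => S.subtype ∘ₗ LinearMap.proj t)
      have hΦinj : Function.Injective Φ := by
        intro a b hab
        funext t
        apply Subtype.ext
        exact congrFun hab t
      have hrange : LinearMap.range Φ ≤ Submodule.span K (cov A J) := by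
        rintro _ ⟨a, rfl⟩
        have hsum : Φ a = ∑ t, Pi.single t ((a t : V)) := by
          funext t'
          simp [Φ, Finset.sum_apply, Pi.single_apply]
        rw [hsum]
        refine Submodule.sum_mem _ (fun t _ => ?_)
        have hmem : (a t : V) ∈ S := (a t).2
        have hmapS : ∀ v ∈ S, (Pi.single t v : Fin k → V) ∈ Submodule.span K (cov A J) := by
          intro v hv
          have hmap : Pi.single t v ∈
              Submodule.map (LinearMap.single K (fun _ : Fin k => V) t) S := ⟨_, hv, rfl⟩
          rw [hS, Submodule.map_span] at hmap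
          refine Submodule.span_mono ?_ hmap
          rintro _ ⟨_, ⟨e, he, rfl⟩, rfl⟩
          rw [Finset.mem_coe, hB, Finset.mem_image] at he
          obtain ⟨i, hi, rfl⟩ := he
          rw [mem_cov]
          refine ⟨i, hi, ?_⟩
          simp only [A, Finset.mem_image, Finset.mem_univ, true_and]
          exact ⟨t, rfl⟩
        exact hmapS _ hmem
      calc k * finrank K S = finrank K (Fin k → S) := by
            rw [Module.finrank_pi_fintype]; simp
        _ = finrank K (LinearMap.range Φ) := (LinearMap.finrank_range_of_inj hΦinj).symm
        _ ≤ _ := Submodule.finrank_mono hrange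
    exact h1.trans ((h B).trans h2)
  obtain ⟨f, hf, hfl⟩ := rado (K := K) A hA
  have hτ : ∀ i : (Σ e : E, Fin (w e)), ∃ t : Fin k, f i = Pi.single t (x i.1) := by
    intro i
    have := hf i
    simp only [A, Finset.mem_image, Finset.mem_univ, true_and] at this
    obtain ⟨t, ht⟩ := this
    exact ⟨t, ht.symm⟩
  choose τ hτ using hτ
  have hτinj : ∀ e, Function.Injective (fun c : Fin (w e) => τ ⟨e, c⟩) := by
    intro e c c' hcc
    simp only at hcc
    have hff : f ⟨e, c⟩ = f ⟨e, c'⟩ := by rw [hτ, hτ, hcc]
    have := hfl.injective hff
    simpa using this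
  refine ⟨fun t => Finset.univ.filter (fun e => ∃ c, τ ⟨e, c⟩ = t), ?_, ?_⟩
  · intro t
    have hc : ∀ e : {e // e ∈ Finset.univ.filter (fun e => ∃ c, τ ⟨e, c⟩ = t)},
        ∃ c, τ ⟨e.1, c⟩ = t := by
      intro e
      exact (Finset.mem_filter.mp e.2).2
    choose c hc using hc
    have hg : Function.Injective
        (fun e : {e // e ∈ Finset.univ.filter (fun e => ∃ c, τ ⟨e, c⟩ = t)} =>
          (⟨e.1, c e⟩ : Σ e : E, Fin (w e))) := by
      intro a b hab
      apply Subtype.ext
      exact congrArg Sigma.fst hab
    have hcomp := hfl.comp _ hg
    have heq : (LinearMap.single K (fun _ : Fin k => V) t) ∘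
        (fun e : {e // e ∈ Finset.univ.filter (fun e => ∃ c, τ ⟨e, c⟩ = t)} => x e.1) =
        f ∘ (fun e : {e // e ∈ Finset.univ.filter (fun e => ∃ c, τ ⟨e, c⟩ = t)} =>
          (⟨e.1, c e⟩ : Σ e : E, Fin (w e))) := by
      funext e
      simp only [Function.comp]
      rw [hτ, hc]
      rfl
    exact LinearIndependent.of_comp (LinearMap.single K (fun _ : Fin k => V) t)
      (by rw [heq]; exact hcomp)
  · intro e
    have : (Finset.univ.filter
        (fun t => e ∈ Finset.univ.filter (fun e => ∃ c, τ ⟨e, c⟩ = t))) =
        Finset.univ.image (fun c : Fin (w e) => τ ⟨e, c⟩) := by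
      ext t
      simp
    rw [this, Finset.card_image_of_injective _ (hτinj e)]
    simp

/-- If the total weight is `k · dim V`, the covering independent sets are bases. -/
theorem covering_bases {E : Type*} [Fintype E] [DecidableEq E] (x : E → V) (w : E → ℕ) (k : ℕ)
    (h : ∀ B : Finset E,
      ∑ e ∈ B, w e ≤ k * finrank K (Submodule.span K (x '' (B : Set E))))
    (hsum : ∑ e, w e = k * finrank K V) :
    ∃ I : Fin k → Finset E,
      (∀ t, (I t).card = finrank K V ∧ LinearIndependent K (fun e : I t => x e)) ∧
      ∀ e, (Finset.univ.filter (fun t => e ∈ I t)).card = w e := by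
  classical
  obtain ⟨I, hI, hIw⟩ := covering x w k h
  refine ⟨I, fun t => ⟨?_, hI t⟩, hIw⟩
  have hle : ∀ t, (I t).card ≤ finrank K V := by
    intro t
    have := (hI t).fintype_card_le_finrank
    rwa [Fintype.card_coe] at this
  have htot : ∑ t, (I t).card = k * finrank K V := by
    rw [← hsum]
    have h1 : ∀ t, (I t).card = ∑ e, if e ∈ I t then 1 else 0 := by
      intro t
      simp
    have h2 : ∀ e, w e = ∑ t, if e ∈ I t then 1 else 0 := by
      intro e
      rw [← hIw e]
      simp
    simp_rw [h1, h2]
    exact Finset.sum_comm
  by_contra hne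
  have hlt : (I t).card < finrank K V := lt_of_le_of_ne (hle t) hne
  have : ∑ t, (I t).card < ∑ _t : Fin k, finrank K V :=
    Finset.sum_lt_sum (fun t _ => hle t) ⟨t, Finset.mem_univ _, hlt⟩
  rw [htot] at this
  simp at this

end covering

/-- Double counting for a multiset of finsets. -/
theorem sum_card_inter {E : Type*} [DecidableEq E] (P : Multiset (Finset E)) (C : Finset E) :
    (P.map (fun S => (S ∩ C).card)).sum =
      ∑ j ∈ C, Multiset.card (P.filter (fun S => j ∈ S)) := by
  induction P using Multiset.induction_on with
  | empty => simp
  | cons S P ih =>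
    rw [Multiset.map_cons, Multiset.sum_cons, ih]
    have hcons : ∀ j, Multiset.card ((S ::ₘ P).filter (fun S => j ∈ S)) =
        (if j ∈ S then 1 else 0) + Multiset.card (P.filter (fun S => j ∈ S)) := by
      intro j
      by_cases hj : j ∈ S
      · rw [Multiset.filter_cons_of_pos (p := fun S => j ∈ S) _ hj]
        simp [hj]
        omega
      · rw [Multiset.filter_cons_of_neg (p := fun S => j ∈ S) _ hj]
        simp [hj]
    simp_rw [hcons]
    rw [Finset.sum_add_distrib, Finset.sum_boole]
    congr 1
    simp only [Nat.cast_id]
    congr 1
    ext j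
    simp [and_comm]

end Groth.Agent.H46.Rado
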