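import Mathlib
import Groth.Agent.H46.AdjoinFrac

set_option linter.style.haveILetI false
set_option autoImplicit false

/-!
# Small tools for regular sequences of length three in a commutative ring, and cancellation
modulo extended ideals in polynomial rings.
-/

namespace Groth.Agent.H46.RS

open Polynomial Groth.Agent.H46.AF

section poly
variable {B : Type*} [CommRing B]

/-- If the image of `p` in `(B ⧸ 𝔟)[X]` is a non-zero-divisor then `p` is regular modulo `𝔟 B[X]`. -/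
theorem cancel_of_map_nzd (𝔟 : Ideal B) (p : B[X])
    (hp : p.map (Ideal.Quotient.mk 𝔟) ∈ nonZeroDivisors (B ⧸ 𝔟)[X]) (F : B[X])
    (hF : p * F ∈ 𝔟.map (C : B →+* B[X])) : F ∈ 𝔟.map (C : B →+* B[X]) := by
  have hk : 𝔟.map (C : B →+* B[X]) = RingHom.ker (Polynomial.mapRingHom (Ideal.Quotient.mk 𝔟)) := by
    rw [Polynomial.ker_mapRingHom, Ideal.mk_ker]
  rw [hk, RingHom.mem_ker] at hF ⊢
  rw [map_mul, mul_comm] at hF
  exact (mem_nonZeroDivisors_iff_right.mp hp) _ hF

theorem cancel_lin (𝔟 : Ideal B) (t z : B) (h : ∀ f, t * f ∈ 𝔟 → f ∈ 𝔟) (F : B[X])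
    (hF : (C t * X - C z) * F ∈ 𝔟.map (C : B →+* B[X])) : F ∈ 𝔟.map (C : B →+* B[X]) := by
  refine cancel_of_map_nzd 𝔟 _ (nzd_of_coeff _ 1 ?_) F hF
  have : ((C t * X - C z).map (Ideal.Quotient.mk 𝔟)).coeff 1 = Ideal.Quotient.mk 𝔟 t := by
    simp [coeff_C]
  rw [this]
  exact nzd_mk_of 𝔟 t h

theorem cancel_C (𝔟 : Ideal B) (q : B) (h : ∀ f, q * f ∈ 𝔟 → f ∈ 𝔟) (F : B[X])
    (hF : C q * F ∈ 𝔟.map (C : B →+* B[X])) : F ∈ 𝔟.map (C : B →+* B[X]) := by
  refine cancel_of_map_nzd 𝔟 _ ?_ F hF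
  rw [Polynomial.map_C]
  exact nzd_C (nzd_mk_of 𝔟 q h)

theorem cancel_X (𝔟 : Ideal B) (F : B[X])
    (hF : X * F ∈ 𝔟.map (C : B →+* B[X])) : F ∈ 𝔟.map (C : B →+* B[X]) := by
  refine cancel_of_map_nzd 𝔟 _ ?_ F hF
  rw [Polynomial.map_X]
  exact nzd_X

/-- `C q` with `q` a nzd of `B` is regular modulo `(X)`. -/
theorem cancel_C_mod_X (q : B) (hq : q ∈ nonZeroDivisors B) (F : B[X])
    (hF : C q * F ∈ Ideal.span {(X : B[X])}) : F ∈ Ideal.span {(X : B[X])} := by
  rw [Ideal.mem_span_singleton, X_dvd_iff] at hF ⊢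
  rw [coeff_C_mul, mul_comm] at hF
  exact (mem_nonZeroDivisors_iff_right.mp hq) _ hF

end poly

section seq
variable {R : Type*} [CommRing R]

theorem isSMulRegular_quot (I : Ideal R) (r : R) (h : ∀ x, r * x ∈ I → x ∈ I) :
    IsSMulRegular (R ⧸ (I • ⊤ : Submodule R R)) r := by
  have hI : (I • ⊤ : Submodule R R) = I := by
    rw [smul_eq_mul, Ideal.mul_top]
  intro a b hab
  induction a using Submodule.Quotient.induction_on with
  | _ x =>
  induction b using Submodule.Quotient.induction_on with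
  | _ y =>
  simp only [← Submodule.Quotient.mk_smul] at hab
  rw [Submodule.Quotient.eq, hI] at hab ⊢
  apply h
  have : r * (x - y) = r • x - r • y := by simp [mul_sub]
  rw [this]
  exact hab

theorem isRegular3 (r1 r2 r3 : R) (h1 : ∀ x, r1 * x = 0 → x = 0)
    (h2 : ∀ x, r2 * x ∈ Ideal.span {r1} → x ∈ Ideal.span {r1})
    (h3 : ∀ x, r3 * x ∈ Ideal.span {r1, r2} → x ∈ Ideal.span {r1, r2})
    (h4 : Ideal.span {r1, r2, r3} ≠ ⊤) :
    RingTheory.Sequence.IsRegular R [r1, r2, r3] := by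
  refine ⟨⟨?_⟩, ?_⟩
  · intro i hi
    have hi3 : i < 3 := by simpa using hi
    interval_cases i
    · refine isSMulRegular_quot _ _ ?_
      simpa [Ideal.ofList_nil] using h1
    · refine isSMulRegular_quot _ _ ?_
      simpa [Ideal.ofList_singleton] using h2
    · refine isSMulRegular_quot _ _ ?_
      have e : Ideal.ofList [r1, r2] = Ideal.span {r1, r2} := by
        rw [Ideal.ofList_cons, Ideal.ofList_singleton, ← Ideal.span_union]
        rfl
      simpa [e] using h3
  · have e : Ideal.ofList [r1, r2, r3] = Ideal.span {r1, r2, r3} := by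
      rw [Ideal.ofList_cons, Ideal.ofList_cons, Ideal.ofList_singleton, ← Ideal.span_union,
        ← Ideal.span_union]
      rfl
    rw [e, smul_eq_mul, Ideal.mul_top]
    exact fun h => h4 h.symm

end seq

end Groth.Agent.H46.RS
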