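import Groth.Agent.H46.McCoy
import Mathlib.LinearAlgebra.Matrix.ToLin
import Mathlib.RingTheory.Finiteness.Projective
import Mathlib.RingTheory.Finiteness.Prod
import Mathlib.LinearAlgebra.Finsupp.Supported
import Mathlib.LinearAlgebra.TensorProduct.Basic
import Mathlib.LinearAlgebra.FreeModule.Finite.Basic
import Mathlib.LinearAlgebra.FreeModule.Basic
import Mathlib.Algebra.Module.Projective
import Mathlib.RingTheory.Ideal.Operations

/-!
# Rings in which every proper f.g. ideal has a nonzero annihilator

For such a ring `R`, every injective linear map between finite projective modules has a retraction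
(`exists_retraction_of_finite_projective`), and every injective linear map between projective
modules is universally injective (`rTensor_injective_of_projective`).
-/

set_option autoImplicit false
universe u v
open Matrix CAlgX TensorProduct

namespace Groth.Agent.H46

variable {R : Type u} [CommRing R]

/-- Property (P): every proper finitely generated ideal has a nonzero annihilator. -/
def PropP (R : Type u) [CommRing R] : Prop :=
  ∀ I : Ideal R, I.FG → I ≠ ⊤ → I.annihilator ≠ ⊥

theorem exists_partial_retraction {m n : ℕ} (M : Matrix (Fin n) (Fin m) R)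
    (f : Fin m → Fin n) (g : Fin m → Fin m) :
    ∃ w : (Fin n → R) →ₗ[R] (Fin m → R), ∀ y, w (M *ᵥ y) = det (M.submatrix f g) • y := by
  by_cases hg : Function.Bijective g
  · refine ⟨(LinearMap.funLeft R R (Equiv.ofBijective g hg).symm) ∘ₗ
      (Matrix.mulVecLin (adjugate (M.submatrix f g))) ∘ₗ (LinearMap.funLeft R R f), fun y => ?_⟩
    have h1 : (M *ᵥ y) ∘ f = (M.submatrix f g) *ᵥ (y ∘ g) := by
      have h2 := Matrix.submatrix_mulVec_equiv M (y ∘ g) f (Equiv.ofBijective g hg)
      have h3 : (y ∘ g) ∘ ⇑(Equiv.ofBijective g hg).symm = y := by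
        ext l
        simp only [Function.comp_apply]
        congr 1
        exact (Equiv.ofBijective g hg).apply_symm_apply l
      rw [h3] at h2
      exact h2.symm
    ext l
    simp only [LinearMap.comp_apply, LinearMap.funLeft_apply, Matrix.mulVecLin_apply]
    have h4 : (LinearMap.funLeft R R f) (M *ᵥ y) = (M *ᵥ y) ∘ f := rfl
    rw [h4, h1, Matrix.mulVec_mulVec, Matrix.adjugate_mul, Matrix.smul_mulVec, Matrix.one_mulVec]
    simp only [Pi.smul_apply, Function.comp_apply, smul_eq_mul]
    congr 2
    exact (Equiv.ofBijective g hg).apply_symm_apply l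
  · refine ⟨0, fun y => ?_⟩
    rw [minor_eq_zero_of_not_injective M f g
      (fun hinj => hg (Finite.injective_iff_bijective.1 hinj))]
    simp

theorem exists_retraction_matrix (hP : PropP R) {m n : ℕ} (M : Matrix (Fin n) (Fin m) R)
    (hM : Function.Injective M.mulVecLin) :
    ∃ w : (Fin n → R) →ₗ[R] (Fin m → R), ∀ y, w (M *ᵥ y) = y := by
  have hann := annihilator_eq_bot_of_injective M hM
  have htop : minorIdeal M m = ⊤ := by
    by_contra hne
    refine hP _ ?_ hne hann
    unfold minorIdeal
    exact Submodule.fg_span (Set.finite_range _)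
  have h1 : (1 : R) ∈ minorIdeal M m := by rw [htop]; trivial
  unfold minorIdeal at h1
  rw [Ideal.mem_span_range_iff_exists_fun] at h1
  obtain ⟨c, hc⟩ := h1
  choose w hw using fun fg : (Fin m → Fin n) × (Fin m → Fin m) =>
    exists_partial_retraction M fg.1 fg.2
  refine ⟨∑ fg, c fg • w fg, fun y => ?_⟩
  simp only [LinearMap.sum_apply, LinearMap.smul_apply, hw, smul_smul]
  rw [← Finset.sum_smul, hc, one_smul]

theorem exists_retraction_of_finite_free (hP : PropP R) {N : Type*} {M : Type*}
    [AddCommGroup N] [Module R N] [AddCommGroup M] [Module R M]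
    [Module.Free R N] [Module.Finite R N] [Module.Free R M] [Module.Finite R M]
    (u : N →ₗ[R] M) (hu : Function.Injective u) :
    ∃ w : M →ₗ[R] N, w ∘ₗ u = LinearMap.id := by
  rcases subsingleton_or_nontrivial R with hR | hR
  · have : Subsingleton N := Module.subsingleton R N
    exact ⟨0, by ext x; exact Subsingleton.elim _ _⟩
  let bN := Module.finBasis R N
  let bM := Module.finBasis R M
  have key : ∀ x : N, (LinearMap.toMatrix bN bM u) *ᵥ ⇑(bN.repr x) = ⇑(bM.repr (u x)) :=
    fun x => LinearMap.toMatrix_mulVec_repr bN bM u x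
  have hinj : Function.Injective (LinearMap.toMatrix bN bM u).mulVecLin := by
    rw [injective_iff_map_eq_zero]
    intro y hy
    obtain ⟨x, rfl⟩ := bN.equivFun.surjective y
    rw [Matrix.mulVecLin_apply] at hy
    change (LinearMap.toMatrix bN bM u) *ᵥ ⇑(bN.repr x) = 0 at hy
    rw [key] at hy
    have h2 : bM.repr (u x) = 0 := by
      ext i
      exact congrFun hy i
    have h3 : u x = 0 := by simpa using h2
    have h4 : x = 0 := hu (by rw [h3, map_zero])
    rw [h4, map_zero]
  obtain ⟨w, hw⟩ := exists_retraction_matrix hP _ hinj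
  refine ⟨bN.equivFun.symm.toLinearMap ∘ₗ w ∘ₗ bM.equivFun.toLinearMap, ?_⟩
  ext x
  simp only [LinearMap.comp_apply, LinearEquiv.coe_coe, LinearMap.id_apply]
  change bN.equivFun.symm (w ⇑(bM.repr (u x))) = x
  rw [← key, hw]
  exact bN.equivFun.symm_apply_apply x

theorem exists_retraction_of_finite_projective (hP : PropP R) {N : Type*} {M : Type*}
    [AddCommGroup N] [Module R N] [AddCommGroup M] [Module R M]
    [Module.Projective R N] [Module.Finite R N] [Module.Projective R M] [Module.Finite R M]
    (u : N →ₗ[R] M) (hu : Function.Injective u) :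
    ∃ w : M →ₗ[R] N, w ∘ₗ u = LinearMap.id := by
  obtain ⟨k, pN, iN, -, -, hN⟩ := Module.Finite.exists_comp_eq_id_of_projective R N
  obtain ⟨l, pM, iM, -, hiM, hM⟩ := Module.Finite.exists_comp_eq_id_of_projective R M
  have hN' : ∀ n, pN (iN n) = n := fun n => LinearMap.congr_fun hN n
  let U : (Fin k → R) →ₗ[R] (Fin l → R) × (Fin k → R) :=
    LinearMap.prod (iM ∘ₗ u ∘ₗ pN) (LinearMap.id - iN ∘ₗ pN)
  have hU : Function.Injective U := by
    rw [injective_iff_map_eq_zero]
    intro x hx
    have h1 : iM (u (pN x)) = 0 := congrArg Prod.fst hx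
    have h2 : x - iN (pN x) = 0 := congrArg Prod.snd hx
    have h3 : pN x = 0 := hu (by rw [map_zero]; exact hiM (by rw [h1, map_zero]))
    rw [h3, map_zero, sub_zero] at h2
    exact h2
  obtain ⟨V, hV⟩ := exists_retraction_of_finite_free hP U hU
  have hV' : ∀ x, V (U x) = x := fun x => LinearMap.congr_fun hV x
  refine ⟨pN ∘ₗ V ∘ₗ LinearMap.inl R _ _ ∘ₗ iM, ?_⟩
  ext n
  simp only [LinearMap.comp_apply, LinearMap.inl_apply, LinearMap.id_apply]
  have h1 : U (iN n) = (iM (u n), 0) := by
    simp [U, hN' n]
  rw [← h1, hV', hN']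

section tensor

variable {N : Type*} {M : Type*} [AddCommGroup N] [Module R N] [AddCommGroup M] [Module R M]

theorem rTensor_injective_of_leftInverse (Q : Type*) [AddCommGroup Q] [Module R Q]
    (f : N →ₗ[R] M) (g : M →ₗ[R] N) (h : g ∘ₗ f = LinearMap.id) :
    Function.Injective (f.rTensor Q) := by
  have h1 : (g.rTensor Q) ∘ₗ (f.rTensor Q) = LinearMap.id := by
    rw [← LinearMap.rTensor_comp, h, LinearMap.rTensor_id]
  exact Function.LeftInverse.injective (g := g.rTensor Q) (fun x => LinearMap.congr_fun h1 x)

end tensor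

section finsupp

open Classical in
/-- The projection of `A →₀ R` onto the coordinates in `s`. -/
noncomputable def coordProj (R : Type u) [CommRing R] {A : Type*} (s : Finset A) :
    (A →₀ R) →ₗ[R] (A →₀ R) :=
  (Finsupp.supported R R (s : Set A)).subtype ∘ₗ Finsupp.restrictDom R R (s : Set A)

open Classical in
theorem coordProj_apply {A : Type*} (s : Finset A) (x : A →₀ R) :
    coordProj R s x = x.filter (· ∈ s) := rfl

theorem coordProj_comp {A : Type*} {s t : Finset A} (hst : s ⊆ t) :
    coordProj R t ∘ₗ coordProj R s = coordProj R s := by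
  classical
  ext x a
  simp only [LinearMap.comp_apply, coordProj_apply, Finsupp.lsingle_apply]
  rw [Finsupp.filter_apply, Finsupp.filter_apply]
  by_cases ha : a ∈ s
  · simp [ha, hst ha]
  · simp [ha]

theorem exists_coordProj_rTensor_eq {A : Type*} (Q : Type*) [AddCommGroup Q] [Module R Q]
    (z : (A →₀ R) ⊗[R] Q) : ∃ s : Finset A, (coordProj R s).rTensor Q z = z := by
  classical
  induction z using TensorProduct.induction_on with
  | zero => exact ⟨∅, by simp⟩
  | tmul x q =>
    refine ⟨x.support, ?_⟩
    rw [LinearMap.rTensor_tmul, coordProj_apply]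
    congr 1
    ext a
    rw [Finsupp.filter_apply]
    by_cases ha : a ∈ x.support
    · simp [ha]
    · simp only [ha, if_false]
      exact (Finsupp.notMem_support_iff.1 ha).symm
  | add z z' hz hz' =>
    obtain ⟨s, hs⟩ := hz
    obtain ⟨s', hs'⟩ := hz'
    refine ⟨s ∪ s', ?_⟩
    rw [map_add]
    congr 1
    · conv_lhs => rw [← hs]
      rw [← LinearMap.comp_apply, ← LinearMap.rTensor_comp,
        coordProj_comp Finset.subset_union_left, hs]
    · conv_lhs => rw [← hs']
      rw [← LinearMap.comp_apply, ← LinearMap.rTensor_comp,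
        coordProj_comp Finset.subset_union_right, hs']

theorem rTensor_injective_finsupp (hP : PropP R) {A : Type*} {B : Type*}
    (u : (A →₀ R) →ₗ[R] (B →₀ R)) (hu : Function.Injective u)
    (Q : Type*) [AddCommGroup Q] [Module R Q] : Function.Injective (u.rTensor Q) := by
  classical
  rw [injective_iff_map_eq_zero]
  intro z hz
  obtain ⟨s, hs⟩ := exists_coordProj_rTensor_eq Q z
  let t : Finset B := s.biUnion (fun a => (u (Finsupp.single a 1)).support)
  have hst : ∀ x ∈ Finsupp.supported R R (s : Set A), u x ∈ Finsupp.supported R R (t : Set B) := by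
    intro x hx
    rw [Finsupp.supported_eq_span_single] at hx
    have hle : Submodule.span R ((fun i => Finsupp.single i (1 : R)) '' (s : Set A)) ≤
        (Finsupp.supported R R (t : Set B)).comap u := by
      rw [Submodule.span_le]
      rintro _ ⟨a, ha, rfl⟩
      simp only [Submodule.comap_coe, Set.mem_preimage, SetLike.mem_coe]
      rw [Finsupp.mem_supported]
      intro b hb
      exact Finset.mem_coe.2 (Finset.mem_biUnion.2 ⟨a, ha, hb⟩)
    exact hle hx
  have : Module.Free R (Finsupp.supported R R (s : Set A)) :=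
    Module.Free.of_equiv (Finsupp.supportedEquivFinsupp (s : Set A)).symm
  have : Module.Finite R (Finsupp.supported R R (s : Set A)) :=
    Module.Finite.equiv (Finsupp.supportedEquivFinsupp (s : Set A)).symm
  have : Module.Free R (Finsupp.supported R R (t : Set B)) :=
    Module.Free.of_equiv (Finsupp.supportedEquivFinsupp (t : Set B)).symm
  have : Module.Finite R (Finsupp.supported R R (t : Set B)) :=
    Module.Finite.equiv (Finsupp.supportedEquivFinsupp (t : Set B)).symm
  let u₀ : Finsupp.supported R R (s : Set A) →ₗ[R] Finsupp.supported R R (t : Set B) :=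
    (u ∘ₗ (Finsupp.supported R R (s : Set A)).subtype).codRestrict
      (Finsupp.supported R R (t : Set B)) (fun x => hst x x.2)
  have hu₀ : Function.Injective u₀ := by
    intro x y hxy
    have h1 : u (x : A →₀ R) = u (y : A →₀ R) := congrArg Subtype.val hxy
    exact Subtype.ext (hu h1)
  obtain ⟨w₀, hw₀⟩ := exists_retraction_of_finite_free (N := Finsupp.supported R R (s : Set A))
    (M := Finsupp.supported R R (t : Set B)) hP u₀ hu₀
  obtain ⟨W, hW⟩ : ∃ W : (B →₀ R) →ₗ[R] (A →₀ R), ∀ x, W (u (coordProj R s x)) = coordProj R s x := by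
    refine ⟨(Finsupp.supported R R (s : Set A)).subtype ∘ₗ w₀ ∘ₗ
      Finsupp.restrictDom R R (t : Set B), fun x => ?_⟩
    simp only [LinearMap.comp_apply, coordProj]
    generalize Finsupp.restrictDom R R (s : Set A) x = x₀
    have h1 : u ((Finsupp.supported R R (s : Set A)).subtype x₀) =
        (Finsupp.supported R R (t : Set B)).subtype (u₀ x₀) := rfl
    rw [h1]
    have h2 : Finsupp.restrictDom R R (t : Set B)
        ((Finsupp.supported R R (t : Set B)).subtype (u₀ x₀)) = u₀ x₀ :=
      LinearMap.congr_fun (Finsupp.restrictDom_comp_subtype (R := R) (M := R) (t : Set B)) (u₀ x₀)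
    rw [h2]
    have h3 : w₀ (u₀ x₀) = x₀ := LinearMap.congr_fun hw₀ x₀
    rw [h3]
  have hW' : W ∘ₗ u ∘ₗ coordProj R s = coordProj R s := LinearMap.ext hW
  calc z = (coordProj R s).rTensor Q z := hs.symm
    _ = (W ∘ₗ u ∘ₗ coordProj R s).rTensor Q z := by rw [hW']
    _ = W.rTensor Q (u.rTensor Q ((coordProj R s).rTensor Q z)) := by
        rw [LinearMap.rTensor_comp, LinearMap.rTensor_comp, LinearMap.comp_apply,
          LinearMap.comp_apply]
    _ = 0 := by rw [hs, hz, map_zero]

theorem rTensor_injective_of_free (hP : PropP R) {N : Type*} {M : Type*}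
    [AddCommGroup N] [Module R N] [AddCommGroup M] [Module R M]
    [Module.Free R N] [Module.Free R M]
    (u : N →ₗ[R] M) (hu : Function.Injective u)
    (Q : Type*) [AddCommGroup Q] [Module R Q] : Function.Injective (u.rTensor Q) := by
  let eN := (Module.Free.chooseBasis R N).repr
  let eM := (Module.Free.chooseBasis R M).repr
  let u' : (Module.Free.ChooseBasisIndex R N →₀ R) →ₗ[R] (Module.Free.ChooseBasisIndex R M →₀ R) :=
    eM.toLinearMap ∘ₗ u ∘ₗ eN.symm.toLinearMap
  have hu' : Function.Injective u' := by
    intro x y hxy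
    simp only [u', LinearMap.comp_apply, LinearEquiv.coe_coe] at hxy
    exact eN.symm.injective (hu (eM.injective hxy))
  have h1 := rTensor_injective_finsupp hP u' hu' Q
  have h2 : u = eM.symm.toLinearMap ∘ₗ u' ∘ₗ eN.toLinearMap := by
    ext x
    simp [u']
  rw [h2, LinearMap.rTensor_comp, LinearMap.rTensor_comp, LinearMap.coe_comp, LinearMap.coe_comp]
  refine Function.Injective.comp ?_ (Function.Injective.comp h1 ?_)
  · exact rTensor_injective_of_leftInverse Q _ eM.toLinearMap (by ext x; simp)
  · exact rTensor_injective_of_leftInverse Q _ eN.symm.toLinearMap (by ext x; simp)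

theorem rTensor_injective_of_projective (hP : PropP R) {N : Type*} {M : Type*}
    [AddCommGroup N] [Module R N] [AddCommGroup M] [Module R M]
    [Module.Projective R N] [Module.Projective R M]
    (u : N →ₗ[R] M) (hu : Function.Injective u)
    (Q : Type*) [AddCommGroup Q] [Module R Q] : Function.Injective (u.rTensor Q) := by
  obtain ⟨iN, hN⟩ := (Module.projective_def' (R := R) (P := N)).1 inferInstance
  obtain ⟨iM, hM⟩ := (Module.projective_def' (R := R) (P := M)).1 inferInstance
  let pN : (N →₀ R) →ₗ[R] N := Finsupp.linearCombination R id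
  let pM : (M →₀ R) →ₗ[R] M := Finsupp.linearCombination R id
  have hN' : ∀ n, pN (iN n) = n := fun n => LinearMap.congr_fun hN n
  have hM' : ∀ n, pM (iM n) = n := fun n => LinearMap.congr_fun hM n
  have hiM : Function.Injective iM := Function.LeftInverse.injective hM'
  let U : (N →₀ R) →ₗ[R] (M →₀ R) × (N →₀ R) :=
    LinearMap.prod (iM ∘ₗ u ∘ₗ pN) (LinearMap.id - iN ∘ₗ pN)
  have hU : Function.Injective U := by
    rw [injective_iff_map_eq_zero]
    intro x hx
    have h1 : iM (u (pN x)) = 0 := congrArg Prod.fst hx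
    have h2 : x - iN (pN x) = 0 := congrArg Prod.snd hx
    have h3 : pN x = 0 := hu (by rw [map_zero]; exact hiM (by rw [h1, map_zero]))
    rw [h3, map_zero, sub_zero] at h2
    exact h2
  have hUQ := rTensor_injective_of_free hP U hU Q
  have hcomp : U ∘ₗ iN = (LinearMap.inl R _ _ ∘ₗ iM) ∘ₗ u := by
    ext1 n
    simp only [LinearMap.comp_apply, LinearMap.inl_apply]
    simp [U, hN' n]
  have hiNQ : Function.Injective (iN.rTensor Q) := rTensor_injective_of_leftInverse Q iN pN hN
  have h4 : Function.Injective ((U ∘ₗ iN).rTensor Q) := by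
    rw [LinearMap.rTensor_comp, LinearMap.coe_comp]
    exact hUQ.comp hiNQ
  rw [hcomp, LinearMap.rTensor_comp, LinearMap.coe_comp] at h4
  exact Function.Injective.of_comp h4

end finsupp

end Groth.Agent.H46
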