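import Groth.Agent.H46.RgammaRes
import Groth.Agent.H53.LBaseChange
import Groth.Agent.H35.LBC

/-!
# `RΓ_I` and flat base change (helper46)

* `isLocalizedModule_extUnit` : `B ⊗_A M → B ⊗_A M_f` is the localisation of the `B`-module
  `B ⊗_A M` at `φ f`.
* `extLocIso`, `extLocCxIso` : `(B ⊗ M)_{φ f} ≅ B ⊗ M_f`.
* for `B` flat over `A`: `GE = (extendScalars).mapDerivedCategory`, `exists_ext_Lf_iso`,
  `IsCech.ext`, `nonempty_ext_Rgamma_iso : GE (RΓ_I K) ≅ RΓ_{IB} (GE K)`,
  `nonempty_homology_GE_iso`, `nonempty_LBaseChange_iso_GE`.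
-/

set_option autoImplicit false
set_option linter.unusedSectionVars false
universe u
open CategoryTheory CategoryTheory.Limits Pretriangulated DerCA
attribute [local instance] HasDerivedCategory.standard
open TensorProduct

namespace Groth.Agent.H46.RgammaExt

open DerivedCategory DRing Groth.Agent.H35.TriChase Groth.Agent.H46.LocD
  Groth.Agent.H46.CechTower Groth.Agent.H46.LCDerived

variable {A B : Type u} [CommRing A] [CommRing B] [Algebra A B]

noncomputable abbrev extM : ModuleCat.{u} A ⥤ ModuleCat.{u} B :=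
  ModuleCat.extendScalars.{u, u, u} (algebraMap A B)

/-- `B` as an `A`-module through `φ` (the structure used by `extendScalars`) -/
noncomputable abbrev B' (A B : Type u) [CommRing A] [CommRing B] [Algebra A B] : ModuleCat.{u} A :=
  (ModuleCat.restrictScalars (algebraMap A B)).obj (ModuleCat.of B B)

noncomputable instance extModA (M : ModuleCat.{u} A) : Module A ((extM (A := A) (B := B)).obj M) :=
  inferInstanceAs (Module A (B' A B ⊗[A] M))

lemma ext_smul (M : ModuleCat.{u} A) (a : A) (x : (extM (A := A) (B := B)).obj M) :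
    a • x = algebraMap A B a • x := by
  refine TensorProduct.induction_on x ?_ ?_ ?_
  · show a • (0 : (extM (A := A) (B := B)).obj M) =
      algebraMap A B a • (0 : (extM (A := A) (B := B)).obj M)
    rw [smul_zero, smul_zero]
  · intro b m
    rfl
  · intro x y hx hy
    show a • ((show (extM (A := A) (B := B)).obj M from x) + (show (extM (A := A) (B := B)).obj M from y)) =
      algebraMap A B a • ((show (extM (A := A) (B := B)).obj M from x) + (show (extM (A := A) (B := B)).obj M from y))
    rw [smul_add, smul_add]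
    exact congrArg₂ (· + ·) hx hy

/-- `B ⊗ M → B ⊗ M_f` as an `A`-linear map -/
noncomputable def uA (f : A) (M : ModuleCat.{u} A) :
    B' A B ⊗[A] M →ₗ[A] B' A B ⊗[A] LocalizedModule (Submonoid.powers f) M :=
  (TensorProduct.comm A (LocalizedModule (Submonoid.powers f) M) (B' A B)).toLinearMap ∘ₗ
    (AlgebraTensorModule.rTensor A (B' A B) (LocalizedModule.mkLinearMap (Submonoid.powers f) M)) ∘ₗ
    (TensorProduct.comm A (B' A B) M).toLinearMap

instance (f : A) (M : ModuleCat.{u} A) : IsLocalizedModule (Submonoid.powers f) (uA (B := B) f M) := by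
  unfold uA
  infer_instance

lemma uA_apply (f : A) (M : ModuleCat.{u} A) (x : B' A B ⊗[A] M) :
    uA (B := B) f M x = ((extM (A := A) (B := B)).map ((locUnit (Submonoid.powers f)).app M)).hom x := by
  induction x using TensorProduct.induction_on with
  | zero => rw [map_zero]; exact (map_zero _).symm
  | tmul b m => rfl
  | add x y hx hy => 
    rw [map_add, hx, hy]
    exact (map_add _ _ _).symm

lemma isLocalizedModule_extUnit (f : A) (M : ModuleCat.{u} A) :
    IsLocalizedModule (Submonoid.powers (algebraMap A B f))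
      ((extM (A := A) (B := B)).map ((locUnit (Submonoid.powers f)).app M)).hom where
  map_units s := by
    obtain ⟨_, k, rfl⟩ := s
    have h := IsLocalizedModule.map_units (uA (B := B) f M)
      (⟨f ^ k, k, rfl⟩ : Submonoid.powers f)
    rw [Module.End.isUnit_iff] at h ⊢
    have e : ∀ y : (extM (A := A) (B := B)).obj ((locFunctor (Submonoid.powers f)).obj M),
        (f ^ k) • y = ((algebraMap A B f) ^ k) • y := fun y => by rw [ext_smul, map_pow]
    refine ⟨fun x y hxy => h.1 ?_, fun y => ?_⟩
    · show (f ^ k) • (show (extM (A := A) (B := B)).obj ((locFunctor (Submonoid.powers f)).obj M) from x) =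
        (f ^ k) • (show (extM (A := A) (B := B)).obj ((locFunctor (Submonoid.powers f)).obj M) from y)
      rw [e, e]
      exact hxy
    · obtain ⟨x, hx⟩ := h.2 y
      refine ⟨x, ?_⟩
      show ((algebraMap A B f) ^ k) • (show (extM (A := A) (B := B)).obj ((locFunctor (Submonoid.powers f)).obj M) from x) = y
      rw [← e]
      exact hx
  surj y := by
    obtain ⟨⟨x, ⟨_, k, rfl⟩⟩, hx⟩ := IsLocalizedModule.surj (Submonoid.powers f) (uA (B := B) f M) y
    refine ⟨⟨x, (⟨algebraMap A B f ^ k, k, rfl⟩ : Submonoid.powers (algebraMap A B f))⟩, ?_⟩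
    have e1 : ((algebraMap A B f) ^ k) • y = (f ^ k) • y := by rw [ext_smul, map_pow]
    have e2 : (f ^ k) • y = uA (B := B) f M x := hx
    have e3 := uA_apply (B := B) f M x
    exact e1.trans (e2.trans e3)
  exists_of_eq {x₁ x₂} h := by
    have h' : uA (B := B) f M x₁ = uA (B := B) f M x₂ :=
      (uA_apply (B := B) f M x₁).trans (h.trans (uA_apply (B := B) f M x₂).symm)
    obtain ⟨⟨_, k, rfl⟩, hc⟩ := IsLocalizedModule.exists_of_eq (S := Submonoid.powers f)
      (f := uA (B := B) f M) h'
    refine ⟨(⟨algebraMap A B f ^ k, k, rfl⟩ : Submonoid.powers (algebraMap A B f)), ?_⟩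
    have e1 : ∀ x : (extM (A := A) (B := B)).obj M,
        ((algebraMap A B f) ^ k) • x = (f ^ k) • x := fun x => by rw [ext_smul, map_pow]
    exact (e1 x₁).trans (hc.trans (e1 x₂).symm)

/-- `(B ⊗ M)_{φ f} ≅ B ⊗ M_f` -/
noncomputable def extLocIso (f : A) (M : ModuleCat.{u} A) :
    (locFunctor (Submonoid.powers (algebraMap A B f))).obj ((extM (A := A) (B := B)).obj M) ≅
      (extM (A := A) (B := B)).obj ((locFunctor (Submonoid.powers f)).obj M) :=
  haveI := isLocalizedModule_extUnit (B := B) f M
  (IsLocalizedModule.iso (Submonoid.powers (algebraMap A B f))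
    ((extM (A := A) (B := B)).map ((locUnit (Submonoid.powers f)).app M)).hom).toModuleIso

lemma locUnit_extLocIso (f : A) (M : ModuleCat.{u} A) :
    (locUnit (Submonoid.powers (algebraMap A B f))).app ((extM (A := A) (B := B)).obj M) ≫
      (extLocIso (B := B) f M).hom =
      (extM (A := A) (B := B)).map ((locUnit (Submonoid.powers f)).app M) := by
  haveI := isLocalizedModule_extUnit (B := B) f M
  apply ModuleCat.hom_ext
  apply LinearMap.ext
  intro x
  exact IsLocalizedModule.iso_mk_one (Submonoid.powers (algebraMap A B f))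
    ((extM (A := A) (B := B)).map ((locUnit (Submonoid.powers f)).app M)).hom x

lemma extLocIso_naturality (f : A) {M M' : ModuleCat.{u} A} (h : M ⟶ M') :
    (locFunctor (Submonoid.powers (algebraMap A B f))).map ((extM (A := A) (B := B)).map h) ≫
      (extLocIso (B := B) f M').hom =
      (extLocIso (B := B) f M).hom ≫
        (extM (A := A) (B := B)).map ((locFunctor (Submonoid.powers f)).map h) := by
  haveI := isLocalizedModule_extUnit (B := B) f M'
  have h1 : (locUnit (Submonoid.powers (algebraMap A B f))).app ((extM (A := A) (B := B)).obj M) ≫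
      ((locFunctor (Submonoid.powers (algebraMap A B f))).map ((extM (A := A) (B := B)).map h) ≫
        (extLocIso (B := B) f M').hom) =
      (locUnit (Submonoid.powers (algebraMap A B f))).app ((extM (A := A) (B := B)).obj M) ≫
        ((extLocIso (B := B) f M).hom ≫
        (extM (A := A) (B := B)).map ((locFunctor (Submonoid.powers f)).map h)) := by
    have n1 := (locUnit (Submonoid.powers (algebraMap A B f))).naturality
      ((extM (A := A) (B := B)).map h)
    have n2 := (locUnit (Submonoid.powers f)).naturality h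
    rw [← Category.assoc, ← n1, Category.assoc, locUnit_extLocIso, ← Category.assoc,
      locUnit_extLocIso]
    show (extM (A := A) (B := B)).map h ≫ (extM (A := A) (B := B)).map _ =
      (extM (A := A) (B := B)).map _ ≫ (extM (A := A) (B := B)).map _
    rw [← Functor.map_comp, ← Functor.map_comp]
    exact congrArg (extM (A := A) (B := B)).map n2
  apply ModuleCat.hom_ext
  apply IsLocalizedModule.linearMap_ext (Submonoid.powers (algebraMap A B f))
    (LocalizedModule.mkLinearMap (Submonoid.powers (algebraMap A B f))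
      ((extM (A := A) (B := B)).obj M))
    ((extM (A := A) (B := B)).map ((locUnit (Submonoid.powers f)).app M')).hom
  exact congrArg ModuleCat.Hom.hom h1

/-- termwise extension of scalars -/
noncomputable abbrev extCx' : DRing.Cx A ⥤ DRing.Cx B :=
  (extM (A := A) (B := B)).mapHomologicalComplex (ComplexShape.up ℤ)

/-- `(B ⊗ X)_{φ f} ≅ B ⊗ X_f` for complexes -/
noncomputable def extLocCxIso (f : A) (X : DRing.Cx A) :
    (locCx (Submonoid.powers (algebraMap A B f))).obj ((extCx' (A := A) (B := B)).obj X) ≅
      (extCx' (A := A) (B := B)).obj ((locCx (Submonoid.powers f)).obj X) :=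
  HomologicalComplex.Hom.isoOfComponents (fun i => extLocIso (B := B) f (X.X i))
    (fun i j _ => (extLocIso_naturality (B := B) f (X.d i j)).symm)

lemma locCxUnit_extLocCxIso (f : A) (X : DRing.Cx A) :
    locCxUnit (Submonoid.powers (algebraMap A B f)) ((extCx' (A := A) (B := B)).obj X) ≫
      (extLocCxIso (B := B) f X).hom =
      (extCx' (A := A) (B := B)).map (locCxUnit (Submonoid.powers f) X) := by
  ext i : 1
  exact locUnit_extLocIso (B := B) f (X.X i)

/-- extension of scalars of a linear equivalence across universes -/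
noncomputable def extCongr {H : ModuleCat.{u} A} {H' : ModuleCat.{u + 1} A} (e : H ≃ₗ[A] H') :
    (ModuleCat.extendScalars.{u, u, u} (algebraMap A B)).obj H ≃ₗ[B]
      (ModuleCat.extendScalars.{u, u, u + 1} (algebraMap A B)).obj H' :=
  { toFun := TensorProduct.congr (LinearEquiv.refl A (B' A B)) e
    invFun := (TensorProduct.congr (LinearEquiv.refl A (B' A B)) e).symm
    map_add' := fun x y => map_add (TensorProduct.congr (LinearEquiv.refl A (B' A B)) e) x y
    map_smul' := fun b x => by
      refine TensorProduct.induction_on x ?_ ?_ ?_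
      · show TensorProduct.congr (LinearEquiv.refl A (B' A B)) e
            (b • (0 : (ModuleCat.extendScalars.{u, u, u} (algebraMap A B)).obj H)) =
          b • (show (ModuleCat.extendScalars.{u, u, u + 1} (algebraMap A B)).obj H' from
            TensorProduct.congr (LinearEquiv.refl A (B' A B)) e 0)
        rw [smul_zero, map_zero]
        exact (smul_zero b).symm
      · intro s h
        rfl
      · intro x y hx hy
        have h1 : b • ((show (ModuleCat.extendScalars.{u, u, u} (algebraMap A B)).obj H from x) +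
            (show (ModuleCat.extendScalars.{u, u, u} (algebraMap A B)).obj H from y)) =
            b • (show (ModuleCat.extendScalars.{u, u, u} (algebraMap A B)).obj H from x) +
            b • (show (ModuleCat.extendScalars.{u, u, u} (algebraMap A B)).obj H from y) :=
          smul_add b _ _
        have h2 := map_add (TensorProduct.congr (LinearEquiv.refl A (B' A B)) e) x y
        have h3 : b • ((show (ModuleCat.extendScalars.{u, u, u + 1} (algebraMap A B)).obj H' from
              TensorProduct.congr (LinearEquiv.refl A (B' A B)) e x) +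
            (show (ModuleCat.extendScalars.{u, u, u + 1} (algebraMap A B)).obj H' from
              TensorProduct.congr (LinearEquiv.refl A (B' A B)) e y)) =
            b • (show (ModuleCat.extendScalars.{u, u, u + 1} (algebraMap A B)).obj H' from
              TensorProduct.congr (LinearEquiv.refl A (B' A B)) e x) +
            b • (show (ModuleCat.extendScalars.{u, u, u + 1} (algebraMap A B)).obj H' from
              TensorProduct.congr (LinearEquiv.refl A (B' A B)) e y) :=
          smul_add b _ _
        exact (congrArg (TensorProduct.congr (LinearEquiv.refl A (B' A B)) e) h1).trans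
          ((map_add (TensorProduct.congr (LinearEquiv.refl A (B' A B)) e) _ _).trans
            ((congrArg₂ (· + ·) hx hy).trans (h3.symm.trans
              (congrArg (fun z : (ModuleCat.extendScalars.{u, u, u + 1} (algebraMap A B)).obj H' =>
                b • z) h2.symm))))
    left_inv := (TensorProduct.congr (LinearEquiv.refl A (B' A B)) e).left_inv
    right_inv := (TensorProduct.congr (LinearEquiv.refl A (B' A B)) e).right_inv }

section Flat

variable [Module.Flat A B]

instance : PreservesFiniteLimits (extM (A := A) (B := B)) :=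
  ModuleCat.preservesFiniteLimits_extendScalars_of_flat (RingHom.flat_algebraMap_iff.2 inferInstance)

instance : PreservesFiniteColimits (extM (A := A) (B := B)) := inferInstance

/-- flat base change on derived categories -/
noncomputable abbrev GE : Dual.D A ⥤ Dual.D B := (extM (A := A) (B := B)).mapDerivedCategory

noncomputable abbrev ef : Q ⋙ GE (A := A) (B := B) ≅ extCx' (A := A) (B := B) ⋙ Q :=
  (extM (A := A) (B := B)).mapDerivedCategoryFactors

lemma exists_ext_Lf_Q_iso (f : A) (X : DRing.Cx A) :
    ∃ c : (GE (A := A) (B := B)).obj ((Lf (Submonoid.powers f)).obj (Q.obj X)) ≅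
        (Lf (Submonoid.powers (algebraMap A B f))).obj ((GE (A := A) (B := B)).obj (Q.obj X)),
      (GE (A := A) (B := B)).map ((ηD (Submonoid.powers f)).app (Q.obj X)) ≫ c.hom =
        (ηD (Submonoid.powers (algebraMap A B f))).app ((GE (A := A) (B := B)).obj (Q.obj X)) := by
  set S' := Submonoid.powers f with hS'
  set S := Submonoid.powers (algebraMap A B f) with hS
  let a := (GE (A := A) (B := B)).map ((LfFac S').hom.app X)
  let b := (ef (A := A) (B := B)).hom.app ((locCx S').obj X)
  let c := Q.map (extLocCxIso (B := B) f X).inv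
  let d := (LfFac S).inv.app ((extCx' (A := A) (B := B)).obj X)
  let e := (Lf S).map ((ef (A := A) (B := B)).inv.app X)
  refine ⟨(GE (A := A) (B := B)).mapIso ((LfFac S').app X) ≪≫ (ef (A := A) (B := B)).app ((locCx S').obj X) ≪≫
    Q.mapIso (extLocCxIso (B := B) f X).symm ≪≫ ((LfFac S).app ((extCx' (A := A) (B := B)).obj X)).symm ≪≫
    (Lf S).mapIso ((ef (A := A) (B := B)).app X).symm, ?_⟩
  show (GE (A := A) (B := B)).map ((ηD S').app (Q.obj X)) ≫ a ≫ b ≫ c ≫ d ≫ e = _
  have e1 : ∀ {Z : Dual.D B} (h : _ ⟶ Z), (GE (A := A) (B := B)).map ((ηD S').app (Q.obj X)) ≫ a ≫ h =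
      (GE (A := A) (B := B)).map (Q.map (locCxUnit S' X)) ≫ h := by
    intro Z h
    rw [← Category.assoc, ← (GE (A := A) (B := B)).map_comp, ηD_app_Q, Category.assoc, Iso.inv_hom_id_app]
    erw [Category.comp_id]
  have e2 : ∀ {Z : Dual.D B} (h : _ ⟶ Z), (GE (A := A) (B := B)).map (Q.map (locCxUnit S' X)) ≫ b ≫ h =
      (ef (A := A) (B := B)).hom.app X ≫
        Q.map ((extCx' (A := A) (B := B)).map (locCxUnit S' X)) ≫ h := by
    intro Z h
    rw [← Category.assoc, ← Category.assoc]
    exact congrArg (fun z => z ≫ h) ((ef (A := A) (B := B)).hom.naturality (locCxUnit S' X))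
  have e3 : ∀ {Z : Dual.D B} (h : _ ⟶ Z),
      Q.map ((extCx' (A := A) (B := B)).map (locCxUnit S' X)) ≫ c ≫ h =
      Q.map (locCxUnit S ((extCx' (A := A) (B := B)).obj X)) ≫ h := by
    intro Z h
    rw [← Category.assoc, ← Q.map_comp, ← locCxUnit_extLocCxIso, Category.assoc, Iso.hom_inv_id,
      Category.comp_id]
  have e4 : ∀ {Z : Dual.D B} (h : _ ⟶ Z),
      Q.map (locCxUnit S ((extCx' (A := A) (B := B)).obj X)) ≫ d ≫ h =
      (ηD S).app (Q.obj ((extCx' (A := A) (B := B)).obj X)) ≫ h := by
    intro Z h
    rw [← Category.assoc, ← ηD_app_Q]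
  have e5 : (ef (A := A) (B := B)).hom.app X ≫
      (ηD S).app (Q.obj ((extCx' (A := A) (B := B)).obj X)) =
      (ηD S).app ((GE (A := A) (B := B)).obj (Q.obj X)) ≫ (Lf S).map ((ef (A := A) (B := B)).hom.app X) :=
    (ηD S).naturality ((ef (A := A) (B := B)).hom.app X)
  rw [e1, e2, e3, e4, ← Category.assoc, e5, Category.assoc, ← (Lf S).map_comp,
    Iso.hom_inv_id_app]
  exact (congrArg (fun z => (ηD S).app ((GE (A := A) (B := B)).obj (Q.obj X)) ≫ z) ((Lf S).map_id _)).trans
    (Category.comp_id _)

/-- `res (Y_{φ f}) ≅ (res Y)_f`, compatibly with the localisation maps -/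
lemma exists_ext_Lf_iso (f : A) (Y : Dual.D A) :
    ∃ c : (GE (A := A) (B := B)).obj ((Lf (Submonoid.powers f)).obj Y) ≅
        (Lf (Submonoid.powers (algebraMap A B f))).obj ((GE (A := A) (B := B)).obj Y),
      (GE (A := A) (B := B)).map ((ηD (Submonoid.powers f)).app Y) ≫ c.hom =
        (ηD (Submonoid.powers (algebraMap A B f))).app ((GE (A := A) (B := B)).obj Y) := by
  let X := Q.objPreimage Y
  let e : Q.obj X ≅ Y := Q.objObjPreimageIso Y
  set S' := Submonoid.powers f with hS'
  set S := Submonoid.powers (algebraMap A B f) with hS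
  obtain ⟨c₀, hc₀⟩ : ∃ c : (GE (A := A) (B := B)).obj ((Lf S').obj (Q.obj X)) ≅
        (Lf S).obj ((GE (A := A) (B := B)).obj (Q.obj X)),
      (GE (A := A) (B := B)).map ((ηD S').app (Q.obj X)) ≫ c.hom =
        (ηD S).app ((GE (A := A) (B := B)).obj (Q.obj X)) := exists_ext_Lf_Q_iso (B := B) f X
  refine ⟨(GE (A := A) (B := B)).mapIso ((Lf S').mapIso e.symm) ≪≫ c₀ ≪≫
    (Lf S).mapIso ((GE (A := A) (B := B)).mapIso e), ?_⟩
  show (GE (A := A) (B := B)).map ((ηD S').app Y) ≫ (GE (A := A) (B := B)).map ((Lf S').map e.inv) ≫ c₀.hom ≫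
    (Lf S).map ((GE (A := A) (B := B)).map e.hom) = _
  have n1 : (ηD S').app Y ≫ (Lf S').map e.inv = e.inv ≫ (ηD S').app (Q.obj X) :=
    ((ηD S').naturality e.inv).symm
  have n2 : (ηD S).app ((GE (A := A) (B := B)).obj (Q.obj X)) ≫ (Lf S).map ((GE (A := A) (B := B)).map e.hom) =
      (GE (A := A) (B := B)).map e.hom ≫ (ηD S).app ((GE (A := A) (B := B)).obj Y) :=
    ((ηD S).naturality ((GE (A := A) (B := B)).map e.hom)).symm
  rw [← Category.assoc, ← (GE (A := A) (B := B)).map_comp, n1, (GE (A := A) (B := B)).map_comp, Category.assoc,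
    ← Category.assoc ((GE (A := A) (B := B)).map ((ηD S').app (Q.obj X))), hc₀, n2, ← Category.assoc,
    ← (GE (A := A) (B := B)).map_comp, e.inv_hom_id]
  exact (congrArg (fun z => z ≫ (ηD S).app ((GE (A := A) (B := B)).obj Y)) ((GE (A := A) (B := B)).map_id _)).trans
    (Category.id_comp _)


/-- flat base change preserves iterated fibres of localisation maps -/
lemma IsCech.ext : ∀ (fs : List A) {X Y : Dual.D A} {p : Y ⟶ X} (_ : IsCech fs X Y p),
    IsCech (fs.map (algebraMap A B)) ((GE (A := A) (B := B)).obj X)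
      ((GE (A := A) (B := B)).obj Y) ((GE (A := A) (B := B)).map p)
  | [], X, Y, p, h => by
    have hp : IsIso p := h
    show IsIso ((GE (A := A) (B := B)).map p)
    infer_instance
  | f :: fs, X, Y, p, h => by
    obtain ⟨Y₁, p₁, p₂, h₁, h₂, rfl⟩ := h
    refine ⟨(GE (A := A) (B := B)).obj Y₁, (GE (A := A) (B := B)).map p₁,
      (GE (A := A) (B := B)).map p₂, IsCech.ext fs h₁, ?_, (GE (A := A) (B := B)).map_comp _ _⟩
    obtain ⟨δ, hT⟩ := h₂
    obtain ⟨c, hc⟩ := exists_ext_Lf_iso (B := B) f Y₁
    have hT' := (GE (A := A) (B := B)).map_distinguished _ hT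
    have h3 : DT ((GE (A := A) (B := B)).map p₂)
        ((GE (A := A) (B := B)).map ((ηD (Submonoid.powers f)).app Y₁)) := ⟨_, hT'⟩
    have h4 := DT.of_iso_right h3 c
    rw [hc] at h4
    exact h4

/-- `(RΓ_I K) ⊗_A B ≅ RΓ_{IB} (K ⊗_A B)` for `B` flat over `A`, both Noetherian -/
theorem nonempty_ext_Rgamma_iso [IsNoetherianRing A] [IsNoetherianRing B] (I : Ideal A)
    [HasRgammaI I] [HasRgammaI (I.map (algebraMap A B))] (K : Dual.D A) :
    Nonempty ((GE (A := A) (B := B)).obj ((RgammaI I).obj K) ≅
      (RgammaI (I.map (algebraMap A B))).obj ((GE (A := A) (B := B)).obj K)) := by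
  obtain ⟨fs, hfs⟩ := exists_list_span I
  have hJ : Ideal.span {x | x ∈ fs.map (algebraMap A B)} = I.map (algebraMap A B) := by
    rw [← hfs, Ideal.map_span]
    congr 1
    ext x
    simp only [List.mem_map, Set.mem_setOf_eq, Set.mem_image]
  have h1 := Groth.Agent.H46.GammaTower.isCech_Rgamma fs I hfs K
  have h2 := IsCech.ext (B := B) fs h1
  have h3 := Groth.Agent.H46.GammaTower.isCech_Rgamma (fs.map (algebraMap A B)) _ hJ
    ((GE (A := A) (B := B)).obj K)
  obtain ⟨e, -⟩ := IsCech.unique (fs.map (algebraMap A B)) h2 h3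
  exact ⟨e⟩

/-- cohomology commutes with flat base change -/
theorem nonempty_homology_GE_iso (L : Dual.D A) (i : ℤ) :
    Nonempty ((homologyFunctor (ModuleCat.{u} B) i).obj ((GE (A := A) (B := B)).obj L) ≅
      (extM (A := A) (B := B)).obj ((homologyFunctor (ModuleCat.{u} A) i).obj L)) := by
  let E := (Q (C := ModuleCat.{u} A)).objPreimage L
  let e : Q.obj E ≅ L := (Q (C := ModuleCat.{u} A)).objObjPreimageIso L
  let F := extM (A := A) (B := B)
  have e1 : (homologyFunctor (ModuleCat.{u} B) i).obj ((GE (A := A) (B := B)).obj L) ≅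
      (homologyFunctor (ModuleCat.{u} B) i).obj
        (Q.obj ((F.mapHomologicalComplex (ComplexShape.up ℤ)).obj E)) :=
    (homologyFunctor (ModuleCat.{u} B) i).mapIso
      ((GE (A := A) (B := B)).mapIso e.symm ≪≫ (F.mapDerivedCategoryFactors).app E)
  have e2 : (homologyFunctor (ModuleCat.{u} B) i).obj
        (Q.obj ((F.mapHomologicalComplex (ComplexShape.up ℤ)).obj E)) ≅
      ((E.sc i).map F).homology :=
    (homologyFunctorFactors (ModuleCat.{u} B) i).app
      ((F.mapHomologicalComplex (ComplexShape.up ℤ)).obj E)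
  have e3 : ((E.sc i).map F).homology ≅ F.obj (E.sc i).homology := (E.sc i).mapHomologyIso F
  have e4 : F.obj (E.sc i).homology ≅ F.obj ((homologyFunctor (ModuleCat.{u} A) i).obj L) :=
    F.mapIso (((homologyFunctorFactors (ModuleCat.{u} A) i).app E).symm ≪≫
      (homologyFunctor (ModuleCat.{u} A) i).mapIso e)
  exact ⟨e1 ≪≫ e2 ≪≫ e3 ≪≫ e4⟩

/-- derived base change along a flat map is computed termwise -/
theorem nonempty_LBaseChange_iso_GE [DRing.HasLBaseChange (algebraMap A B)] (K : Dual.D A) :
    Nonempty ((DRing.LBaseChange (algebraMap A B)).obj K ≅ (GE (A := A) (B := B)).obj K) := by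
  obtain ⟨P, hP, -, ⟨e⟩⟩ := Groth.Agent.H35.LBC.exists_kflat_model K
  exact ⟨(DRing.LBaseChange (algebraMap A B)).mapIso e.symm ≪≫
    Groth.Agent.H53.LBaseChange.objIso (algebraMap A B) P hP ≪≫
    ((ef (A := A) (B := B)).app P).symm ≪≫ (GE (A := A) (B := B)).mapIso e⟩

end Flat

end Groth.Agent.H46.RgammaExt
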