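import Mathlib
import Groth.Agent.H46.KrullAkizuki

set_option autoImplicit false
set_option linter.unusedSectionVars false
set_option linter.unusedVariables false
set_option linter.style.haveILetI false

namespace Groth.Agent.H46.SLV

open IsDedekindDomain

universe u

/-- combining finitely many discrete valuations: a subring containing for each valuation an element
of value `> 1` contains an element of value `> 1` for all of them simultaneously. -/
theorem exists_mem_forall_lt {K : Type*} [Field K] (A : Subring K) {ι : Type*} (s : Finset ι)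
    (w : ι → Valuation K (WithZero (Multiplicative ℤ)))
    (h : ∀ j ∈ s, ∃ a ∈ A, 1 < w j a) : ∃ x ∈ A, x ≠ 0 ∧ ∀ j ∈ s, 1 < w j x := by
  classical
  induction s using Finset.induction_on with
  | empty => exact ⟨1, A.one_mem, one_ne_zero, fun j hj => absurd hj (Finset.notMem_empty j)⟩
  | insert j0 s hj0 ih =>
    obtain ⟨x, hxA, hx0, hx⟩ := ih (fun j hj => h j (Finset.mem_insert_of_mem hj))
    obtain ⟨y, hyA, hy⟩ := h j0 (Finset.mem_insert_self j0 s)
    by_cases hc : 1 < w j0 x
    · refine ⟨x, hxA, hx0, fun j hj => ?_⟩
      rcases Finset.mem_insert.mp hj with rfl | hjs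
      · exact hc
      · exact hx j hjs
    · have hle : w j0 x ≤ 1 := not_lt.mp hc
      have key : ∀ j ∈ s, ∃ N : ℕ, ∀ n, N ≤ n → w j y < (w j x) ^ n := by
        intro j hj
        obtain ⟨N, hN⟩ := MulArchimedean.arch (w j y) (hx j hj)
        refine ⟨N + 1, fun n hn => ?_⟩
        calc w j y ≤ (w j x) ^ N := hN
          _ < (w j x) ^ n := pow_lt_pow_right₀ (hx j hj) (by omega)
      choose! N hN using key
      let n := s.sup N + 1
      refine ⟨x ^ n + y, A.add_mem (A.pow_mem hxA n) hyA, ?_, fun j hj => ?_⟩
      · intro hzero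
        have h1 : w j0 (x ^ n + y) = w j0 y := by
          apply Valuation.map_add_eq_of_lt_right
          rw [map_pow]
          exact lt_of_le_of_lt (pow_le_one₀ zero_le hle) hy
        rw [hzero, map_zero] at h1
        rw [← h1] at hy
        exact absurd hy (not_lt.mpr zero_le)
      · rcases Finset.mem_insert.mp hj with rfl | hjs
        · have h1 : w j (x ^ n + y) = w j y := by
            apply Valuation.map_add_eq_of_lt_right
            rw [map_pow]
            exact lt_of_le_of_lt (pow_le_one₀ zero_le hle) hy
          rw [h1]; exact hy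
        · have hn : N j ≤ n := (Finset.le_sup (f := N) hjs).trans (Nat.le_succ _)
          have h2 : w j y < w j (x ^ n) := by rw [map_pow]; exact hN j hjs n hn
          rw [Valuation.map_add_eq_of_lt_left _ h2, map_pow]
          exact one_lt_pow₀ (hx j hjs) (by omega)

section PerRing

variable (K : Type u) [Field K] (B0 : Subring K) [IsNoetherianRing B0] [IsFractionRing B0 K]

theorem exists_valuations (hdim : ringKrullDim B0 = 1) (hsl : Finite (MaximalSpectrum B0)) :
    ∃ (ι : Type u) (_ : Finite ι) (w : ι → Valuation K (WithZero (Multiplicative ℤ))),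
      (∀ j, ∀ b ∈ B0, w j b ≤ 1) ∧ (∀ j, ∃ c : K, 1 < w j c) ∧
      ∀ y : K, (∀ j, w j y < 1) → ∃ n : ℕ, 0 < n ∧ ∀ k : ℕ, 0 < k →
        ∃ h : y ^ (n * k) ∈ B0, (⟨y ^ (n * k), h⟩ : B0) ∈ (⊥ : Ideal B0).jacobson := by
  classical
  haveI : Ring.KrullDimLE 1 B0 := Ring.krullDimLE_iff.mpr (by rw [hdim, Nat.cast_one])
  haveI hDed : IsDedekindDomain (integralClosure B0 K) :=
    KA.isDedekindDomain_of_isIntegralClosure B0 K K (integralClosure B0 K)
  haveI hFr : IsFractionRing (integralClosure B0 K) K :=
    IsIntegralClosure.isFractionRing_of_finite_extension B0 K K (integralClosure B0 K)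
  haveI hfinMax : Finite (MaximalSpectrum (integralClosure B0 K)) :=
    KA.finite_maximalSpectrum B0 K K (integralClosure B0 K) hsl
  have hinjC : Function.Injective (algebraMap (integralClosure B0 K) K) := Subtype.val_injective
  -- the integral closure is not a field
  have hnotfield : ¬ IsField (integralClosure B0 K) := by
    intro hF
    have hB : IsField B0 := isField_of_isIntegral_of_isField
      (R := B0) (S := integralClosure B0 K) (by
        intro a b hab
        have := congrArg (algebraMap (integralClosure B0 K) K) hab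
        rw [← IsScalarTower.algebraMap_apply, ← IsScalarTower.algebraMap_apply] at this
        exact (IsFractionRing.injective B0 K) this) hF
    have := ringKrullDim_eq_zero_of_isField hB
    rw [hdim] at this
    simp at this
  haveI hfinH : Finite (HeightOneSpectrum (integralClosure B0 K)) := by
    refine Finite.of_injective
      (fun v : HeightOneSpectrum (integralClosure B0 K) =>
        (⟨v.asIdeal, v.isMaximal⟩ : MaximalSpectrum (integralClosure B0 K))) ?_
    intro v v' hvv
    have : v.asIdeal = v'.asIdeal := congrArg MaximalSpectrum.asIdeal hvv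
    exact HeightOneSpectrum.ext this
  refine ⟨HeightOneSpectrum (integralClosure B0 K), hfinH, fun v => v.valuation K, ?_, ?_, ?_⟩
  · intro v b hb
    have hint : IsIntegral B0 (b : K) := by
      have : (b : K) = algebraMap B0 K ⟨b, hb⟩ := rfl
      rw [this]; exact isIntegral_algebraMap
    exact v.valuation_le_one (K := K) (⟨b, hint⟩ : integralClosure B0 K)
  · intro v
    obtain ⟨c, hcv, hc0⟩ := Submodule.exists_mem_ne_zero_of_ne_bot v.ne_bot
    have h1 : v.valuation K (algebraMap (integralClosure B0 K) K c) < 1 :=
      (v.valuation_lt_one_iff_mem (K := K) c).mpr hcv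
    have hcK : algebraMap (integralClosure B0 K) K c ≠ 0 := by
      intro h; exact hc0 (hinjC (by rw [h, map_zero]))
    have hpos : 0 < v.valuation K (algebraMap (integralClosure B0 K) K c) :=
      lt_of_le_of_ne zero_le (Ne.symm ((Valuation.ne_zero_iff _).mpr hcK))
    refine ⟨(algebraMap (integralClosure B0 K) K c)⁻¹, ?_⟩
    rw [map_inv₀]
    exact (one_lt_inv₀ hpos).mpr h1
  · intro y hy
    obtain ⟨c, hc⟩ := HeightOneSpectrum.mem_integers_of_valuation_le_one (R := integralClosure B0 K)
      K y (fun v => (hy v).le)
    -- c is in the Jacobson radical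
    have hcJ : c ∈ (⊥ : Ideal (integralClosure B0 K)).jacobson := by
      rw [Ideal.jacobson, Ideal.mem_sInf]
      rintro m ⟨-, hm⟩
      have hmbot : m ≠ ⊥ := by
        intro hmb
        rw [hmb] at hm
        exact hnotfield (Ring.isField_iff_maximal_bot.mpr hm)
      let v : HeightOneSpectrum (integralClosure B0 K) := ⟨m, hm.isPrime, hmbot⟩
      have h3 : v.valuation K (algebraMap (integralClosure B0 K) K c) < 1 := by
        rw [hc]; exact hy v
      exact (v.valuation_lt_one_iff_mem (K := K) c).mp h3
    obtain ⟨n0, b, hb⟩ := KA.exists_pow_mul_mem B0 K (integralClosure B0 K) hinjC c hcJ c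
    have hyn : y ^ (n0 + 1) ∈ B0 := by
      have : y ^ (n0 + 1) = (b : K) := by
        have h2 : algebraMap B0 K b = (b : K) := rfl
        rw [← h2, hb, map_mul, map_pow, hc, pow_succ]
      rw [this]; exact b.2
    refine ⟨n0 + 1, Nat.succ_pos _, fun k hk => ?_⟩
    have hmem : y ^ ((n0 + 1) * k) ∈ B0 := by
      rw [pow_mul]; exact B0.pow_mem hyn k
    refine ⟨hmem, ?_⟩
    rw [Ideal.jacobson, Ideal.mem_sInf]
    rintro m ⟨-, hm⟩
    haveI := hm
    obtain ⟨Q, hQmax, hQm⟩ := Ideal.exists_ideal_over_maximal_of_isIntegral
      (S := integralClosure B0 K) m (by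
        have hinjBC : Function.Injective (algebraMap B0 (integralClosure B0 K)) := by
          intro a b' hab
          have := congrArg (algebraMap (integralClosure B0 K) K) hab
          rw [← IsScalarTower.algebraMap_apply, ← IsScalarTower.algebraMap_apply] at this
          exact (IsFractionRing.injective B0 K) this
        rw [(RingHom.injective_iff_ker_eq_bot _).mp hinjBC]
        exact bot_le)
    have hcQ : c ∈ Q := by
      have : (⊥ : Ideal (integralClosure B0 K)).jacobson ≤ Q := by
        rw [Ideal.jacobson]
        exact sInf_le ⟨bot_le, hQmax⟩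
      exact this hcJ
    have hpowQ : c ^ ((n0 + 1) * k) ∈ Q := Ideal.pow_mem_of_mem Q hcQ _ (Nat.mul_pos (Nat.succ_pos _) hk)
    rw [← hQm, Ideal.mem_comap]
    have heq : algebraMap B0 (integralClosure B0 K) ⟨y ^ ((n0 + 1) * k), hmem⟩ =
        c ^ ((n0 + 1) * k) := by
      apply hinjC
      rw [← IsScalarTower.algebraMap_apply, map_pow, hc]
      rfl
    rw [heq]
    exact hpowQ

end PerRing

end Groth.Agent.H46.SLV
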