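import Mathlib
import Groth.Prelude.Def_PP16

/-!
# The canonical map `Sym^n(Ω) → I^n/I^(n+1)` (helper46)

Universal property of `SymmetricPower`, and the canonical surjection from symmetric powers of the
Kähler differentials to the graded pieces of the diagonal ideal.
-/

namespace Groth.Agent.H46.SymGr

universe u v w

open scoped TensorProduct

section lift

variable {R : Type u} {ι : Type u} [CommRing R] {M : Type v} [AddCommGroup M] [Module R M]
  {N : Type w} [AddCommGroup N] [Module R N]

theorem lift_ker (f : MultilinearMap R (fun _ : ι => M) N)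
    (hf : ∀ (e : Equiv.Perm ι) (x : ι → M), f (fun i => x (e i)) = f x) :
    addConGen (SymmetricPower.Rel R ι M) ≤ AddCon.ker (PiTensorProduct.lift f).toAddMonoidHom := by
  rw [AddCon.addConGen_le]
  intro x y h
  cases h with
  | perm e g =>
    rw [AddCon.ker_rel, LinearMap.toAddMonoidHom_coe, PiTensorProduct.lift.tprod,
      PiTensorProduct.lift.tprod]
    exact (hf e g).symm

/-- universal property of the symmetric power -/
noncomputable def symLift (f : MultilinearMap R (fun _ : ι => M) N)
    (hf : ∀ (e : Equiv.Perm ι) (x : ι → M), f (fun i => x (e i)) = f x) :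
    SymmetricPower R ι M →ₗ[R] N where
  toFun := AddCon.lift (addConGen (SymmetricPower.Rel R ι M))
    (PiTensorProduct.lift f).toAddMonoidHom (lift_ker f hf)
  map_add' x y := map_add _ x y
  map_smul' r x := by
    induction x using AddCon.induction_on with
    | H t =>
      change AddCon.lift _ _ (lift_ker f hf) (r • SymmetricPower.mk R ι M t) =
        r • AddCon.lift _ _ (lift_ker f hf) (SymmetricPower.mk R ι M t)
      rw [← (SymmetricPower.mk R ι M).map_smul r t]
      show (PiTensorProduct.lift f) (r • t) = r • (PiTensorProduct.lift f) t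
      rw [map_smul]

@[simp]
theorem symLift_tprod (f : MultilinearMap R (fun _ : ι => M) N)
    (hf : ∀ (e : Equiv.Perm ι) (x : ι → M), f (fun i => x (e i)) = f x) (x : ι → M) :
    symLift f hf (SymmetricPower.tprod R x) = f x := by
  show (PiTensorProduct.lift f) (PiTensorProduct.tprod R x) = f x
  rw [PiTensorProduct.lift.tprod]

end lift

section ringlemma

variable {R : Type u} [CommRing R] (I : Ideal R)

theorem prod_sub_prod_mem {ι : Type*} (s : Finset ι) (x y : ι → R)
    (hx : ∀ i ∈ s, x i ∈ I) (hy : ∀ i ∈ s, y i ∈ I) (hxy : ∀ i ∈ s, x i - y i ∈ I ^ 2) :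
    ∏ i ∈ s, x i - ∏ i ∈ s, y i ∈ I ^ (s.card + 1) := by
  classical
  induction s using Finset.induction_on with
  | empty => simp
  | insert a s ha ih =>
    rw [Finset.prod_insert ha, Finset.prod_insert ha, Finset.card_insert_of_notMem ha]
    have h1 : x a * ∏ i ∈ s, x i - y a * ∏ i ∈ s, y i =
        (x a - y a) * ∏ i ∈ s, x i + y a * (∏ i ∈ s, x i - ∏ i ∈ s, y i) := by ring
    rw [h1]
    apply Ideal.add_mem
    · have h2 : ∏ i ∈ s, x i ∈ I ^ s.card := by
        have := Ideal.prod_mem_prod (s := s) (I := fun _ => I) (x := x)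
          (fun i hi => hx i (Finset.mem_insert_of_mem hi))
        simpa using this
      have h3 := Ideal.mul_mem_mul (hxy a (Finset.mem_insert_self a s)) h2
      rw [← pow_add] at h3
      have : 2 + s.card = s.card + 1 + 1 := by omega
      rwa [this] at h3
    · have h2 := ih (fun i hi => hx i (Finset.mem_insert_of_mem hi))
        (fun i hi => hy i (Finset.mem_insert_of_mem hi))
        (fun i hi => hxy i (Finset.mem_insert_of_mem hi))
      have h3 := Ideal.mul_mem_mul (hy a (Finset.mem_insert_self a s)) h2
      rwa [← pow_succ'] at h3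

end ringlemma

section canon

variable (A B : Type u) [CommRing A] [CommRing B] [Algebra A B]

/-- product of a family in `I` as an element of `I^n` -/
noncomputable def prodI {ι : Type u} [Fintype ι] (x : ι → ↥(KaehlerDifferential.ideal A B)) :
    ↥(((KaehlerDifferential.ideal A B) ^ Fintype.card ι).restrictScalars B) :=
  ⟨∏ i, (x i : B ⊗[A] B), by
    simpa using PP16.prod_mem_pow (KaehlerDifferential.ideal A B) Finset.univ
      (fun i => (x i : B ⊗[A] B)) (fun i _ => (x i).2)⟩

/-- class of the product in `I^n/I^(n+1)` -/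
noncomputable def Psi {ι : Type u} [Fintype ι] (x : ι → ↥(KaehlerDifferential.ideal A B)) :
    PP16.grI A B (Fintype.card ι) :=
  Submodule.Quotient.mk (prodI A B x)

theorem zetaProd_eq {ι : Type u} [Fintype ι] (b : ι → B) :
    PP16.zetaProd A B b = Psi A B (fun i =>
      ⟨(1 : B) ⊗ₜ[A] b i - b i ⊗ₜ[A] (1 : B),
        KaehlerDifferential.one_smul_sub_smul_one_mem_ideal A (b i)⟩) := rfl

theorem Psi_eq_iff {ι : Type u} [Fintype ι] (x y : ι → ↥(KaehlerDifferential.ideal A B)) :
    Psi A B x = Psi A B y ↔
      (∏ i, (x i : B ⊗[A] B) - ∏ i, (y i : B ⊗[A] B)) ∈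
        (KaehlerDifferential.ideal A B) ^ (Fintype.card ι + 1) := by
  unfold Psi
  rw [Submodule.Quotient.eq]
  rfl

theorem Psi_congr {ι : Type u} [Fintype ι] (x y : ι → ↥(KaehlerDifferential.ideal A B))
    (h : ∀ i, (KaehlerDifferential.ideal A B).toCotangent (x i) =
      (KaehlerDifferential.ideal A B).toCotangent (y i)) :
    Psi A B x = Psi A B y := by
  rw [Psi_eq_iff]
  have := prod_sub_prod_mem (KaehlerDifferential.ideal A B) Finset.univ
    (fun i => (x i : B ⊗[A] B)) (fun i => (y i : B ⊗[A] B)) (fun i _ => (x i).2)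
    (fun i _ => (y i).2) (fun i _ => (Ideal.toCotangent_eq _).1 (h i))
  simpa using this

theorem Psi_update_add {ι : Type u} [Fintype ι] [DecidableEq ι]
    (X : ι → ↥(KaehlerDifferential.ideal A B)) (i : ι) (p q : ↥(KaehlerDifferential.ideal A B)) :
    Psi A B (Function.update X i (p + q)) =
      Psi A B (Function.update X i p) + Psi A B (Function.update X i q) := by
  unfold Psi
  rw [← Submodule.Quotient.mk_add]
  congr 1
  apply Subtype.ext
  show ∏ j, ((Function.update X i (p + q) j : ↥(KaehlerDifferential.ideal A B)) : B ⊗[A] B) =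
    ∏ j, ((Function.update X i p j : ↥(KaehlerDifferential.ideal A B)) : B ⊗[A] B) +
    ∏ j, ((Function.update X i q j : ↥(KaehlerDifferential.ideal A B)) : B ⊗[A] B)
  have key : ∀ v : ↥(KaehlerDifferential.ideal A B),
      ∏ j, ((Function.update X i v j : ↥(KaehlerDifferential.ideal A B)) : B ⊗[A] B) =
        (v : B ⊗[A] B) * ∏ j ∈ Finset.univ \ {i}, (X j : B ⊗[A] B) := by
    intro v
    have h1 : (fun j => ((Function.update X i v j : ↥(KaehlerDifferential.ideal A B)) :
        B ⊗[A] B)) = Function.update (fun j => (X j : B ⊗[A] B)) i (v : B ⊗[A] B) := by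
      funext j
      by_cases hj : j = i
      · subst hj; simp
      · simp [hj]
    rw [h1, Finset.prod_update_of_mem (Finset.mem_univ i)]
  rw [key, key, key]
  push_cast
  ring

theorem Psi_update_smul {ι : Type u} [Fintype ι] [DecidableEq ι]
    (X : ι → ↥(KaehlerDifferential.ideal A B)) (i : ι) (c : B)
    (p : ↥(KaehlerDifferential.ideal A B)) :
    Psi A B (Function.update X i (c • p)) = c • Psi A B (Function.update X i p) := by
  unfold Psi
  rw [← Submodule.Quotient.mk_smul]
  congr 1
  apply Subtype.ext
  show ∏ j, ((Function.update X i (c • p) j : ↥(KaehlerDifferential.ideal A B)) : B ⊗[A] B) =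
    c • ∏ j, ((Function.update X i p j : ↥(KaehlerDifferential.ideal A B)) : B ⊗[A] B)
  have key : ∀ v : ↥(KaehlerDifferential.ideal A B),
      ∏ j, ((Function.update X i v j : ↥(KaehlerDifferential.ideal A B)) : B ⊗[A] B) =
        (v : B ⊗[A] B) * ∏ j ∈ Finset.univ \ {i}, (X j : B ⊗[A] B) := by
    intro v
    have h1 : (fun j => ((Function.update X i v j : ↥(KaehlerDifferential.ideal A B)) :
        B ⊗[A] B)) = Function.update (fun j => (X j : B ⊗[A] B)) i (v : B ⊗[A] B) := by
      funext j
      by_cases hj : j = i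
      · subst hj; simp
      · simp [hj]
    rw [h1, Finset.prod_update_of_mem (Finset.mem_univ i)]
  rw [key, key]
  have : ((c • p : ↥(KaehlerDifferential.ideal A B)) : B ⊗[A] B) = c • (p : B ⊗[A] B) := rfl
  rw [this, smul_mul_assoc]

/-- a set-theoretic section of `I → Ω` -/
noncomputable def out (w : Ω[B⁄A]) : ↥(KaehlerDifferential.ideal A B) :=
  (KaehlerDifferential.fromIdeal_surjective A B w).choose

theorem fromIdeal_out (w : Ω[B⁄A]) : KaehlerDifferential.fromIdeal A B (out A B w) = w :=
  (KaehlerDifferential.fromIdeal_surjective A B w).choose_spec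

theorem Psi_congr' {ι : Type u} [Fintype ι] (x y : ι → ↥(KaehlerDifferential.ideal A B))
    (h : ∀ i, KaehlerDifferential.fromIdeal A B (x i) = KaehlerDifferential.fromIdeal A B (y i)) :
    Psi A B x = Psi A B y :=
  Psi_congr A B x y h

theorem fromIdeal_smul (c : B) (p : ↥(KaehlerDifferential.ideal A B)) :
    KaehlerDifferential.fromIdeal A B (c • p) = c • KaehlerDifferential.fromIdeal A B p :=
  LinearMap.map_smul_of_tower _ c p

/-- the canonical multilinear map `Ω^ι → I^n/I^(n+1)` -/
noncomputable def PhiML (ι : Type u) [Fintype ι] :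
    MultilinearMap B (fun _ : ι => Ω[B⁄A]) (PP16.grI A B (Fintype.card ι)) where
  toFun w := Psi A B (fun i => out A B (w i))
  map_update_add' := by
    intro _ w i a b
    have h : ∀ v : Ω[B⁄A], (fun j => out A B (Function.update w i v j)) =
        Function.update (fun j => out A B (w j)) i (out A B v) := by
      intro v
      funext j
      by_cases hj : j = i
      · subst hj; simp
      · simp [hj]
    rw [h, h, h]
    rw [← Psi_update_add]
    apply Psi_congr'
    intro j
    by_cases hj : j = i
    · subst hj
      simp only [Function.update_self]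
      rw [map_add, fromIdeal_out, fromIdeal_out, fromIdeal_out]
    · simp [hj]
  map_update_smul' := by
    intro _ w i c a
    have h : ∀ v : Ω[B⁄A], (fun j => out A B (Function.update w i v j)) =
        Function.update (fun j => out A B (w j)) i (out A B v) := by
      intro v
      funext j
      by_cases hj : j = i
      · subst hj; simp
      · simp [hj]
    rw [h, h]
    rw [← Psi_update_smul]
    apply Psi_congr'
    intro j
    by_cases hj : j = i
    · subst hj
      simp only [Function.update_self]
      rw [fromIdeal_smul, fromIdeal_out, fromIdeal_out]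
    · simp [hj]

theorem PhiML_symm (ι : Type u) [Fintype ι] (e : Equiv.Perm ι) (w : ι → Ω[B⁄A]) :
    PhiML A B ι (fun i => w (e i)) = PhiML A B ι w := by
  show Psi A B (fun i => out A B (w (e i))) = Psi A B (fun i => out A B (w i))
  unfold Psi
  congr 1
  apply Subtype.ext
  show ∏ i, ((out A B (w (e i)) : ↥(KaehlerDifferential.ideal A B)) : B ⊗[A] B) =
    ∏ i, ((out A B (w i) : ↥(KaehlerDifferential.ideal A B)) : B ⊗[A] B)
  exact Equiv.prod_comp e (fun i => ((out A B (w i) : ↥(KaehlerDifferential.ideal A B)) :
    B ⊗[A] B))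

/-- the canonical linear map `Sym^ι(Ω) → I^n/I^(n+1)` -/
noncomputable def phi (ι : Type u) [Fintype ι] :
    SymmetricPower B ι Ω[B⁄A] →ₗ[B] PP16.grI A B (Fintype.card ι) :=
  symLift (PhiML A B ι) (PhiML_symm A B ι)

theorem phi_tprod_fromIdeal (ι : Type u) [Fintype ι]
    (x : ι → ↥(KaehlerDifferential.ideal A B)) :
    phi A B ι (SymmetricPower.tprod B (fun i => KaehlerDifferential.fromIdeal A B (x i))) =
      Psi A B x := by
  unfold phi
  rw [symLift_tprod]
  show Psi A B (fun i => out A B (KaehlerDifferential.fromIdeal A B (x i))) = Psi A B x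
  apply Psi_congr'
  intro i
  rw [fromIdeal_out]

theorem phi_tprod_D (ι : Type u) [Fintype ι] (b : ι → B) :
    phi A B ι (SymmetricPower.tprod B (fun i => KaehlerDifferential.D A B (b i))) =
      PP16.zetaProd A B b := by
  rw [zetaProd_eq]
  exact phi_tprod_fromIdeal A B ι _

end canon

section surj

variable (A B : Type u) [CommRing A] [CommRing B] [Algebra A B]

/-- `B`-span of the `n`-fold products of elements of `I` -/
def Sfin (n : ℕ) : Submodule B (B ⊗[A] B) :=
  Submodule.span B {z | ∃ x : Fin n → ↥(KaehlerDifferential.ideal A B),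
    z = ∏ j, (x j : B ⊗[A] B)}

theorem pow_le_Sfin_sup (n : ℕ) :
    ((KaehlerDifferential.ideal A B) ^ n).restrictScalars B ≤
      Sfin A B n ⊔ ((KaehlerDifferential.ideal A B) ^ (n + 1)).restrictScalars B := by
  induction n with
  | zero =>
    intro y _
    rw [Submodule.mem_sup]
    refine ⟨Algebra.TensorProduct.lmul' A y ⊗ₜ[A] (1 : B), ?_,
      y - Algebra.TensorProduct.lmul' A y ⊗ₜ[A] (1 : B), ?_, by abel⟩
    · have : Algebra.TensorProduct.lmul' (S := B) A y ⊗ₜ[A] (1 : B) =
          (Algebra.TensorProduct.lmul' (S := B) A y) • (1 : B ⊗[A] B) := by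
        rw [Algebra.TensorProduct.one_def, TensorProduct.smul_tmul', smul_eq_mul, mul_one]
      rw [this]
      apply Submodule.smul_mem
      apply Submodule.subset_span
      exact ⟨Fin.elim0, by simp⟩
    · rw [Submodule.restrictScalars_mem, zero_add, pow_one, RingHom.mem_ker, map_sub]
      simp
  | succ n ih =>
    intro y hy
    rw [Submodule.restrictScalars_mem, pow_succ'] at hy
    refine Submodule.mul_induction_on hy ?_ ?_
    · intro a ha b hb
      have hb' := ih ((Submodule.restrictScalars_mem B _ _).2 hb)
      rw [Submodule.mem_sup] at hb'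
      obtain ⟨s, hs, t, ht, rfl⟩ := hb'
      clear hb
      rw [mul_add]
      apply Submodule.add_mem_sup
      · unfold Sfin at hs
        induction hs using Submodule.span_induction with
        | mem z hz =>
          obtain ⟨x, rfl⟩ := hz
          apply Submodule.subset_span
          refine ⟨Fin.cons ⟨a, ha⟩ x, ?_⟩
          rw [Fin.prod_univ_succ]
          simp
        | zero => rw [mul_zero]; exact zero_mem _
        | add z z' _ _ hz hz' => rw [mul_add]; exact add_mem hz hz'
        | smul c z _ hz => rw [mul_smul_comm]; exact Submodule.smul_mem _ c hz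
      · rw [Submodule.restrictScalars_mem] at ht ⊢
        rw [pow_succ' _ (n + 1)]
        exact Ideal.mul_mem_mul ha ht
    · intro x y hx hy; exact add_mem hx hy

theorem phi_surjective (ι : Type u) [Fintype ι] : Function.Surjective (phi A B ι) := by
  intro z
  obtain ⟨⟨y, hy⟩, rfl⟩ := Submodule.Quotient.mk_surjective _ z
  have h1 := pow_le_Sfin_sup A B (Fintype.card ι) hy
  rw [Submodule.mem_sup] at h1
  obtain ⟨s, hs, t, ht, hst⟩ := h1
  unfold Sfin at hs
  rw [Submodule.mem_span_set'] at hs
  obtain ⟨m, c, g, hsum⟩ := hs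
  choose xk hxk using fun k => (g k).2
  let e := Fintype.equivFin ι
  refine ⟨∑ k, c k • SymmetricPower.tprod B
    (fun i => KaehlerDifferential.fromIdeal A B (xk k (e i))), ?_⟩
  rw [map_sum]
  simp_rw [map_smul, phi_tprod_fromIdeal]
  unfold Psi
  simp_rw [← Submodule.Quotient.mk_smul]
  have hms : ∑ k, (Submodule.Quotient.mk (c k • prodI A B (fun i => xk k (e i))) :
      PP16.grI A B (Fintype.card ι)) =
      Submodule.Quotient.mk (∑ k, c k • prodI A B (fun i => xk k (e i))) :=
    (map_sum (Submodule.mkQ _) _ _).symm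
  rw [hms, Submodule.Quotient.eq, Submodule.mem_comap]
  have hval : ((((∑ k, c k • prodI A B (fun i => xk k (e i))) - ⟨y, hy⟩ :
      ↥(((KaehlerDifferential.ideal A B) ^ Fintype.card ι).restrictScalars B)) :
      B ⊗[A] B)) = -t := by
    have h2 : ∀ k, ((prodI A B (fun i => xk k (e i)) :
        ↥(((KaehlerDifferential.ideal A B) ^ Fintype.card ι).restrictScalars B)) : B ⊗[A] B) =
        (g k : B ⊗[A] B) := by
      intro k
      rw [hxk k]
      show ∏ i, ((xk k (e i) : ↥(KaehlerDifferential.ideal A B)) : B ⊗[A] B) = _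
      exact Equiv.prod_comp e (fun j => ((xk k j : ↥(KaehlerDifferential.ideal A B)) : B ⊗[A] B))
    rw [Submodule.coe_sub, Submodule.coe_sum]
    simp_rw [Submodule.coe_smul, h2]
    rw [hsum]
    show s - y = -t
    rw [← hst]; abel
  show ((((∑ k, c k • prodI A B (fun i => xk k (e i))) - ⟨y, hy⟩ :
      ↥(((KaehlerDifferential.ideal A B) ^ Fintype.card ι).restrictScalars B)) :
      B ⊗[A] B)) ∈ _
  rw [hval]
  exact neg_mem ht

end surj

end Groth.Agent.H46.SymGr
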