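import Groth.Agent.H46.SymGr

/-!
# The canonical map `Sym^n(J/J²) → J^n/J^(n+1)` for an ideal (helper46)
-/

namespace Groth.Agent.H46.SymGrJ

open Groth.Agent.H46.SymGr

universe u

section canon

variable (R : Type u) [CommRing R] (J : Ideal R)

/-- product of a family in `J` as an element of `J^n` -/
noncomputable def prodJ {ι : Type u} [Fintype ι] (x : ι → ↥J) : ↥(J ^ Fintype.card ι) :=
  ⟨∏ i, (x i : R), by
    simpa using PP16.prod_mem_pow J Finset.univ (fun i => (x i : R)) (fun i _ => (x i).2)⟩

theorem zetaJ_eq {ι : Type u} [Fintype ι] (x : ι → ↥J) :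
    PP16.zetaJ R J x = Submodule.Quotient.mk (prodJ R J x) := rfl

theorem zetaJ_eq_iff {ι : Type u} [Fintype ι] (x y : ι → ↥J) :
    PP16.zetaJ R J x = PP16.zetaJ R J y ↔
      (∏ i, (x i : R) - ∏ i, (y i : R)) ∈ J ^ (Fintype.card ι + 1) := by
  rw [zetaJ_eq, zetaJ_eq, Submodule.Quotient.eq]
  rfl

theorem zetaJ_eq_zero_iff {ι : Type u} [Fintype ι] (x : ι → ↥J) :
    PP16.zetaJ R J x = 0 ↔ (∏ i, (x i : R)) ∈ J ^ (Fintype.card ι + 1) := by
  rw [zetaJ_eq, Submodule.Quotient.mk_eq_zero]
  rfl

theorem zetaJ_congr {ι : Type u} [Fintype ι] (x y : ι → ↥J)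
    (h : ∀ i, J.toCotangent (x i) = J.toCotangent (y i)) :
    PP16.zetaJ R J x = PP16.zetaJ R J y := by
  rw [zetaJ_eq_iff]
  have := prod_sub_prod_mem J Finset.univ
    (fun i => (x i : R)) (fun i => (y i : R)) (fun i _ => (x i).2)
    (fun i _ => (y i).2) (fun i _ => (Ideal.toCotangent_eq _).1 (h i))
  simpa using this

theorem prod_update_val {ι : Type u} [Fintype ι] [DecidableEq ι] (X : ι → ↥J) (i : ι) (v : ↥J) :
    ∏ j, ((Function.update X i v j : ↥J) : R) =
      (v : R) * ∏ j ∈ Finset.univ \ {i}, (X j : R) := by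
  have h1 : (fun j => ((Function.update X i v j : ↥J) : R)) =
      Function.update (fun j => (X j : R)) i (v : R) := by
    funext j
    by_cases hj : j = i
    · subst hj; simp
    · simp [hj]
  rw [h1, Finset.prod_update_of_mem (Finset.mem_univ i)]

theorem zetaJ_update_add {ι : Type u} [Fintype ι] [DecidableEq ι]
    (X : ι → ↥J) (i : ι) (p q : ↥J) :
    PP16.zetaJ R J (Function.update X i (p + q)) =
      PP16.zetaJ R J (Function.update X i p) + PP16.zetaJ R J (Function.update X i q) := by
  rw [zetaJ_eq, zetaJ_eq, zetaJ_eq, ← Submodule.Quotient.mk_add]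
  congr 1
  apply Subtype.ext
  show ∏ j, ((Function.update X i (p + q) j : ↥J) : R) =
    ∏ j, ((Function.update X i p j : ↥J) : R) + ∏ j, ((Function.update X i q j : ↥J) : R)
  rw [prod_update_val, prod_update_val, prod_update_val]
  push_cast
  ring

theorem zetaJ_update_smul {ι : Type u} [Fintype ι] [DecidableEq ι]
    (X : ι → ↥J) (i : ι) (c : R) (p : ↥J) :
    PP16.zetaJ R J (Function.update X i (c • p)) = c • PP16.zetaJ R J (Function.update X i p) := by
  rw [zetaJ_eq, zetaJ_eq, ← Submodule.Quotient.mk_smul]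
  congr 1
  apply Subtype.ext
  show ∏ j, ((Function.update X i (c • p) j : ↥J) : R) =
    c • ∏ j, ((Function.update X i p j : ↥J) : R)
  rw [prod_update_val, prod_update_val]
  have : ((c • p : ↥J) : R) = c • (p : R) := rfl
  rw [this, smul_mul_assoc]

/-- a set-theoretic section of `J → J/J²` -/
noncomputable def outJ (w : J.Cotangent) : ↥J := (J.toCotangent_surjective w).choose

theorem toCotangent_outJ (w : J.Cotangent) : J.toCotangent (outJ R J w) = w :=
  (J.toCotangent_surjective w).choose_spec

theorem outJ_update {ι : Type u} [DecidableEq ι] (w : ι → J.Cotangent) (i : ι) (v : J.Cotangent) :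
    (fun j => outJ R J (Function.update w i v j)) =
      Function.update (fun j => outJ R J (w j)) i (outJ R J v) := by
  funext j
  by_cases hj : j = i
  · subst hj; simp
  · simp [hj]

/-- the canonical multilinear map `(J/J²)^ι → J^n/J^(n+1)` -/
noncomputable def PhiJML (ι : Type u) [Fintype ι] :
    MultilinearMap R (fun _ : ι => J.Cotangent) (PP16.grJ R J (Fintype.card ι)) where
  toFun w := PP16.zetaJ R J (fun i => outJ R J (w i))
  map_update_add' := by
    intro _ w i a b
    rw [outJ_update, outJ_update, outJ_update, ← zetaJ_update_add]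
    apply zetaJ_congr
    intro j
    by_cases hj : j = i
    · subst hj
      simp only [Function.update_self]
      rw [map_add, toCotangent_outJ, toCotangent_outJ, toCotangent_outJ]
    · simp [hj]
  map_update_smul' := by
    intro _ w i c a
    rw [outJ_update, outJ_update, ← zetaJ_update_smul]
    apply zetaJ_congr
    intro j
    by_cases hj : j = i
    · subst hj
      simp only [Function.update_self]
      rw [map_smul, toCotangent_outJ, toCotangent_outJ]
    · simp [hj]

theorem PhiJML_symm (ι : Type u) [Fintype ι] (e : Equiv.Perm ι) (w : ι → J.Cotangent) :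
    PhiJML R J ι (fun i => w (e i)) = PhiJML R J ι w := by
  show PP16.zetaJ R J (fun i => outJ R J (w (e i))) = PP16.zetaJ R J (fun i => outJ R J (w i))
  rw [zetaJ_eq, zetaJ_eq]
  congr 1
  apply Subtype.ext
  show ∏ i, ((outJ R J (w (e i)) : ↥J) : R) = ∏ i, ((outJ R J (w i) : ↥J) : R)
  exact Equiv.prod_comp e (fun i => ((outJ R J (w i) : ↥J) : R))

/-- the canonical linear map `Sym^ι(J/J²) → J^n/J^(n+1)` -/
noncomputable def phiJ (ι : Type u) [Fintype ι] :
    SymmetricPower R ι J.Cotangent →ₗ[R] PP16.grJ R J (Fintype.card ι) :=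
  symLift (PhiJML R J ι) (PhiJML_symm R J ι)

theorem phiJ_tprod (ι : Type u) [Fintype ι] (x : ι → ↥J) :
    phiJ R J ι (SymmetricPower.tprod R (fun i => J.toCotangent (x i))) = PP16.zetaJ R J x := by
  unfold phiJ
  rw [symLift_tprod]
  show PP16.zetaJ R J (fun i => outJ R J (J.toCotangent (x i))) = PP16.zetaJ R J x
  apply zetaJ_congr
  intro i
  rw [toCotangent_outJ]

/-- `R`-span of the `n`-fold products of elements of `J` -/
def SfinJ (n : ℕ) : Submodule R R :=
  Submodule.span R {z | ∃ x : Fin n → ↥J, z = ∏ j, (x j : R)}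

theorem pow_le_SfinJ (n : ℕ) : J ^ n ≤ SfinJ R J n := by
  induction n with
  | zero =>
    intro y _
    have : y = y • (1 : R) := by simp
    rw [this]
    apply Submodule.smul_mem
    apply Submodule.subset_span
    exact ⟨Fin.elim0, by simp⟩
  | succ n ih =>
    intro y hy
    rw [pow_succ'] at hy
    refine Submodule.mul_induction_on hy ?_ ?_
    · intro a ha b hb
      have hs := ih hb
      clear hb
      unfold SfinJ at hs
      induction hs using Submodule.span_induction with
      | mem z hz =>
        obtain ⟨x, rfl⟩ := hz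
        apply Submodule.subset_span
        refine ⟨Fin.cons ⟨a, ha⟩ x, ?_⟩
        rw [Fin.prod_univ_succ]
        simp
      | zero => rw [mul_zero]; exact zero_mem _
      | add z z' _ _ hz hz' => rw [mul_add]; exact add_mem hz hz'
      | smul c z _ hz => rw [mul_smul_comm]; exact Submodule.smul_mem _ c hz
    · intro x y hx hy; exact add_mem hx hy

theorem phiJ_surjective (ι : Type u) [Fintype ι] : Function.Surjective (phiJ R J ι) := by
  intro z
  obtain ⟨⟨y, hy⟩, rfl⟩ := Submodule.Quotient.mk_surjective _ z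
  have hs := pow_le_SfinJ R J (Fintype.card ι) hy
  unfold SfinJ at hs
  rw [Submodule.mem_span_set'] at hs
  obtain ⟨m, c, g, hsum⟩ := hs
  choose xk hxk using fun k => (g k).2
  let e := Fintype.equivFin ι
  refine ⟨∑ k, c k • SymmetricPower.tprod R (fun i => J.toCotangent (xk k (e i))), ?_⟩
  rw [map_sum]
  simp_rw [map_smul, phiJ_tprod, zetaJ_eq]
  simp_rw [← Submodule.Quotient.mk_smul]
  have hms : ∑ k, (Submodule.Quotient.mk (c k • prodJ R J (fun i => xk k (e i))) :
      PP16.grJ R J (Fintype.card ι)) =
      Submodule.Quotient.mk (∑ k, c k • prodJ R J (fun i => xk k (e i))) :=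
    (map_sum (Submodule.mkQ _) _ _).symm
  rw [hms]
  congr 1
  apply Subtype.ext
  have h2 : ∀ k, ((prodJ R J (fun i => xk k (e i)) : ↥(J ^ Fintype.card ι)) : R) =
      (g k : R) := by
    intro k
    rw [hxk k]
    show ∏ i, ((xk k (e i) : ↥J) : R) = _
    exact Equiv.prod_comp e (fun j => ((xk k j : ↥J) : R))
  rw [Submodule.coe_sum]
  simp_rw [Submodule.coe_smul, h2]
  exact hsum

/-- elements of `J` kill the symmetric powers of `J/J²` (nonempty index type) -/
theorem smul_sym_eq_zero (ι : Type u) [Nonempty ι] {a : R} (ha : a ∈ J)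
    (s : SymmetricPower R ι J.Cotangent) : a • s = 0 := by
  classical
  have hs : s ∈ Submodule.span R (Set.range (SymmetricPower.tprod R (ι := ι)
      (M := J.Cotangent))) := by
    rw [SymmetricPower.span_tprod_eq_top]; trivial
  induction hs using Submodule.span_induction with
  | mem z hz =>
    obtain ⟨w, rfl⟩ := hz
    let i₀ : ι := Classical.arbitrary ι
    have h1 : a • SymmetricPower.tprod R w =
        SymmetricPower.tprod R (Function.update w i₀ (a • w i₀)) := by
      rw [MultilinearMap.map_update_smul, Function.update_eq_self]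
    rw [h1, Ideal.Cotangent.smul_eq_zero_of_mem ha]
    exact MultilinearMap.map_update_zero _ _ _
  | zero => rw [smul_zero]
  | add z z' _ _ hz hz' => rw [smul_add, hz, hz', add_zero]
  | smul c z _ hz => rw [smul_comm, hz, smul_zero]

end canon

end Groth.Agent.H46.SymGrJ
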