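import Mathlib

set_option autoImplicit false
set_option linter.style.haveILetI false

namespace Groth.Agent.H46.TV

open TensorProduct

variable {R : Type*} [CommRing R] {M N Q : Type*} [AddCommGroup M] [Module R M]
  [AddCommGroup N] [Module R N] [AddCommGroup Q] [Module R Q]

theorem exact_aux {F : Type*} [AddCommGroup F] [Module R F] (π : F →ₗ[R] Q)
    (hπ : Function.Surjective π) :
    Function.Exact ((LinearMap.ker π).subtype.lTensor N) (π.lTensor N) :=
  lTensor_exact N (LinearMap.exact_subtype_ker_map π) hπ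

theorem lTensor_pi_symm [DecidableEq Q] (Y : Q →₀ N) :
    (Finsupp.linearCombination R (id : Q → Q)).lTensor N ((finsuppScalarRight R R N Q).symm Y)
      = Y.sum (fun q n => n ⊗ₜ[R] q) := by
  induction Y using Finsupp.induction_linear with
  | zero => simp
  | add Y1 Y2 h1 h2 =>
    rw [map_add, map_add, h1, h2, Finsupp.sum_add_index']
    · intro q; exact zero_tmul _ _
    · intro q n1 n2; exact add_tmul _ _ _
  | single q n =>
    rw [finsuppScalarRight_symm_apply_single, LinearMap.lTensor_tmul,
      Finsupp.linearCombination_single, one_smul, Finsupp.sum_single_index]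
    · rfl
    · exact zero_tmul _ _

/-- If `u ∈ M ⊗ Q` dies in `N ⊗ Q`, the vanishing is witnessed by finitely many relations of `Q`. -/
theorem stepA (f : M →ₗ[R] N) (u : M ⊗[R] Q) (hu : f.rTensor Q u = 0) :
    ∃ (X : Q →₀ M) (b : ℕ) (k : Fin b → (Q →₀ R)) (n : Fin b → N),
      u = X.sum (fun q m => m ⊗ₜ[R] q) ∧
      (∀ l, Finsupp.linearCombination R (id : Q → Q) (k l) = 0) ∧
      ∀ q, f (X q) = ∑ l, (k l q) • n l := by
  classical
  obtain ⟨X, hX⟩ := TensorProduct.exists_finsupp_right u
  have hπ : Function.Surjective (Finsupp.linearCombination R (id : Q → Q)) :=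
    Finsupp.linearCombination_id_surjective R Q
  have hV : (Finsupp.linearCombination R (id : Q → Q)).lTensor N
      ((finsuppScalarRight R R N Q).symm (X.mapRange f (map_zero f))) = 0 := by
    rw [lTensor_pi_symm, Finsupp.sum_mapRange_index (by intro q; exact zero_tmul _ _)]
    have := hu
    rw [hX] at this
    simp only [Finsupp.sum, map_sum, LinearMap.rTensor_tmul] at this ⊢
    exact this
  have hex := exact_aux (N := N) (Finsupp.linearCombination R (id : Q → Q)) hπ
  obtain ⟨w, hw⟩ := (hex _).mp hV
  obtain ⟨b, n, κ, hwsum⟩ := TensorProduct.exists_sum_tmul_eq w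
  refine ⟨X, b, fun l => (κ l : Q →₀ R), n, hX, fun l => LinearMap.mem_ker.mp (κ l).2, ?_⟩
  intro q
  have h1 : finsuppScalarRight R R N Q
      ((finsuppScalarRight R R N Q).symm (X.mapRange f (map_zero f))) q = f (X q) := by
    simp
  have h2 : (finsuppScalarRight R R N Q).symm (X.mapRange f (map_zero f)) =
      ∑ l, n l ⊗ₜ[R] (κ l : Q →₀ R) := by
    rw [← hw, hwsum, map_sum]; simp
  rw [← h1, h2, map_sum, Finsupp.finsetSum_apply]
  simp

end Groth.Agent.H46.TV
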